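import Mathlib

/-!
# Descent of "principal, generated by a nonzerodivisor" along faithfully flat local maps,
and spreading out from a localization at a prime
-/

set_option autoImplicit false
universe u

namespace Groth.Agent.H68.CD

/-- If `R → R'` is faithfully flat with `R'` local, `I` is a finitely generated ideal of `R` and
`I R'` is generated by a nonzerodivisor, then `I` is generated by a nonzerodivisor. -/
theorem exists_principal_of_faithfullyFlat {R R' : Type*} [CommRing R] [CommRing R']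
    [Algebra R R'] [Module.FaithfullyFlat R R'] [IsLocalRing R']
    (I : Ideal R) (hI : I.FG) (g : R') (hg : g ∈ nonZeroDivisors R')
    (hIg : I.map (algebraMap R R') = Ideal.span {g}) :
    ∃ a ∈ I, a ∈ nonZeroDivisors R ∧ I = Ideal.span {a} := by
  classical
  obtain ⟨s, rfl⟩ := hI
  have hc : ∀ b ∈ s, ∃ c : R', algebraMap R R' b = c * g := by
    intro b hb
    have : algebraMap R R' b ∈ Ideal.span {g} := by
      rw [← hIg]
      exact Ideal.mem_map_of_mem _ (Ideal.subset_span hb)
    obtain ⟨c, hc⟩ := Ideal.mem_span_singleton'.mp this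
    exact ⟨c, hc.symm⟩
  choose! c hc using hc
  -- some `c b` is a unit
  have hunit : ∃ b ∈ s, IsUnit (c b) := by
    by_contra hcon
    push Not at hcon
    have hle : (Ideal.span (s : Set R)).map (algebraMap R R') ≤
        IsLocalRing.maximalIdeal R' * Ideal.span {g} := by
      rw [Ideal.map_span, Ideal.span_le]
      rintro _ ⟨b, hb, rfl⟩
      rw [hc b hb]
      exact Ideal.mul_mem_mul ((IsLocalRing.mem_maximalIdeal _).mpr (hcon b hb))
        (Ideal.mem_span_singleton_self g)
    have hgm : g ∈ IsLocalRing.maximalIdeal R' * Ideal.span {g} := by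
      apply hle
      rw [hIg]
      exact Ideal.mem_span_singleton_self g
    obtain ⟨z, hz, hzg⟩ := Ideal.mem_mul_span_singleton.mp hgm
    have h1 : (z - 1) * g = 0 := by rw [sub_mul, hzg, one_mul, sub_self]
    have h2 : z - 1 = 0 := (mem_nonZeroDivisors_iff_right.mp hg) _ h1
    have h3 : z = 1 := sub_eq_zero.mp h2
    rw [h3] at hz
    exact (IsLocalRing.maximalIdeal.isMaximal R').ne_top
      ((Ideal.eq_top_iff_one _).mpr hz)
  obtain ⟨b, hb, hub⟩ := hunit
  have hbI : b ∈ Ideal.span (s : Set R) := Ideal.subset_span hb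
  have hspan : Ideal.span {g} = Ideal.span {algebraMap R R' b} := by
    rw [hc b hb]
    exact (Ideal.span_singleton_mul_left_unit hub g).symm
  have hmap : (Ideal.span (s : Set R)).map (algebraMap R R') =
      (Ideal.span {b}).map (algebraMap R R') := by
    rw [hIg, hspan, Ideal.map_span, Set.image_singleton]
  have heq : Ideal.span (s : Set R) = Ideal.span {b} := by
    rw [← Ideal.comap_map_eq_self_of_faithfullyFlat (B := R') (Ideal.span (s : Set R)), hmap,
      Ideal.comap_map_eq_self_of_faithfullyFlat]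
  refine ⟨b, hbI, ?_, heq⟩
  rw [mem_nonZeroDivisors_iff_right]
  intro r hr
  have h1 : algebraMap R R' r * c b * g = 0 := by
    rw [mul_assoc, ← hc b hb, ← map_mul, hr, map_zero]
  have h2 : algebraMap R R' r * c b = 0 := (mem_nonZeroDivisors_iff_right.mp hg) _ h1
  have h3 : algebraMap R R' r = 0 := by
    obtain ⟨u, hu⟩ := hub
    rw [← hu] at h2
    exact (Units.mul_left_eq_zero u).mp h2
  exact (FaithfulSMul.algebraMap_injective R R') (by rw [h3, map_zero])

/-- Spreading out: if `I A_𝔭` is generated by a nonzerodivisor (`A` Noetherian), then there are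
`s ∉ 𝔭` and `a₀ ∈ I` such that `s I ⊆ (a₀)` and `s` kills the annihilator of `a₀`. -/
theorem exists_spread {A : Type*} [CommRing A] [IsNoetherianRing A] (𝔭 : Ideal A) [𝔭.IsPrime]
    (R : Type*) [CommRing R] [Algebra A R] [IsLocalization.AtPrime R 𝔭] (I : Ideal A)
    (a : R) (ha : a ∈ nonZeroDivisors R) (hIa : I.map (algebraMap A R) = Ideal.span {a}) :
    ∃ s ∉ 𝔭, ∃ a₀ ∈ I, (∀ b ∈ I, s * b ∈ Ideal.span {a₀}) ∧ ∀ r : A, r * a₀ = 0 → s * r = 0 := by
  classical
  -- write `a = a₀ / t`
  have hamem : a ∈ I.map (algebraMap A R) := by rw [hIa]; exact Ideal.mem_span_singleton_self a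
  obtain ⟨⟨⟨a₀, ha₀⟩, ⟨t, ht⟩⟩, hat⟩ :=
    (IsLocalization.mem_map_algebraMap_iff 𝔭.primeCompl R).mp hamem
  simp only at hat
  have htu : IsUnit (algebraMap A R t) := IsLocalization.map_units R ⟨t, ht⟩
  have ha₀nzd : algebraMap A R a₀ ∈ nonZeroDivisors R := by
    rw [← hat]
    exact mul_mem ha (IsUnit.mem_nonZeroDivisors htu)
  have hspan : Ideal.span {a} = Ideal.span {algebraMap A R a₀} := by
    rw [← hat]
    exact (Ideal.span_singleton_mul_right_unit htu a).symm
  -- each element of `I` is a multiple of `a₀` after multiplication by some `s_b ∉ 𝔭`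
  have h1 : ∀ b ∈ I, ∃ sb : A, sb ∉ 𝔭 ∧ sb * b ∈ Ideal.span {a₀} := by
    intro b hb
    have : algebraMap A R b ∈ Ideal.span {algebraMap A R a₀} := by
      rw [← hspan, ← hIa]; exact Ideal.mem_map_of_mem _ hb
    obtain ⟨r, hr⟩ := Ideal.mem_span_singleton'.mp this
    obtain ⟨⟨c, ⟨t', ht'⟩⟩, hct⟩ := IsLocalization.surj 𝔭.primeCompl r
    simp only at hct
    have h2 : algebraMap A R (t' * b) = algebraMap A R (c * a₀) := by
      rw [map_mul, map_mul, ← hr, ← hct]; ring
    obtain ⟨⟨u, hu⟩, huu⟩ := (IsLocalization.eq_iff_exists 𝔭.primeCompl R).mp h2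
    simp only at huu
    refine ⟨u * t', fun h => ?_, ?_⟩
    · rcases Ideal.IsPrime.mem_or_mem ‹_› h with h | h
      · exact hu h
      · exact ht' h
    · rw [mul_assoc, huu]
      exact Ideal.mem_span_singleton'.mpr ⟨u * c, by ring⟩
  obtain ⟨T, hT⟩ := (isNoetherianRing_iff_ideal_fg A).mp ‹_› I
  choose! sb hsb1 hsb2 using h1
  have hs₁ : ∏ b ∈ T, sb b ∉ 𝔭 := by
    intro h
    obtain ⟨b, hb, hbp⟩ := (Ideal.IsPrime.prod_mem_iff (hp := ‹𝔭.IsPrime›)).mp h
    exact hsb1 b (hT ▸ Ideal.subset_span hb) hbp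
  have hs₁I : ∀ b ∈ I, (∏ b ∈ T, sb b) * b ∈ Ideal.span {a₀} := by
    intro b hb
    rw [← hT] at hb
    refine Submodule.span_induction (p := fun b _ => (∏ b ∈ T, sb b) * b ∈ Ideal.span {a₀})
      ?_ ?_ ?_ ?_ hb
    · intro b hbT
      have := hsb2 b (hT ▸ Ideal.subset_span hbT)
      rw [← Finset.mul_prod_erase T sb hbT, mul_comm (sb b), mul_assoc]
      exact Ideal.mul_mem_left _ _ this
    · simp
    · intro x y _ _ hx hy
      rw [mul_add]; exact Ideal.add_mem _ hx hy
    · intro r x _ hx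
      rw [smul_eq_mul, mul_left_comm]
      exact Ideal.mul_mem_left _ _ hx
  -- the annihilator of `a₀`
  let N : Ideal A := (Ideal.span {a₀}).annihilator
  have hN : ∀ r : A, r ∈ N ↔ r * a₀ = 0 := fun r => by
    simp only [N, Submodule.mem_annihilator_span_singleton, smul_eq_mul]
  have h2 : ∀ n ∈ N, ∃ v : A, v ∉ 𝔭 ∧ v * n = 0 := by
    intro n hn
    have h3 : algebraMap A R n * algebraMap A R a₀ = 0 := by
      rw [← map_mul, (hN n).mp hn, map_zero]
    have h4 : algebraMap A R n = 0 := (mem_nonZeroDivisors_iff_right.mp ha₀nzd) _ h3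
    obtain ⟨⟨v, hv⟩, hvn⟩ := (IsLocalization.map_eq_zero_iff 𝔭.primeCompl R n).mp h4
    exact ⟨v, hv, hvn⟩
  obtain ⟨T', hT'⟩ := (isNoetherianRing_iff_ideal_fg A).mp ‹_› N
  choose! v hv1 hv2 using h2
  have hs₂ : ∏ n ∈ T', v n ∉ 𝔭 := by
    intro h
    obtain ⟨n, hn, hnp⟩ := (Ideal.IsPrime.prod_mem_iff (hp := ‹𝔭.IsPrime›)).mp h
    exact hv1 n (hT' ▸ Ideal.subset_span hn) hnp
  have hs₂N : ∀ n ∈ N, (∏ n ∈ T', v n) * n = 0 := by
    intro n hn
    rw [← hT'] at hn
    refine Submodule.span_induction (p := fun n _ => (∏ n ∈ T', v n) * n = 0) ?_ ?_ ?_ ?_ hn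
    · intro n hnT
      have := hv2 n (hT' ▸ Ideal.subset_span hnT)
      rw [← Finset.mul_prod_erase T' v hnT, mul_comm (v n), mul_assoc, this, mul_zero]
    · simp
    · intro x y _ _ hx hy
      rw [mul_add, hx, hy, add_zero]
    · intro r x _ hx
      rw [smul_eq_mul, mul_left_comm, hx, mul_zero]
  refine ⟨(∏ b ∈ T, sb b) * (∏ n ∈ T', v n), fun h => ?_, a₀, ha₀, fun b hb => ?_, fun r hr => ?_⟩
  · rcases Ideal.IsPrime.mem_or_mem ‹_› h with h | h
    · exact hs₁ h
    · exact hs₂ h
  · rw [mul_comm (∏ b ∈ T, sb b), mul_assoc]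
    exact Ideal.mul_mem_left _ _ (hs₁I b hb)
  · rw [mul_assoc, hs₂N r ((hN r).mpr hr), mul_zero]

/-- From the spread-out data to any localization away from `s`. -/
theorem principal_of_spread {A : Type*} [CommRing A] (I : Ideal A) (s a₀ : A) (ha₀ : a₀ ∈ I)
    (h1 : ∀ b ∈ I, s * b ∈ Ideal.span {a₀}) (h2 : ∀ r : A, r * a₀ = 0 → s * r = 0)
    (As : Type*) [CommRing As] [Algebra A As] [IsLocalization.Away s As] :
    algebraMap A As a₀ ∈ nonZeroDivisors As ∧
      I.map (algebraMap A As) = Ideal.span {algebraMap A As a₀} := by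
  have hsu : IsUnit (algebraMap A As s) := IsLocalization.Away.algebraMap_isUnit s
  constructor
  · rw [mem_nonZeroDivisors_iff_right]
    intro z hz
    obtain ⟨⟨r, ⟨_, m, rfl⟩⟩, hr⟩ := IsLocalization.surj (Submonoid.powers s) z
    simp only at hr
    have h3 : algebraMap A As (r * a₀) = 0 := by
      rw [map_mul, ← hr, mul_right_comm, hz, zero_mul]
    obtain ⟨⟨_, l, rfl⟩, hl⟩ := (IsLocalization.map_eq_zero_iff (Submonoid.powers s) As _).mp h3
    simp only at hl
    have h4 : s * (s ^ l * r) = 0 := h2 _ (by rw [mul_assoc]; exact hl)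
    have h5 : algebraMap A As r = 0 := by
      have h6 : algebraMap A As (s * s ^ l) * algebraMap A As r = 0 := by
        rw [← map_mul, mul_assoc, h4, map_zero]
      have hu : IsUnit (algebraMap A As (s * s ^ l)) := by
        rw [map_mul, map_pow]; exact hsu.mul (hsu.pow l)
      exact (hu.mul_right_eq_zero).mp h6
    have hu : IsUnit (algebraMap A As (s ^ m)) := by rw [map_pow]; exact hsu.pow m
    have h7 : z * algebraMap A As (s ^ m) = 0 := by rw [hr, h5]
    exact (hu.mul_left_eq_zero).mp h7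
  · apply le_antisymm
    · rw [Ideal.map_le_iff_le_comap]
      intro b hb
      rw [Ideal.mem_comap]
      obtain ⟨c, hc⟩ := Ideal.mem_span_singleton'.mp (h1 b hb)
      have h3 : algebraMap A As s * algebraMap A As b = algebraMap A As c * algebraMap A As a₀ := by
        rw [← map_mul, ← map_mul, hc]
      obtain ⟨u, hu⟩ := hsu
      rw [Ideal.mem_span_singleton']
      refine ⟨↑u⁻¹ * algebraMap A As c, ?_⟩
      rw [mul_assoc, ← h3, ← hu, Units.inv_mul_cancel_left]
    · rw [Ideal.span_le, Set.singleton_subset_iff]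
      exact Ideal.mem_map_of_mem _ ha₀

end Groth.Agent.H68.CD
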