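import Groth.Prelude.Def_W4c1extbt15Mult

/-!
# Lemmas on `MultSch.pow` and `MultSch.tuple` (helper68)
-/

set_option autoImplicit false

universe w v u

open CategoryTheory MonoidalCategory CartesianMonoidalCategory MonObj

namespace Groth.Agent.H68.MS

set_option linter.unusedSectionVars false

variable {C : Type u} [Category.{v} C] [CartesianMonoidalCategory C] [BraidedCategory C]

theorem comp_tuple {M T T' : C} (g : T' ⟶ T) : ∀ {n : ℕ} (x : Fin n → (T ⟶ M)),
    g ≫ MultSch.tuple x = MultSch.tuple (fun l => g ≫ x l)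
  | 0, _ => toUnit_unique _ _
  | n + 1, x => by
    change g ≫ lift (x 0) (MultSch.tuple fun i => x i.succ) =
      lift (g ≫ x 0) (MultSch.tuple fun i => g ≫ x i.succ)
    rw [comp_lift, comp_tuple g]

/-- The `l`-th projection of the `n`-fold power. -/
def proj (M : C) : {n : ℕ} → Fin n → (MultSch.pow M n ⟶ M)
  | 0, l => l.elim0
  | _ + 1, l => Fin.cases (fst M _) (fun i => snd M _ ≫ proj M i) l

theorem tuple_proj {M T : C} : ∀ {n : ℕ} (x : Fin n → (T ⟶ M)) (l : Fin n),
    MultSch.tuple x ≫ proj M l = x l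
  | 0, _, l => l.elim0
  | n + 1, x, l => by
    refine Fin.cases ?_ (fun i => ?_) l
    · change lift (x 0) (MultSch.tuple fun i => x i.succ) ≫ fst M _ = x 0
      rw [lift_fst]
    · change lift (x 0) (MultSch.tuple fun i => x i.succ) ≫ (snd M _ ≫ proj M i) = x i.succ
      rw [lift_snd_assoc, tuple_proj]

theorem tuple_comp_proj {M T : C} : ∀ {n : ℕ} (b : T ⟶ MultSch.pow M n),
    MultSch.tuple (fun l => b ≫ proj M l) = b
  | 0, b => toUnit_unique _ _
  | n + 1, b => by
    change lift (b ≫ fst M _) (MultSch.tuple fun i => b ≫ (snd M _ ≫ proj M i)) = b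
    have h : (MultSch.tuple fun i : Fin n => b ≫ (snd M _ ≫ proj M i)) = b ≫ snd M _ := by
      have := tuple_comp_proj (b ≫ snd M (MultSch.pow M n))
      simp only [Category.assoc] at this
      exact this
    rw [h]
    apply CartesianMonoidalCategory.hom_ext
    · exact lift_fst _ _
    · exact lift_snd _ _

theorem tuple_ext {M T : C} {n : ℕ} {a b : T ⟶ MultSch.pow M n}
    (h : ∀ l, a ≫ proj M l = b ≫ proj M l) : a = b := by
  rw [← tuple_comp_proj a, ← tuple_comp_proj b]
  congr 1
  funext l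
  exact h l

/-- The `n`-fold power of a morphism. -/
def powMap {M M' : C} (π : M ⟶ M') : (n : ℕ) → (MultSch.pow M n ⟶ MultSch.pow M' n)
  | 0 => 𝟙 _
  | n + 1 => π ⊗ₘ powMap π n

theorem tuple_powMap {M M' T : C} (π : M ⟶ M') : ∀ {n : ℕ} (x : Fin n → (T ⟶ M)),
    MultSch.tuple x ≫ powMap π n = MultSch.tuple (fun l => x l ≫ π)
  | 0, _ => toUnit_unique _ _
  | n + 1, x => by
    change lift (x 0) (MultSch.tuple fun i => x i.succ) ≫ (π ⊗ₘ powMap π n) =
      lift (x 0 ≫ π) (MultSch.tuple fun i => x i.succ ≫ π)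
    rw [lift_map, tuple_powMap]

end Groth.Agent.H68.MS
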