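import Groth.Agent.H68.FppfLocal
import Groth.Agent.H68.MultSchLemmas

/-!
# Descent of multilinear alternating morphisms along an epimorphism of sheaves (helper68)
-/

set_option autoImplicit false
set_option linter.unusedSectionVars false

universe w u

open CategoryTheory CategoryTheory.Limits Opposite AlgebraicGeometry MonObj MonoidalCategory
  CartesianMonoidalCategory

namespace Groth.Agent.H68.AD

open Groth.Agent.H68.FL Groth.Agent.H68.MS

variable {S : Scheme.{u}} (K : Precoverage Scheme.{u}) [(QuotSh.J K S).Subcanonical]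

section LocSurjPow

variable {M M'' : Over S}

theorem isLocSurj_powMap (π : M ⟶ M'') (hls : IsLocSurj K π) (n : ℕ) :
    IsLocSurj K (powMap π n) := by
  intro T b
  have hR := isLocSurj_inter K π hls (fun l : Fin n => b ≫ proj M'' l)
  refine GrothendieckTopology.superset_covering _ ?_ hR
  intro T' g hg
  rw [sieve_iInf_apply] at hg
  choose x hx using hg
  refine ⟨MultSch.tuple x, ?_⟩
  rw [tuple_powMap]
  conv_rhs => rw [← tuple_comp_proj b, comp_tuple]
  congr 1
  funext l
  exact hx l

end LocSurjPow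

variable {R : Type w} [CommRing R] {M₁ M₂ M₃ N : Over S}
  [GrpObj M₁] [IsCommMonObj M₁] [GrpObj M₂] [IsCommMonObj M₂] [GrpObj M₃] [IsCommMonObj M₃]
  [GrpObj N] [IsCommMonObj N]

section Vanish

variable (j : M₁ ⟶ M₂) {n : ℕ} (hn : 1 ≤ n) (φ : MultSch.pow M₂ n ⟶ N)
  (hmult : MultSch.IsMultilinear φ) (halt : MultSch.IsAlternating φ)
  (hvan : ∀ (T : Over S) (y : T ⟶ M₁) (x : Fin n → (T ⟶ M₂)), x ⟨0, hn⟩ = y ≫ j →
    MultSch.tuple x ≫ φ = 1)

include hmult halt hvan in
/-- `φ` vanishes on tuples having any coordinate in the image of `j`. -/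
theorem vanish_of_coord {T : Over S} (x : Fin n → (T ⟶ M₂)) (i : Fin n) (y' : T ⟶ M₁)
    (hxi : x i = y' ≫ j) : MultSch.tuple x ≫ φ = 1 := by
  classical
  by_cases hi : i = ⟨0, hn⟩
  · subst hi
    exact hvan T y' x hxi
  set o : Fin n := ⟨0, hn⟩ with ho
  have hoi : o ≠ i := fun h => hi h.symm
  set a := x o with ha
  set c := x i with hc
  -- w : 0 ↦ a, i ↦ a
  have hw : MultSch.tuple (Function.update x i a) ≫ φ = 1 :=
    halt T _ o i hoi (by rw [Function.update_self, Function.update_of_ne hoi])
  -- 0 ↦ c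
  have hc0 : ∀ z : Fin n → (T ⟶ M₂), MultSch.tuple (Function.update z o c) ≫ φ = 1 := by
    intro z
    exact hvan T y' _ (by rw [Function.update_self]; exact hxi)
  -- 0 ↦ a*c, i ↦ a
  have h1 : MultSch.tuple (Function.update (Function.update x i a) o (a * c)) ≫ φ = 1 := by
    rw [hmult T (Function.update x i a) o a c, hc0, _root_.mul_one]
    have : Function.update (Function.update x i a) o a = Function.update x i a := by
      apply Function.update_eq_self_iff.2
      rw [Function.update_of_ne hoi]
    rw [this, hw]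
  -- z₁ : 0 ↦ a*c, i ↦ c
  set z₁ := Function.update x o (a * c) with hz₁
  have hz₁i : z₁ i = c := by rw [hz₁, Function.update_of_ne (Ne.symm hoi)]
  have hz₂ : MultSch.tuple (Function.update z₁ i (a * c)) ≫ φ = 1 :=
    halt T _ o i hoi (by
      rw [Function.update_self, Function.update_of_ne hoi, hz₁, Function.update_self])
  rw [hmult T z₁ i a c] at hz₂
  have e1 : Function.update z₁ i a = Function.update (Function.update x i a) o (a * c) := by
    rw [hz₁, Function.update_comm hoi]
  have e2 : Function.update z₁ i c = z₁ := Function.update_eq_self_iff.2 hz₁i.symm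
  rw [e1, h1, e2, _root_.one_mul] at hz₂
  -- expand z₁ at o
  rw [hz₁, hmult T x o a c, hc0, _root_.mul_one] at hz₂
  have e3 : Function.update x o a = x := Function.update_eq_self_iff.2 rfl
  rw [e3] at hz₂
  exact hz₂

end Vanish

section Main

variable (ρ₂ : MultSch.RMod R M₂) (ρ₃ : MultSch.RMod R M₃) (ρN : MultSch.RMod R N)
  (j : M₁ ⟶ M₂) (π : M₂ ⟶ M₃) [IsMonHom j] [IsMonHom π]
  (hπ : ∀ a : R, π ≫ ρ₃.act a = ρ₂.act a ≫ π)
  (w : j ≫ π = 1) (hex : (CGrpSh.seq K j π w).Exact)
  (hepi : Epi (CGrpSh.ptsMap K π))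
  {n : ℕ} (hn : 1 ≤ n) (φ : MultSch.pow M₂ n ⟶ N)
  (hmult : MultSch.IsMultilinear φ) (hlin : MultSch.IsRLinear ρ₂ ρN φ)
  (halt : MultSch.IsAlternating φ)
  (hvan : ∀ (T : Over S) (y : T ⟶ M₁) (x : Fin n → (T ⟶ M₂)), x ⟨0, hn⟩ = y ≫ j →
    MultSch.tuple x ≫ φ = 1)

include hex hmult halt hvan in
/-- Changing one coordinate within its `π`-fibre does not change `φ`. -/
theorem eq_of_coord {T : Over S} (x : Fin n → (T ⟶ M₂)) (i : Fin n) (y z : T ⟶ M₂)
    (hyz : y ≫ π = z ≫ π) :
    MultSch.tuple (Function.update x i y) ≫ φ = MultSch.tuple (Function.update x i z) ≫ φ := by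
  classical
  have hd : (y * z⁻¹) ≫ π = 1 := by
    rw [MonObj.mul_comp, GrpObj.inv_comp, hyz, mul_inv_cancel]
  have hR := liftSieve_mem_of_exact K j π w hex (y * z⁻¹) hd
  apply eq_of_locally_eq K _ _ _ hR
  rintro T' g ⟨y', hy'⟩
  have hgy : g ≫ y = (y' ≫ j) * (g ≫ z) := by
    rw [hy', MonObj.comp_mul, GrpObj.comp_inv, inv_mul_cancel_right]
  have hupd : ∀ t : T ⟶ M₂, (fun l => g ≫ Function.update x i t l) =
      Function.update (fun l => g ≫ x l) i (g ≫ t) := by
    intro t
    funext l
    by_cases hl : l = i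
    · subst hl; rw [Function.update_self, Function.update_self]
    · rw [Function.update_of_ne hl, Function.update_of_ne hl]
  rw [← Category.assoc, ← Category.assoc, comp_tuple, comp_tuple, hupd, hupd, hgy, hmult,
    vanish_of_coord j hn φ hmult halt hvan _ i y' (Function.update_self _ _ _), _root_.one_mul]

include hex hmult halt hvan in
theorem eq_of_fibre {T : Over S} (x x' : Fin n → (T ⟶ M₂)) (h : ∀ l, x l ≫ π = x' l ≫ π) :
    MultSch.tuple x ≫ φ = MultSch.tuple x' ≫ φ := by
  classical
  have key : ∀ s : Finset (Fin n),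
      MultSch.tuple (fun l => if l ∈ s then x' l else x l) ≫ φ = MultSch.tuple x ≫ φ := by
    intro s
    induction s using Finset.induction_on with
    | empty => simp
    | insert i s his ih =>
      rw [← ih]
      have e1 : (fun l => if l ∈ insert i s then x' l else x l) =
          Function.update (fun l => if l ∈ s then x' l else x l) i (x' i) := by
        funext l
        by_cases hl : l = i
        · subst hl; simp
        · rw [Function.update_of_ne hl]; simp [hl]
      have e2 : (fun l => if l ∈ s then x' l else x l) =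
          Function.update (fun l => if l ∈ s then x' l else x l) i (x i) := by
        symm
        apply Function.update_eq_self_iff.2
        simp [his]
      rw [e1]
      conv_rhs => rw [e2]
      exact eq_of_coord K j π w hex hn φ hmult halt hvan _ i _ _ (h i).symm
  have := key Finset.univ
  simp only [Finset.mem_univ, if_true] at this
  exact this.symm

include hπ hex hepi hmult hlin halt hvan in
theorem main :
    ∃ φ' : MultSch.pow M₃ n ⟶ N,
      (∀ (T : Over S) (x : Fin n → (T ⟶ M₂)),
        MultSch.tuple x ≫ φ = MultSch.tuple (fun l => x l ≫ π) ≫ φ') ∧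
      MultSch.IsMultilinear φ' ∧ MultSch.IsRLinear ρ₃ ρN φ' ∧ MultSch.IsAlternating φ' ∧
      ∀ φ'' : MultSch.pow M₃ n ⟶ N,
        (∀ (T : Over S) (x : Fin n → (T ⟶ M₂)),
          MultSch.tuple x ≫ φ = MultSch.tuple (fun l => x l ≫ π) ≫ φ'') → φ'' = φ' := by
  classical
  have hls := isLocSurj_of_epi K π hepi
  have hu := isLocSurj_powMap K π hls n
  have hconst : ∀ ⦃T : Over S⦄ (a₁ a₂ : T ⟶ MultSch.pow M₂ n),
      a₁ ≫ powMap π n = a₂ ≫ powMap π n → a₁ ≫ φ = a₂ ≫ φ := by
    intro T a₁ a₂ h
    rw [← tuple_comp_proj a₁, ← tuple_comp_proj a₂] at h ⊢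
    rw [tuple_powMap, tuple_powMap] at h
    apply eq_of_fibre K j π w hex hn φ hmult halt hvan
    intro l
    have := congrArg (fun t => t ≫ proj M₃ l) h
    simp only [tuple_proj] at this
    exact this
  obtain ⟨φ', hφ', huniq⟩ := exists_unique_desc K (powMap π n) hu φ hconst
  have hprop : ∀ (T : Over S) (x : Fin n → (T ⟶ M₂)),
      MultSch.tuple x ≫ φ = MultSch.tuple (fun l => x l ≫ π) ≫ φ' := by
    intro T x
    rw [← tuple_powMap, Category.assoc, hφ']
  -- helper: compute g ≫ tuple y ≫ φ' from lifts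
  have hH : ∀ {T T' : Over S} (g : T' ⟶ T) (y : Fin n → (T ⟶ M₃)) (y₁ : Fin n → (T' ⟶ M₂)),
      (∀ l, y₁ l ≫ π = g ≫ y l) → g ≫ MultSch.tuple y ≫ φ' = MultSch.tuple y₁ ≫ φ := by
    intro T T' g y y₁ h
    rw [← Category.assoc, comp_tuple, hprop]
    congr 2
    funext l
    exact (h l).symm
  refine ⟨φ', hprop, ?_, ?_, ?_, ?_⟩
  · -- multilinear
    intro T y i a b
    have hR := GrothendieckTopology.intersection_covering _
      (GrothendieckTopology.intersection_covering _ (isLocSurj_inter K π hls y) (hls T a)) (hls T b)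
    apply eq_of_locally_eq K _ _ _ hR
    rintro T' g ⟨⟨hg, ⟨a₁, ha₁⟩⟩, ⟨b₁, hb₁⟩⟩
    rw [sieve_iInf_apply] at hg
    choose y₁ hy₁ using hg
    have hl : ∀ (t : T ⟶ M₃) (t₁ : T' ⟶ M₂), t₁ ≫ π = g ≫ t →
        ∀ l, Function.update y₁ i t₁ l ≫ π = g ≫ Function.update y i t l := by
      intro t t₁ ht l
      by_cases hli : l = i
      · subst hli; rw [Function.update_self, Function.update_self, ht]
      · rw [Function.update_of_ne hli, Function.update_of_ne hli, hy₁]
    rw [MonObj.comp_mul, hH g _ _ (hl a a₁ ha₁), hH g _ _ (hl b b₁ hb₁),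
      hH g _ (Function.update y₁ i (a₁ * b₁)) (hl (a * b) (a₁ * b₁) (by
        rw [MonObj.mul_comp, ha₁, hb₁, MonObj.comp_mul])), hmult]
  · -- R-linear
    intro T y i a
    have hR := isLocSurj_inter K π hls y
    apply eq_of_locally_eq K _ _ _ hR
    intro T' g hg
    rw [sieve_iInf_apply] at hg
    choose y₁ hy₁ using hg
    have h1 : ∀ l, Function.update y₁ i (y₁ i ≫ ρ₂.act a) l ≫ π =
        g ≫ Function.update y i (y i ≫ ρ₃.act a) l := by
      intro l
      by_cases hli : l = i
      · subst hli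
        rw [Function.update_self, Function.update_self, Category.assoc, ← hπ, ← Category.assoc,
          hy₁, Category.assoc]
      · rw [Function.update_of_ne hli, Function.update_of_ne hli, hy₁]
    rw [hH g _ _ h1, hlin, ← hH g y y₁ hy₁]
    simp only [Category.assoc]
  · -- alternating
    intro T y i k hik hyik
    have hR := isLocSurj_inter K π hls y
    apply eq_of_locally_eq K _ _ _ hR
    intro T' g hg
    rw [sieve_iInf_apply] at hg
    choose y₁ hy₁ using hg
    have h1 : ∀ l, Function.update y₁ k (y₁ i) l ≫ π = g ≫ y l := by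
      intro l
      by_cases hl : l = k
      · subst hl
        rw [Function.update_self, hy₁ i, hyik]
      · rw [Function.update_of_ne hl, hy₁ l]
    rw [hH g _ _ h1, MonObj.comp_one]
    exact halt T' _ i k hik (by rw [Function.update_self, Function.update_of_ne hik])
  · intro φ'' h''
    apply huniq
    have := h'' _ (fun l => proj M₂ l)
    have e : MultSch.tuple (fun l => proj M₂ (n := n) l) = 𝟙 _ := by
      have := tuple_comp_proj (𝟙 (MultSch.pow M₂ n))
      simpa using this
    rw [e, Category.id_comp] at this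
    rw [this, ← tuple_powMap, e, Category.id_comp]

end Main

end Groth.Agent.H68.AD
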