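import Groth.Agent.H68.CartierDescent
import Groth.Agent.H19.ComapAff
import Groth.Prelude.Def_BlowUp2
import Mathlib

/-!
# Faithfully flat descent of effective Cartier ideal sheaves (locally Noetherian target)
-/

set_option autoImplicit false
set_option linter.style.haveILetI false
universe u

open CategoryTheory CategoryTheory.Limits AlgebraicGeometry

namespace Groth.Agent.H68.CD

/-- Membership in a basic open of an affine open, in terms of the prime ideal of a point. -/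
theorem mem_basicOpen_iff' {X : Scheme.{u}} {U : X.Opens} (hU : IsAffineOpen U) (b : Γ(X, U))
    (x : X) (hx : x ∈ U) : x ∈ X.basicOpen b ↔ b ∉ (hU.primeIdealOf ⟨x, hx⟩).asIdeal := by
  have h1 : hU.fromSpec (hU.primeIdealOf ⟨x, hx⟩) = x := hU.fromSpec_primeIdealOf ⟨x, hx⟩
  have h2 := hU.fromSpec_preimage_basicOpen b
  have h3 : x ∈ X.basicOpen b ↔ hU.primeIdealOf ⟨x, hx⟩ ∈ hU.fromSpec ⁻¹ᵁ X.basicOpen b := by
    change _ ↔ hU.fromSpec (hU.primeIdealOf ⟨x, hx⟩) ∈ X.basicOpen b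
    rw [h1]
  rw [h3, h2]
  exact PrimeSpectrum.mem_basicOpen _ _

theorem isEffCartier_of_comap {X X' : Scheme.{u}} [IsLocallyNoetherian X] (p : X' ⟶ X) [Flat p]
    [Surjective p] (𝓘 : X.IdealSheafData) (h : BlowUp.IsEffCartierIdeal (𝓘.comap p)) :
    BlowUp.IsEffCartierIdeal 𝓘 := by
  intro x
  obtain ⟨y, rfl⟩ := p.surjective x
  obtain ⟨_, ⟨U₀, hU₀ : IsAffineOpen U₀, rfl⟩, hxU₀, -⟩ :=
    X.isBasis_affineOpens.exists_subset_of_mem_open (Set.mem_univ (p y)) isOpen_univ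
  obtain ⟨W, hyW, g, hg, hIW⟩ := h y
  obtain ⟨c, hcle, hyc0⟩ := W.2.exists_basicOpen_le (V := p ⁻¹ᵁ U₀) ⟨y, hxU₀⟩ hyW
  have hyc : y ∈ X'.basicOpen c := hyc0
  have hCaff : IsAffineOpen (X'.basicOpen c) := W.2.basicOpen c
  -- the ideal on `W' = D(c)`
  have hloc := W.2.isLocalization_basicOpen c
  have hW' : (𝓘.comap p).ideal ⟨X'.basicOpen c, hCaff⟩ =
      Ideal.span {algebraMap Γ(X', W.1) Γ(X', X'.basicOpen c) g} := by
    have h1 := (𝓘.comap p).map_ideal_basicOpen W c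
    rw [hIW, Ideal.map_span, Set.image_singleton] at h1
    exact h1.symm
  have hg' : algebraMap Γ(X', W.1) Γ(X', X'.basicOpen c) g ∈
      nonZeroDivisors Γ(X', X'.basicOpen c) :=
    IsLocalization.map_nonZeroDivisors_le (Submonoid.powers c) _ (Submonoid.mem_map_of_mem _ hg)
  have hcomap : (𝓘.comap p).ideal ⟨X'.basicOpen c, hCaff⟩ =
      (𝓘.ideal ⟨U₀, hU₀⟩).map (p.appLE U₀ (X'.basicOpen c) hcle).hom :=
    Groth.Agent.H19.ComapAff.ideal_comap_appLE p 𝓘 ⟨U₀, hU₀⟩ ⟨X'.basicOpen c, hCaff⟩ hcle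
  -- stalks
  let A := Γ(X, U₀)
  let R := X.presheaf.stalk (p y)
  let R' := X'.presheaf.stalk y
  letI algAR : Algebra A R := X.presheaf.algebra_section_stalk ⟨p y, hxU₀⟩
  have hlocA : IsLocalization.AtPrime R (hU₀.primeIdealOf ⟨p y, hxU₀⟩).asIdeal :=
    hU₀.isLocalization_stalk ⟨p y, hxU₀⟩
  letI algCR' : Algebra Γ(X', X'.basicOpen c) R' := X'.presheaf.algebra_section_stalk ⟨y, hyc⟩
  have hlocC : IsLocalization.AtPrime R' (hCaff.primeIdealOf ⟨y, hyc⟩).asIdeal :=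
    hCaff.isLocalization_stalk ⟨y, hyc⟩
  letI algRR' : Algebra R R' := (p.stalkMap y).hom.toAlgebra
  have hff : Module.FaithfullyFlat R R' :=
    @Module.FaithfullyFlat.of_flat_of_isLocalHom _ _ _ _ _ _ _
      (Flat.stalkMap p y) (p.toLRSHom.prop y)
  -- the ideal in the stalk
  have hnoeth : IsNoetherianRing A := IsLocallyNoetherian.component_noetherian ⟨U₀, hU₀⟩
  let IR : Ideal R := (𝓘.ideal ⟨U₀, hU₀⟩).map (algebraMap A R)
  have hIRfg : IR.FG := ((isNoetherianRing_iff_ideal_fg A).mp hnoeth _).map _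
  have hcomm : (algebraMap R R').comp (algebraMap A R) =
      (algebraMap Γ(X', X'.basicOpen c) R').comp (p.appLE U₀ (X'.basicOpen c) hcle).hom := by
    ext a
    change (p.stalkMap y).hom ((X.presheaf.germ U₀ (p y) hxU₀).hom a) =
      (X'.presheaf.germ (X'.basicOpen c) y hyc).hom ((p.appLE U₀ (X'.basicOpen c) hcle).hom a)
    rw [Scheme.Hom.germ_stalkMap_apply, Scheme.Hom.appLE]
    simp only [CommRingCat.hom_comp, RingHom.coe_comp, Function.comp_apply]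
    exact (TopCat.Presheaf.germ_res_apply _ _ _ _ _).symm
  have hIR' : IR.map (algebraMap R R') = Ideal.span
      {algebraMap Γ(X', X'.basicOpen c) R' (algebraMap Γ(X', W.1) Γ(X', X'.basicOpen c) g)} := by
    rw [Ideal.map_map, hcomm, ← Ideal.map_map, ← hcomap, hW', Ideal.map_span, Set.image_singleton]
  have hgR' : algebraMap Γ(X', X'.basicOpen c) R'
      (algebraMap Γ(X', W.1) Γ(X', X'.basicOpen c) g) ∈ nonZeroDivisors R' :=
    IsLocalization.map_nonZeroDivisors_le (hCaff.primeIdealOf ⟨y, hyc⟩).asIdeal.primeCompl _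
      (Submonoid.mem_map_of_mem _ hg')
  obtain ⟨a, -, hanzd, hIa⟩ := exists_principal_of_faithfullyFlat IR hIRfg _ hgR' hIR'
  obtain ⟨s, hs, a₀, ha₀, h1, h2⟩ := exists_spread (hU₀.primeIdealOf ⟨p y, hxU₀⟩).asIdeal R
    (𝓘.ideal ⟨U₀, hU₀⟩) a hanzd hIa
  have hlocs := hU₀.isLocalization_basicOpen s
  obtain ⟨hnzd, hmap⟩ := principal_of_spread (𝓘.ideal ⟨U₀, hU₀⟩) s a₀ ha₀ h1 h2
    Γ(X, X.basicOpen s)
  refine ⟨⟨X.basicOpen s, hU₀.basicOpen s⟩, ?_, algebraMap A Γ(X, X.basicOpen s) a₀, hnzd, ?_⟩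
  · exact (mem_basicOpen_iff' hU₀ s (p y) hxU₀).mpr hs
  · have h3 := 𝓘.map_ideal_basicOpen ⟨U₀, hU₀⟩ s
    rw [← hmap]
    exact h3.symm

end Groth.Agent.H68.CD
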