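import Mathlib

/-!
# Counting connected components by disjoint clopen sets

If every family of pairwise disjoint nonempty clopen subsets of `X` has at most `d` members, then
`X` has at most `d` connected components.
-/

set_option autoImplicit false

namespace Groth.Agent.H68

open Set

variable {X : Type*} [TopologicalSpace X]

/-- A family of pairwise disjoint nonempty clopen sets. -/
def ClopenFamily (X : Type*) [TopologicalSpace X] (n : ℕ) : Prop :=
  ∃ U : Fin n → Set X, (∀ i, IsClopen (U i)) ∧ (∀ i, (U i).Nonempty) ∧
    Pairwise (Function.onFun Disjoint U)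

lemma clopenFamily_succ {n : ℕ} (U : Fin n → Set X) (hU : ∀ i, IsClopen (U i))
    (hdisj : Pairwise (Function.onFun Disjoint U)) (V : Set X) (hV : IsClopen V)
    (hVne : V.Nonempty) (hne : ∀ j, (U j \ V).Nonempty) : ClopenFamily X (n + 1) := by
  refine ⟨Fin.cons V (fun j => U j \ V), ?_, ?_, ?_⟩
  · intro i
    refine Fin.cases ?_ (fun j => ?_) i
    · simpa using hV
    · simpa using (hU j).diff hV
  · intro i
    refine Fin.cases ?_ (fun j => ?_) i
    · simpa using hVne
    · simpa using hne j
  · intro i j hij
    revert hij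
    refine Fin.cases ?_ (fun i' => ?_) i <;> refine Fin.cases ?_ (fun j' => ?_) j
    · intro h; exact absurd rfl h
    · intro _
      simp only [Function.onFun, Fin.cons_zero, Fin.cons_succ]
      exact disjoint_sdiff_self_right
    · intro _
      simp only [Function.onFun, Fin.cons_zero, Fin.cons_succ]
      exact disjoint_sdiff_self_left
    · intro h
      have hij' : i' ≠ j' := fun h' => h (by rw [h'])
      simp only [Function.onFun, Fin.cons_succ]
      exact (hdisj hij').mono Set.sdiff_subset Set.sdiff_subset

theorem card_connectedComponents_le (d : ℕ)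
    (h : ∀ n : ℕ, ClopenFamily X n → n ≤ d) :
    Finite (ConnectedComponents X) ∧ Nat.card (ConnectedComponents X) ≤ d := by
  classical
  have h0 : ClopenFamily X 0 :=
    ⟨fun i => i.elim0, fun i => i.elim0, fun i => i.elim0, fun i => i.elim0⟩
  set n := Nat.findGreatest (fun m => ClopenFamily X m) d with hn
  have hnS : ClopenFamily X n := Nat.findGreatest_spec (Nat.zero_le d) h0
  have hnd : n ≤ d := Nat.findGreatest_le d
  have hsucc : ¬ ClopenFamily X (n + 1) := by
    intro hS
    have h1 := h _ hS
    exact Nat.findGreatest_is_greatest (Nat.lt_succ_self n) h1 hS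
  obtain ⟨U, hU, hne, hdisj⟩ := hnS
  have hno : ∀ V : Set X, IsClopen V → V.Nonempty → ¬ ∀ j, (U j \ V).Nonempty :=
    fun V hV hVne hj => hsucc (clopenFamily_succ U hU hdisj V hV hVne hj)
  -- the family covers
  have hcover : ∀ x : X, ∃ j, x ∈ U j := by
    intro x
    by_contra hx
    push Not at hx
    refine hno (⋃ j, U j)ᶜ (isClopen_iUnion_of_finite hU).compl ⟨x, ?_⟩ ?_
    · simpa using hx
    · intro j
      obtain ⟨y, hy⟩ := hne j
      refine ⟨y, hy, ?_⟩
      simp only [mem_compl_iff, mem_iUnion, not_not]
      exact ⟨j, hy⟩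
  -- each member is preconnected
  have hconn : ∀ i, IsPreconnected (U i) := by
    intro i
    rw [isPreconnected_iff_subset_of_fully_disjoint_closed (hU i).1]
    intro u v hu hv hcov huv
    by_contra hcon
    push Not at hcon
    obtain ⟨hnu, hnv⟩ := hcon
    have hVeq : U i ∩ v = U i \ u := by
      ext x
      constructor
      · rintro ⟨hx, hxv⟩
        exact ⟨hx, fun hxu => Set.disjoint_left.mp huv hxu hxv⟩
      · rintro ⟨hx, hxu⟩
        exact ⟨hx, (hcov hx).resolve_left hxu⟩
    have hVclopen : IsClopen (U i ∩ v) :=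
      ⟨(hU i).1.inter hv, hVeq ▸ (hU i).2.sdiff hu⟩
    obtain ⟨x, hx, hxu⟩ := Set.not_subset.mp hnu
    obtain ⟨y, hy, hyv⟩ := Set.not_subset.mp hnv
    refine hno (U i ∩ v) hVclopen ⟨x, hx, (hcov hx).resolve_left hxu⟩ ?_
    intro j
    by_cases hji : j = i
    · subst hji
      exact ⟨y, hy, fun hyV => hyv hyV.2⟩
    · obtain ⟨z, hz⟩ := hne j
      exact ⟨z, hz, fun hzV => Set.disjoint_left.mp (hdisj hji) hz hzV.1⟩
  -- conclusion
  choose x hx using hne
  let g : Fin n → ConnectedComponents X := fun j => (x j : ConnectedComponents X)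
  have hg : Function.Surjective g := by
    intro c
    obtain ⟨y, rfl⟩ := ConnectedComponents.surjective_coe c
    obtain ⟨j, hj⟩ := hcover y
    refine ⟨j, ?_⟩
    show (x j : ConnectedComponents X) = y
    rw [eq_comm, ConnectedComponents.coe_eq_coe']
    exact (hconn j).subset_connectedComponent (hx j) hj
  have hfin : Finite (ConnectedComponents X) := Finite.of_surjective g hg
  refine ⟨hfin, ?_⟩
  have := Nat.card_le_card_of_surjective g hg
  rw [Nat.card_fin] at this
  exact this.trans hnd

end Groth.Agent.H68
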