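import Groth.Agent.H68.CoprodPow
import Mathlib

/-!
# Fibre powers of a disjoint union: equivariance, disjointness of translates, the count function
-/

set_option autoImplicit false
universe u

open CategoryTheory CategoryTheory.Limits AlgebraicGeometry

namespace Groth.Agent.H68.CP

variable {X X' Z Y : Scheme.{u}} (F : Z ⟶ Y) (ι₁ : X ⟶ Z) (ι₂ : X' ⟶ Z)
  (f : X ⟶ Y) (f' : X' ⟶ Y) (h₁ : ι₁ ≫ F = f) (h₂ : ι₂ ≫ F = f') (i j : ℕ)

/-- Equivariance of `Psi` along `S_i × S_j → S_{i+j}`. -/
theorem equivariant (σ : Equiv.Perm (Fin i)) (τ : Equiv.Perm (Fin j))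
    (θ : Pij f f' i j ⟶ Pij f f' i j)
    (hθ₁ : θ ≫ pullback.fst _ _ = pullback.fst _ _ ≫ SymProd.permHom f i σ)
    (hθ₂ : θ ≫ pullback.snd _ _ = pullback.snd _ _ ≫ SymProd.permHom f' j τ) :
    θ ≫ Psi F ι₁ ι₂ f f' h₁ h₂ i j =
      Psi F ι₁ ι₂ f f' h₁ h₂ i j ≫ SymProd.permHom F (i + j) (PS.psi i j (σ, τ)) := by
  apply WidePullback.hom_ext
  · intro c
    rw [Category.assoc, Category.assoc, SymProd.permHom_π, Psi_π, Psi_π]
    refine Fin.addCases (fun a => ?_) (fun b => ?_) c
    · rw [PS.psi_symm_castAdd, cmp_castAdd, cmp_castAdd, reassoc_of% hθ₁,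
        SymProd.permHom_π_assoc]
    · rw [PS.psi_symm_natAdd, cmp_natAdd, cmp_natAdd, reassoc_of% hθ₂,
        SymProd.permHom_π_assoc]
  · rw [Category.assoc, Category.assoc, SymProd.permHom_base, Psi_base, reassoc_of% hθ₁,
      SymProd.permHom_base]

theorem permHom_apply_π {n : ℕ} (g : Equiv.Perm (Fin n)) (c : Fin n) (x : SymProd.fibPow F n) :
    WidePullback.π (fun _ => F) c (SymProd.permHom F n g x) =
      WidePullback.π (fun _ => F) (g.symm c) x := by
  rw [← Scheme.Hom.comp_apply, SymProd.permHom_π]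

theorem permHom_permHom_inv {n : ℕ} (g : Equiv.Perm (Fin n)) (x : SymProd.fibPow F n) :
    SymProd.permHom F n g (SymProd.permHom F n g⁻¹ x) = x := by
  rw [← Scheme.Hom.comp_apply, ← SymProd.permHom_mul, mul_inv_cancel, SymProd.permHom_one]
  rfl

section Open

variable [IsOpenImmersion ι₁] [IsOpenImmersion ι₂]
  (hd : Disjoint (Set.range ι₁) (Set.range ι₂))

include hd in
/-- Translates of `W` by permutations outside the Young subgroup are disjoint from `W`. -/
theorem disjoint_translate (g : Equiv.Perm (Fin (i + j))) (hg : g ∉ (PS.psi i j).range) :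
    Disjoint (SymProd.permHom F (i + j) g '' (W F ι₁ ι₂ i j : Set _))
      (W F ι₁ ι₂ i j : Set _) := by
  have hex : ∃ a : Fin i, ∀ a' : Fin i, g (Fin.castAdd j a) ≠ Fin.castAdd j a' := by
    by_contra hcon
    push Not at hcon
    exact hg (PS.mem_range_psi i j g hcon)
  obtain ⟨a, ha⟩ := hex
  obtain ⟨b, hb⟩ : ∃ b : Fin j, g (Fin.castAdd j a) = Fin.natAdd i b := by
    generalize g (Fin.castAdd j a) = c at ha
    revert ha
    refine Fin.addCases (fun a' h => ?_) (fun b _ => ⟨b, rfl⟩) c
    exact absurd rfl (h a')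
  rw [Set.disjoint_left]
  rintro _ ⟨y, hy, rfl⟩ hx
  have h1 := (mem_W F ι₁ ι₂ i j _).mp hx (Fin.natAdd i b)
  rw [side_natAdd, permHom_apply_π, ← hb, Equiv.symm_apply_apply] at h1
  have h2 := (mem_W F ι₁ ι₂ i j _).mp hy (Fin.castAdd j a)
  rw [side_castAdd] at h2
  exact Set.disjoint_left.mp hd h2 h1

end Open

section Count

/-- The number of coordinates of `x` lying in `X`. -/
noncomputable def cnt (n : ℕ) (x : SymProd.fibPow F n) : ℕ :=
  Nat.card {c : Fin n // WidePullback.π (fun _ => F) c x ∈ Set.range ι₁}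

theorem cnt_permHom (n : ℕ) (g : Equiv.Perm (Fin n)) (x : SymProd.fibPow F n) :
    cnt F ι₁ n (SymProd.permHom F n g x) = cnt F ι₁ n x := by
  unfold cnt
  refine Nat.card_congr (g.symm.subtypeEquiv fun c => ?_)
  rw [permHom_apply_π]

theorem cnt_le (n : ℕ) (x : SymProd.fibPow F n) : cnt F ι₁ n x ≤ n := by
  unfold cnt
  calc Nat.card {c : Fin n // WidePullback.π (fun _ => F) c x ∈ Set.range ι₁}
      ≤ Nat.card (Fin n) := Nat.card_le_card_of_injective _ Subtype.val_injective
    _ = n := Nat.card_fin n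

variable [IsOpenImmersion ι₁] [IsOpenImmersion ι₂]
  (hc : IsCompl (Set.range ι₁) (Set.range ι₂))

include hc in
theorem isOpen_cnt_preimage (n : ℕ) (S : Set ℕ) : IsOpen (cnt F ι₁ n ⁻¹' S) := by
  classical
  rw [isOpen_iff_forall_mem_open]
  intro x hx
  have hopen₁ : IsOpen (Set.range ι₁) := ι₁.isOpenEmbedding.isOpen_range
  have hopen₂ : IsOpen (Set.range ι₁)ᶜ := by
    rw [hc.compl_eq]
    exact ι₂.isOpenEmbedding.isOpen_range
  let O : Set (SymProd.fibPow F n) := ⋂ c : Fin n, (WidePullback.π (fun _ => F) c) ⁻¹'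
    (if WidePullback.π (fun _ => F) c x ∈ Set.range ι₁ then Set.range ι₁ else (Set.range ι₁)ᶜ)
  have hO : ∀ y ∈ O, ∀ c : Fin n, (WidePullback.π (fun _ => F) c y ∈ Set.range ι₁ ↔
      WidePullback.π (fun _ => F) c x ∈ Set.range ι₁) := by
    intro y hy c
    have := Set.mem_iInter.mp hy c
    by_cases hcx : WidePullback.π (fun _ => F) c x ∈ Set.range ι₁
    · simp only [hcx, if_true, Set.mem_preimage] at this
      exact ⟨fun _ => hcx, fun _ => this⟩
    · simp only [hcx, if_false, Set.mem_preimage] at this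
      exact ⟨fun h => absurd h this, fun h => absurd h hcx⟩
  refine ⟨O, ?_, ?_, ?_⟩
  · intro y hy
    have : cnt F ι₁ n y = cnt F ι₁ n x := by
      unfold cnt
      exact Nat.card_congr (Equiv.subtypeEquivRight (hO y hy))
    rw [Set.mem_preimage, this]
    exact hx
  · refine isOpen_iInter_of_finite fun c => ?_
    refine IsOpen.preimage (WidePullback.π (fun _ => F) c).continuous ?_
    split_ifs
    · exact hopen₁
    · exact hopen₂
  · refine Set.mem_iInter.mpr fun c => ?_
    by_cases hcx : WidePullback.π (fun _ => F) c x ∈ Set.range ι₁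
    · simp only [hcx, if_true, Set.mem_preimage]
    · simp only [hcx, if_false, Set.mem_preimage, Set.mem_compl_iff, not_false_eq_true]

include hc in
theorem mem_range_iff_of_mem_W (y : SymProd.fibPow F (i + j)) (hy : y ∈ W F ι₁ ι₂ i j)
    (c : Fin (i + j)) :
    WidePullback.π (fun _ => F) c y ∈ Set.range ι₁ ↔ (c : ℕ) < i := by
  have h := (mem_W F ι₁ ι₂ i j y).mp hy c
  revert h
  refine Fin.addCases (fun a h => ?_) (fun b h => ?_) c
  · rw [side_castAdd] at h
    exact ⟨fun _ => a.2, fun _ => h⟩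
  · rw [side_natAdd] at h
    refine ⟨fun h' => absurd h (Set.disjoint_left.mp hc.disjoint h'), fun h' => ?_⟩
    simp at h'

theorem card_lt : Nat.card {c : Fin (i + j) // (c : ℕ) < i} = i := by
  classical
  rw [Nat.card_eq_fintype_card, Fintype.card_subtype]
  have : (Finset.univ.filter fun c : Fin (i + j) => (c : ℕ) < i) =
      (Finset.univ : Finset (Fin i)).map (Fin.castAddEmb j) := by
    ext c
    simp only [Finset.mem_filter, Finset.mem_univ, true_and, Finset.mem_map,
      Fin.castAddEmb_apply]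
    constructor
    · intro hc
      exact ⟨⟨c, hc⟩, by ext; rfl⟩
    · rintro ⟨a, rfl⟩
      exact a.2
  rw [this, Finset.card_map, Finset.card_univ, Fintype.card_fin]

include hc in
theorem cnt_of_mem_W (y : SymProd.fibPow F (i + j)) (hy : y ∈ W F ι₁ ι₂ i j) :
    cnt F ι₁ (i + j) y = i := by
  unfold cnt
  exact (Nat.card_congr (Equiv.subtypeEquivRight
    (mem_range_iff_of_mem_W F ι₁ ι₂ i j hc y hy))).trans (card_lt i j)

include hc in
/-- A point lies in a translate of `W` iff exactly `i` of its coordinates lie in `X`. -/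
theorem exists_translate_iff (x : SymProd.fibPow F (i + j)) :
    (∃ g : Equiv.Perm (Fin (i + j)),
      x ∈ SymProd.permHom F (i + j) g '' (W F ι₁ ι₂ i j : Set _)) ↔
      cnt F ι₁ (i + j) x = i := by
  classical
  constructor
  · rintro ⟨g, y, hy, rfl⟩
    rw [cnt_permHom]
    exact cnt_of_mem_W F ι₁ ι₂ i j hc y hy
  · intro hx
    have hx' : Fintype.card {c : Fin (i + j) //
        WidePullback.π (fun _ => F) c x ∈ Set.range ι₁} = i := by
      rw [← Nat.card_eq_fintype_card]; exact hx
    obtain ⟨σ, hσ⟩ := PS.exists_perm_of_card i j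
      (fun c => WidePullback.π (fun _ => F) c x ∈ Set.range ι₁) hx'
    refine ⟨σ, SymProd.permHom F (i + j) σ⁻¹ x, ?_, permHom_permHom_inv F σ x⟩
    rw [SetLike.mem_coe, mem_W]
    intro c
    rw [permHom_apply_π]
    have hσc : (σ⁻¹).symm c = σ c := rfl
    rw [hσc]
    have := hσ c
    revert this
    refine Fin.addCases (fun a h => ?_) (fun b h => ?_) c
    · rw [side_castAdd]
      exact h.mpr a.2
    · rw [side_natAdd]
      have hnot : WidePullback.π (fun _ => F) (σ (Fin.natAdd i b)) x ∉ Set.range ι₁ := by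
        intro h'
        have := h.mp h'
        simp at this
      have := hc.codisjoint.top_le (Set.mem_univ (WidePullback.π (fun _ => F)
        (σ (Fin.natAdd i b)) x))
      rcases this with h' | h'
      · exact absurd h' hnot
      · exact h'

end Count

end Groth.Agent.H68.CP
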