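import Mathlib

/-!
# The Young subgroup `S_i × S_j ⊆ S_{i+j}`
-/

set_option autoImplicit false
universe u

namespace Groth.Agent.H68.PS

variable (i j : ℕ)

/-- The embedding `S_i × S_j → S_{i+j}`. -/
def psi : Equiv.Perm (Fin i) × Equiv.Perm (Fin j) →* Equiv.Perm (Fin (i + j)) :=
  (finSumFinEquiv.permCongrHom).toMonoidHom.comp (Equiv.Perm.sumCongrHom (Fin i) (Fin j))

theorem psi_castAdd (g : Equiv.Perm (Fin i) × Equiv.Perm (Fin j)) (a : Fin i) :
    psi i j g (Fin.castAdd j a) = Fin.castAdd j (g.1 a) := by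
  simp [psi, Equiv.permCongr_apply]

theorem psi_natAdd (g : Equiv.Perm (Fin i) × Equiv.Perm (Fin j)) (b : Fin j) :
    psi i j g (Fin.natAdd i b) = Fin.natAdd i (g.2 b) := by
  simp [psi, Equiv.permCongr_apply]

theorem psi_symm_castAdd (g : Equiv.Perm (Fin i) × Equiv.Perm (Fin j)) (a : Fin i) :
    (psi i j g).symm (Fin.castAdd j a) = Fin.castAdd j (g.1.symm a) := by
  rw [Equiv.symm_apply_eq, psi_castAdd, Equiv.apply_symm_apply]

theorem psi_symm_natAdd (g : Equiv.Perm (Fin i) × Equiv.Perm (Fin j)) (b : Fin j) :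
    (psi i j g).symm (Fin.natAdd i b) = Fin.natAdd i (g.2.symm b) := by
  rw [Equiv.symm_apply_eq, psi_natAdd, Equiv.apply_symm_apply]

theorem mem_range_psi (σ : Equiv.Perm (Fin (i + j)))
    (h : ∀ a : Fin i, ∃ a' : Fin i, σ (Fin.castAdd j a) = Fin.castAdd j a') :
    σ ∈ (psi i j).range := by
  let σ' : Equiv.Perm (Fin i ⊕ Fin j) := finSumFinEquiv.symm.permCongr σ
  have h' : Set.MapsTo σ' (Set.range Sum.inl) (Set.range Sum.inl) := by
    rintro _ ⟨a, rfl⟩
    obtain ⟨a', ha'⟩ := h a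
    refine ⟨a', ?_⟩
    simp [σ', Equiv.permCongr_apply, ha']
  obtain ⟨g, hg⟩ := Equiv.Perm.mem_sumCongrHom_range_of_perm_mapsTo_inl h'
  refine ⟨g, ?_⟩
  simp only [psi, MonoidHom.coe_comp, Function.comp_apply, hg]
  ext x
  simp [σ', Equiv.permCongr_apply]

/-- The universe-lifted version. -/
def psiU : ULift.{u} (Equiv.Perm (Fin i)) × ULift.{u} (Equiv.Perm (Fin j)) →*
    ULift.{u} (Equiv.Perm (Fin (i + j))) :=
  (MulEquiv.ulift.symm.toMonoidHom).comp ((psi i j).comp
    (MonoidHom.prodMap MulEquiv.ulift.toMonoidHom MulEquiv.ulift.toMonoidHom))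

theorem psiU_down (g : ULift.{u} (Equiv.Perm (Fin i)) × ULift.{u} (Equiv.Perm (Fin j))) :
    (psiU i j g).down = psi i j (g.1.down, g.2.down) := rfl

theorem mem_range_psiU (σ : ULift.{u} (Equiv.Perm (Fin (i + j))))
    (h : ∀ a : Fin i, ∃ a' : Fin i, σ.down (Fin.castAdd j a) = Fin.castAdd j a') :
    σ ∈ (psiU.{u} i j).range := by
  obtain ⟨g, hg⟩ := mem_range_psi i j σ.down h
  exact ⟨(⟨g.1⟩, ⟨g.2⟩), ULift.ext _ _ hg⟩

/-- Any subset of `Fin (i+j)` with `i` elements is the image of the first `i` elements under a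
permutation. -/
theorem exists_perm_of_card (p : Fin (i + j) → Prop) [DecidablePred p]
    (hp : Fintype.card {c // p c} = i) :
    ∃ σ : Equiv.Perm (Fin (i + j)), ∀ c, p (σ c) ↔ (c : ℕ) < i := by
  classical
  have h1 : Fintype.card {c : Fin (i + j) // (c : ℕ) < i} = i := by
    rw [Fintype.card_subtype]
    have : (Finset.univ.filter fun c : Fin (i + j) => (c : ℕ) < i) =
        (Finset.univ : Finset (Fin i)).map (Fin.castAddEmb j) := by
      ext c
      simp only [Finset.mem_filter, Finset.mem_univ, true_and, Finset.mem_map,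
        Fin.castAddEmb_apply]
      constructor
      · intro hc
        exact ⟨⟨c, hc⟩, by ext; rfl⟩
      · rintro ⟨a, rfl⟩
        exact a.2
    rw [this, Finset.card_map, Finset.card_univ, Fintype.card_fin]
  have e : {c : Fin (i + j) // (c : ℕ) < i} ≃ {c // p c} :=
    Fintype.equivOfCardEq (h1.trans hp.symm)
  refine ⟨e.extendSubtype, fun c => ⟨fun h => ?_, fun h => e.extendSubtype_mem c h⟩⟩
  by_contra hc
  exact e.extendSubtype_not_mem c hc h

end Groth.Agent.H68.PS
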