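import Groth.Prelude.Def_SymProd
import Groth.Agent.H68.PermSplit
import Mathlib

/-!
# Fibre powers of a disjoint union: the open pieces `X^i ×_Y X'^j`
-/

set_option autoImplicit false
universe u

open CategoryTheory CategoryTheory.Limits AlgebraicGeometry

namespace Groth.Agent.H68.CP

variable {X X' Z Y : Scheme.{u}} (F : Z ⟶ Y) (ι₁ : X ⟶ Z) (ι₂ : X' ⟶ Z)
  (f : X ⟶ Y) (f' : X' ⟶ Y) (h₁ : ι₁ ≫ F = f) (h₂ : ι₂ ≫ F = f') (i j : ℕ)

/-- `X^i ×_Y X'^j`. -/
noncomputable abbrev Pij : Scheme.{u} :=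
  pullback (WidePullback.base (fun _ : Fin i => f)) (WidePullback.base (fun _ : Fin j => f'))

/-- The components of `Psi`. -/
noncomputable def cmp (c : Fin (i + j)) : Pij f f' i j ⟶ Z :=
  Fin.addCases (motive := fun _ => (Pij f f' i j ⟶ Z))
    (fun a => pullback.fst _ _ ≫ WidePullback.π (fun _ : Fin i => f) a ≫ ι₁)
    (fun b => pullback.snd _ _ ≫ WidePullback.π (fun _ : Fin j => f') b ≫ ι₂) c

theorem cmp_castAdd (a : Fin i) : cmp ι₁ ι₂ f f' i j (Fin.castAdd j a) =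
    pullback.fst _ _ ≫ WidePullback.π (fun _ : Fin i => f) a ≫ ι₁ :=
  Fin.addCases_left _

theorem cmp_natAdd (b : Fin j) : cmp ι₁ ι₂ f f' i j (Fin.natAdd i b) =
    pullback.snd _ _ ≫ WidePullback.π (fun _ : Fin j => f') b ≫ ι₂ :=
  Fin.addCases_right _

include h₁ h₂ in
theorem cmp_F (c : Fin (i + j)) : cmp ι₁ ι₂ f f' i j c ≫ F =
    pullback.fst _ _ ≫ WidePullback.base (fun _ : Fin i => f) := by
  refine Fin.addCases (fun a => ?_) (fun b => ?_) c
  · rw [cmp_castAdd, Category.assoc, Category.assoc, h₁, WidePullback.π_arrow]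
  · rw [cmp_natAdd, Category.assoc, Category.assoc, h₂, WidePullback.π_arrow, pullback.condition]

/-- The inclusion `X^i ×_Y X'^j ⟶ (X ⊔ X')^{i+j}`. -/
noncomputable def Psi : Pij f f' i j ⟶ SymProd.fibPow F (i + j) :=
  WidePullback.lift (pullback.fst _ _ ≫ WidePullback.base (fun _ : Fin i => f))
    (cmp ι₁ ι₂ f f' i j) (cmp_F F ι₁ ι₂ f f' h₁ h₂ i j)

@[reassoc]
theorem Psi_π (c : Fin (i + j)) : Psi F ι₁ ι₂ f f' h₁ h₂ i j ≫ WidePullback.π (fun _ => F) c =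
    cmp ι₁ ι₂ f f' i j c :=
  WidePullback.lift_π _ _ _ _ c

@[reassoc]
theorem Psi_base : Psi F ι₁ ι₂ f f' h₁ h₂ i j ≫ WidePullback.base (fun _ => F) =
    pullback.fst _ _ ≫ WidePullback.base (fun _ : Fin i => f) :=
  WidePullback.lift_base _ _ _ _

theorem mono_Psi [Mono ι₁] [Mono ι₂] : Mono (Psi F ι₁ ι₂ f f' h₁ h₂ i j) := by
  refine ⟨fun {A} u v huv => ?_⟩
  have hπ : ∀ c, u ≫ cmp ι₁ ι₂ f f' i j c = v ≫ cmp ι₁ ι₂ f f' i j c := by
    intro c
    rw [← Psi_π F ι₁ ι₂ f f' h₁ h₂, reassoc_of% huv]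
  have hb : u ≫ pullback.fst _ _ ≫ WidePullback.base (fun _ : Fin i => f) =
      v ≫ pullback.fst _ _ ≫ WidePullback.base (fun _ : Fin i => f) := by
    rw [← Psi_base F ι₁ ι₂ f f' h₁ h₂, reassoc_of% huv]
  apply pullback.hom_ext
  · apply WidePullback.hom_ext
    · intro a
      have := hπ (Fin.castAdd j a)
      rw [cmp_castAdd] at this
      rw [← cancel_mono ι₁]
      simpa only [Category.assoc] using this
    · simpa only [Category.assoc] using hb
  · apply WidePullback.hom_ext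
    · intro b
      have := hπ (Fin.natAdd i b)
      rw [cmp_natAdd] at this
      rw [← cancel_mono ι₂]
      simpa only [Category.assoc] using this
    · rw [pullback.condition] at hb
      simpa only [Category.assoc] using hb

section Open

variable [IsOpenImmersion ι₁] [IsOpenImmersion ι₂]

/-- The side (`X` or `X'`) prescribed for the `c`-th coordinate. -/
noncomputable def side (c : Fin (i + j)) : Z.Opens :=
  Fin.addCases (motive := fun _ => Z.Opens) (fun _ => ι₁.opensRange) (fun _ => ι₂.opensRange) c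

theorem side_castAdd (a : Fin i) : side ι₁ ι₂ i j (Fin.castAdd j a) = ι₁.opensRange :=
  Fin.addCases_left _

theorem side_natAdd (b : Fin j) : side ι₁ ι₂ i j (Fin.natAdd i b) = ι₂.opensRange :=
  Fin.addCases_right _

/-- The open of `(X ⊔ X')^{i+j}` where the first `i` coordinates lie in `X` and the last `j`
in `X'`. -/
noncomputable def W : (SymProd.fibPow F (i + j)).Opens :=
  ⟨⋂ c, (WidePullback.π (fun _ => F) c) ⁻¹' (side ι₁ ι₂ i j c : Set Z),
    isOpen_iInter_of_finite fun c =>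
      (side ι₁ ι₂ i j c).2.preimage (WidePullback.π (fun _ => F) c).continuous⟩

theorem mem_W (x : SymProd.fibPow F (i + j)) : x ∈ W F ι₁ ι₂ i j ↔
    ∀ c, WidePullback.π (fun _ => F) c x ∈ side ι₁ ι₂ i j c := by
  change x ∈ ⋂ c, (WidePullback.π (fun _ => F) c) ⁻¹' (side ι₁ ι₂ i j c : Set Z) ↔ _
  simp only [Set.mem_iInter, Set.mem_preimage, SetLike.mem_coe]

theorem Psi_mem_W (y : Pij f f' i j) : Psi F ι₁ ι₂ f f' h₁ h₂ i j y ∈ W F ι₁ ι₂ i j := by
  rw [mem_W]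
  intro c
  rw [← Scheme.Hom.comp_apply, Psi_π]
  refine Fin.addCases (fun a => ?_) (fun b => ?_) c
  · rw [cmp_castAdd, side_castAdd, Scheme.Hom.comp_apply, Scheme.Hom.comp_apply]
    exact ⟨_, rfl⟩
  · rw [cmp_natAdd, side_natAdd, Scheme.Hom.comp_apply, Scheme.Hom.comp_apply]
    exact ⟨_, rfl⟩

theorem range_sub₁ (a : Fin i) :
    Set.range ((W F ι₁ ι₂ i j).ι ≫ WidePullback.π (fun _ => F) (Fin.castAdd j a)) ⊆
      Set.range ι₁ := by
  rintro _ ⟨w, rfl⟩
  have := (mem_W F ι₁ ι₂ i j w.1).mp w.2 (Fin.castAdd j a)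
  rw [side_castAdd] at this
  exact this

theorem range_sub₂ (b : Fin j) :
    Set.range ((W F ι₁ ι₂ i j).ι ≫ WidePullback.π (fun _ => F) (Fin.natAdd i b)) ⊆
      Set.range ι₂ := by
  rintro _ ⟨w, rfl⟩
  have := (mem_W F ι₁ ι₂ i j w.1).mp w.2 (Fin.natAdd i b)
  rw [side_natAdd] at this
  exact this

/-- The inverse of `Psi` on `W`. -/
noncomputable def sec : (W F ι₁ ι₂ i j).toScheme ⟶ Pij f f' i j :=
  pullback.lift
    (WidePullback.lift ((W F ι₁ ι₂ i j).ι ≫ WidePullback.base (fun _ => F))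
      (fun a => IsOpenImmersion.lift ι₁ _ (range_sub₁ F ι₁ ι₂ i j a))
      (fun a => by
        rw [← h₁, IsOpenImmersion.lift_fac_assoc, Category.assoc, WidePullback.π_arrow]))
    (WidePullback.lift ((W F ι₁ ι₂ i j).ι ≫ WidePullback.base (fun _ => F))
      (fun b => IsOpenImmersion.lift ι₂ _ (range_sub₂ F ι₁ ι₂ i j b))
      (fun b => by
        rw [← h₂, IsOpenImmersion.lift_fac_assoc, Category.assoc, WidePullback.π_arrow]))
    (by rw [WidePullback.lift_base, WidePullback.lift_base])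

theorem sec_Psi : sec F ι₁ ι₂ f f' h₁ h₂ i j ≫ Psi F ι₁ ι₂ f f' h₁ h₂ i j =
    (W F ι₁ ι₂ i j).ι := by
  apply WidePullback.hom_ext
  · intro c
    rw [Category.assoc, Psi_π]
    refine Fin.addCases (fun a => ?_) (fun b => ?_) c
    · rw [cmp_castAdd, sec, pullback.lift_fst_assoc, WidePullback.lift_π_assoc,
        IsOpenImmersion.lift_fac]
    · rw [cmp_natAdd, sec, pullback.lift_snd_assoc, WidePullback.lift_π_assoc,
        IsOpenImmersion.lift_fac]
  · rw [Category.assoc, Psi_base, sec, pullback.lift_fst_assoc, WidePullback.lift_base]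

theorem isOpenImmersion_Psi : IsOpenImmersion (Psi F ι₁ ι₂ f f' h₁ h₂ i j) ∧
    Set.range (Psi F ι₁ ι₂ f f' h₁ h₂ i j) = (W F ι₁ ι₂ i j : Set _) := by
  have hm := mono_Psi F ι₁ ι₂ f f' h₁ h₂ i j
  have hsub : Set.range (Psi F ι₁ ι₂ f f' h₁ h₂ i j) ⊆ Set.range (W F ι₁ ι₂ i j).ι := by
    rintro _ ⟨y, rfl⟩
    rw [Scheme.Opens.range_ι]
    exact Psi_mem_W F ι₁ ι₂ f f' h₁ h₂ i j y
  let t := IsOpenImmersion.lift (W F ι₁ ι₂ i j).ι (Psi F ι₁ ι₂ f f' h₁ h₂ i j) hsub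
  have ht : t ≫ (W F ι₁ ι₂ i j).ι = Psi F ι₁ ι₂ f f' h₁ h₂ i j := IsOpenImmersion.lift_fac _ _ _
  have h1 : sec F ι₁ ι₂ f f' h₁ h₂ i j ≫ t = 𝟙 _ := by
    rw [← cancel_mono (W F ι₁ ι₂ i j).ι, Category.assoc, ht, sec_Psi, Category.id_comp]
  have h2 : t ≫ sec F ι₁ ι₂ f f' h₁ h₂ i j = 𝟙 _ := by
    rw [← cancel_mono (Psi F ι₁ ι₂ f f' h₁ h₂ i j), Category.assoc, sec_Psi, ht,
      Category.id_comp]
  have hiso : IsIso t := ⟨sec F ι₁ ι₂ f f' h₁ h₂ i j, h2, h1⟩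
  constructor
  · rw [← ht]; infer_instance
  · apply subset_antisymm
    · rwa [Scheme.Opens.range_ι] at hsub
    · intro x hx
      refine ⟨sec F ι₁ ι₂ f f' h₁ h₂ i j ⟨x, hx⟩, ?_⟩
      rw [← Scheme.Hom.comp_apply, sec_Psi]
      rfl

end Open

end Groth.Agent.H68.CP
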