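import Groth.Agent.H68.RydhKer
import Mathlib

/-!
# The determinant law of a finitely generated projective module

Let `M` be a `B`-module which is finitely generated projective over `A`. Choosing a surjection
`π : A^n → M` with a section `s`, the module `M × ker π` is free of rank `n` over `A`, and the
product algebra `B × A` acts on it (`B` on `M`, scalars on `ker π`). The determinant law of this
free module (from the Prelude), composed with the affine law `x ↦ (x, 1)`, is the determinant law of
`M`: `DP.NL`.
-/

set_option autoImplicit false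
universe u
open scoped TensorProduct

namespace Groth.Agent.H68.DP

open Groth.Agent.H68 Groth.Agent.H68.CR

section Setup

variable {A : Type u} [CommRing A] {B : Type u} [CommRing B] [Algebra A B]
  {M : Type u} [AddCommGroup M] [Module A M] [Module B M] [IsScalarTower A B M]
  {n : ℕ} (π : (Fin n → A) →ₗ[A] M)

/-- The module `M × ker π`. -/
def FF (π : (Fin n → A) →ₗ[A] M) : Type u := M × LinearMap.ker π

noncomputable instance : AddCommGroup (FF π) := inferInstanceAs (AddCommGroup (M × LinearMap.ker π))
noncomputable instance : Module A (FF π) := inferInstanceAs (Module A (M × LinearMap.ker π))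

/-- The action of `B × A` on `M × ker π`. -/
noncomputable def rho : B × A →ₐ[A] Module.End A (FF π) :=
  (LinearMap.prodMapAlgHom A M (LinearMap.ker π)).comp
    (AlgHom.prodMap (Algebra.lsmul A A M) (Algebra.ofId A (Module.End A (LinearMap.ker π))))

noncomputable instance : Module (B × A) (FF π) := Module.compHom (FF π) (rho π).toRingHom

lemma smul_def (c : B × A) (v : FF π) : c • v = ((c.1 • v.1 : M), (c.2 • v.2 : LinearMap.ker π)) := by
  show rho π c v = _
  simp [rho, Algebra.ofId_apply, Algebra.algebraMap_eq_smul_one]
  rfl

instance : IsScalarTower A (B × A) (FF π) where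
  smul_assoc r c v := by
    rw [smul_def, smul_def]
    show (((r • c).1 • v.1 : M), ((r • c).2 • v.2 : LinearMap.ker π)) =
      (r • (c.1 • v.1 : M), r • (c.2 • v.2 : LinearMap.ker π))
    rw [Prod.smul_fst, Prod.smul_snd, smul_assoc, smul_assoc]

variable (s : M →ₗ[A] (Fin n → A)) (hs : π ∘ₗ s = LinearMap.id)

include hs in
lemma pi_s (m : M) : π (s m) = m := LinearMap.congr_fun hs m

/-- `M × ker π ≃ A^n`. -/
noncomputable def Phi : FF π ≃ₗ[A] (Fin n → A) where
  toFun v := s v.1 + (v.2 : Fin n → A)
  map_add' v w := by
    show s (v.1 + w.1) + ((v.2 + w.2 : LinearMap.ker π) : Fin n → A) = _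
    rw [map_add, Submodule.coe_add]
    abel
  map_smul' r v := by
    show s (r • v.1) + ((r • v.2 : LinearMap.ker π) : Fin n → A) = r • (s v.1 + (v.2 : Fin n → A))
    rw [map_smul, Submodule.coe_smul, smul_add]
  invFun w := (π w, ⟨w - s (π w), by
    rw [LinearMap.mem_ker, map_sub, pi_s π s hs, sub_self]⟩)
  left_inv v := by
    have h2 : π (v.2 : Fin n → A) = 0 := v.2.2
    apply Prod.ext
    · show π (s v.1 + (v.2 : Fin n → A)) = v.1
      rw [map_add, pi_s π s hs, h2, add_zero]
    · apply Subtype.ext
      show s v.1 + (v.2 : Fin n → A) - s (π (s v.1 + (v.2 : Fin n → A))) = v.2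
      rw [map_add, pi_s π s hs, h2, add_zero]
      abel
  right_inv w := by
    show s (π w) + (w - s (π w)) = w
    abel

include hs in
lemma free_FF : Module.Free A (FF π) := Module.Free.of_equiv (Phi π s hs).symm

include hs in
lemma finite_FF : Module.Finite A (FF π) := Module.Finite.equiv (Phi π s hs).symm

include hs in
lemma finite_ker : Module.Finite A (LinearMap.ker π) := by
  let r : (Fin n → A) →ₗ[A] LinearMap.ker π :=
    (LinearMap.id - s ∘ₗ π).codRestrict (LinearMap.ker π) (fun w => by
      rw [LinearMap.mem_ker]
      show π (w - s (π w)) = 0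
      rw [map_sub, pi_s π s hs, sub_self])
  have hr : Function.Surjective r := by
    intro k
    refine ⟨(k : Fin n → A), Subtype.ext ?_⟩
    show (k : Fin n → A) - s (π (k : Fin n → A)) = k
    have h2 : π (k : Fin n → A) = 0 := k.2
    rw [h2, map_zero, sub_zero]
  exact Module.Finite.of_surjective r hr

include hs in
lemma projective_ker : Module.Projective A (LinearMap.ker π) := by
  let r : (Fin n → A) →ₗ[A] LinearMap.ker π :=
    (LinearMap.id - s ∘ₗ π).codRestrict (LinearMap.ker π) (fun w => by
      rw [LinearMap.mem_ker]
      show π (w - s (π w)) = 0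
      rw [map_sub, pi_s π s hs, sub_self])
  refine Module.Projective.of_split (LinearMap.ker π).subtype r ?_
  ext k : 1
  apply Subtype.ext
  show (k : Fin n → A) - s (π (k : Fin n → A)) = k
  have h2 : π (k : Fin n → A) = 0 := k.2
  rw [h2, map_zero, sub_zero]

end Setup

end Groth.Agent.H68.DP
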