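import Groth.Agent.H68.DetProj
import Mathlib

/-!
# The determinant law of a finitely generated projective module: the law

`DP.iota : B → B × A`, the affine polynomial law `x ↦ (x, 1)`, and `DP.NL π`, the composite of the
Prelude's determinant law of the free module `M × ker π` over `B × A` with `iota`. Over a local
test ring its value is the determinant of the action on `S ⊗ M` (`DP.NL_local`).
-/

set_option autoImplicit false
universe u
open scoped TensorProduct

namespace Groth.Agent.H68.DP

open Groth.Agent.H68 Groth.Agent.H68.CR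

section Iota

variable (A : Type u) [CommRing A] (B : Type u) [CommRing B] [Algebra A B]

lemma prodRight_rTensor {S S' : Type u} [CommSemiring S] [Algebra A S] [CommSemiring S']
    [Algebra A S'] (φ : S →ₐ[A] S') (u : S ⊗[A] (B × A)) :
    Algebra.TensorProduct.prodRight A S' S' B A (φ.toLinearMap.rTensor (B × A) u) =
      (φ.toLinearMap.rTensor B (Algebra.TensorProduct.prodRight A S S B A u).1,
        φ.toLinearMap.rTensor A (Algebra.TensorProduct.prodRight A S S B A u).2) := by
  induction u using TensorProduct.induction_on with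
  | zero => simp [Prod.zero_eq_mk]
  | tmul s c =>
    rw [LinearMap.rTensor_tmul, Algebra.TensorProduct.prodRight_tmul,
      Algebra.TensorProduct.prodRight_tmul, LinearMap.rTensor_tmul, LinearMap.rTensor_tmul]
  | add x y hx hy =>
    rw [map_add, map_add, hx, hy, map_add, Prod.fst_add, Prod.snd_add, map_add, map_add]
    rfl

/-- The affine law `x ↦ (x, 1)`. -/
noncomputable def iota : B →ₚₗ[A] (B × A) where
  toFun' S _ _ x := (Algebra.TensorProduct.prodRight A S S B A).symm (x, 1)
  isCompat' {S _ _ S' _ _} φ := by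
    funext x
    simp only [Function.comp_apply]
    apply (Algebra.TensorProduct.prodRight A S' S' B A).injective
    rw [prodRight_rTensor, AlgEquiv.apply_symm_apply, AlgEquiv.apply_symm_apply]
    congr 1
    show φ.toLinearMap.rTensor A (1 : S ⊗[A] A) = 1
    rw [PL.rTensor_eq_map, map_one]

lemma iota_apply (S : Type u) [CommSemiring S] [Algebra A S] (x : S ⊗[A] B) :
    (iota A B).toFun' S x = (Algebra.TensorProduct.prodRight A S S B A).symm (x, 1) := rfl

lemma iota_one (S : Type u) [CommSemiring S] [Algebra A S] : (iota A B).toFun' S 1 = 1 := by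
  rw [iota_apply]
  have : ((1 : S ⊗[A] B), (1 : S ⊗[A] A)) = 1 := rfl
  rw [this, map_one]

lemma iota_mul (S : Type u) [CommSemiring S] [Algebra A S] (x y : S ⊗[A] B) :
    (iota A B).toFun' S (x * y) = (iota A B).toFun' S x * (iota A B).toFun' S y := by
  rw [iota_apply, iota_apply, iota_apply, ← map_mul]
  congr 1
  rw [Prod.mk_mul_mk, mul_one]

lemma iota_smul (S : Type u) [CommSemiring S] [Algebra A S] (t : S) (x : S ⊗[A] B) :
    (iota A B).toFun' S (t • x) =
      (Algebra.TensorProduct.prodRight A S S B A).symm (t • x, 1) := rfl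

end Iota

section Law

variable {A : Type u} [CommRing A] {B : Type u} [CommRing B] [Algebra A B]
  {M : Type u} [AddCommGroup M] [Module A M] [Module B M] [IsScalarTower A B M]
  {n : ℕ} (π : (Fin n → A) →ₗ[A] M) [Module.Free A (FF π)] [Module.Finite A (FF π)]

/-- The determinant law of `M`. -/
noncomputable def NL : B →ₚₗ[A] A :=
  (PolLaw.detPLaw (A := A) (B := B × A) (M := FF π)).comp (iota A B)

lemma NL_apply (S : Type u) [CommSemiring S] [Algebra A S] (x : S ⊗[A] B) :
    (NL π).toFun' S x = PolLaw.detFun A (B × A) (FF π) S ((iota A B).toFun' S x) := rfl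

theorem NL_isMult : PolLaw.IsMult (NL (B := B) π) := by
  intro S _ _
  constructor
  · rw [NL_apply, iota_one, PolLaw.detFun_one]
  · intro x y
    rw [NL_apply, NL_apply, NL_apply, iota_mul, PolLaw.detFun_mul]

/-- The component decomposition of `S ⊗ (M × ker π)`. -/
noncomputable def PP (S : Type u) [CommRing S] [Algebra A S] :
    S ⊗[A] FF π ≃ₗ[S] (S ⊗[A] M) × (S ⊗[A] LinearMap.ker π) :=
  TensorProduct.prodRight A S S M (LinearMap.ker π)

lemma PP_tmul (S : Type u) [CommRing S] [Algebra A S] (t : S) (v : FF π) :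
    PP π S (t ⊗ₜ[A] v) = (t ⊗ₜ[A] (v.1 : M), t ⊗ₜ[A] (v.2 : LinearMap.ker π)) := rfl

lemma act_inl (S : Type u) [CommRing S] [Algebra A S] (x : S ⊗[A] B) (z : S ⊗[A] FF π) :
    PP π S (PolLaw.actEnd (FF π) S ((Algebra.TensorProduct.prodRight A S S B A).symm (x, 0)) z) =
      (PolLaw.actEnd M S x (PP π S z).1, 0) := by
  induction x using TensorProduct.induction_on with
  | zero =>
    have h0 : (Algebra.TensorProduct.prodRight A S S B A).symm ((0 : S ⊗[A] B), (0 : S ⊗[A] A)) =
        0 := map_zero _
    rw [h0, map_zero, LinearMap.zero_apply, map_zero, map_zero, LinearMap.zero_apply]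
    rfl
  | tmul t b =>
    have e : (Algebra.TensorProduct.prodRight A S S B A).symm (t ⊗ₜ[A] b, 0) =
        t ⊗ₜ[A] ((b, 0) : B × A) := by
      rw [← TensorProduct.tmul_zero (R := A) A t, Algebra.TensorProduct.prodRight_symm_tmul]
    rw [e]
    induction z using TensorProduct.induction_on with
    | zero => simp [Prod.zero_eq_mk]
    | tmul r v =>
      rw [PolLaw.actEnd_tmul_tmul, PP_tmul, PP_tmul, PolLaw.actEnd_tmul_tmul, smul_def]
      show ((t * r) ⊗ₜ[A] (b • v.1), (t * r) ⊗ₜ[A] ((0 : A) • v.2)) = _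
      rw [zero_smul, TensorProduct.tmul_zero]
    | add z₁ z₂ h₁ h₂ =>
      rw [map_add, map_add, h₁, h₂, map_add, Prod.fst_add, map_add]
      simp
  | add x y hx hy =>
    have : ((x + y, (0 : S ⊗[A] A)) : (S ⊗[A] B) × (S ⊗[A] A)) = (x, 0) + (y, 0) := by
      rw [Prod.mk_add_mk, add_zero]
    rw [this, map_add, map_add, LinearMap.add_apply, map_add, hx, hy, map_add,
      LinearMap.add_apply]
    simp

lemma act_inr (S : Type u) [CommRing S] [Algebra A S] (z : S ⊗[A] FF π) :
    PP π S (PolLaw.actEnd (FF π) S ((Algebra.TensorProduct.prodRight A S S B A).symm (0, 1)) z) =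
      (0, (PP π S z).2) := by
  have e : (Algebra.TensorProduct.prodRight A S S B A).symm (0, 1) =
      (1 : S) ⊗ₜ[A] ((0, 1) : B × A) := by
    rw [← TensorProduct.tmul_zero (R := A) B (1 : S), Algebra.TensorProduct.one_def,
      Algebra.TensorProduct.prodRight_symm_tmul]
  rw [e]
  induction z using TensorProduct.induction_on with
  | zero => simp [Prod.zero_eq_mk]
  | tmul r v =>
    rw [PolLaw.actEnd_tmul_tmul, PP_tmul, PP_tmul, smul_def]
    show ((1 * r) ⊗ₜ[A] ((0 : B) • v.1), (1 * r) ⊗ₜ[A] ((1 : A) • v.2)) = _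
    rw [zero_smul, TensorProduct.tmul_zero, one_smul, one_mul]
  | add z₁ z₂ h₁ h₂ =>
    rw [map_add, map_add, h₁, h₂, map_add]
    simp

/-- The action of `(x, 1)` on `S ⊗ (M × ker π)` is `x` on `S ⊗ M` and the identity on the rest. -/
theorem act_iota (S : Type u) [CommRing S] [Algebra A S] (x : S ⊗[A] B) :
    PolLaw.actEnd (FF π) S ((iota A B).toFun' S x) =
      (PP π S).symm.toLinearMap ∘ₗ ((PolLaw.actEnd M S x).prodMap
        (LinearMap.id : S ⊗[A] LinearMap.ker π →ₗ[S] _)) ∘ₗ (PP π S).toLinearMap := by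
  apply LinearMap.ext
  intro z
  apply (PP π S).injective
  rw [LinearMap.comp_apply, LinearMap.comp_apply, LinearEquiv.coe_toLinearMap,
    LinearEquiv.coe_toLinearMap, LinearEquiv.apply_symm_apply, iota_apply]
  have : ((x, (1 : S ⊗[A] A)) : (S ⊗[A] B) × (S ⊗[A] A)) = (x, 0) + (0, 1) := by
    rw [Prod.mk_add_mk, add_zero, zero_add]
  rw [this, map_add, map_add, LinearMap.add_apply, map_add, act_inl, act_inr]
  simp

/-- Over a ring where `S ⊗ M` and `S ⊗ ker π` are free, the law is the determinant of the action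
on `S ⊗ M`. -/
theorem NL_of_free (S : Type u) [CommRing S] [Algebra A S] [Module.Free S (S ⊗[A] M)]
    [Module.Finite S (S ⊗[A] M)] [Module.Free S (S ⊗[A] LinearMap.ker π)]
    [Module.Finite S (S ⊗[A] LinearMap.ker π)] (x : S ⊗[A] B) :
    (NL π).toFun' S x = PolLaw.detAct M S x ⊗ₜ[A] (1 : A) := by
  rw [NL_apply, PolLaw.detFun_eq_detAct]
  congr 1
  rw [PolLaw.detAct, act_iota, PolLaw.detAct]
  have h := LinearMap.det_conj ((PolLaw.actEnd M S x).prodMap
    (LinearMap.id : S ⊗[A] LinearMap.ker π →ₗ[S] _)) (PP π S).symm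
  rw [LinearEquiv.symm_symm] at h
  rw [h, LinearMap.det_prodMap, LinearMap.det_id, mul_one]

end Law

end Groth.Agent.H68.DP
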