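import Groth.Agent.H68.DetProjLaw
import Mathlib

/-!
# The determinant law of a finitely generated projective module: existence and uniqueness

* `DP.eq_of_local`: elements of `R ⊗ A` agreeing in all localisations of `R` at maximal ideals.
* `DP.law_ext_local`: two laws `B → A` agreeing over all local test rings are equal.
* `DP.exists_detLaw`: existence of a multiplicative law computing determinants over local rings.
* `DP.homog_of_local`: homogeneity of such a law for constant rank.
-/

set_option autoImplicit false
universe u
open scoped TensorProduct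

namespace Groth.Agent.H68.DP

open Groth.Agent.H68 Groth.Agent.H68.CR Groth.Agent.H68.RL

section Local

variable {A : Type u} [CommRing A]

lemma rid_rTensor {R R' : Type u} [CommRing R] [Algebra A R] [CommRing R'] [Algebra A R']
    (ψ : R →ₐ[A] R') (u : R ⊗[A] A) :
    TensorProduct.rid A R' (ψ.toLinearMap.rTensor A u) = ψ (TensorProduct.rid A R u) := by
  induction u using TensorProduct.induction_on with
  | zero => simp
  | tmul r a => simp
  | add x y hx hy => simp only [map_add, hx, hy]

/-- Two elements of `R ⊗ A` which agree in `R_J ⊗ A` for all maximal ideals `J` are equal. -/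
theorem eq_of_local (R : Type u) [CommRing R] [Algebra A R] (u u' : R ⊗[A] A)
    (h : ∀ (J : Ideal R) [J.IsMaximal],
      (IsScalarTower.toAlgHom A R (Localization.AtPrime J)).toLinearMap.rTensor A u =
        (IsScalarTower.toAlgHom A R (Localization.AtPrime J)).toLinearMap.rTensor A u') :
    u = u' := by
  apply (TensorProduct.rid A R).injective
  rw [← sub_eq_zero]
  apply eq_zero_of_localization
  intro J hJ
  have := congrArg (TensorProduct.rid A (Localization.AtPrime J)) (h J)
  rw [rid_rTensor, rid_rTensor] at this
  rw [map_sub, sub_eq_zero]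
  exact this

variable {B : Type u} [CommRing B] [Algebra A B]

/-- Two laws `B → A` which agree over all local test rings are equal. -/
theorem law_ext_local (N N' : B →ₚₗ[A] A)
    (h : ∀ (S : Type u) [CommRing S] [IsLocalRing S] [Algebra A S] (x : S ⊗[A] B),
      N.toFun' S x = N'.toFun' S x) : N = N' := by
  apply law_ext_of_injective (LinearMap.id : A →ₗ[A] A) Function.injective_id
  intro σ z
  congr 1
  apply eq_of_local
  intro J hJ
  rw [N.isCompat_apply', N'.isCompat_apply']
  exact h _ _

/-- A law which is homogeneous of degree `d` over all local test rings is homogeneous. -/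
theorem homog_of_local (N : B →ₚₗ[A] A) (d : ℕ)
    (h : ∀ (S : Type u) [CommRing S] [IsLocalRing S] [Algebra A S] (t : S) (x : S ⊗[A] B),
      N.toFun' S (t • x) = t ^ d • N.toFun' S x) : PolLaw.IsHomog N d := by
  -- over rings
  have hring : ∀ (R : Type u) [CommRing R] [Algebra A R] (t : R) (x : R ⊗[A] B),
      N.toFun' R (t • x) = t ^ d • N.toFun' R x := by
    intro R _ _ t x
    apply eq_of_local
    intro J hJ
    let ψ : R →ₐ[A] Localization.AtPrime J := IsScalarTower.toAlgHom A R (Localization.AtPrime J)
    have e1 : ψ.toLinearMap.rTensor B (t • x) = ψ t • ψ.toLinearMap.rTensor B x := by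
      rw [PL.rTensor_eq_map, smul_eq_tmul_mul, map_mul, Algebra.TensorProduct.map_tmul, map_one,
        ← PL.rTensor_eq_map, ← smul_eq_tmul_mul]
    have e2 : ψ.toLinearMap.rTensor A (t ^ d • N.toFun' R x) =
        ψ t ^ d • ψ.toLinearMap.rTensor A (N.toFun' R x) := by
      rw [PL.rTensor_eq_map, smul_eq_tmul_mul, map_mul, Algebra.TensorProduct.map_tmul, map_one,
        map_pow, ← PL.rTensor_eq_map, ← smul_eq_tmul_mul]
    rw [N.isCompat_apply', e1, e2, N.isCompat_apply']
    exact h _ _ _
  intro S _ _ t x
  obtain ⟨x', rfl⟩ := rTensor_pr_surjective (A := A) S x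
  have e1 : (pr A S).toLinearMap.rTensor B ((MvPolynomial.X t : MvPolynomial S A) • x') =
      t • (pr A S).toLinearMap.rTensor B x' := by
    rw [PL.rTensor_eq_map, smul_eq_tmul_mul, map_mul, Algebra.TensorProduct.map_tmul, map_one,
      pr_X, ← PL.rTensor_eq_map, ← smul_eq_tmul_mul]
  rw [← e1, ← N.isCompat_apply', hring, PL.rTensor_eq_map, smul_eq_tmul_mul, map_mul,
    Algebra.TensorProduct.map_tmul, map_one, map_pow, pr_X, ← PL.rTensor_eq_map,
    N.isCompat_apply', ← smul_eq_tmul_mul]

end Local

section Exist

variable {A : Type u} [CommRing A] {B : Type u} [CommRing B] [Algebra A B]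
  {M : Type u} [AddCommGroup M] [Module A M] [Module B M] [IsScalarTower A B M]
  [Module.Finite A M] [Module.Projective A M]

/-- Existence of the determinant law. -/
theorem exists_detLaw : ∃ N : B →ₚₗ[A] A, PolLaw.IsMult N ∧
    ∀ (S : Type u) [CommRing S] [IsLocalRing S] [Algebra A S] (x : S ⊗[A] B),
      N.toFun' S x = PolLaw.detAct M S x ⊗ₜ[A] (1 : A) := by
  obtain ⟨n, π, hπ⟩ := Module.Finite.exists_fin' A M
  obtain ⟨s, hs⟩ := Module.projective_lifting_property π LinearMap.id hπ
  haveI := free_FF π s hs
  haveI := finite_FF π s hs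
  haveI := finite_ker π s hs
  haveI := projective_ker π s hs
  refine ⟨NL (B := B) π, NL_isMult π, ?_⟩
  intro S _ _ _ x
  haveI : Module.Free S (S ⊗[A] M) := Module.free_of_flat_of_isLocalRing
  haveI : Module.Free S (S ⊗[A] LinearMap.ker π) := Module.free_of_flat_of_isLocalRing
  exact NL_of_free π S x

/-- Over a local ring, the determinant of the action is homogeneous of degree the rank. -/
theorem detAct_smul_local (d : ℕ) (hd : ∀ p : PrimeSpectrum A, Module.rankAtStalk M p = d)
    (S : Type u) [CommRing S] [IsLocalRing S] [Algebra A S] (t : S) (x : S ⊗[A] B) :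
    PolLaw.detAct M S (t • x) = t ^ d * PolLaw.detAct M S x := by
  haveI : Module.Free S (S ⊗[A] M) := Module.free_of_flat_of_isLocalRing
  have hrank : Module.finrank S (S ⊗[A] M) = d := by
    have h1 := Module.rankAtStalk_baseChange (R := A) (M := M) (S := S)
      (IsLocalRing.closedPoint S)
    rw [hd] at h1
    have h2 := congrFun (Module.rankAtStalk_eq_finrank_of_free (R := S) (M := S ⊗[A] M))
      (IsLocalRing.closedPoint S)
    rw [h1] at h2
    exact h2.symm
  rw [PolLaw.detAct, map_smul, LinearMap.det_smul, hrank]
  rfl

end Exist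

end Groth.Agent.H68.DP
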