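import Groth.Agent.H37.QuotLoc5
import Mathlib

/-!
# Fixed loci of automorphisms of an unramified separated scheme

For `f : X ⟶ Y` whose diagonal is an open immersion (e.g. `f` unramified, locally of finite type)
and a `Y`-endomorphism `a` of `X`, the locus where `a` is the identity is an open subscheme of `X`,
closed if `f` is separated.  For a group acting by `Y`-automorphisms this gives the (locally
constant) inertia.
-/

set_option autoImplicit false
universe u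

open CategoryTheory Limits AlgebraicGeometry

namespace Groth.Agent.H68.EQ

variable {X Y : Scheme.{u}} (f : X ⟶ Y)

section Fix

variable (a : X ⟶ X) (ha : a ≫ f = f)

/-- The morphism `(a, 𝟙) : X ⟶ X ×_Y X`. -/
noncomputable def gr : X ⟶ pullback f f :=
  pullback.lift a (𝟙 X) (by rw [ha, Category.id_comp])

@[reassoc (attr := simp)]
lemma gr_fst : gr f a ha ≫ pullback.fst f f = a := pullback.lift_fst _ _ _

@[reassoc (attr := simp)]
lemma gr_snd : gr f a ha ≫ pullback.snd f f = 𝟙 X := pullback.lift_snd _ _ _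

variable [IsOpenImmersion (pullback.diagonal f)]

/-- The open locus where the `Y`-endomorphism `a` is the identity. -/
noncomputable def fixOpen : X.Opens := (gr f a ha) ⁻¹ᵁ (pullback.diagonal f).opensRange

lemma fixOpen_ι_comp : (fixOpen f a ha).ι ≫ a = (fixOpen f a ha).ι := by
  have hr : Set.range ((fixOpen f a ha).ι ≫ gr f a ha) ⊆ Set.range (pullback.diagonal f) := by
    rintro _ ⟨x, rfl⟩
    rw [Scheme.Hom.comp_apply]
    exact x.2
  have h1 := IsOpenImmersion.lift_fac (pullback.diagonal f) ((fixOpen f a ha).ι ≫ gr f a ha) hr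
  have h2 := congrArg (· ≫ pullback.fst f f) h1
  have h3 := congrArg (· ≫ pullback.snd f f) h1
  simp only [Category.assoc, pullback.diagonal_fst, pullback.diagonal_snd, gr_fst, gr_snd,
    Category.comp_id] at h2 h3
  rw [← h2, h3]

lemma range_subset_fixOpen {T : Scheme.{u}} (t : T ⟶ X) (h : t ≫ a = t) :
    Set.range t ⊆ (fixOpen f a ha : Set X) := by
  have h1 : t ≫ gr f a ha = t ≫ pullback.diagonal f := by
    apply pullback.hom_ext
    · simp [h]
    · simp
  rintro _ ⟨y, rfl⟩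
  change gr f a ha (t y) ∈ Set.range (pullback.diagonal f)
  rw [← Scheme.Hom.comp_apply, h1, Scheme.Hom.comp_apply]
  exact ⟨_, rfl⟩

lemma le_fixOpen (W : X.Opens) (h : W.ι ≫ a = W.ι) : W ≤ fixOpen f a ha := by
  intro x hx
  have := range_subset_fixOpen f a ha W.ι h
  rw [Scheme.Opens.range_ι] at this
  exact this hx

lemma isClosed_fixOpen [IsSeparated f] : IsClosed (fixOpen f a ha : Set X) := by
  have : IsClosed (Set.range (pullback.diagonal f)) :=
    (pullback.diagonal f).isClosedEmbedding.isClosed_range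
  exact this.preimage (gr f a ha).continuous

end Fix

section Group

variable {G : Type u} [Group G] (ρ : G →* Aut X) (hρ : ∀ g : G, (ρ g).hom ≫ f = f)
  [IsOpenImmersion (pullback.diagonal f)]

/-- The fixed locus of `g`. -/
noncomputable def F (g : G) : X.Opens := fixOpen f (ρ g).hom (hρ g)

lemma F_ι_comp (g : G) : (F f ρ hρ g).ι ≫ (ρ g).hom = (F f ρ hρ g).ι := fixOpen_ι_comp f _ _

lemma le_F (g : G) (W : X.Opens) (h : W.ι ≫ (ρ g).hom = W.ι) : W ≤ F f ρ hρ g :=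
  le_fixOpen f _ _ W h

lemma range_subset_F (g : G) {T : Scheme.{u}} (t : T ⟶ X) (h : t ≫ (ρ g).hom = t) :
    Set.range t ⊆ (F f ρ hρ g : Set X) := range_subset_fixOpen f _ _ t h

lemma F_one : F f ρ hρ 1 = ⊤ := by
  apply le_antisymm le_top
  apply le_F
  rw [Groth.Agent.H37.rho_one, Category.comp_id]

lemma F_mul_le (g h : G) : F f ρ hρ g ⊓ F f ρ hρ h ≤ F f ρ hρ (g * h) := by
  apply le_F
  rw [Groth.Agent.H37.rho_mul]
  have h1 : (F f ρ hρ g ⊓ F f ρ hρ h).ι =
      X.homOfLE (inf_le_right : F f ρ hρ g ⊓ F f ρ hρ h ≤ F f ρ hρ h) ≫ (F f ρ hρ h).ι := by simp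
  have h2 : (F f ρ hρ g ⊓ F f ρ hρ h).ι =
      X.homOfLE (inf_le_left : F f ρ hρ g ⊓ F f ρ hρ h ≤ F f ρ hρ g) ≫ (F f ρ hρ g).ι := by simp
  have e1 : (F f ρ hρ g ⊓ F f ρ hρ h).ι ≫ (ρ h).hom = (F f ρ hρ g ⊓ F f ρ hρ h).ι := by
    conv_lhs => rw [h1]
    rw [Category.assoc, F_ι_comp f ρ hρ h, ← h1]
  have e2 : (F f ρ hρ g ⊓ F f ρ hρ h).ι ≫ (ρ g).hom = (F f ρ hρ g ⊓ F f ρ hρ h).ι := by
    conv_lhs => rw [h2]
    rw [Category.assoc, F_ι_comp f ρ hρ g, ← h2]
  rw [← Category.assoc, e1, e2]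

lemma F_inv_le (g : G) : F f ρ hρ g ≤ F f ρ hρ g⁻¹ := by
  apply le_F
  have h1 := F_ι_comp f ρ hρ g
  have h2 : (ρ g).hom ≫ (ρ g⁻¹).hom = 𝟙 X := by
    rw [← Groth.Agent.H37.rho_mul, inv_mul_cancel, Groth.Agent.H37.rho_one]
  calc (F f ρ hρ g).ι ≫ (ρ g⁻¹).hom = ((F f ρ hρ g).ι ≫ (ρ g).hom) ≫ (ρ g⁻¹).hom := by rw [h1]
    _ = (F f ρ hρ g).ι := by rw [Category.assoc, h2, Category.comp_id]

lemma map_mem_F_conj (g h : G) (x : X) (hx : x ∈ F f ρ hρ g) :
    (ρ h).hom x ∈ F f ρ hρ (h * g * h⁻¹) := by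
  have key : ((F f ρ hρ g).ι ≫ (ρ h).hom) ≫ (ρ (h * g * h⁻¹)).hom =
      (F f ρ hρ g).ι ≫ (ρ h).hom := by
    rw [Groth.Agent.H37.rho_mul, Groth.Agent.H37.rho_mul]
    have h2 : (ρ h).hom ≫ (ρ h⁻¹).hom = 𝟙 X := by
      rw [← Groth.Agent.H37.rho_mul, inv_mul_cancel, Groth.Agent.H37.rho_one]
    simp only [Category.assoc]
    rw [reassoc_of% h2, reassoc_of% F_ι_comp f ρ hρ g]
  have := range_subset_F f ρ hρ (h * g * h⁻¹) _ key
  apply this
  exact ⟨⟨x, hx⟩, by rw [Scheme.Hom.comp_apply]; rfl⟩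

lemma mem_F_conj_iff (g h : G) (x : X) :
    (ρ h).hom x ∈ F f ρ hρ (h * g * h⁻¹) ↔ x ∈ F f ρ hρ g := by
  refine ⟨fun hx => ?_, map_mem_F_conj f ρ hρ g h x⟩
  have := map_mem_F_conj f ρ hρ (h * g * h⁻¹) h⁻¹ _ hx
  rw [Groth.Agent.H37.rho_inv_apply] at this
  have he : h⁻¹ * (h * g * h⁻¹) * h⁻¹⁻¹ = g := by group
  rwa [he] at this

/-- The inertia subgroup at a point. -/
noncomputable def inertia (x : X) : Subgroup G where
  carrier := {g | x ∈ F f ρ hρ g}
  mul_mem' {g h} hg hh := F_mul_le f ρ hρ g h ⟨hg, hh⟩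
  one_mem' := by
    change x ∈ F f ρ hρ 1
    rw [F_one]; trivial
  inv_mem' {g} hg := F_inv_le f ρ hρ g hg

lemma mem_inertia_iff (x : X) (g : G) : g ∈ inertia f ρ hρ x ↔ x ∈ F f ρ hρ g := Iff.rfl

variable [Finite G] [IsSeparated f]

/-- The clopen locus of points with the same inertia as `x`. -/
noncomputable def sameInertia (x : X) : X.Opens where
  carrier := ⋂ g : G, {z | z ∈ F f ρ hρ g ↔ x ∈ F f ρ hρ g}
  is_open' := by
    apply isOpen_iInter_of_finite
    intro g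
    by_cases hx : x ∈ F f ρ hρ g
    · have : {z | z ∈ F f ρ hρ g ↔ x ∈ F f ρ hρ g} = (F f ρ hρ g : Set X) := by
        ext z; simp [hx]
      rw [this]; exact (F f ρ hρ g).2
    · have : {z | z ∈ F f ρ hρ g ↔ x ∈ F f ρ hρ g} = (F f ρ hρ g : Set X)ᶜ := by
        ext z; simp [hx]
      rw [this]
      exact (isClosed_fixOpen f _ _).isOpen_compl

lemma mem_sameInertia_iff (x z : X) :
    z ∈ sameInertia f ρ hρ x ↔ ∀ g : G, z ∈ F f ρ hρ g ↔ x ∈ F f ρ hρ g := by
  change z ∈ ⋂ g : G, {z | z ∈ F f ρ hρ g ↔ x ∈ F f ρ hρ g} ↔ _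
  simp only [Set.mem_iInter, Set.mem_ofPred_eq]

lemma self_mem_sameInertia (x : X) : x ∈ sameInertia f ρ hρ x :=
  (mem_sameInertia_iff f ρ hρ x x).mpr fun _ => Iff.rfl

/-- Elements of the normalizer of the inertia preserve the locus of constant inertia. -/
lemma map_mem_sameInertia (x z : X) (hz : z ∈ sameInertia f ρ hρ x) (h : G)
    (hh : h ∈ Subgroup.normalizer (inertia f ρ hρ x : Set G)) : (ρ h).hom z ∈ sameInertia f ρ hρ x := by
  rw [mem_sameInertia_iff] at hz ⊢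
  intro g
  have he : g = h * (h⁻¹ * g * h) * h⁻¹ := by group
  have h1 : (ρ h).hom z ∈ F f ρ hρ g ↔ z ∈ F f ρ hρ (h⁻¹ * g * h) := by
    conv_lhs => rw [he]
    exact mem_F_conj_iff f ρ hρ _ h z
  rw [h1, hz]
  have h2 := (Subgroup.mem_normalizer_iff.mp hh (h⁻¹ * g * h))
  rw [← he] at h2
  exact h2

/-- An element moving a point of the locus of constant inertia into that locus normalizes the
inertia. -/
lemma mem_normalizer_of_mem (x z : X) (hz : z ∈ sameInertia f ρ hρ x) (h : G)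
    (hhz : (ρ h).hom z ∈ sameInertia f ρ hρ x) : h ∈ Subgroup.normalizer (inertia f ρ hρ x : Set G) := by
  rw [mem_sameInertia_iff] at hz hhz
  rw [Subgroup.mem_normalizer_iff]
  intro g
  rw [mem_inertia_iff, mem_inertia_iff, ← hz g, ← hhz (h * g * h⁻¹)]
  exact (mem_F_conj_iff f ρ hρ g h z).symm

end Group

end Groth.Agent.H68.EQ
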