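import Groth.Agent.H68.QuotTransport
import Mathlib

/-!
# The quotient of an open immersion by its stabilizer
-/

set_option autoImplicit false
universe u

open CategoryTheory Limits AlgebraicGeometry

namespace Groth.Agent.H68.QT

open Groth.Agent.H37

variable {X XG P₀ : Scheme.{u}} {G G' : Type u} [Group G] [Group G'] [Finite G]

/-- Let `p : X ⟶ XG` be a quotient by `G`, `j : P₀ ⟶ X` an open immersion equivariant along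
`ψ : G' →* G`, whose image is disjoint from its translates by elements outside `ψ.range`.
If `U ⊆ XG` is the open whose preimage is the union of the translates of the image of `j`,
then `P₀ ⟶ U` is a quotient by `G'`. -/
theorem isQuot_of_openImmersion (ρ : G →* Aut X) (p : X ⟶ XG) (hp : SGA1.IsQuot ρ p)
    (j : P₀ ⟶ X) [IsOpenImmersion j] (ψ : G' →* G) (ρ' : G' →* Aut P₀)
    (hρ' : ∀ h, (ρ' h).hom ≫ j = j ≫ (ρ (ψ h)).hom)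
    (hdisj : ∀ g : G, g ∉ ψ.range → Disjoint ((ρ g).hom '' Set.range j) (Set.range j))
    (U : XG.Opens) (hU : ∀ x : X, p x ∈ U ↔ ∃ g : G, x ∈ (ρ g).hom '' Set.range j) :
    ∃ P : P₀ ⟶ U.toScheme, P ≫ U.ι = j ≫ p ∧ SGA1.IsQuot ρ' P := by
  classical
  have hVst : ∀ g, p ⁻¹ᵁ U ≤ (ρ g).hom ⁻¹ᵁ (p ⁻¹ᵁ U) :=
    fun g => SGA1.preimage_le_of_inv ρ p hp.inv g U
  obtain ⟨ρV, hρVdef⟩ : ∃ ρV, ρV = resAct ρ (p ⁻¹ᵁ U) hVst := ⟨_, rfl⟩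
  have hρV : ∀ g, (ρV g).hom ≫ (p ⁻¹ᵁ U).ι = (p ⁻¹ᵁ U).ι ≫ (ρ g).hom := by
    intro g; rw [hρVdef]; exact resAct_ι ρ _ hVst g
  have hpU := isQuot_morphismRestrict hp U ρV hρV
  obtain ⟨W, hWdef⟩ : ∃ W : (p ⁻¹ᵁ U).toScheme.Opens, W = (p ⁻¹ᵁ U).ι ⁻¹ᵁ j.opensRange :=
    ⟨_, rfl⟩
  have hmemW : ∀ x : (p ⁻¹ᵁ U).toScheme, x ∈ W ↔ (p ⁻¹ᵁ U).ι x ∈ Set.range j := by
    intro x; rw [hWdef]; rfl
  have hιρV : ∀ g (x : (p ⁻¹ᵁ U).toScheme),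
      (p ⁻¹ᵁ U).ι ((ρV g).hom x) = (ρ g).hom ((p ⁻¹ᵁ U).ι x) := by
    intro g x
    rw [← Scheme.Hom.comp_apply, hρV, Scheme.Hom.comp_apply]
  have hjρ' : ∀ h (y : P₀), (ρ (ψ h)).hom (j y) = j ((ρ' h).hom y) := by
    intro h y
    rw [← Scheme.Hom.comp_apply, ← hρ', Scheme.Hom.comp_apply]
  have hcov : ∀ x : (p ⁻¹ᵁ U).toScheme,
      ∃ g : G, x ∈ (ρV g).hom.base '' (W : Set (p ⁻¹ᵁ U).toScheme) := by
    intro x
    have hx : p ((p ⁻¹ᵁ U).ι x) ∈ U := x.2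
    obtain ⟨g, y, hy, hxy⟩ := (hU _).mp hx
    refine ⟨g, (ρV g⁻¹).hom x, ?_, ?_⟩
    · rw [SetLike.mem_coe, hmemW, hιρV, ← hxy, rho_inv_apply]
      exact hy
    · have := rho_inv_apply ρV g⁻¹ x
      rwa [inv_inv] at this
  have hdisjV : ∀ g : G, g ∉ ψ.range →
      Disjoint ((ρV g).hom.base '' (W : Set (p ⁻¹ᵁ U).toScheme))
        (W : Set (p ⁻¹ᵁ U).toScheme) := by
    intro g hg
    rw [Set.disjoint_left]
    rintro _ ⟨w, hw, rfl⟩ hx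
    refine Set.disjoint_left.mp (hdisj g hg) ?_ ((hmemW _).mp hx)
    rw [hιρV]
    exact ⟨_, (hmemW w).mp hw, rfl⟩
  have hWst : ∀ h : ψ.range, W ≤ ((ρV.comp ψ.range.subtype) h).hom ⁻¹ᵁ W := by
    rintro ⟨_, h, rfl⟩ x hx
    obtain ⟨y, hy⟩ := (hmemW x).mp hx
    change (ρV (ψ h)).hom x ∈ W
    rw [hmemW, hιρV, ← hy, hjρ']
    exact ⟨_, rfl⟩
  obtain ⟨ρW, hρWdef⟩ : ∃ ρW, ρW = resAct (ρV.comp ψ.range.subtype) W hWst := ⟨_, rfl⟩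
  have hρW : ∀ h : ψ.range, (ρW h).hom ≫ W.ι = W.ι ≫ (ρV (h : G)).hom := by
    intro h; rw [hρWdef]; exact resAct_ι _ _ hWst h
  have hquot := isQuot_restrict_open_of_coset_decomposition ρV (p ∣_ U) hpU ψ.range W hcov
    hdisjV ρW hρW
  -- the isomorphism `P₀ ≅ W`
  have hrange : Set.range j = Set.range (W.ι ≫ (p ⁻¹ᵁ U).ι) := by
    ext x
    constructor
    · rintro ⟨y, rfl⟩
      have hjy : p (j y) ∈ U := (hU _).mpr ⟨1, j y, ⟨y, rfl⟩, by rw [rho_one]; rfl⟩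
      refine ⟨⟨⟨j y, hjy⟩, (hmemW _).mpr ⟨y, rfl⟩⟩, rfl⟩
    · rintro ⟨w, rfl⟩
      exact (hmemW _).mp w.2
  let e : P₀ ≅ W.toScheme := IsOpenImmersion.isoOfRangeEq j (W.ι ≫ (p ⁻¹ᵁ U).ι) hrange
  have he : e.hom ≫ W.ι ≫ (p ⁻¹ᵁ U).ι = j := IsOpenImmersion.isoOfRangeEq_hom_fac _ _ _
  have htr := isQuot_of_iso hquot e ψ.rangeRestrict ψ.rangeRestrict_surjective ρ' (by
    intro h
    rw [← cancel_mono (W.ι ≫ (p ⁻¹ᵁ U).ι)]
    simp only [Category.assoc]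
    rw [he, reassoc_of% hρW, hρV, reassoc_of% he, hρ']
    rfl)
  refine ⟨e.hom ≫ W.ι ≫ p ∣_ U, ?_, htr⟩
  simp only [Category.assoc, morphismRestrict_ι]
  rw [reassoc_of% he]

end Groth.Agent.H68.QT
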