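import Groth.Agent.H68.EtQuotFix
import Groth.Agent.H68.QuotOpenImm
import Groth.Agent.H15.GaloisSch
import Groth.Agent.H15.QuotFin
import Groth.Agent.H51.EtSource
import Mathlib

/-!
# The quotient of an étale separated scheme by a finite group of automorphisms is étale
-/

set_option autoImplicit false
set_option linter.style.haveILetI false
universe u

open CategoryTheory Limits AlgebraicGeometry

namespace Groth.Agent.H68.EQ

open Groth.Agent.H37 Groth.Agent.H68.QT

/-- The identity is a quotient for a trivial action. -/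
theorem isQuot_id_of_trivial {X : Scheme.{u}} {G : Type u} [Group G] (ρ : G →* Aut X)
    (h : ∀ g, (ρ g).hom = 𝟙 X) : SGA1.IsQuot ρ (𝟙 X) := by
  have hbij : ∀ U : X.Opens, Function.Bijective ((𝟙 X : X ⟶ X).app U).hom := fun U =>
    ConcreteCategory.bijective_of_isIso ((𝟙 X : X ⟶ X).app U)
  refine ⟨inferInstance, fun g => by rw [h, Category.comp_id], fun U => (hbij U).1,
    fun U s => ⟨fun _ g => ?_, fun _ => (hbij U).2 s⟩⟩
  rw [appLE_congr_hom (h g)]
  exact id_appLE' _ _ s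

/-- A morphism locally of finite type to a locally Noetherian scheme is locally of finite
presentation. -/
theorem lfp_of_lft_of_isLocallyNoetherian {X Y : Scheme.{u}} (f : X ⟶ Y)
    [LocallyOfFiniteType f] [IsLocallyNoetherian Y] : LocallyOfFinitePresentation f := by
  rw [HasRingHomProperty.iff_appLE (P := @LocallyOfFinitePresentation)]
  intro U V e
  haveI : IsNoetherianRing Γ(Y, U.1) := IsLocallyNoetherian.component_noetherian U
  exact RingHom.FinitePresentation.of_finiteType.mp (f.finiteType_appLE U.2 V.2 e)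

variable {X X' Y : Scheme.{u}} {G : Type u} [Group G] [Finite G] (ρ : G →* Aut X)
  [IsLocallyNoetherian Y] (f : X ⟶ Y) [Etale f] [IsSeparated f]
  (hρ : ∀ g : G, (ρ g).hom ≫ f = f) (p : X ⟶ X') (hp : SGA1.IsQuot ρ p) (q : X' ⟶ Y)
  (hq : p ≫ q = f)

include hρ hp hq in
/-- Local form: every point has an open neighbourhood on which `p` is étale. -/
theorem exists_opens_etale (x : X) : ∃ W : X.Opens, x ∈ W ∧ Etale (W.ι ≫ p) := by
  classical
  -- notation
  obtain ⟨I, hI⟩ : ∃ I : Subgroup G, I = inertia f ρ hρ x := ⟨_, rfl⟩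
  obtain ⟨N, hN⟩ : ∃ N : Subgroup G, N = Subgroup.normalizer (I : Set G) := ⟨_, rfl⟩
  obtain ⟨W, hW⟩ : ∃ W : X.Opens, W = sameInertia f ρ hρ x := ⟨_, rfl⟩
  have hxW : x ∈ W := hW ▸ self_mem_sameInertia f ρ hρ x
  refine ⟨W, hxW, ?_⟩
  have hmemI : ∀ g : G, g ∈ I ↔ x ∈ F f ρ hρ g := fun g => by rw [hI]; rfl
  have hmemW : ∀ z : X, z ∈ W ↔ ∀ g : G, z ∈ F f ρ hρ g ↔ x ∈ F f ρ hρ g := fun z => by
    rw [hW]; exact mem_sameInertia_iff f ρ hρ x z
  -- the action of `N` on `W`
  let ρN : N →* Aut X := ρ.comp N.subtype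
  have hWst : ∀ n : N, W ≤ (ρN n).hom ⁻¹ᵁ W := by
    intro n z hz
    have hn : (n : G) ∈ Subgroup.normalizer ((inertia f ρ hρ x : Subgroup G) : Set G) := by
      rw [← hI, ← hN]; exact n.2
    rw [hW] at hz ⊢
    exact map_mem_sameInertia f ρ hρ x z hz n hn
  let ρ' : N →* Aut W.toScheme := resAct ρN W hWst
  have hρ' : ∀ n : N, (ρ' n).hom ≫ W.ι = W.ι ≫ (ρ (N.subtype n)).hom :=
    fun n => resAct_ι ρN W hWst n
  have hdisj : ∀ g : G, g ∉ N.subtype.range →
      Disjoint ((ρ g).hom '' Set.range W.ι) (Set.range W.ι) := by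
    intro g hg
    rw [Set.disjoint_left]
    rintro _ ⟨z, hz, rfl⟩ hgz
    rw [Scheme.Opens.range_ι] at hz hgz
    apply hg
    rw [Subgroup.range_subtype, hN, hI]
    rw [SetLike.mem_coe, hW] at hz hgz
    exact mem_normalizer_of_mem f ρ hρ x z hz g hgz
  -- the image of `W`
  have hpre : p.base ⁻¹' (p.base '' (W : Set X)) = ⋃ g : G, (ρ g).hom.base '' (W : Set X) := by
    ext z
    simp only [Set.mem_preimage, Set.mem_image, Set.mem_iUnion]
    constructor
    · rintro ⟨w, hw, hwz⟩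
      obtain ⟨g, hg⟩ := (Groth.Agent.H15.Quot.base_eq_iff hp w z).mp hwz
      exact ⟨g, w, hw, hg⟩
    · rintro ⟨g, w, hw, hg⟩
      exact ⟨w, hw, (Groth.Agent.H15.Quot.base_eq_iff hp w z).mpr ⟨g, hg⟩⟩
  have hopen : IsOpen (p.base '' (W : Set X)) := by
    rw [← (Groth.Agent.H15.Quot.isQuotientMap hp).isOpen_preimage, hpre]
    exact isOpen_iUnion fun g => (ρ g).hom.isOpenEmbedding.isOpenMap _ W.2
  let V' : X'.Opens := ⟨p.base '' (W : Set X), hopen⟩
  have hV' : ∀ z : X, p z ∈ V' ↔ ∃ g : G, z ∈ (ρ g).hom '' Set.range W.ι := by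
    intro z
    rw [Scheme.Opens.range_ι]
    change z ∈ p.base ⁻¹' (p.base '' (W : Set X)) ↔ _
    rw [hpre, Set.mem_iUnion]
  obtain ⟨P, hPι, hP⟩ := isQuot_of_openImmersion ρ p hp W.ι N.subtype ρ' hρ' hdisj V' hV'
  -- the inertia acts trivially on `W`
  obtain ⟨I', hI'⟩ : ∃ I' : Subgroup N, I' = I.subgroupOf N := ⟨_, rfl⟩
  haveI : I'.Normal := by
    rw [hI', hN]
    exact Subgroup.normal_in_normalizer
  have htriv : ∀ n : N, n ∈ I' → (ρ' n).hom = 𝟙 _ := by
    intro n hn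
    rw [hI', Subgroup.mem_subgroupOf, hmemI] at hn
    have hle : W ≤ F f ρ hρ (n : G) := fun z hz => ((hmemW z).mp hz _).mpr hn
    rw [← cancel_mono W.ι, hρ', Category.id_comp]
    have h1 : W.ι = X.homOfLE hle ≫ (F f ρ hρ (n : G)).ι := by simp
    conv_lhs => rw [h1]
    rw [Category.assoc]
    change X.homOfLE hle ≫ (F f ρ hρ (n : G)).ι ≫ (ρ (n : G)).hom = _
    rw [F_ι_comp f ρ hρ (n : G), ← h1]
  have hPH : SGA1.IsQuot (ρ'.comp I'.subtype) (𝟙 W.toScheme) :=
    isQuot_id_of_trivial _ fun n => htriv n.1 n.2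
  let ρbar : N ⧸ I' →* Aut W.toScheme := QuotientGroup.lift I' ρ' (fun n hn => by
    apply Iso.ext
    exact htriv n hn)
  have hρbar : ∀ n : N, 𝟙 W.toScheme ≫ (ρbar (QuotientGroup.mk n)).hom = (ρ' n).hom ≫ 𝟙 _ := by
    intro n
    rw [Category.id_comp, Category.comp_id]
    rfl
  have hbar : SGA1.IsQuot ρbar P :=
    isQuot_quotient_by_normal_subgroup ρ' P hP I' (𝟙 _) hPH ρbar hρbar P (Category.id_comp P)
  -- freeness
  have hfree : Groth.Agent.H15.Quot.GeomFree ρbar := by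
    intro K _ _ ξ nbar hξ
    induction nbar using QuotientGroup.induction_on with
    | H n =>
      have h1 : ξ ≫ (ρ' n).hom = ξ := hξ
      have h2 : (ξ ≫ W.ι) ≫ (ρ (n : G)).hom = ξ ≫ W.ι := by
        rw [Category.assoc]
        change ξ ≫ W.ι ≫ (ρ (N.subtype n)).hom = _
        rw [← hρ' n, reassoc_of% h1]
      have h3 := range_subset_F f ρ hρ (n : G) (ξ ≫ W.ι) h2
      let pt : Spec (CommRingCat.of K) := default
      have hz1 : (ξ ≫ W.ι) pt ∈ F f ρ hρ (n : G) := h3 ⟨pt, rfl⟩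
      have hz2 : (ξ ≫ W.ι) pt ∈ W := by
        rw [Scheme.Hom.comp_apply]
        exact (ξ pt).2
      have hx : x ∈ F f ρ hρ (n : G) := ((hmemW _).mp hz2 _).mp hz1
      rw [QuotientGroup.eq_one_iff, hI', Subgroup.mem_subgroupOf, hmemI]
      exact hx
  haveI : Flat P := Groth.Agent.H15.Quot.flat_of_geomFree hbar hfree
  haveI : FormallyUnramified P := Groth.Agent.H15.Quot.formallyUnramified_of_geomFree hbar hfree
  have hcomp : P ≫ (V'.ι ≫ q) = W.ι ≫ f := by
    rw [reassoc_of% hPι, hq]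
  haveI : LocallyOfFiniteType (V'.ι ≫ q) :=
    Groth.Agent.H15.Quot.locallyOfFiniteType_of_comp hbar (W.ι ≫ f) (V'.ι ≫ q) hcomp
  haveI : IsLocallyNoetherian V'.toScheme := LocallyOfFiniteType.isLocallyNoetherian (V'.ι ≫ q)
  haveI : IsFinite P :=
    Groth.Agent.H15.Quot.isFinite_of_locallyOfFiniteType hbar (W.ι ≫ f) (V'.ι ≫ q) hcomp
  haveI : LocallyOfFinitePresentation P := lfp_of_lft_of_isLocallyNoetherian P
  haveI : Etale P := Etale.of_formallyUnramified_of_flat P
  rw [← hPι]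
  infer_instance

include hρ hp hq in
theorem etale_quot : Etale p := by
  choose W hxW hW using exists_opens_etale ρ f hρ p hp q hq
  refine IsZariskiLocalAtSource.of_iSup_eq_top (P := @Etale) W ?_ hW
  exact top_le_iff.mp fun x _ => TopologicalSpace.Opens.mem_iSup.mpr ⟨x, hxW x⟩

include hρ hp hq in
theorem etale_quot_target : Etale q := by
  haveI : Etale p := etale_quot ρ f hρ p hp q hq
  haveI : Surjective p := ⟨Groth.Agent.H15.Quot.surjective hp⟩
  exact Groth.Agent.H51.etale_of_comp_etale_surjective p q (by rw [hq]; infer_instance)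

end Groth.Agent.H68.EQ
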