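import Mathlib.RingTheory.Flat.FaithfullyFlat.Basic
import Mathlib.RingTheory.TensorProduct.Basic
import Mathlib.LinearAlgebra.TensorProduct.RightExactness

set_option autoImplicit false
universe u v w
open TensorProduct

namespace Groth.Agent.H68

section
variable {A : Type u} [CommRing A] {J : Type w} (A' : J → Type v) [∀ j, CommRing (A' j)]
  [∀ j, Algebra A (A' j)]

/-- A jointly faithful family of flat algebras detects vanishing of modules. -/
theorem subsingleton_of_family [∀ j, Module.Flat A (A' j)]
    (hcov : ∀ m : Ideal A, m.IsMaximal → ∃ j, m.map (algebraMap A (A' j)) ≠ ⊤)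
    (N : Type*) [AddCommGroup N] [Module A N]
    (h : ∀ j, Subsingleton (N ⊗[A] A' j)) : Subsingleton N := by
  by_contra hN
  rw [not_subsingleton_iff_nontrivial] at hN
  obtain ⟨n, hn⟩ := nontrivial_iff_exists_ne (0 : N) |>.1 hN
  let I := (Submodule.span A {n}).annihilator
  have I_ne_top : I ≠ ⊤ := by
    intro h'
    rw [Ideal.eq_top_iff_one, Submodule.mem_annihilator_span_singleton, one_smul] at h'
    exact hn h'
  obtain ⟨m, hm, hIm⟩ := Ideal.exists_le_maximal I I_ne_top
  obtain ⟨j, hj⟩ := hcov m hm
  let inc : A ⧸ I →ₗ[A] N := Submodule.liftQ _ ((LinearMap.lsmul A N).flip n) <| fun r hr => by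
    simpa only [LinearMap.mem_ker, LinearMap.flip_apply, LinearMap.lsmul_apply,
      Submodule.mem_annihilator_span_singleton, I] using hr
  have injective_inc : Function.Injective inc := LinearMap.ker_eq_bot.1 <| eq_bot_iff.2 <| by
    intro r hr
    induction r using Quotient.inductionOn' with | h r =>
    simpa only [Submodule.Quotient.mk''_eq_mk, Submodule.mem_bot, Submodule.Quotient.mk_eq_zero,
      Submodule.mem_annihilator_span_singleton, LinearMap.mem_ker, Submodule.liftQ_apply,
      LinearMap.flip_apply, LinearMap.lsmul_apply, I, inc] using hr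
  have hsub : Subsingleton ((A ⧸ I) ⊗[A] A' j) :=
    (Module.Flat.rTensor_preserves_injective_linearMap (M := A' j) inc injective_inc).subsingleton
  have hsub2 : Subsingleton (A' j ⧸ (I • ⊤ : Submodule A (A' j))) :=
    (quotTensorEquivQuotSMul (A' j) I).symm.injective.subsingleton
  rw [Submodule.Quotient.subsingleton_iff] at hsub2
  apply hj
  have h1 : (I • ⊤ : Submodule A (A' j)) ≤ (m • ⊤ : Submodule A (A' j)) :=
    Submodule.smul_mono hIm le_rfl
  have h2 : (m • ⊤ : Submodule A (A' j)) = ⊤ := by
    rw [hsub2] at h1
    exact top_le_iff.1 h1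
  rw [Ideal.smul_top_eq_map] at h2
  rw [Ideal.eq_top_iff_one]
  have : (1 : A' j) ∈ ((m.map (algebraMap A (A' j))).restrictScalars A) := by
    rw [h2]; trivial
  exact this

/-- Bijectivity of an algebra map can be checked after a jointly faithfully flat family of base
changes. -/
theorem bijective_of_family [∀ j, Module.Flat A (A' j)]
    (hcov : ∀ m : Ideal A, m.IsMaximal → ∃ j, m.map (algebraMap A (A' j)) ≠ ⊤)
    (B : Type*) [CommRing B] [Algebra A B]
    (h : ∀ j, Function.Bijective (Algebra.TensorProduct.includeRight : A' j →ₐ[A] B ⊗[A] A' j)) :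
    Function.Bijective (algebraMap A B) := by
  let φ : A →ₗ[A] B := Algebra.linearMap A B
  have hφ : ∀ j, Function.Bijective (φ.rTensor (A' j)) := by
    intro j
    have e : ⇑(φ.rTensor (A' j)) =
        (Algebra.TensorProduct.includeRight : A' j →ₐ[A] B ⊗[A] A' j) ∘ (TensorProduct.lid A (A' j)) := by
      funext x
      induction x using TensorProduct.induction_on with
      | zero => simp
      | tmul a b =>
        simp only [LinearMap.rTensor_tmul, Function.comp_apply, TensorProduct.lid_tmul,
          Algebra.TensorProduct.includeRight_apply, φ, Algebra.linearMap_apply]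
        rw [Algebra.algebraMap_eq_smul_one, TensorProduct.smul_tmul, TensorProduct.tmul_smul]
      | add x y hx hy =>
        simp only [map_add, Function.comp_apply] at hx hy ⊢
        rw [hx, hy]
    rw [e]
    exact (h j).comp (TensorProduct.lid A (A' j)).bijective
  constructor
  · -- injectivity
    let K := LinearMap.ker φ
    have hK : Subsingleton K := by
      apply subsingleton_of_family A' hcov K
      intro j
      have hinj : Function.Injective (K.subtype.rTensor (A' j)) :=
        Module.Flat.rTensor_preserves_injective_linearMap _ K.injective_subtype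
      refine ⟨fun x y => ?_⟩
      apply hinj
      apply (hφ j).1
      have hz : ∀ z, (φ.rTensor (A' j)) ((K.subtype.rTensor (A' j)) z) = 0 := by
        intro z
        rw [← LinearMap.comp_apply, ← LinearMap.rTensor_comp]
        have : φ ∘ₗ K.subtype = 0 := by
          ext k; exact k.2
        rw [this, LinearMap.rTensor_zero, LinearMap.zero_apply]
      rw [hz, hz]
    rw [injective_iff_map_eq_zero]
    intro a ha
    have : (⟨a, ha⟩ : K) = 0 := Subsingleton.elim _ _
    exact congrArg Subtype.val this
  · -- surjectivity
    let Q := B ⧸ LinearMap.range φ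
    let π : B →ₗ[A] Q := Submodule.mkQ _
    have hQ : Subsingleton Q := by
      apply subsingleton_of_family A' hcov Q
      intro j
      refine ⟨fun x y => ?_⟩
      have hz : ∀ z : Q ⊗[A] A' j, z = 0 := by
        intro z
        obtain ⟨b, rfl⟩ := LinearMap.rTensor_surjective (A' j) (Submodule.mkQ_surjective _) z
        obtain ⟨a, rfl⟩ := (hφ j).2 b
        rw [← LinearMap.comp_apply, ← LinearMap.rTensor_comp]
        have : (Submodule.mkQ (LinearMap.range φ)) ∘ₗ φ = 0 := by
          ext
          simp
        rw [this, LinearMap.rTensor_zero, LinearMap.zero_apply]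
      rw [hz x, hz y]
    rw [Submodule.Quotient.subsingleton_iff] at hQ
    intro b
    have : b ∈ LinearMap.range φ := hQ ▸ Submodule.mem_top
    exact this

end

end Groth.Agent.H68
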