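import Groth.Agent.H73.ValSpec

/-!
# Topological lemmas on generic points of irreducible components of subspaces
-/

set_option autoImplicit false

namespace Groth.Agent.H68.FGV

/-- The intersection of a closed set and a generization-stable set in a quasi-sober space is
quasi-sober. -/
theorem quasiSober_inter {X : Type*} [TopologicalSpace X] [QuasiSober X] (A G : Set X)
    (hA : IsClosed A) (hG : StableUnderGeneralization G) : QuasiSober ↑(A ∩ G) := by
  refine ⟨fun {C} hCirr hCcl => ?_⟩
  have hirr : IsIrreducible (closure (Subtype.val '' C)) :=
    (hCirr.image _ continuous_subtype_val.continuousOn).closure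
  obtain ⟨ξ, hξ⟩ := QuasiSober.sober hirr isClosed_closure
  obtain ⟨c, hc⟩ := hCirr.nonempty
  have hξc : ξ ⤳ c.1 := by
    rw [specializes_iff_mem_closure, hξ.def]
    exact subset_closure ⟨c, hc, rfl⟩
  have hξG : ξ ∈ G := hG hξc c.2.2
  have hξA : ξ ∈ A := by
    have : closure (Subtype.val '' C) ⊆ A :=
      closure_minimal (by rintro _ ⟨a, -, rfl⟩; exact a.2.1) hA
    exact this hξ.mem
  refine ⟨⟨ξ, hξA, hξG⟩, ?_⟩
  rw [IsGenericPoint, Topology.IsInducing.subtypeVal.closure_eq_preimage_closure_image,
    Set.image_singleton, hξ.def, ← Topology.IsInducing.subtypeVal.closure_eq_preimage_closure_image,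
    hCcl.closure_eq]

/-- In a quasi-sober space every point is a specialization of the generic point of an irreducible
component. -/
theorem exists_generic_specializes {T : Type*} [TopologicalSpace T] [QuasiSober T] (a : T) :
    ∃ ξ : T, ξ ⤳ a ∧ ∃ C ∈ irreducibleComponents T, IsGenericPoint ξ C := by
  obtain ⟨ξ, hξ⟩ := QuasiSober.sober (isIrreducible_irreducibleComponent (x := a))
    isClosed_irreducibleComponent
  refine ⟨ξ, ?_, irreducibleComponent a, irreducibleComponent_mem_irreducibleComponents a, hξ⟩
  rw [specializes_iff_mem_closure, hξ.def]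
  exact mem_irreducibleComponent

/-- The generic point of an irreducible component has no proper generization. -/
theorem eq_of_specializes_generic {T : Type*} [TopologicalSpace T] [T0Space T] {x z : T}
    {C : Set T} (hC : C ∈ irreducibleComponents T) (hx : IsGenericPoint x C) (hz : z ⤳ x) :
    z = x := by
  have h1 : C ⊆ closure {z} := by
    rw [← hx.def]
    exact closure_minimal (Set.singleton_subset_iff.mpr (specializes_iff_mem_closure.mp hz))
      isClosed_closure
  have h2 : closure {z} ⊆ C := hC.2 isIrreducible_singleton.closure h1
  have h3 : x ⤳ z := by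
    rw [specializes_iff_mem_closure, hx.def]
    exact h2 (subset_closure rfl)
  exact (hz.antisymm h3).eq

end Groth.Agent.H68.FGV
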