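import Groth.Prelude.Def_SymProd
import Groth.Agent.H15.QuotAff
import Groth.Agent.H15.QuotTop
import Groth.Agent.H20.ImmersionAffine
import Mathlib

/-!
# Affine charts of fibre powers
-/

set_option autoImplicit false
set_option linter.style.haveILetI false
universe u

open CategoryTheory CategoryTheory.Limits AlgebraicGeometry

namespace Groth.Agent.H68.FPA

variable {X S : Scheme.{u}} (f : X ⟶ S) (d : ℕ)

/-- The open of the fibre power of the points all whose coordinates lie in `U`, over `V`. -/
def boxOpen (V : S.Opens) (U : X.Opens) : (SymProd.fibPow f d).Opens :=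
  ⟨(WidePullback.base (fun _ : Fin d => f)).base ⁻¹' (V : Set S) ∩
      ⋂ i : Fin d, (WidePullback.π (fun _ : Fin d => f) i).base ⁻¹' (U : Set X),
    (V.2.preimage (WidePullback.base (fun _ : Fin d => f)).continuous).inter
      (isOpen_iInter_of_finite fun i =>
        U.2.preimage (WidePullback.π (fun _ : Fin d => f) i).continuous)⟩

lemma mem_boxOpen {V : S.Opens} {U : X.Opens} (z : SymProd.fibPow f d) :
    z ∈ boxOpen f d V U ↔ (WidePullback.base (fun _ : Fin d => f)).base z ∈ V ∧
      ∀ i : Fin d, (WidePullback.π (fun _ : Fin d => f) i).base z ∈ U := by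
  change z ∈ ((WidePullback.base (fun _ : Fin d => f)).base ⁻¹' (V : Set S) ∩
      ⋂ i : Fin d, (WidePullback.π (fun _ : Fin d => f) i).base ⁻¹' (U : Set X)) ↔ _
  rw [Set.mem_inter_iff, Set.mem_iInter]
  rfl

section Affine

variable {f d} (V : S.Opens) (U : X.Opens) (hUV : U ≤ f ⁻¹ᵁ V)

lemma boxOpen_le_π (i : Fin d) :
    boxOpen f d V U ≤ (WidePullback.π (fun _ : Fin d => f) i) ⁻¹ᵁ U :=
  fun z hz => ((mem_boxOpen f d z).mp hz).2 i

lemma boxOpen_le_base :
    boxOpen f d V U ≤ (WidePullback.base (fun _ : Fin d => f)) ⁻¹ᵁ V :=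
  fun z hz => ((mem_boxOpen f d z).mp hz).1

/-- The box as a cone over the wide cospan of `U → V`. -/
noncomputable def boxCone : WidePullbackCone (fun _ : Fin d => f.resLE V U hUV) :=
  WidePullbackCone.mk
    ((WidePullback.base (fun _ : Fin d => f)).resLE V (boxOpen f d V U) (boxOpen_le_base V U))
    (fun i => (WidePullback.π (fun _ : Fin d => f) i).resLE U (boxOpen f d V U)
      (boxOpen_le_π V U i))
    (fun i => by
      rw [← cancel_mono V.ι, Category.assoc, Scheme.Hom.resLE_comp_ι, Scheme.Hom.resLE_comp_ι,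
        Scheme.Hom.resLE_comp_ι_assoc, WidePullback.π_arrow])

/-- The lift of a cone to the box. -/
noncomputable def boxLift (t : WidePullbackCone (fun _ : Fin d => f.resLE V U hUV)) :
    t.pt ⟶ (boxOpen f d V U).toScheme :=
  IsOpenImmersion.lift (boxOpen f d V U).ι
    (WidePullback.lift (t.base ≫ V.ι) (fun i => t.π i ≫ U.ι) (fun i => by
      rw [Category.assoc, ← Scheme.Hom.resLE_comp_ι f hUV, ← Category.assoc, t.condition]))
    (by
      rw [Scheme.Opens.range_ι]
      rintro _ ⟨x, rfl⟩
      rw [SetLike.mem_coe, mem_boxOpen]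
      refine ⟨?_, fun i => ?_⟩
      · rw [← Scheme.Hom.comp_apply, WidePullback.lift_base, Scheme.Hom.comp_apply]
        exact (t.base x).2
      · rw [← Scheme.Hom.comp_apply, WidePullback.lift_π, Scheme.Hom.comp_apply]
        exact (t.π i x).2)

lemma boxLift_ι (t : WidePullbackCone (fun _ : Fin d => f.resLE V U hUV)) :
    boxLift V U hUV t ≫ (boxOpen f d V U).ι =
      WidePullback.lift (t.base ≫ V.ι) (fun i => t.π i ≫ U.ι) (fun i => by
        rw [Category.assoc, ← Scheme.Hom.resLE_comp_ι f hUV, ← Category.assoc, t.condition]) :=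
  IsOpenImmersion.lift_fac _ _ _

/-- The box is the fibre power of `U` over `V`. -/
noncomputable def boxIsLimit : IsLimit (boxCone (d := d) V U hUV) :=
  WidePullbackCone.IsLimit.mk _ (boxLift V U hUV)
    (fun t => by
      rw [← cancel_mono V.ι, Category.assoc]
      change _ ≫ (WidePullback.base (fun _ : Fin d => f)).resLE V (boxOpen f d V U)
        (boxOpen_le_base V U) ≫ V.ι = _
      rw [Scheme.Hom.resLE_comp_ι, ← Category.assoc, boxLift_ι, WidePullback.lift_base])
    (fun t i => by
      rw [← cancel_mono U.ι, Category.assoc]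
      change _ ≫ (WidePullback.π (fun _ : Fin d => f) i).resLE U (boxOpen f d V U)
        (boxOpen_le_π V U i) ≫ U.ι = _
      rw [Scheme.Hom.resLE_comp_ι, ← Category.assoc, boxLift_ι, WidePullback.lift_π])
    (fun t m hb hπ => by
      refine (cancel_mono (boxOpen f d V U).ι).mp ?_
      rw [boxLift_ι]
      apply WidePullback.hom_ext
      · intro i
        rw [WidePullback.lift_π, Category.assoc, ← hπ i, Category.assoc]
        exact congrArg (CategoryStruct.comp m)
          (Scheme.Hom.resLE_comp_ι (WidePullback.π (fun _ : Fin d => f) i)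
            (boxOpen_le_π V U i)).symm
      · rw [WidePullback.lift_base, Category.assoc, ← hb, Category.assoc]
        exact congrArg (CategoryStruct.comp m)
          (Scheme.Hom.resLE_comp_ι (WidePullback.base (fun _ : Fin d => f))
            (boxOpen_le_base V U)).symm)

include hUV in
/-- The box of affine opens is affine. -/
theorem isAffineOpen_boxOpen (hV : IsAffineOpen V) (hU : IsAffineOpen U) :
    IsAffineOpen (boxOpen f d V U) := by
  haveI : ∀ j, IsAffine ((WidePullbackShape.wideCospan V.toScheme (fun _ : Fin d => U.toScheme)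
      (fun _ => f.resLE V U hUV)).obj j) := by
    rintro (_ | j)
    · exact hV
    · exact hU
  exact Scheme.isAffine_of_isLimit _ (boxIsLimit (d := d) V U hUV)

end Affine

section PrimeAvoidance

open Groth.Agent.H15.Quot

/-- Finitely many points of an affine open lying in an open subset lie in a basic open contained
in that subset. -/
theorem exists_basicOpen_of_finite {X : Scheme.{u}} {U : X.Opens} (hU : IsAffineOpen U)
    (O : X.Opens) (T : Finset X) (hT : ∀ t ∈ T, t ∈ U ∧ t ∈ O) :
    ∃ g : Γ(X, U), (∀ t ∈ T, t ∈ X.basicOpen g) ∧ X.basicOpen g ≤ O := by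
  classical
  let W : Set (PrimeSpectrum Γ(X, U)) := hU.fromSpec.base ⁻¹' (O : Set X)
  have hW : IsOpen W := O.2.preimage hU.fromSpec.continuous
  let E : Set (PrimeSpectrum Γ(X, U)) :=
    Set.range (fun t : T => hU.primeIdealOf ⟨t.1, (hT t.1 t.2).1⟩)
  have hE : E.Finite := Set.finite_range _
  have hEW : E ⊆ W := by
    rintro _ ⟨t, rfl⟩
    change hU.fromSpec.base (hU.primeIdealOf ⟨t.1, (hT t.1 t.2).1⟩) ∈ O
    rw [hU.fromSpec_primeIdealOf]
    exact (hT t.1 t.2).2
  obtain ⟨g, hg1, hg2⟩ := Groth.Agent.H20.exists_basicOpen_of_finite_subset_isOpen W hW E hE hEW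
  refine ⟨g, fun t ht => ?_, fun x hx => ?_⟩
  · rw [mem_basicOpen_iff hU g t (hT t ht).1]
    exact hg1 ⟨⟨t, ht⟩, rfl⟩
  · have hxU : x ∈ U := X.basicOpen_le g hx
    have h1 : hU.primeIdealOf ⟨x, hxU⟩ ∈ W := hg2 ((mem_basicOpen_iff hU g x hxU).mp hx)
    change hU.fromSpec.base (hU.primeIdealOf ⟨x, hxU⟩) ∈ O at h1
    rwa [hU.fromSpec_primeIdealOf] at h1

end PrimeAvoidance

section Chart

variable {f d}

/-- Under (AF), the coordinates of a point of the fibre power lie in a common affine open over a
given affine open of the base. -/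
theorem exists_chart (hAF : SymProd.IsAF f) (x : SymProd.fibPow f d) (V : S.Opens)
    (hxV : (WidePullback.base (fun _ : Fin d => f)).base x ∈ V) :
    ∃ U : X.Opens, IsAffineOpen U ∧ U ≤ f ⁻¹ᵁ V ∧
      ∀ i, (WidePullback.π (fun _ : Fin d => f) i).base x ∈ U := by
  classical
  let T : Finset X := Finset.univ.image (fun i => (WidePullback.π (fun _ : Fin d => f) i).base x)
  have hfT : ∀ t ∈ T, f.base t = (WidePullback.base (fun _ : Fin d => f)).base x := by
    intro t ht
    obtain ⟨i, -, rfl⟩ := Finset.mem_image.mp ht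
    rw [← Scheme.Hom.comp_apply, WidePullback.π_arrow]
  obtain ⟨U₀, hU₀, hTU₀⟩ := hAF _ T hfT
  obtain ⟨g, hg1, hg2⟩ := exists_basicOpen_of_finite hU₀ (f ⁻¹ᵁ V) T (fun t ht =>
    ⟨hTU₀ t ht, by
      change f.base t ∈ V
      rw [hfT t ht]
      exact hxV⟩)
  exact ⟨X.basicOpen g, hU₀.basicOpen g, hg2, fun i =>
    hg1 _ (Finset.mem_image_of_mem _ (Finset.mem_univ i))⟩

/-- The box is stable under the permutations of the factors. -/
lemma permHom_mem_boxOpen (V : S.Opens) (U : X.Opens) (σ : Equiv.Perm (Fin d))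
    (z : SymProd.fibPow f d) (hz : z ∈ boxOpen f d V U) :
    (SymProd.permHom f d σ).base z ∈ boxOpen f d V U := by
  rw [mem_boxOpen] at hz ⊢
  refine ⟨?_, fun i => ?_⟩
  · rw [← Scheme.Hom.comp_apply, SymProd.permHom_base]
    exact hz.1
  · rw [← Scheme.Hom.comp_apply, SymProd.permHom_π]
    exact hz.2 _

end Chart

end Groth.Agent.H68.FPA
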