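import Groth.Prelude.Def_SymProd
import Mathlib

/-!
# Base change of fibre powers

The fibre power of the base change `X ×_S S' → S'` is the base change of the fibre power.
-/

set_option autoImplicit false
universe u
open CategoryTheory CategoryTheory.Limits AlgebraicGeometry

namespace Groth.Agent.H68.FPB

variable {X S S' : Scheme.{u}} (f : X ⟶ S) (b : S' ⟶ S) (n : ℕ)

/-- The fibre power of a base change is the base change of the fibre power. -/
theorem isPullback_fibPow
    (c : SymProd.fibPow (pullback.snd f b) n ⟶ SymProd.fibPow f n)
    (hcπ : ∀ i : Fin n, c ≫ WidePullback.π (fun _ => f) i =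
      WidePullback.π (fun _ => pullback.snd f b) i ≫ pullback.fst f b)
    (hcb : c ≫ WidePullback.base (fun _ => f) =
      WidePullback.base (fun _ => pullback.snd f b) ≫ b) :
    IsPullback c (WidePullback.base (fun _ : Fin n => pullback.snd f b))
      (WidePullback.base (fun _ : Fin n => f)) b := by
  refine IsPullback.of_isLimit (c := PullbackCone.mk c _ hcb)
    (PullbackCone.IsLimit.mk hcb
      (fun s => WidePullback.lift s.snd
        (fun i => pullback.lift (s.fst ≫ WidePullback.π (fun _ => f) i) s.snd
          (by rw [Category.assoc, WidePullback.π_arrow, s.condition]))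
        (fun i => pullback.lift_snd _ _ _))
      (fun s => ?_) (fun s => ?_) (fun s m h1 h2 => ?_))
  · apply WidePullback.hom_ext
    · intro i
      rw [Category.assoc, hcπ, WidePullback.lift_π_assoc, pullback.lift_fst]
    · rw [Category.assoc, hcb, WidePullback.lift_base_assoc, s.condition]
  · exact WidePullback.lift_base _ _ _ _
  · apply WidePullback.hom_ext
    · intro i
      rw [WidePullback.lift_π]
      apply pullback.hom_ext
      · rw [Category.assoc, ← hcπ, ← Category.assoc, h1, pullback.lift_fst]
      · rw [Category.assoc, pullback.lift_snd, WidePullback.π_arrow, h2]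
    · rw [WidePullback.lift_base, h2]

end Groth.Agent.H68.FPB
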