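import Groth.Agent.H68.LawCH
import Mathlib

/-!
# Homogeneous laws on a free algebra factor linearly through the tensor power law

Let `B` be an `A`-algebra that is free as a module, with basis `e`. Every polynomial law
`F : B → N` that is homogeneous of degree `d` is of the form `f ∘ (x ↦ x ⊗ ⋯ ⊗ x)` for a linear map
`f` from the `d`-fold tensor power of `B` to `N`.
-/

set_option autoImplicit false
universe u
open scoped TensorProduct

namespace Groth.Agent.H68.LC

section Tuples

variable {I : Type}

/-- The multi-index of a tuple. -/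
noncomputable def kk {d : ℕ} (α : Fin d → I) : I →₀ ℕ := ∑ j, Finsupp.single (α j) 1

lemma deg_add (a b : I →₀ ℕ) : deg (a + b) = deg a + deg b := by
  rw [deg, deg, deg, Finsupp.sum_add_index' (fun _ => rfl) (fun _ _ _ => rfl)]

lemma deg_single (i : I) (n : ℕ) : deg (Finsupp.single i n) = n := by
  rw [deg, Finsupp.sum_single_index rfl]

lemma deg_eq_zero {k : I →₀ ℕ} (h : deg k = 0) : k = 0 := by
  ext i
  by_contra hi
  have hmem : i ∈ k.support := Finsupp.mem_support_iff.mpr hi
  rw [deg, Finsupp.sum] at h
  have := Finset.sum_eq_zero_iff.mp h i hmem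
  exact hi this

lemma exists_tuple : ∀ (d : ℕ) (k : I →₀ ℕ), deg k = d → ∃ α : Fin d → I, kk α = k := by
  intro d
  induction d with
  | zero =>
    intro k hk
    refine ⟨Fin.elim0, ?_⟩
    rw [deg_eq_zero hk, kk]
    simp
  | succ d ih =>
    intro k hk
    have hne : k ≠ 0 := by
      rintro rfl
      simp [deg] at hk
    obtain ⟨i, hi⟩ := Finsupp.support_nonempty_iff.mpr hne
    have hle : Finsupp.single i 1 ≤ k := by
      rw [Finsupp.single_le_iff]
      exact Nat.one_le_iff_ne_zero.mpr (Finsupp.mem_support_iff.mp hi)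
    have hk' : k = Finsupp.single i 1 + (k - Finsupp.single i 1) := (add_tsub_cancel_of_le hle).symm
    have hdeg : deg (k - Finsupp.single i 1) = d := by
      have := congrArg deg hk'
      rw [deg_add, deg_single, hk] at this
      omega
    obtain ⟨α', hα'⟩ := ih _ hdeg
    refine ⟨Fin.cons i α', ?_⟩
    rw [kk, Fin.sum_univ_succ]
    simp only [Fin.cons_zero, Fin.cons_succ]
    rw [hk']
    congr 1

lemma prod_kk {S : Type*} [CommMonoid S] {d : ℕ} (s : I → S) (α : Fin d → I) :
    ((kk α).prod fun i a => s i ^ a) = ∏ j, s (α j) := by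
  rw [kk, ← Finsupp.prod_finsetSum_index (h := fun i a => s i ^ a) (fun _ => pow_zero _)
    (fun _ _ _ => pow_add _ _ _)]
  refine Finset.prod_congr rfl fun j _ => ?_
  rw [Finsupp.prod_single_index (h := fun i a => s i ^ a) (pow_zero _), pow_one]

lemma mem_support_kk {d : ℕ} (α : Fin d → I) (j : Fin d) : α j ∈ (kk α).support := by
  classical
  rw [Finsupp.mem_support_iff, kk, Finsupp.finsetSum_apply]
  have : Finsupp.single (α j) 1 (α j) ≤ ∑ j', Finsupp.single (α j') 1 (α j) :=
    Finset.single_le_sum (f := fun j' => Finsupp.single (α j') 1 (α j)) (fun _ _ => Nat.zero_le _)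
      (Finset.mem_univ j)
  rw [Finsupp.single_eq_same] at this
  omega

lemma exists_of_mem_support_kk {d : ℕ} (α : Fin d → I) {i : I} (hi : i ∈ (kk α).support) :
    ∃ j, α j = i := by
  classical
  by_contra h
  push Not at h
  rw [Finsupp.mem_support_iff, kk, Finsupp.finsetSum_apply] at hi
  apply hi
  refine Finset.sum_eq_zero fun j _ => ?_
  rw [Finsupp.single_apply, if_neg (h j)]

end Tuples

section TensorPower

variable {A : Type u} [CommRing A] {B : Type u} [CommRing B] [Algebra A B]
  {N : Type u} [AddCommGroup N] [Module A N]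
  {I : Type} (e : Module.Basis I A B) (d : ℕ)

/-- The `d`-fold tensor power of `B`. -/
abbrev TP (A : Type u) [CommRing A] (B : Type u) [CommRing B] [Algebra A B] (d : ℕ) : Type u :=
  ⨂[A] _ : Fin d, B

/-- The `j`-th inclusion `B → B ⊗ ⋯ ⊗ B`. -/
noncomputable def gT (A : Type u) [CommRing A] (B : Type u) [CommRing B] [Algebra A B] (d : ℕ)
    (j : Fin d) : B →ₐ[A] TP A B d :=
  PiTensorProduct.singleAlgHom (A := fun _ : Fin d => B) j

/-- The tensor power law. -/
noncomputable def GT (A : Type u) [CommRing A] (B : Type u) [CommRing B] [Algebra A B] (d : ℕ) :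
    PolLaw.MulLaw A B (TP A B d) d :=
  PolLaw.MulLaw.prodMap (gT A B d) d (Fintype.card_fin d)

/-- The basis of the tensor power attached to a basis of `B`. -/
noncomputable def bT : Module.Basis (Fin d → I) A (TP A B d) :=
  _root_.Basis.piTensorProduct (fun _ : Fin d => e)

lemma prod_gT (α : Fin d → I) : ∏ j, gT A B d j (e (α j)) = bT e d α := by
  rw [bT, _root_.Basis.piTensorProduct_apply]
  simp only [gT, PiTensorProduct.singleAlgHom_apply, MonoidHom.mulSingle_apply]
  rw [← PiTensorProduct.tprod_prod]
  exact congrArg _ (Finset.univ_prod_mulSingle (fun j : Fin d => e (α j)))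

lemma GT_toFun'_sum (E : Finset I) (S : Type u) [CommSemiring S] [Algebra A S] (s : I → S) :
    (GT A B d).law.toFun' S (∑ i ∈ E, s i ⊗ₜ[A] e i) =
      ∑ α ∈ Fintype.piFinset (fun _ : Fin d => E), (∏ j, s (α j)) ⊗ₜ[A] bT e d α := by
  rw [GT, PolLaw.MulLaw.prodMap_toFun']
  simp only [map_sum, Algebra.TensorProduct.map_tmul, AlgHom.id_apply]
  rw [Finset.prod_univ_sum]
  refine Finset.sum_congr rfl fun α _ => ?_
  rw [finset_prod_tmul, prod_gT]

open Classical in
/-- The coefficients of the tensor power law with respect to a basis. -/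
lemma coeffE_GT (E : Finset I) (k : I →₀ ℕ) :
    coeffE (GT A B d).law e E k =
      ∑ α ∈ Fintype.piFinset (fun _ : Fin d => E) with kk α = k, bT e d α := by
  rw [coeffE, genE, GT_toFun'_sum]
  have : ∀ α : Fin d → I, (∏ j, (MvPolynomial.X (α j) : MvPolynomial I A)) =
      MvPolynomial.monomial (kk α) (1 : A) := by
    intro α
    rw [← prod_kk, Finsupp.prod, MvPolynomial.prod_X_pow_eq_monomial]
  simp only [this]
  rw [Φ_sum_monomial_tmul]

/-- A tuple is the chosen representative among the tuples with the same multi-index. -/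
def IsRep {d : ℕ} (α : Fin d → I) : Prop :=
  α = Classical.choose (⟨α, rfl⟩ : ∃ β : Fin d → I, kk β = kk α)

lemma isRep_choose {d : ℕ} {k : I →₀ ℕ} (h : ∃ β : Fin d → I, kk β = k) :
    IsRep (Classical.choose h) := by
  have hk := Classical.choose_spec h
  have key : ∀ (k' : I →₀ ℕ) (_ : k' = k) (h' : ∃ β : Fin d → I, kk β = k'),
      Classical.choose h = Classical.choose h' := by
    intro k' hk'
    subst hk'
    intro h'
    rfl
  exact key _ hk _

lemma eq_choose_of_isRep {d : ℕ} {k : I →₀ ℕ} (h : ∃ β : Fin d → I, kk β = k) {α : Fin d → I}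
    (hα : kk α = k) (hrep : IsRep α) : α = Classical.choose h := by
  subst hα
  exact hrep

open Classical in
/-- The linear map through which a homogeneous law factors. -/
noncomputable def fT (F : B →ₚₗ[A] N) : TP A B d →ₗ[A] N :=
  (bT e d).constr A fun α => if IsRep α then coeffE F e (kk α).support (kk α) else 0

open Classical in
lemma fT_bT (F : B →ₚₗ[A] N) (α : Fin d → I) :
    fT e d F (bT e d α) = if IsRep α then coeffE F e (kk α).support (kk α) else 0 := by
  rw [fT, Module.Basis.constr_basis]

lemma fT_coeffE {F : B →ₚₗ[A] N} (hF : PolLaw.IsHomog F d) (E : Finset I) (k : I →₀ ℕ) :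
    fT e d F (coeffE (GT A B d).law e E k) = coeffE F e E k := by
  classical
  rw [coeffE_GT, map_sum]
  simp only [fT_bT]
  by_cases hex : ∃ α ∈ Fintype.piFinset (fun _ : Fin d => E), kk α = k
  · obtain ⟨α₁, hα₁E, hα₁⟩ := hex
    have hexk : ∃ β : Fin d → I, kk β = k := ⟨α₁, hα₁⟩
    set α₀ := Classical.choose hexk with hα₀
    have hα₀k : kk α₀ = k := Classical.choose_spec hexk
    have hsuppE : (↑k.support : Set I) ⊆ ↑E := by
      intro i hi
      rw [← hα₁] at hi
      obtain ⟨j, rfl⟩ := exists_of_mem_support_kk α₁ (Finset.mem_coe.mp hi)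
      exact Finset.mem_coe.mpr (Fintype.mem_piFinset.mp hα₁E j)
    have hα₀E : α₀ ∈ Fintype.piFinset (fun _ : Fin d => E) := by
      rw [Fintype.mem_piFinset]
      intro j
      have := mem_support_kk α₀ j
      rw [hα₀k] at this
      exact Finset.mem_coe.mp (hsuppE (Finset.mem_coe.mpr this))
    rw [Finset.sum_eq_single_of_mem α₀ (Finset.mem_filter.mpr ⟨hα₀E, hα₀k⟩)]
    · rw [if_pos (isRep_choose hexk), hα₀k]
      exact coeffE_mono F e (by intro i hi; exact hsuppE hi) (by exact subset_rfl)
    · intro α hα hne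
      rw [Finset.mem_filter] at hα
      rw [if_neg]
      intro hrep
      exact hne (eq_choose_of_isRep hexk hα.2 hrep)
  · have : (Fintype.piFinset (fun _ : Fin d => E)).filter (fun α => kk α = k) = ∅ := by
      ext α
      simp only [Finset.mem_filter, Finset.notMem_empty, iff_false, not_and]
      intro hα hk
      exact hex ⟨α, hα, hk⟩
    rw [this, Finset.sum_empty]
    by_contra hne
    have hmem : k ∈ (coeffE F e E).support := Finsupp.mem_support_iff.mpr (Ne.symm hne)
    obtain ⟨α, hα⟩ := exists_tuple d k (coeffE_degree hF e E hmem)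
    refine hex ⟨α, ?_, hα⟩
    rw [Fintype.mem_piFinset]
    intro j
    have := mem_support_kk α j
    rw [hα] at this
    exact Finset.mem_coe.mp (coeffE_support_subset F e E hmem (Finset.mem_coe.mpr this))

lemma exists_finset_sum_basis (S : Type u) [CommSemiring S] [Algebra A S] (z : S ⊗[A] B) :
    ∃ (E : Finset I) (s : I → S), z = ∑ i ∈ E, s i ⊗ₜ[A] e i := by
  classical
  induction z using TensorProduct.induction_on with
  | zero => exact ⟨∅, fun _ => 0, by simp⟩
  | tmul s b =>
    refine ⟨(e.repr b).support, fun i => e.repr b i • s, ?_⟩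
    conv_lhs => rw [← e.linearCombination_repr b, Finsupp.linearCombination_apply, Finsupp.sum,
      TensorProduct.tmul_sum]
    refine Finset.sum_congr rfl fun i _ => ?_
    rw [TensorProduct.tmul_smul, TensorProduct.smul_tmul']
  | add x y hx hy =>
    obtain ⟨E, s, rfl⟩ := hx
    obtain ⟨E', s', rfl⟩ := hy
    refine ⟨E ∪ E', fun i => (if i ∈ E then s i else 0) + (if i ∈ E' then s' i else 0), ?_⟩
    simp only [TensorProduct.add_tmul, Finset.sum_add_distrib]
    congr 1
    · rw [← Finset.sum_subset Finset.subset_union_left]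
      · refine Finset.sum_congr rfl fun i hi => ?_
        rw [if_pos hi]
      · intro i _ hi
        rw [if_neg hi, TensorProduct.zero_tmul]
    · rw [← Finset.sum_subset Finset.subset_union_right]
      · refine Finset.sum_congr rfl fun i hi => ?_
        rw [if_pos hi]
      · intro i _ hi
        rw [if_neg hi, TensorProduct.zero_tmul]

/-- A homogeneous law of degree `d` on a free algebra factors linearly through the tensor power
law. -/
theorem factor_GT {F : B →ₚₗ[A] N} (hF : PolLaw.IsHomog F d) (S : Type u) [CommSemiring S]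
    [Algebra A S] (z : S ⊗[A] B) :
    F.toFun' S z = (fT e d F).lTensor S ((GT A B d).law.toFun' S z) := by
  classical
  obtain ⟨E, s, rfl⟩ := exists_finset_sum_basis e S z
  rw [toFun'_sum, toFun'_sum, Finsupp.sum, Finsupp.sum, map_sum]
  simp only [LinearMap.lTensor_tmul, fT_coeffE e d hF]
  have hsub : (coeffE F e E).support ⊆ (coeffE (GT A B d).law e E).support := by
    intro k hk
    rw [Finsupp.mem_support_iff] at hk ⊢
    intro h0
    apply hk
    rw [← fT_coeffE e d hF, h0, map_zero]
  refine Finset.sum_subset hsub ?_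
  intro k _ hk
  rw [Finsupp.notMem_support_iff.mp hk, TensorProduct.tmul_zero]

end TensorPower

end Groth.Agent.H68.LC
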