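import Groth.Agent.H68.LawGammaGen
import Groth.Agent.H68.LawTS
import Mathlib

/-!
# Polarisation of a multiplicative law and the transfer principle

* `transfer`: the coefficients of a homogeneous law of degree `d` on finitely many elements are the
  images of the corresponding coefficients of the tensor power law on a polynomial ring, under a
  linear map.
* `polML`: the full polarisation of a law as a multilinear map.
* `sum_pol_eq`: `∑_{c of type k} pol (b ∘ c) = d! • c_k(b)`.
-/

set_option autoImplicit false
universe u
open scoped TensorProduct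

namespace Groth.Agent.H68.CR

open Groth.Agent.H68 Groth.Agent.H68.LC

section GTgeneral

variable {A : Type u} [CommRing A] {B : Type u} [CommRing B] [Algebra A B] (d : ℕ) {I : Type}

lemma prod_gT' (x : Fin d → B) : ∏ j, gT A B d j (x j) = PiTensorProduct.tprod A x := by
  simp only [gT, PiTensorProduct.singleAlgHom_apply, MonoidHom.mulSingle_apply]
  rw [← PiTensorProduct.tprod_prod]
  exact congrArg _ (Finset.univ_prod_mulSingle x)

lemma GT_toFun'_sum' (b : I → B) (E : Finset I) (S : Type u) [CommSemiring S] [Algebra A S]
    (s : I → S) :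
    (GT A B d).law.toFun' S (∑ i ∈ E, s i ⊗ₜ[A] b i) =
      ∑ α ∈ Fintype.piFinset (fun _ : Fin d => E),
        (∏ j, s (α j)) ⊗ₜ[A] PiTensorProduct.tprod A (fun j => b (α j)) := by
  rw [GT, PolLaw.MulLaw.prodMap_toFun']
  simp only [map_sum, Algebra.TensorProduct.map_tmul, AlgHom.id_apply]
  rw [Finset.prod_univ_sum]
  refine Finset.sum_congr rfl fun α _ => ?_
  rw [finset_prod_tmul, prod_gT']

/-- The coefficients of the tensor power law with respect to any family. -/
lemma coeffE_GT' (b : I → B) (E : Finset I) (k : I →₀ ℕ)
    [DecidablePred fun α : Fin d → I => kk α = k] :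
    coeffE (GT A B d).law b E k =
      ∑ α ∈ Fintype.piFinset (fun _ : Fin d => E) with kk α = k,
        PiTensorProduct.tprod A (fun j => b (α j)) := by
  rw [coeffE, genE, GT_toFun'_sum']
  have : ∀ α : Fin d → I, (∏ j, (MvPolynomial.X (α j) : MvPolynomial I A)) =
      MvPolynomial.monomial (kk α) (1 : A) := by
    intro α
    rw [← prod_kk, Finsupp.prod, MvPolynomial.prod_X_pow_eq_monomial]
  simp only [this]
  rw [Φ_sum_monomial_tmul]

lemma kk_perm (τ : Equiv.Perm (Fin d)) : kk (⇑τ : Fin d → Fin d) = kk (id : Fin d → Fin d) := by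
  rw [kk, kk]
  exact Equiv.sum_comp τ (fun j => Finsupp.single j 1)

lemma kk_comp_perm {n : ℕ} (c : Fin d → Fin n) (τ : Equiv.Perm (Fin d)) :
    kk (fun j => c (τ j)) = kk c := by
  rw [kk, kk]
  exact Equiv.sum_comp τ (fun j => Finsupp.single (c j) 1)

lemma kk_id_apply (i : Fin d) : kk (id : Fin d → Fin d) i = 1 := by
  classical
  rw [kk, Finsupp.finsetSum_apply]
  simp [Finsupp.single_apply]

lemma bijective_of_kk_eq {α : Fin d → Fin d} (h : kk α = kk (id : Fin d → Fin d)) :
    Function.Bijective α := by
  rw [← Finite.surjective_iff_bijective]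
  intro i
  have hi : i ∈ (kk α).support := by
    rw [Finsupp.mem_support_iff, h, kk_id_apply]
    exact one_ne_zero
  exact exists_of_mem_support_kk α hi

/-- The fully polarised coefficient of the tensor power law is the symmetrisation. -/
lemma coeffE_GT_polar (x : Fin d → B) :
    coeffE (GT A B d).law x Finset.univ (kk (id : Fin d → Fin d)) =
      ∑ τ : Equiv.Perm (Fin d), PiTensorProduct.tprod A (fun j => x (τ j)) := by
  rw [coeffE_GT']
  symm
  refine Finset.sum_bij (fun τ _ => (⇑τ : Fin d → Fin d)) ?_ ?_ ?_ ?_
  · intro τ _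
    exact Finset.mem_filter.mpr ⟨by simp, kk_perm d τ⟩
  · intro τ _ τ' _ h
    exact DFunLike.coe_injective h
  · intro α hα
    have hα' := (Finset.mem_filter.mp hα).2
    exact ⟨Equiv.ofBijective α (bijective_of_kk_eq d hα'), Finset.mem_univ _, rfl⟩
  · intro τ _
    rfl

end GTgeneral

section Transfer

variable {A : Type u} [CommRing A] {B C : Type u} [CommRing B] [Algebra A B] [CommRing C]
  [Algebra A C] {d : ℕ}

/-- Coefficients of a restricted law. -/
lemma coeffE_precomp {B' : Type u} [CommRing B'] [Algebra A B'] (γ : PolLaw.MulLaw A B C d)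
    (π : B' →ₐ[A] B) {I : Type} (x : I → B') (E : Finset I) (k : I →₀ ℕ) :
    coeffE (γ.precomp π).law x E k = coeffE γ.law (fun i => π (x i)) E k := by
  rw [coeffE, coeffE]
  congr 2
  show γ.law.toFun' _ (π.toLinearMap.lTensor _ (genE x E)) = _
  congr 1
  rw [genE, genE, map_sum]
  refine Finset.sum_congr rfl fun i _ => ?_
  rw [LinearMap.lTensor_tmul, AlgHom.toLinearMap_apply]

/-- **Transfer principle**: the coefficients of `γ` on elements of the subalgebra generated by
finitely many elements `w` are the images of the corresponding coefficients of the tensor power law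
of the polynomial ring, under a linear map. -/
theorem transfer (γ : PolLaw.MulLaw A B C d) {σ : Type} (w : σ → B) :
    ∃ f : TP A (MvPolynomial σ A) d →ₗ[A] C, ∀ {I : Type} (x : I → MvPolynomial σ A)
      (E : Finset I) (k : I →₀ ℕ),
      coeffE γ.law (fun i => MvPolynomial.aeval w (x i)) E k =
        f (coeffE (GT A (MvPolynomial σ A) d).law x E k) := by
  let π₀ : MvPolynomial σ A →ₐ[A] B := MvPolynomial.aeval w
  let γ₀ := γ.precomp π₀
  refine ⟨fT (MvPolynomial.basisMonomials σ A) d γ₀.law, ?_⟩
  intro I x E k
  have h1 := coeffE_precomp γ π₀ x E k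
  rw [← h1]
  exact coeffE_postcomp (GT A (MvPolynomial σ A) d).law γ₀.law _
    (fun S _ _ z => factor_GT (MvPolynomial.basisMonomials σ A) d γ₀.homog S z) x E k

/-- The full polarisation of `γ`. -/
noncomputable def pol (γ : PolLaw.MulLaw A B C d) (m : Fin d → B) : C :=
  coeffE γ.law m Finset.univ (kk (id : Fin d → Fin d))

lemma pol_transfer (γ : PolLaw.MulLaw A B C d) {σ : Type} (w : σ → B)
    (f : TP A (MvPolynomial σ A) d →ₗ[A] C)
    (hf : ∀ {I : Type} (x : I → MvPolynomial σ A) (E : Finset I) (k : I →₀ ℕ),
      coeffE γ.law (fun i => MvPolynomial.aeval w (x i)) E k =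
        f (coeffE (GT A (MvPolynomial σ A) d).law x E k))
    (x : Fin d → MvPolynomial σ A) :
    pol γ (fun j => MvPolynomial.aeval w (x j)) =
      f (∑ τ : Equiv.Perm (Fin d), PiTensorProduct.tprod A (fun j => x (τ j))) := by
  classical
  rw [pol, hf, coeffE_GT_polar]

/-- The symmetrisation, as a multilinear map. -/
noncomputable def symML (A : Type u) [CommRing A] (R : Type u) [CommRing R] [Algebra A R] (d : ℕ) :
    MultilinearMap A (fun _ : Fin d => R) (TP A R d) :=
  ∑ τ : Equiv.Perm (Fin d), (PiTensorProduct.tprod A).domDomCongr τ.symm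

lemma symML_apply {R : Type u} [CommRing R] [Algebra A R] (x : Fin d → R) :
    symML A R d x = ∑ τ : Equiv.Perm (Fin d), PiTensorProduct.tprod A (fun j => x (τ j)) := by
  rw [symML, _root_.sum_apply]
  rw [← Equiv.sum_comp (Equiv.inv (Equiv.Perm (Fin d)))]
  refine Finset.sum_congr rfl fun τ _ => ?_
  rw [MultilinearMap.domDomCongr_apply]
  rfl

/-- The full polarisation of `γ` as a multilinear map. -/
noncomputable def polML (γ : PolLaw.MulLaw A B C d) : MultilinearMap A (fun _ : Fin d => B) C where
  toFun := pol γ
  map_update_add' := by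
    intro _ m i x y
    let w : Fin d ⊕ Fin 2 → B := Sum.elim m ![x, y]
    obtain ⟨f, hf⟩ := transfer γ w
    let X' : Fin d → MvPolynomial (Fin d ⊕ Fin 2) A := fun j => MvPolynomial.X (Sum.inl j)
    let p : MvPolynomial (Fin d ⊕ Fin 2) A := MvPolynomial.X (Sum.inr 0)
    let q : MvPolynomial (Fin d ⊕ Fin 2) A := MvPolynomial.X (Sum.inr 1)
    have hup : ∀ r : MvPolynomial (Fin d ⊕ Fin 2) A,
        (fun j => MvPolynomial.aeval w (Function.update X' i r j)) =
          Function.update m i (MvPolynomial.aeval w r) := by
      intro r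
      funext j
      by_cases hj : j = i
      · subst hj
        rw [Function.update_self, Function.update_self]
      · rw [Function.update_of_ne hj, Function.update_of_ne hj]
        simp [X', w]
    have hp : MvPolynomial.aeval w p = x := by simp [p, w]
    have hq : MvPolynomial.aeval w q = y := by simp [q, w]
    have hpq : MvPolynomial.aeval w (p + q) = x + y := by rw [map_add, hp, hq]
    have h0 := pol_transfer γ w f hf (Function.update X' i (p + q))
    have h1 := pol_transfer γ w f hf (Function.update X' i p)
    have h2 := pol_transfer γ w f hf (Function.update X' i q)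
    rw [hup, hpq, ← symML_apply] at h0
    rw [hup, hp, ← symML_apply] at h1
    rw [hup, hq, ← symML_apply] at h2
    have e0 : Function.update m i (x + y) = Function.update m i (x + y) := rfl
    convert h0.trans ?_ using 2
    · rw [MultilinearMap.map_update_add, map_add, ← h1, ← h2]
  map_update_smul' := by
    intro _ m i a x
    let w : Fin d ⊕ Fin 2 → B := Sum.elim m ![x, x]
    obtain ⟨f, hf⟩ := transfer γ w
    let X' : Fin d → MvPolynomial (Fin d ⊕ Fin 2) A := fun j => MvPolynomial.X (Sum.inl j)
    let p : MvPolynomial (Fin d ⊕ Fin 2) A := MvPolynomial.X (Sum.inr 0)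
    have hup : ∀ r : MvPolynomial (Fin d ⊕ Fin 2) A,
        (fun j => MvPolynomial.aeval w (Function.update X' i r j)) =
          Function.update m i (MvPolynomial.aeval w r) := by
      intro r
      funext j
      by_cases hj : j = i
      · subst hj
        rw [Function.update_self, Function.update_self]
      · rw [Function.update_of_ne hj, Function.update_of_ne hj]
        simp [X', w]
    have hp : MvPolynomial.aeval w p = x := by simp [p, w]
    have hap : MvPolynomial.aeval w (a • p) = a • x := by rw [map_smul, hp]
    have h0 := pol_transfer γ w f hf (Function.update X' i (a • p))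
    have h1 := pol_transfer γ w f hf (Function.update X' i p)
    rw [hup, hap, ← symML_apply] at h0
    rw [hup, hp, ← symML_apply] at h1
    convert h0.trans ?_ using 2
    · rw [MultilinearMap.map_update_smul, map_smul, ← h1]

lemma polML_apply (γ : PolLaw.MulLaw A B C d) (m : Fin d → B) : polML γ m = pol γ m := rfl

end Transfer

section Star

variable {A : Type u} [CommRing A] {B C : Type u} [CommRing B] [Algebra A B] [CommRing C]
  [Algebra A C] {d : ℕ}

/-- The sum of the polarisations over all tuples of a given type is `d!` times the coefficient. -/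
theorem sum_pol_eq (γ : PolLaw.MulLaw A B C d) {n : ℕ} (b : Fin n → B) (k : Fin n →₀ ℕ)
    [DecidablePred fun c : Fin d → Fin n => kk c = k] :
    ∑ c ∈ Finset.univ.filter (fun c : Fin d → Fin n => kk c = k), pol γ (fun j => b (c j)) =
      d.factorial • coeffE γ.law b Finset.univ k := by
  obtain ⟨f, hf⟩ := transfer γ b
  let X : Fin n → MvPolynomial (Fin n) A := MvPolynomial.X
  have hb : ∀ i, MvPolynomial.aeval b (X i) = b i := fun i => MvPolynomial.aeval_X b i
  have h1 : ∀ c : Fin d → Fin n, pol γ (fun j => b (c j)) =
      f (∑ τ : Equiv.Perm (Fin d), PiTensorProduct.tprod A (fun j => X (c (τ j)))) := by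
    intro c
    have := pol_transfer γ b f hf (fun j => X (c j))
    simp only [hb] at this
    exact this
  have h2 : coeffE γ.law b Finset.univ k =
      f (∑ c ∈ Finset.univ.filter (fun c : Fin d → Fin n => kk c = k),
        PiTensorProduct.tprod A (fun j => X (c j))) := by
    have := hf X Finset.univ k
    simp only [hb] at this
    rw [this, coeffE_GT', Fintype.piFinset_univ]
  rw [h2, Finset.sum_congr rfl fun c _ => h1 c, ← map_sum, ← map_nsmul]
  congr 1
  rw [Finset.sum_comm]
  have h3 : ∀ τ : Equiv.Perm (Fin d),
      ∑ c ∈ Finset.univ.filter (fun c : Fin d → Fin n => kk c = k),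
        PiTensorProduct.tprod A (fun j => X (c (τ j))) =
      ∑ c ∈ Finset.univ.filter (fun c : Fin d → Fin n => kk c = k),
        PiTensorProduct.tprod A (fun j => X (c j)) := by
    intro τ
    refine Finset.sum_nbij' (fun c => fun j => c (τ j)) (fun c => fun j => c (τ.symm j))
      ?_ ?_ ?_ ?_ ?_
    · intro c hc
      rw [Finset.mem_filter] at hc ⊢
      exact ⟨Finset.mem_univ _, (kk_comp_perm d c τ).trans hc.2⟩
    · intro c hc
      rw [Finset.mem_filter] at hc ⊢
      exact ⟨Finset.mem_univ _, (kk_comp_perm d c τ.symm).trans hc.2⟩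
    · intro c _
      funext j
      simp
    · intro c _
      funext j
      simp
    · intro c _
      rfl
  rw [Finset.sum_congr rfl fun τ _ => h3 τ, Finset.sum_const, Finset.card_univ, Fintype.card_perm,
    Fintype.card_fin]

end Star

end Groth.Agent.H68.CR
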