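import Groth.Agent.H68.FlatSym
import Groth.Agent.H68.LawPolar
import Mathlib

/-!
# Tuples with the same multi-index differ by a permutation; orbit sums
-/

set_option autoImplicit false
universe u
open scoped TensorProduct

namespace Groth.Agent.H68.FV

open Groth.Agent.H68.LC Groth.Agent.H68.CR

section Orbit

variable {I : Type} [DecidableEq I] {n : ℕ}

lemma kk_apply (c : Fin n → I) (v : I) :
    kk c v = (Finset.univ.filter (fun i => c i = v)).card := by
  rw [kk, Finsupp.finsetSum_apply]
  simp only [Finsupp.single_apply]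
  rw [Finset.sum_boole]
  simp

/-- Two tuples with the same multi-index differ by a permutation of the slots. -/
theorem exists_perm_of_kk_eq {c₁ c₂ : Fin n → I} (h : kk c₁ = kk c₂) :
    ∃ σ : Equiv.Perm (Fin n), c₁ = fun i => c₂ (σ i) := by
  have hcard : ∀ v : I, Fintype.card {i // c₁ i = v} = Fintype.card {i // c₂ i = v} := by
    intro v
    rw [Fintype.card_subtype, Fintype.card_subtype, ← kk_apply, ← kk_apply, h]
  let e : ∀ v : I, {i // c₁ i = v} ≃ {i // c₂ i = v} := fun v => Fintype.equivOfCardEq (hcard v)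
  refine ⟨Equiv.ofFiberEquiv e, ?_⟩
  funext i
  exact (Equiv.ofFiberEquiv_map e i).symm

/-- A symmetric function on tuples only depends on the multi-index. -/
lemma eq_of_kk_eq {X : Type*} (W : (Fin n → I) → X)
    (hW : ∀ (σ : Equiv.Perm (Fin n)) (c : Fin n → I), W (fun i => c (σ i)) = W c)
    {c₁ c₂ : Fin n → I} (h : kk c₁ = kk c₂) : W c₁ = W c₂ := by
  obtain ⟨σ, rfl⟩ := exists_perm_of_kk_eq h
  exact hW σ c₂

open Classical in
/-- A symmetric function on tuples factors through the multi-index. -/
lemma exists_bar {X : Type*} [Zero X] (W : (Fin n → I) → X)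
    (hW : ∀ (σ : Equiv.Perm (Fin n)) (c : Fin n → I), W (fun i => c (σ i)) = W c) :
    ∃ Wbar : (I →₀ ℕ) → X, ∀ c : Fin n → I, Wbar (kk c) = W c := by
  refine ⟨fun κ => if h : ∃ c : Fin n → I, kk c = κ then W h.choose else 0, fun c => ?_⟩
  have h : ∃ c' : Fin n → I, kk c' = kk c := ⟨c, rfl⟩
  simp only
  rw [dif_pos h]
  exact eq_of_kk_eq W hW h.choose_spec

end Orbit

section OrbitSum

variable {R : Type u} [CommRing R] {N : Type u} [AddCommGroup N] [Module R N]

open Classical in
/-- The orbit sum: the sum of the pure tensors of the members of `y` of a given multi-index. -/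
noncomputable def orbitSum {l n : ℕ} (y : Fin l → N) (κ : Fin l →₀ ℕ) : ⨂[R] _ : Fin n, N :=
  ∑ c' ∈ Finset.univ.filter (fun c' : Fin n → Fin l => kk c' = κ),
    PiTensorProduct.tprod R (fun i => y (c' i))

lemma reindex_orbitSum {l n : ℕ} (y : Fin l → N) (κ : Fin l →₀ ℕ) (σ : Equiv.Perm (Fin n)) :
    PiTensorProduct.reindex R (fun _ : Fin n => N) σ (orbitSum (R := R) (n := n) y κ) =
      orbitSum y κ := by
  classical
  rw [orbitSum, map_sum]
  have e1 : ∀ c' : Fin n → Fin l, PiTensorProduct.reindex R (fun _ : Fin n => N) σ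
      (PiTensorProduct.tprod R (fun i => y (c' i))) =
      PiTensorProduct.tprod R (fun i => y (c' (σ.symm i))) := by
    intro c'
    rw [PiTensorProduct.reindex_tprod]
  rw [Finset.sum_congr rfl fun c' _ => e1 c']
  refine Finset.sum_nbij' (fun c' => fun i => c' (σ.symm i)) (fun c' => fun i => c' (σ i))
    ?_ ?_ ?_ ?_ ?_
  · intro c' hc'
    rw [Finset.mem_filter] at hc' ⊢
    exact ⟨Finset.mem_univ _, (kk_comp_perm n c' σ.symm).trans hc'.2⟩
  · intro c' hc'
    rw [Finset.mem_filter] at hc' ⊢
    exact ⟨Finset.mem_univ _, (kk_comp_perm n c' σ).trans hc'.2⟩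
  · intro c' _
    funext i
    simp
  · intro c' _
    funext i
    simp
  · intro c' _
    rfl

/-- A combination of pure tensors with coefficients depending only on the multi-index is a
combination of orbit sums. -/
lemma sum_eq_sum_orbitSum {l n : ℕ} (y : Fin l → N) (W : (Fin n → Fin l) → R)
    (Wbar : (Fin l →₀ ℕ) → R) (hbar : ∀ c : Fin n → Fin l, Wbar (kk c) = W c) :
    ∑ c', W c' • PiTensorProduct.tprod R (fun i => y (c' i)) =
      ∑ κ ∈ Finset.univ.image (fun c : Fin n → Fin l => kk c),
        Wbar κ • orbitSum (R := R) (n := n) y κ := by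
  classical
  rw [← Finset.sum_fiberwise_of_maps_to (g := fun c : Fin n → Fin l => kk c)
    (t := Finset.univ.image (fun c : Fin n → Fin l => kk c))
    (fun c _ => Finset.mem_image_of_mem _ (Finset.mem_univ c))]
  refine Finset.sum_congr rfl fun κ hκ => ?_
  rw [orbitSum, Finset.smul_sum]
  refine Finset.sum_congr rfl fun c' hc' => ?_
  rw [Finset.mem_filter] at hc'
  rw [← hbar c', hc'.2]

end OrbitSum

end Groth.Agent.H68.FV
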