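import Groth.Agent.H68.FibPowTensor
import Groth.Agent.S14671
import Mathlib

/-!
# Symmetric powers of flat (AF) schemes are flat
-/

set_option autoImplicit false
set_option linter.style.haveILetI false
universe u
open scoped TensorProduct
open CategoryTheory CategoryTheory.Limits AlgebraicGeometry

namespace Groth.Agent.H68.FPT

open Groth.Agent.H68.LC Groth.Agent.H68.FPA

/-- The symmetric tensors of a flat algebra are flat. -/
theorem flat_TS (A : Type u) [CommRing A] (B : Type u) [CommRing B] [Algebra A B]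
    [Module.Flat A B] (n : ℕ) : Module.Flat A (SymTen.TS A B n) := by
  haveI h := Groth.Agent.S14671.result A B n
  have heq : (⨅ σ : Equiv.Perm (Fin n), LinearMap.eqLocus
      (PiTensorProduct.reindex A (fun _ : Fin n => B) σ).toLinearMap LinearMap.id) =
      Subalgebra.toSubmodule (SymTen.TS A B n) := by
    ext t
    simp [Submodule.mem_iInf, LinearMap.mem_eqLocus, SymTen.mem_TS_iff]
  exact Module.Flat.of_linearEquiv (LinearEquiv.ofEq _ _ heq).symm

section Quot

variable {X Y : Scheme.{u}} {G : Type u} [Group G]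

/-- The defining properties of a quotient, over an open whose preimage is a given open. -/
theorem isQuot_appLE (ρ : G →* Aut X) (p : X ⟶ Y) (hp : SGA1.IsQuot ρ p) (W' : Y.Opens)
    (W : X.Opens) (h : p ⁻¹ᵁ W' = W) :
    Function.Injective (p.appLE W' W h.ge).hom ∧
      ∀ (hst : ∀ g : G, W ≤ (ρ g).hom ⁻¹ᵁ W) (s : Γ(X, W)),
        s ∈ Set.range (p.appLE W' W h.ge).hom ↔
          ∀ g : G, ((ρ g).hom.appLE W W (hst g)).hom s = s := by
  subst h
  refine ⟨?_, fun hst s => ?_⟩
  · rw [← Scheme.Hom.app_eq_appLE]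
    exact hp.injective W'
  · rw [← Scheme.Hom.app_eq_appLE]
    exact hp.range_iff W' s

end Quot

/-- The symmetric powers of a flat (AF) scheme are flat over the base. -/
theorem flat_symProd {X S Y : Scheme.{u}} (f : X ⟶ S) [Flat f] (hAF : SymProd.IsAF f) (n : ℕ)
    (q : SymProd.fibPow f n ⟶ Y) (g : Y ⟶ S) (hq : SymProd.IsSymProd f n q g) : Flat g := by
  classical
  have hquot : SGA1.IsQuot (SymProd.permActU f n) q := hq.isQuot
  rw [HasRingHomProperty.iff_exists_appLE (P := @Flat)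
    (RingHom.Flat.stableUnderComposition.stableUnderCompositionWithLocalizationAway
      RingHom.Flat.holdsForLocalizationAway).left]
  intro y
  obtain ⟨x, rfl⟩ := Groth.Agent.H15.Quot.surjective hquot y
  obtain ⟨V, hV, hxV⟩ : ∃ V : S.Opens, IsAffineOpen V ∧
      (WidePullback.base (fun _ : Fin n => f)).base x ∈ V := by
    obtain ⟨_, ⟨V, hV, rfl⟩, hxV, -⟩ := S.isBasis_affineOpens.exists_subset_of_mem_open
      (Set.mem_univ ((WidePullback.base (fun _ : Fin n => f)).base x)) isOpen_univ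
    exact ⟨V, hV, hxV⟩
  obtain ⟨U, hU, hUV, hxU⟩ := exists_chart hAF x V hxV
  have hxW : x ∈ boxOpen f n V U := (mem_boxOpen f n x).mpr ⟨hxV, hxU⟩
  have hWaff : IsAffineOpen (boxOpen f n V U) := isAffineOpen_boxOpen V U hUV hV hU
  -- stability
  have hstab : ∀ (σ : Equiv.Perm (Fin n)) (z : SymProd.fibPow f n),
      (SymProd.permHom f n σ).base z ∈ boxOpen f n V U ↔ z ∈ boxOpen f n V U := by
    intro σ z
    refine ⟨fun h => ?_, permHom_mem_boxOpen V U σ z⟩
    have h1 := permHom_mem_boxOpen V U σ⁻¹ _ h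
    rw [← Scheme.Hom.comp_apply, ← SymProd.permHom_mul, inv_mul_cancel, SymProd.permHom_one] at h1
    exact h1
  have hsat : q.base ⁻¹' (q.base '' (boxOpen f n V U : Set _)) = (boxOpen f n V U : Set _) := by
    ext z
    constructor
    · rintro ⟨w, hw, hwz⟩
      obtain ⟨γ, hγ⟩ := (Groth.Agent.H15.Quot.base_eq_iff hquot w z).mp hwz
      rw [← hγ]
      exact (hstab γ.down w).mpr hw
    · intro hz
      exact ⟨z, hz, rfl⟩
  have hopen : IsOpen (q.base '' (boxOpen f n V U : Set _)) := by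
    rw [← (Groth.Agent.H15.Quot.isQuotientMap hquot).isOpen_preimage, hsat]
    exact (boxOpen f n V U).2
  obtain ⟨W', hW'def⟩ : ∃ W' : Y.Opens, W' = ⟨_, hopen⟩ := ⟨_, rfl⟩
  have hpre : q ⁻¹ᵁ W' = boxOpen f n V U := by
    rw [hW'def]
    exact TopologicalSpace.Opens.ext hsat
  have hW'aff : IsAffineOpen W' := by
    apply Groth.Agent.H15.Quot.isAffineOpen_of_isAffineOpen_preimage hquot
    rw [hpre]
    exact hWaff
  have hyW' : q.base x ∈ W' := by
    rw [hW'def]
    exact ⟨x, hxW, rfl⟩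
  have hle : W' ≤ g ⁻¹ᵁ V := by
    rw [hW'def]
    rintro _ ⟨z, hz, rfl⟩
    change g.base (q.base z) ∈ V
    rw [← Scheme.Hom.comp_apply, hq.over]
    exact ((mem_boxOpen f n z).mp hz).1
  refine ⟨⟨V, hV⟩, ⟨W', hW'aff⟩, hyW', hle, ?_⟩
  -- the algebra
  letI : Algebra Γ(S, V) Γ(X, U) := (f.appLE V U hUV).hom.toAlgebra
  have halg : algebraMap Γ(S, V) Γ(X, U) = (f.appLE V U hUV).hom := rfl
  haveI : Module.Flat Γ(S, V) Γ(X, U) :=
    HasRingHomProperty.appLE (P := @Flat) f inferInstance ⟨V, hV⟩ ⟨U, hU⟩ hUV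
  haveI := flat_TS Γ(S, V) Γ(X, U) n
  obtain ⟨hinj, hrange⟩ := isQuot_appLE (SymProd.permActU f n) q hquot W' (boxOpen f n V U) hpre
  have hst : ∀ γ : ULift.{u} (Equiv.Perm (Fin n)),
      boxOpen f n V U ≤ ((SymProd.permActU f n) γ).hom ⁻¹ᵁ boxOpen f n V U :=
    fun γ => boxOpen_le_perm γ.down
  refine flat_of_range_eq (algebraMap Γ(S, V) (SymTen.TS Γ(S, V) Γ(X, U) n)) _
    ((alpha (n := n) hUV halg).comp (SymTen.TS Γ(S, V) Γ(X, U) n).val.toRingHom)
    (q.appLE W' (boxOpen f n V U) hpre.ge).hom ?_ hinj ?_ ?_ ?_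
  · exact (alpha_bijective hUV hV hU halg).1.comp Subtype.val_injective
  · ext s
    rw [RingHom.mem_range, RingHom.mem_range]
    constructor
    · rintro ⟨t, rfl⟩
      rw [← RingHom.mem_range]
      refine (hrange hst _).mpr fun γ => ?_
      exact (alpha_mem_TS_iff hUV hV hU halg t.1).mp t.2 γ.down
    · rintro ⟨r, rfl⟩
      obtain ⟨t, ht⟩ := (alpha_bijective hUV hV hU halg).2
        ((q.appLE W' (boxOpen f n V U) hpre.ge).hom r)
      have hmem : t ∈ SymTen.TS Γ(S, V) Γ(X, U) n := by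
        rw [alpha_mem_TS_iff hUV hV hU halg]
        intro σ
        rw [ht]
        exact (hrange hst _).mp ⟨r, rfl⟩ ⟨σ⟩
      exact ⟨⟨t, hmem⟩, ht⟩
  · ext a
    change alpha (n := n) hUV halg (algebraMap Γ(S, V) (TP Γ(S, V) Γ(X, U) n) a) =
      (q.appLE W' (boxOpen f n V U) hpre.ge).hom ((g.appLE V W' hle).hom a)
    rw [alpha_algebraMap]
    have h2 := congrArg (fun φ : Γ(S, V) ⟶ Γ(SymProd.fibPow f n, boxOpen f n V U) => φ.hom a)
      (Scheme.Hom.appLE_comp_appLE q g V W' (boxOpen f n V U) hle hpre.ge)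
    simp only [CommRingCat.hom_comp, RingHom.comp_apply] at h2
    rw [h2]
    exact congrArg (fun φ : Γ(S, V) ⟶ Γ(SymProd.fibPow f n, boxOpen f n V U) => φ.hom a)
      (appLE_congr_hom hq.over _).symm
  · exact RingHom.flat_algebraMap_iff.mpr inferInstance

end Groth.Agent.H68.FPT
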