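import Groth.Agent.H68.FibPowAffine
import Groth.Agent.H68.LawTS
import Mathlib

/-!
# The coordinate ring of a box in a fibre power is a tensor power

For `f : X ⟶ S`, affine opens `V ⊆ S` and `U ⊆ f⁻¹V`, the coordinate ring of the box
`boxOpen f n V U` of the `n`-fold fibre power is the `n`-fold tensor power of `Γ(X, U)` over
`Γ(S, V)`.
-/

set_option autoImplicit false
set_option linter.style.haveILetI false
universe u
open scoped TensorProduct
open CategoryTheory CategoryTheory.Limits AlgebraicGeometry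

namespace Groth.Agent.H68.FPT

open Groth.Agent.H68.LC Groth.Agent.H68.FPA

section Alg

variable (A : Type u) [CommRing A] (B : Type u) [CommRing B] [Algebra A B] (n : ℕ)

/-- The universal property of the tensor power: a family of algebra maps induces an algebra map
from the tensor power. -/
noncomputable def liftTP {C : Type u} [CommRing C] [Algebra A C] (ψ : Fin n → (B →ₐ[A] C)) :
    TP A B n →ₐ[A] C :=
  PiTensorProduct.liftAlgHom
    ((MultilinearMap.mkPiAlgebra A (Fin n) C).compLinearMap fun i => (ψ i).toLinearMap)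
    (by simp)
    (by
      intro x y
      simp [Finset.prod_mul_distrib])

lemma liftTP_tprod {C : Type u} [CommRing C] [Algebra A C] (ψ : Fin n → (B →ₐ[A] C))
    (b : Fin n → B) : liftTP A B n ψ (PiTensorProduct.tprod A b) = ∏ i, ψ i (b i) := by
  simp [liftTP]

lemma gT_apply (i : Fin n) (b : B) :
    gT A B n i b = PiTensorProduct.tprod A (Pi.mulSingle i b) := rfl

lemma liftTP_gT {C : Type u} [CommRing C] [Algebra A C] (ψ : Fin n → (B →ₐ[A] C))
    (i : Fin n) (b : B) : liftTP A B n ψ (gT A B n i b) = ψ i b := by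
  classical
  rw [gT_apply, liftTP_tprod, Finset.prod_eq_single i]
  · rw [Pi.mulSingle_eq_same]
  · intro j _ hj
    rw [Pi.mulSingle_eq_of_ne hj, map_one]
  · intro h
    exact absurd (Finset.mem_univ i) h

/-- Ring homomorphisms out of a tensor power are determined by their restrictions to the base and
to the factors. -/
lemma ringHom_ext_TP {C : Type u} [CommRing C] (θ₁ θ₂ : TP A B n →+* C)
    (h0 : θ₁.comp (algebraMap A (TP A B n)) = θ₂.comp (algebraMap A (TP A B n)))
    (h : ∀ i, θ₁.comp (gT A B n i).toRingHom = θ₂.comp (gT A B n i).toRingHom) : θ₁ = θ₂ := by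
  letI : Algebra A C := (θ₁.comp (algebraMap A (TP A B n))).toAlgebra
  let f₁ : TP A B n →ₐ[A] C := { θ₁ with commutes' := fun a => rfl }
  let f₂ : TP A B n →ₐ[A] C := { θ₂ with commutes' := fun a => (congr($h0 a)).symm }
  have h12 : f₁ = f₂ := PiTensorProduct.algHom_ext fun i => AlgHom.ext fun b => congr($(h i) b)
  exact RingHom.ext fun x => congr($h12 x)

lemma perm_gT (σ : Equiv.Perm (Fin n)) (i : Fin n) (b : B) :
    SymTen.perm A B n σ (gT A B n i b) = gT A B n (σ i) b := by
  classical
  rw [gT_apply, SymTen.perm_tprod, gT_apply]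
  congr 1
  funext j
  by_cases hj : j = σ i
  · rw [hj, Equiv.symm_apply_apply, Pi.mulSingle_eq_same, Pi.mulSingle_eq_same]
  · rw [Pi.mulSingle_eq_of_ne hj, Pi.mulSingle_eq_of_ne]
    intro h
    exact hj (by rw [← h, Equiv.apply_symm_apply])

/-- Transport of flatness along an identification of images. -/
lemma flat_of_range_eq {A C₁ C₂ R : Type u} [CommRing A] [CommRing C₁] [CommRing C₂] [CommRing R]
    (u : A →+* C₁) (v : A →+* C₂) (j₁ : C₁ →+* R) (j₂ : C₂ →+* R)
    (h₁ : Function.Injective j₁) (h₂ : Function.Injective j₂) (hr : j₁.range = j₂.range)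
    (hc : j₁.comp u = j₂.comp v) (hu : u.Flat) : v.Flat := by
  let e₁ : C₁ ≃+* j₁.range := RingEquiv.ofBijective j₁.rangeRestrict
    ⟨fun x y hxy => h₁ (congrArg Subtype.val hxy), j₁.rangeRestrict_surjective⟩
  let e₂ : C₂ ≃+* j₂.range := RingEquiv.ofBijective j₂.rangeRestrict
    ⟨fun x y hxy => h₂ (congrArg Subtype.val hxy), j₂.rangeRestrict_surjective⟩
  let e : C₁ ≃+* C₂ := e₁.trans ((RingEquiv.subringCongr hr).trans e₂.symm)
  have he : ∀ c, j₂ (e c) = j₁ c := by
    intro c
    have h1 : (e₂ (e c) : R) = j₁ c := by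
      change (e₂ (e₂.symm (RingEquiv.subringCongr hr (e₁ c))) : R) = j₁ c
      rw [RingEquiv.apply_symm_apply]
      rfl
    exact h1
  have hv : v = e.toRingHom.comp u := by
    ext a
    apply h₂
    rw [RingHom.comp_apply, RingEquiv.toRingHom_eq_coe, RingHom.coe_coe, he]
    exact (congr($hc a)).symm
  rw [hv]
  exact RingHom.Flat.comp hu (RingHom.Flat.of_bijective e.bijective)

end Alg

section Nat

variable {X Y : Scheme.{u}} (h : X ⟶ Y) {U' : Y.Opens} {W' : X.Opens}
  (hU' : IsAffineOpen U') (hW' : IsAffineOpen W') (e : W' ≤ h ⁻¹ᵁ U')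

lemma isoSpec_inv_resLE :
    hW'.isoSpec.inv ≫ h.resLE U' W' e = Spec.map (h.appLE U' W' e) ≫ hU'.isoSpec.inv := by
  rw [← cancel_mono U'.ι, Category.assoc, Category.assoc, Scheme.Hom.resLE_comp_ι,
    IsAffineOpen.isoSpec_inv_ι, IsAffineOpen.isoSpec_inv_ι_assoc,
    IsAffineOpen.SpecMap_appLE_fromSpec]

lemma resLE_isoSpec_hom :
    h.resLE U' W' e ≫ hU'.isoSpec.hom = hW'.isoSpec.hom ≫ Spec.map (h.appLE U' W' e) := by
  rw [← cancel_epi hW'.isoSpec.inv, ← Category.assoc, isoSpec_inv_resLE h hU' hW' e,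
    Category.assoc, Iso.inv_hom_id, Iso.inv_hom_id_assoc, Category.comp_id]

lemma appLE_congr_hom {h₁ h₂ : X ⟶ Y} (e12 : h₁ = h₂) (e₁ : W' ≤ h₁ ⁻¹ᵁ U') :
    h₁.appLE U' W' e₁ = h₂.appLE U' W' (e12 ▸ e₁) := by
  subst e12
  rfl

end Nat

section Chart

variable {X S : Scheme.{u}} {f : X ⟶ S} {n : ℕ} {V : S.Opens} {U : X.Opens}
  (hUV : U ≤ f ⁻¹ᵁ V) (hV : IsAffineOpen V) (hU : IsAffineOpen U)

lemma appLE_π_comp (i : Fin n) :
    f.appLE V U hUV ≫ (WidePullback.π (fun _ : Fin n => f) i).appLE U (boxOpen f n V U)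
        (boxOpen_le_π V U i) =
      (WidePullback.base (fun _ : Fin n => f)).appLE V (boxOpen f n V U)
        (boxOpen_le_base V U) := by
  rw [Scheme.Hom.appLE_comp_appLE]
  exact appLE_congr_hom (WidePullback.π_arrow _ i) _

variable [Algebra Γ(S, V) Γ(X, U)] (halg : algebraMap Γ(S, V) Γ(X, U) = (f.appLE V U hUV).hom)

/-- The canonical map from the tensor power to the coordinate ring of the box. -/
noncomputable def alpha : TP Γ(S, V) Γ(X, U) n →+* Γ(SymProd.fibPow f n, boxOpen f n V U) :=
  letI : Algebra Γ(S, V) Γ(SymProd.fibPow f n, boxOpen f n V U) :=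
    ((WidePullback.base (fun _ : Fin n => f)).appLE V (boxOpen f n V U)
      (boxOpen_le_base V U)).hom.toAlgebra
  (liftTP Γ(S, V) Γ(X, U) n (fun i =>
    { ((WidePullback.π (fun _ : Fin n => f) i).appLE U (boxOpen f n V U)
        (boxOpen_le_π V U i)).hom with
      commutes' := fun a => by
        have h1 := congrArg (fun φ => φ.hom a) (appLE_π_comp (n := n) hUV i)
        simp only [CommRingCat.hom_comp, RingHom.comp_apply] at h1
        change ((WidePullback.π (fun _ : Fin n => f) i).appLE U (boxOpen f n V U)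
          (boxOpen_le_π V U i)).hom (algebraMap Γ(S, V) Γ(X, U) a) = _
        rw [halg, h1]
        rfl })).toRingHom

lemma alpha_gT (i : Fin n) (b : Γ(X, U)) :
    alpha hUV halg (gT Γ(S, V) Γ(X, U) n i b) =
      ((WidePullback.π (fun _ : Fin n => f) i).appLE U (boxOpen f n V U)
        (boxOpen_le_π V U i)).hom b := by
  letI : Algebra Γ(S, V) Γ(SymProd.fibPow f n, boxOpen f n V U) :=
    ((WidePullback.base (fun _ : Fin n => f)).appLE V (boxOpen f n V U)
      (boxOpen_le_base V U)).hom.toAlgebra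
  change liftTP Γ(S, V) Γ(X, U) n _ (gT Γ(S, V) Γ(X, U) n i b) = _
  rw [liftTP_gT]
  rfl

lemma alpha_algebraMap (a : Γ(S, V)) :
    alpha hUV halg (algebraMap Γ(S, V) (TP Γ(S, V) Γ(X, U) n) a) =
      ((WidePullback.base (fun _ : Fin n => f)).appLE V (boxOpen f n V U)
        (boxOpen_le_base V U)).hom a := by
  letI : Algebra Γ(S, V) Γ(SymProd.fibPow f n, boxOpen f n V U) :=
    ((WidePullback.base (fun _ : Fin n => f)).appLE V (boxOpen f n V U)
      (boxOpen_le_base V U)).hom.toAlgebra
  change liftTP Γ(S, V) Γ(X, U) n _ (algebraMap Γ(S, V) (TP Γ(S, V) Γ(X, U) n) a) = _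
  rw [AlgHom.commutes]
  rfl

/-- The spectrum of the tensor power as a cone over the wide cospan of `U → V`. -/
noncomputable def coneP : WidePullbackCone (fun _ : Fin n => f.resLE V U hUV) :=
  WidePullbackCone.mk (W := Spec (CommRingCat.of (TP Γ(S, V) Γ(X, U) n)))
    (Spec.map (CommRingCat.ofHom (algebraMap Γ(S, V) (TP Γ(S, V) Γ(X, U) n))) ≫ hV.isoSpec.inv)
    (fun i => Spec.map (CommRingCat.ofHom (gT Γ(S, V) Γ(X, U) n i).toRingHom) ≫ hU.isoSpec.inv)
    (fun i => by
      rw [Category.assoc, isoSpec_inv_resLE f hV hU hUV, ← Spec.map_comp_assoc]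
      congr 2
      ext a
      simp only [CommRingCat.hom_comp, CommRingCat.hom_ofHom, RingHom.comp_apply]
      rw [← halg]
      exact (gT Γ(S, V) Γ(X, U) n i).commutes a)

include halg in
lemma specMap_alpha_boxLift :
    Spec.map (CommRingCat.ofHom (alpha (n := n) hUV halg)) ≫
        boxLift V U hUV (coneP hUV hV hU halg) =
      (isAffineOpen_boxOpen (d := n) V U hUV hV hU).isoSpec.inv := by
  have hb : boxLift V U hUV (coneP (n := n) hUV hV hU halg) ≫ (boxCone (d := n) V U hUV).base =
      (coneP (n := n) hUV hV hU halg).base := (boxIsLimit (d := n) V U hUV).fac _ none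
  have hπ : ∀ i, boxLift V U hUV (coneP (n := n) hUV hV hU halg) ≫
      (boxCone (d := n) V U hUV).π i = (coneP (n := n) hUV hV hU halg).π i :=
    fun i => (boxIsLimit (d := n) V U hUV).fac _ (some i)
  refine WidePullbackCone.IsLimit.hom_ext (boxIsLimit (d := n) V U hUV) ?_ ?_
  · refine (Category.assoc _ _ _).trans ((congrArg (CategoryStruct.comp _) hb).trans ?_)
    change _ ≫ Spec.map _ ≫ hV.isoSpec.inv = _ ≫ (WidePullback.base (fun _ : Fin n => f)).resLE V
      (boxOpen f n V U) (boxOpen_le_base V U)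
    rw [isoSpec_inv_resLE _ hV (isAffineOpen_boxOpen (d := n) V U hUV hV hU), ← Spec.map_comp_assoc]
    congr 2
    ext a
    exact alpha_algebraMap hUV halg a
  · intro i
    refine (Category.assoc _ _ _).trans ((congrArg (CategoryStruct.comp _) (hπ i)).trans ?_)
    change _ ≫ Spec.map _ ≫ hU.isoSpec.inv = _ ≫ (WidePullback.π (fun _ : Fin n => f) i).resLE U
      (boxOpen f n V U) (boxOpen_le_π V U i)
    rw [isoSpec_inv_resLE _ hU (isAffineOpen_boxOpen (d := n) V U hUV hV hU), ← Spec.map_comp_assoc]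
    congr 2
    ext b
    exact alpha_gT hUV halg i b

/-- The morphism from the spectrum of the tensor power to the box. -/
noncomputable def liftP : Spec (CommRingCat.of (TP Γ(S, V) Γ(X, U) n)) ⟶
    (boxOpen f n V U).toScheme :=
  boxLift V U hUV (coneP (n := n) hUV hV hU halg)

lemma liftP_base :
    liftP (n := n) hUV hV hU halg ≫ (WidePullback.base (fun _ : Fin n => f)).resLE V
        (boxOpen f n V U) (boxOpen_le_base V U) =
      Spec.map (CommRingCat.ofHom (algebraMap Γ(S, V) (TP Γ(S, V) Γ(X, U) n))) ≫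
        hV.isoSpec.inv :=
  (boxIsLimit (d := n) V U hUV).fac (coneP (n := n) hUV hV hU halg) none

lemma liftP_π (i : Fin n) :
    liftP (n := n) hUV hV hU halg ≫ (WidePullback.π (fun _ : Fin n => f) i).resLE U
        (boxOpen f n V U) (boxOpen_le_π V U i) =
      Spec.map (CommRingCat.ofHom (gT Γ(S, V) Γ(X, U) n i).toRingHom) ≫ hU.isoSpec.inv :=
  (boxIsLimit (d := n) V U hUV).fac (coneP (n := n) hUV hV hU halg) (some i)

lemma specMap_alpha_liftP :
    Spec.map (CommRingCat.ofHom (alpha (n := n) hUV halg)) ≫ liftP (n := n) hUV hV hU halg =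
      (isAffineOpen_boxOpen (d := n) V U hUV hV hU).isoSpec.inv :=
  specMap_alpha_boxLift hUV hV hU halg

/-- The inverse of `alpha`. -/
noncomputable def beta : Γ(SymProd.fibPow f n, boxOpen f n V U) ⟶
    CommRingCat.of (TP Γ(S, V) Γ(X, U) n) :=
  Spec.preimage (liftP (n := n) hUV hV hU halg ≫
    (isAffineOpen_boxOpen (d := n) V U hUV hV hU).isoSpec.hom)

lemma specMap_beta :
    Spec.map (beta (n := n) hUV hV hU halg) = liftP (n := n) hUV hV hU halg ≫
      (isAffineOpen_boxOpen (d := n) V U hUV hV hU).isoSpec.hom :=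
  Spec.map_preimage _

lemma beta_alpha (y : Γ(SymProd.fibPow f n, boxOpen f n V U)) :
    alpha (n := n) hUV halg ((beta (n := n) hUV hV hU halg).hom y) = y := by
  have h1 : beta (n := n) hUV hV hU halg ≫ CommRingCat.ofHom (alpha (n := n) hUV halg) = 𝟙 _ := by
    apply Spec.map_injective
    rw [Spec.map_comp, specMap_beta, ← Category.assoc, specMap_alpha_liftP, Iso.inv_hom_id,
      Spec.map_id]
    rfl
  exact congrArg (fun φ => φ.hom y) h1

lemma alpha_beta (t : TP Γ(S, V) Γ(X, U) n) :
    (beta (n := n) hUV hV hU halg).hom (alpha (n := n) hUV halg t) = t := by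
  have h1 : (beta (n := n) hUV hV hU halg).hom.comp (alpha (n := n) hUV halg) =
      RingHom.id _ := by
    apply ringHom_ext_TP
    · have h2 : CommRingCat.ofHom (algebraMap Γ(S, V) (TP Γ(S, V) Γ(X, U) n)) ≫
          CommRingCat.ofHom (alpha (n := n) hUV halg) =
          (WidePullback.base (fun _ : Fin n => f)).appLE V (boxOpen f n V U)
            (boxOpen_le_base V U) := by
        ext a
        exact alpha_algebraMap hUV halg a
      have h3 : (CommRingCat.ofHom (algebraMap Γ(S, V) (TP Γ(S, V) Γ(X, U) n)) ≫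
          CommRingCat.ofHom (alpha (n := n) hUV halg)) ≫ beta (n := n) hUV hV hU halg =
          CommRingCat.ofHom (algebraMap Γ(S, V) (TP Γ(S, V) Γ(X, U) n)) := by
        apply Spec.map_injective
        rw [Spec.map_comp, specMap_beta, h2, Category.assoc,
          ← resLE_isoSpec_hom _ hV (isAffineOpen_boxOpen (d := n) V U hUV hV hU),
          ← Category.assoc, liftP_base, Category.assoc, Iso.inv_hom_id, Category.comp_id]
      ext a
      exact congrArg (fun φ => φ.hom a) h3
    · intro i
      have h2 : CommRingCat.ofHom (gT Γ(S, V) Γ(X, U) n i).toRingHom ≫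
          CommRingCat.ofHom (alpha (n := n) hUV halg) =
          (WidePullback.π (fun _ : Fin n => f) i).appLE U (boxOpen f n V U)
            (boxOpen_le_π V U i) := by
        ext b
        exact alpha_gT hUV halg i b
      have h3 : (CommRingCat.ofHom (gT Γ(S, V) Γ(X, U) n i).toRingHom ≫
          CommRingCat.ofHom (alpha (n := n) hUV halg)) ≫ beta (n := n) hUV hV hU halg =
          CommRingCat.ofHom (gT Γ(S, V) Γ(X, U) n i).toRingHom := by
        apply Spec.map_injective
        rw [Spec.map_comp, specMap_beta, h2, Category.assoc,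
          ← resLE_isoSpec_hom _ hU (isAffineOpen_boxOpen (d := n) V U hUV hV hU),
          ← Category.assoc, liftP_π, Category.assoc, Iso.inv_hom_id, Category.comp_id]
      ext b
      exact congrArg (fun φ => φ.hom b) h3
  exact congr($h1 t)

include hV hU in
theorem alpha_bijective : Function.Bijective (alpha (n := n) hUV halg) :=
  ⟨Function.LeftInverse.injective (alpha_beta hUV hV hU halg),
    Function.RightInverse.surjective (beta_alpha hUV hV hU halg)⟩

omit hUV [Algebra Γ(S, V) Γ(X, U)] in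
lemma boxOpen_le_perm (σ : Equiv.Perm (Fin n)) :
    boxOpen f n V U ≤ (SymProd.permHom f n σ) ⁻¹ᵁ boxOpen f n V U :=
  fun z hz => permHom_mem_boxOpen V U σ z hz

lemma alpha_perm (σ : Equiv.Perm (Fin n)) (t : TP Γ(S, V) Γ(X, U) n) :
    alpha (n := n) hUV halg (SymTen.perm Γ(S, V) Γ(X, U) n σ t) =
      ((SymProd.permHom f n σ⁻¹).appLE (boxOpen f n V U) (boxOpen f n V U)
        (boxOpen_le_perm σ⁻¹)).hom (alpha (n := n) hUV halg t) := by
  have h1 : (alpha (n := n) hUV halg).comp (SymTen.perm Γ(S, V) Γ(X, U) n σ).toRingHom =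
      ((SymProd.permHom f n σ⁻¹).appLE (boxOpen f n V U) (boxOpen f n V U)
        (boxOpen_le_perm σ⁻¹)).hom.comp (alpha (n := n) hUV halg) := by
    apply ringHom_ext_TP
    · ext a
      simp only [RingHom.comp_apply, AlgHom.toRingHom_eq_coe, RingHom.coe_coe, AlgHom.commutes]
      rw [alpha_algebraMap]
      have h2 := congrArg (fun φ => φ.hom a)
        (Scheme.Hom.appLE_comp_appLE (SymProd.permHom f n σ⁻¹)
          (WidePullback.base (fun _ : Fin n => f)) V (boxOpen f n V U) (boxOpen f n V U)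
          (boxOpen_le_base V U) (boxOpen_le_perm σ⁻¹))
      simp only [CommRingCat.hom_comp, RingHom.comp_apply] at h2
      rw [h2]
      exact congrArg (fun φ : Γ(S, V) ⟶ Γ(SymProd.fibPow f n, boxOpen f n V U) => φ.hom a)
        (appLE_congr_hom (SymProd.permHom_base f n σ⁻¹) _).symm
    · intro i
      ext b
      simp only [RingHom.comp_apply, AlgHom.toRingHom_eq_coe, RingHom.coe_coe]
      rw [perm_gT, alpha_gT, alpha_gT]
      have h2 := congrArg (fun φ => φ.hom b)
        (Scheme.Hom.appLE_comp_appLE (SymProd.permHom f n σ⁻¹)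
          (WidePullback.π (fun _ : Fin n => f) i) U (boxOpen f n V U) (boxOpen f n V U)
          (boxOpen_le_π V U i) (boxOpen_le_perm σ⁻¹))
      simp only [CommRingCat.hom_comp, RingHom.comp_apply] at h2
      rw [h2]
      exact congrArg (fun φ : Γ(X, U) ⟶ Γ(SymProd.fibPow f n, boxOpen f n V U) => φ.hom b)
        (appLE_congr_hom (SymProd.permHom_π f n σ⁻¹ i) _).symm
  exact congr($h1 t)

include hV hU in
/-- Symmetric tensors correspond to the invariant sections. -/
theorem alpha_mem_TS_iff (t : TP Γ(S, V) Γ(X, U) n) :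
    t ∈ SymTen.TS Γ(S, V) Γ(X, U) n ↔ ∀ σ : Equiv.Perm (Fin n),
      ((SymProd.permHom f n σ).appLE (boxOpen f n V U) (boxOpen f n V U)
        (boxOpen_le_perm σ)).hom (alpha (n := n) hUV halg t) = alpha (n := n) hUV halg t := by
  rw [SymTen.mem_TS_iff]
  constructor
  · intro h σ
    have h1 := alpha_perm hUV halg σ⁻¹ t
    rw [SymTen.perm_apply, h σ⁻¹] at h1
    simp only [inv_inv] at h1
    exact h1.symm
  · intro h σ
    rw [← SymTen.perm_apply]
    apply (alpha_bijective hUV hV hU halg).1
    rw [alpha_perm, h σ⁻¹]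

end Chart

end Groth.Agent.H68.FPT
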