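import Groth.Agent.H68.FlatIso
import Mathlib.AlgebraicGeometry.Morphisms.QuasiSeparated

set_option autoImplicit false
universe u
open CategoryTheory CategoryTheory.Limits AlgebraicGeometry MorphismProperty

namespace Groth.Agent.H68

lemma appLE_congr_hom {X Y : Scheme.{u}} {f g : X ⟶ Y} (e : f = g) (U : Y.Opens) (V : X.Opens)
    (h₁ : V ≤ f ⁻¹ᵁ U) (h₂ : V ≤ g ⁻¹ᵁ U) : f.appLE U V h₁ = g.appLE U V h₂ := by
  subst e; rfl

/-- Flat base change on global sections, phrased as: the comparison between two fibre products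
is an isomorphism. -/
theorem isIso_of_isPullback_of_appTop {X Z Y T P₁ P₂ : Scheme.{u}} [IsAffine Z] [IsAffine Y]
    [IsAffine T] [IsAffine P₁] [CompactSpace X] [QuasiSeparatedSpace X]
    (c : X ⟶ Z) (p : Z ⟶ Y) (h : T ⟶ Y) [Flat h] [IsIso c.appTop]
    {a₂ : P₂ ⟶ Z} {b₂ : P₂ ⟶ T} {a₁ : P₁ ⟶ X} {q : P₁ ⟶ P₂}
    (H₂ : IsPullback a₂ b₂ p h) (H₁ : IsPullback a₁ q c a₂) : IsIso q := by
  have H₁' : IsPullback a₁ (q ≫ b₂) (c ≫ p) h := H₁.paste_vert H₂
  have hP₂ : IsAffine P₂ := .of_isIso H₂.isoPullback.hom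
  rw [← isomorphisms.iff, HasAffineProperty.iff_of_isAffine (P := isomorphisms Scheme)]
  refine ⟨inferInstance, ?_⟩
  let σ₂ := pushoutSection H₂ (US := ⊤) (UT := ⊤) (UX := ⊤) (UY := ⊤) (by simp) (by simp) (by simp)
  let σ₁ := pushoutSection H₁' (US := ⊤) (UT := ⊤) (UX := ⊤) (UY := ⊤) (by simp) (by simp) (by simp)
  have hσ₂ : IsIso σ₂ := isIso_pushoutSection_of_isAffineOpen H₂ _ _ _ (isAffineOpen_top Y)
    (isAffineOpen_top T) (isAffineOpen_top Z)
  have hσ₁ : IsIso σ₁ := isIso_pushoutSection_of_isQuasiSeparated_of_flat_right H₁' _ _ _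
    (isAffineOpen_top Y) (isAffineOpen_top T) isCompact_univ isQuasiSeparated_univ
  have hc : IsIso (c.appLE ⊤ ⊤ (by simp)) := by
    have : c.appLE ⊤ ⊤ (by simp) = c.appTop := by
      simp [Scheme.Hom.appLE]
    rw [this]; infer_instance
  let θ := pushout.map (p.appLE ⊤ ⊤ (by simp)) (h.appLE ⊤ ⊤ (by simp))
    ((c ≫ p).appLE ⊤ ⊤ (by simp)) (h.appLE ⊤ ⊤ (by simp)) (c.appLE ⊤ ⊤ (by simp)) (𝟙 _) (𝟙 _)
    (by rw [Category.id_comp, Scheme.Hom.appLE_comp_appLE]) (by simp)
  have hθ : IsIso θ := by infer_instance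
  have hq : q.appTop = q.appLE ⊤ ⊤ le_rfl := by simp [Scheme.Hom.appLE]
  have key : σ₂ ≫ q.appTop = θ ≫ σ₁ := by
    apply pushout.hom_ext
    · simp only [σ₂, σ₁, θ, pushoutSection, pushout.inl_desc_assoc, pushout.inl_desc, Category.assoc]
      rw [hq, Scheme.Hom.appLE_comp_appLE, Scheme.Hom.appLE_comp_appLE]
      exact appLE_congr_hom H₁.w.symm _ _ _ _
    · simp only [σ₂, σ₁, θ, pushoutSection, pushout.inr_desc_assoc, pushout.inr_desc, Category.assoc]
      rw [hq, Scheme.Hom.appLE_comp_appLE, Category.id_comp]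
  have e : q.appTop = inv σ₂ ≫ θ ≫ σ₁ := by rw [IsIso.eq_inv_comp, key]
  rw [e]; infer_instance

section transportP
variable (P : MorphismProperty Scheme.{u}) [P.RespectsIso] [P.IsStableUnderBaseChange]

lemma prop_snd_comp {X Y Y' W : Scheme.{u}} (f : X ⟶ Y) (g : Y' ⟶ Y) (g' : W ⟶ Y')
    (h : P (pullback.snd f g)) : P (pullback.snd f (g' ≫ g)) := by
  have : pullback.snd f (g' ≫ g) =
      (pullbackLeftPullbackSndIso f g g').inv ≫ pullback.snd (pullback.snd f g) g' := by
    simp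
  rw [this, P.cancel_left_of_respectsIso]
  exact P.pullback_snd _ _ h

lemma prop_snd_of_comp {X Y Y' W : Scheme.{u}} (f : X ⟶ Y) (g : Y' ⟶ Y) (g' : W ⟶ Y')
    (h : P (pullback.snd f (g' ≫ g))) : P (pullback.snd (pullback.snd f g) g') := by
  have : pullback.snd (pullback.snd f g) g' =
      (pullbackLeftPullbackSndIso f g g').hom ≫ pullback.snd f (g' ≫ g) := by simp
  rw [this, P.cancel_left_of_respectsIso]
  exact h

lemma prop_snd_congr {X Y Y' : Scheme.{u}} (f : X ⟶ Y) {g₁ g₂ : Y' ⟶ Y} (e : g₁ = g₂)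
    (h : P (pullback.snd f g₁)) : P (pullback.snd f g₂) := by
  subst e; exact h

end transportP

/-- Affine target case. -/
theorem isAffine_of_flat_surjective {X Y Y' : Scheme.{u}} [IsAffine Y] (f : X ⟶ Y) (g : Y' ⟶ Y)
    [Flat g] [Surjective g] [QuasiCompact f] [QuasiSeparated f]
    (h : IsAffineHom (pullback.snd f g)) : IsAffine X := by
  have : CompactSpace X := (quasiCompact_iff_compactSpace f).1 inferInstance
  have : QuasiSeparatedSpace X := (quasiSeparated_iff_quasiSeparatedSpace f).1 inferInstance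
  let c := X.toSpecΓ
  let p : Spec Γ(X, ⊤) ⟶ Y := Spec.map f.appTop ≫ Y.isoSpec.inv
  have hcp : c ≫ p = f := by
    simp only [c, p]
    rw [← Scheme.toSpecΓ_naturality_assoc, Scheme.toSpecΓ_isoSpec_inv, Category.comp_id]
  let γ := pullback.fst p g
  have : QuasiCompact c := (quasiCompact_iff_compactSpace c).2 inferInstance
  suffices IsIso c from ⟨this⟩
  refine isIso_of_flat_surjective c γ ?_
  let 𝒰 := Y'.affineCover
  let 𝒱 := 𝒰.pullback₁ (pullback.snd p g)
  rw [← isomorphisms.iff, IsZariskiLocalAtTarget.iff_of_openCover (P := isomorphisms Scheme) 𝒱]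
  intro j
  rw [isomorphisms.iff]
  change IsIso (pullback.snd (pullback.snd c γ) (𝒱.f j))
  apply isIso_snd_of_comp
  have H₂ : IsPullback (𝒱.f j ≫ γ) (pullback.snd (pullback.snd p g) (𝒰.f j)) p (𝒰.f j ≫ g) :=
    (IsPullback.of_hasPullback (pullback.snd p g) (𝒰.f j)).paste_horiz
      (IsPullback.of_hasPullback p g)
  have H₁ := IsPullback.of_hasPullback c (𝒱.f j ≫ γ)
  have H₁' : IsPullback (pullback.fst c (𝒱.f j ≫ γ))
      (pullback.snd c (𝒱.f j ≫ γ) ≫ pullback.snd (pullback.snd p g) (𝒰.f j)) f (𝒰.f j ≫ g) :=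
    hcp ▸ H₁.paste_vert H₂
  have haff : IsAffineHom (pullback.snd f (𝒰.f j ≫ g)) := prop_snd_comp @IsAffineHom f g _ h
  have haff' : IsAffineHom
      (pullback.snd c (𝒱.f j ≫ γ) ≫ pullback.snd (pullback.snd p g) (𝒰.f j)) := by
    rw [← H₁'.isoPullback_hom_snd]
    infer_instance
  have : IsAffine (pullback c (𝒱.f j ≫ γ)) := isAffine_of_isAffineHom
    (pullback.snd c (𝒱.f j ≫ γ) ≫ pullback.snd (pullback.snd p g) (𝒰.f j))
  have : IsIso c.appTop := by rw [Scheme.toSpecΓ_appTop]; infer_instance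
  exact isIso_of_isPullback_of_appTop c p (𝒰.f j ≫ g) H₂ H₁

/-- A quasi-compact quasi-separated morphism whose base change along a flat surjective morphism
is affine is affine. -/
theorem isAffineHom_of_flat_surjective {X Y Y' : Scheme.{u}} (f : X ⟶ Y) (g : Y' ⟶ Y)
    [Flat g] [Surjective g] [QuasiCompact f] [QuasiSeparated f]
    (h : IsAffineHom (pullback.snd f g)) : IsAffineHom f := by
  rw [IsZariskiLocalAtTarget.iff_of_openCover (P := @IsAffineHom) Y.affineCover]
  intro i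
  change IsAffineHom (pullback.snd f (Y.affineCover.f i))
  have : IsAffine (pullback f (Y.affineCover.f i)) := by
    refine isAffine_of_flat_surjective (pullback.snd f (Y.affineCover.f i))
      (pullback.snd g (Y.affineCover.f i)) ?_
    apply prop_snd_of_comp @IsAffineHom
    refine prop_snd_congr @IsAffineHom f (pullback.condition (f := g) (g := Y.affineCover.f i)) ?_
    exact prop_snd_comp @IsAffineHom f g _ h
  exact (HasAffineProperty.iff_of_isAffine (P := @IsAffineHom)).2 this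

end Groth.Agent.H68
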