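import Groth.Agent.H68.FlatDimVal
import Groth.Agent.H11.FtDimBC

/-!
# Flat local algebras of essentially finite type over a local domain: the special fibre

Identification of the special fibre of `V ⊗[A] C` with the base change of the special fibre of
`C`, and the local dimension of the closed fibre of `C` at primes where `C` is flat.
-/

set_option autoImplicit false
set_option linter.style.haveILetI false

open IsLocalRing TensorProduct

namespace Groth.Agent.H68.FD

universe u

section ff

attribute [local instance] Algebra.TensorProduct.rightAlgebra in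
/-- Primes of `S` lift to `K ⊗[k] S`. -/
theorem exists_prime_comap_includeRight (k K S : Type u) [Field k] [Field K] [Algebra k K]
    [CommRing S] [Algebra k S] (q : Ideal S) [q.IsPrime] :
    ∃ Q : Ideal (K ⊗[k] S), Q.IsPrime ∧
      Q.comap (Algebra.TensorProduct.includeRight.toRingHom : S →+* K ⊗[k] S) = q := by
  let e : (S ⊗[k] K) ≃ₗ[S] (K ⊗[k] S) :=
    { (TensorProduct.comm k S K) with
      map_smul' := by
        intro s x
        induction x with
        | zero => simp
        | tmul a c =>
          simp only [AddHom.toFun_eq_coe, LinearMap.coe_toAddHom, LinearEquiv.coe_coe,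
            RingHom.id_apply, TensorProduct.smul_tmul', smul_eq_mul, TensorProduct.comm_tmul]
          rw [Algebra.smul_def]
          change c ⊗ₜ[k] (s * a) = ((1 : K) ⊗ₜ[k] s) * (c ⊗ₜ[k] a)
          rw [Algebra.TensorProduct.tmul_mul_tmul, one_mul]
        | add x y hx hy =>
          simp only [AddHom.toFun_eq_coe, LinearMap.coe_toAddHom, LinearEquiv.coe_coe,
            RingHom.id_apply] at hx hy ⊢
          rw [smul_add, map_add, hx, hy, map_add, smul_add] }
  haveI : Module.FaithfullyFlat S (K ⊗[k] S) := Module.FaithfullyFlat.of_linearEquiv _ _ e.symm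
  obtain ⟨Q, hQ, hover⟩ := Ideal.exists_isPrime_liesOver_of_faithfullyFlat (B := K ⊗[k] S) q
  exact ⟨Q, hQ, hover.over.symm⟩

/-- Quotients by the preimage of an ideal under a surjection. -/
theorem ringKrullDim_quotient_comap {R R' : Type*} [CommRing R] [CommRing R'] (f : R →+* R')
    (hf : Function.Surjective f) (J : Ideal R') :
    ringKrullDim (R ⧸ J.comap f) = ringKrullDim (R' ⧸ J) := by
  have h : RingHom.ker ((Ideal.Quotient.mk J).comp f) = J.comap f := by
    rw [← RingHom.comap_ker, Ideal.mk_ker]
  have hs : Function.Surjective ((Ideal.Quotient.mk J).comp f) :=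
    Ideal.Quotient.mk_surjective.comp hf
  exact ringKrullDim_eq_of_ringEquiv
    ((Ideal.quotEquivOfEq h.symm).trans (RingHom.quotientKerEquivOfSurjective hs))

end ff

section phi

variable (A C V : Type u) [CommRing A] [IsLocalRing A] [CommRing C] [Algebra A C] [CommRing V]
  [IsLocalRing V] [Algebra A V] [IsLocalHom (algebraMap A V)]

/-- The reduction map from `V ⊗[A] C` onto the base change of the closed fibre of `C`. -/
noncomputable def phi :
    V ⊗[A] C →+* ResidueField V ⊗[ResidueField A] (ResidueField A ⊗[A] C) :=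
  ((Algebra.TensorProduct.cancelBaseChange A (ResidueField A) (ResidueField V)
      (ResidueField V) C).symm : ResidueField V ⊗[A] C →+* _).comp
    (Algebra.TensorProduct.map (IsScalarTower.toAlgHom A V (ResidueField V))
      (AlgHom.id A C)).toRingHom

theorem phi_tmul (v : V) (c : C) :
    phi A C V (v ⊗ₜ[A] c) = residue V v ⊗ₜ[ResidueField A] ((1 : ResidueField A) ⊗ₜ[A] c) := by
  simp [phi]

theorem phi_surjective : Function.Surjective (phi A C V) := by
  refine (AlgEquiv.surjective (Algebra.TensorProduct.cancelBaseChange A (ResidueField A)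
    (ResidueField V) (ResidueField V) C).symm).comp ?_
  exact Algebra.TensorProduct.map_surjective _ _ (residue_surjective) Function.surjective_id

theorem ker_phi :
    RingHom.ker (phi A C V) = (maximalIdeal V).map (algebraMap V (V ⊗[A] C)) := by
  have h1 : RingHom.ker (phi A C V) =
      RingHom.ker (Algebra.TensorProduct.map (IsScalarTower.toAlgHom A V (ResidueField V))
        (AlgHom.id A C)) := by
    ext x
    simp only [phi, RingHom.mem_ker, RingHom.comp_apply]
    exact (map_eq_zero_iff _ (AlgEquiv.injective _))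
  rw [h1, Algebra.TensorProduct.rTensor_ker _ (residue_surjective)]
  have h2 : RingHom.ker (IsScalarTower.toAlgHom A V (ResidueField V)) = maximalIdeal V :=
    ker_residue
  rw [h2]
  rfl

end phi

section main

variable {A C B : Type u} [CommRing A] [IsDomain A] [IsLocalRing A] [CommRing C] [IsDomain C]
  [Algebra A C] [Algebra.FiniteType A C]
  [CommRing B] [Algebra A B] [Algebra C B] [IsScalarTower A C B] [Module.Flat A B]

/-- **Local dimension of the closed fibre** of a finite type `A`-domain `C` at a prime `q̄` of the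
closed fibre such that the localization `B` of `C` (at a submonoid `M` avoiding `q̄`) is flat:
it equals `trdeg_A C`. -/
theorem localDim_fibre_eq (V L : Type u) [CommRing V] [IsDomain V] [ValuationRing V] [Algebra A V]
    [IsLocalHom (algebraMap A V)] [Algebra.IsAlgebraic A V] [Field L] [Algebra A L] [Algebra C L]
    [Algebra V L] [IsScalarTower A C L] [IsScalarTower A V L] [IsFractionRing C L]
    (M : Submonoid C) [IsLocalization M B]
    (hAC : Function.Injective (algebraMap A C)) (hAV : Function.Injective (algebraMap A V))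
    (hVL : Function.Injective (algebraMap V L))
    (hden : ∀ v : V, ∃ a a' : A, a ≠ 0 ∧ a • v = algebraMap A V a')
    (qbar : Ideal (ResidueField A ⊗[A] C)) [qbar.IsPrime]
    (hq : ∀ s ∈ M, (1 : ResidueField A) ⊗ₜ[A] s ∉ qbar) :
    ∃ n : ℕ, Algebra.trdeg A C = n ∧
      FlatMor.localDim (PrimeSpectrum (ResidueField A ⊗[A] C)) ⟨qbar, inferInstance⟩ = n := by
  classical
  have hCL : Function.Injective (algebraMap C L) := IsFractionRing.injective C L
  obtain ⟨n, hn⟩ : ∃ n : ℕ, Algebra.trdeg A C = n :=
    Cardinal.lt_aleph0.mp (trdeg_lt_aleph0_of_finiteType (R := A) (S := C))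
  refine ⟨n, hn, ?_⟩
  obtain ⟨Q₁, hQ₁prime, hQ₁q⟩ :=
    exists_prime_comap_includeRight (ResidueField A) (ResidueField V) (ResidueField A ⊗[A] C) qbar
  rw [← Groth.Agent.H11.FtDimBC.localDim_baseChange (ResidueField A) (ResidueField V)
    (ResidueField A ⊗[A] C) qbar Q₁ hQ₁q]
  have key : ∀ Qb ∈ minimalPrimes (ResidueField V ⊗[ResidueField A] (ResidueField A ⊗[A] C)),
      Qb ≤ Q₁ →
      ringKrullDim ((ResidueField V ⊗[ResidueField A] (ResidueField A ⊗[A] C)) ⧸ Qb) = n := by
    intro Qb hQb hle
    haveI : Qb.IsPrime := hQb.1.1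
    set Q := Qb.comap (phi A C V) with hQdef
    haveI : Q.IsPrime := Ideal.comap_isPrime _ _
    have hkerQ : RingHom.ker (phi A C V) ≤ Q := by
      intro x hx
      rw [hQdef, Ideal.mem_comap, RingHom.mem_ker.mp hx]
      exact Qb.zero_mem
    have hker : (maximalIdeal V).map (algebraMap V (V ⊗[A] C)) ≤ Q := by
      rw [← ker_phi]; exact hkerQ
    have hmin : ∀ Q' : Ideal (V ⊗[A] C), Q'.IsPrime →
        (maximalIdeal V).map (algebraMap V (V ⊗[A] C)) ≤ Q' → Q' ≤ Q → Q' = Q := by
      intro Q' hQ' hI hle'
      have hkerQ' : RingHom.ker (phi A C V) ≤ Q' := by rw [ker_phi]; exact hI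
      have hprime : (Q'.map (phi A C V)).IsPrime :=
        Ideal.map_isPrime_of_surjective (phi_surjective A C V) hkerQ'
      have hle2 : Q'.map (phi A C V) ≤ Qb := Ideal.map_le_iff_le_comap.mpr hle'
      have heq : Q'.map (phi A C V) = Qb := le_antisymm hle2 (hQb.2 ⟨hprime, bot_le⟩ hle2)
      have h3 := Ideal.comap_map_of_surjective (phi A C V) (phi_surjective A C V) Q'
      rw [heq, ← RingHom.ker_eq_comap_bot, sup_eq_left.mpr hkerQ'] at h3
      exact h3.symm
    have hdisj : ∀ s ∈ M, (1 : V) ⊗ₜ[A] s ∉ Q := by
      intro s hs hmem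
      have h1 : phi A C V ((1 : V) ⊗ₜ[A] s) ∈ Qb := hmem
      rw [phi_tmul, map_one] at h1
      have h2 := hle h1
      have h3 : (1 : ResidueField A) ⊗ₜ[A] s ∈ qbar := by rw [← hQ₁q]; exact h2
      exact hq s hs h3
    have hTQ := ker_psi_le (L := L) M (B := B) hden hCL hAV Q hdisj
    obtain ⟨n', hn'1, hn'2⟩ := exists_trdeg_eq_dim (L := L) hAC hAV hVL Q hTQ hker hmin
    have hnn : n' = n := by exact_mod_cast (hn'1.symm.trans hn)
    rw [← ringKrullDim_quotient_comap (phi A C V) (phi_surjective A C V) Qb, hn'2, hnn]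
  apply le_antisymm
  · exact Groth.Agent.H11.FtDim.localDim_le (k := ResidueField V) _ _
      (fun Qb hQb hle => (key Qb hQb hle).le)
  · obtain ⟨Qb, hQb, hle⟩ := Ideal.exists_minimalPrimes_le (bot_le : ⊥ ≤ Q₁)
    haveI : Qb.IsPrime := hQb.1.1
    rw [← key Qb hQb hle]
    exact Groth.Agent.H11.FtDim.localDim_ge (k := ResidueField V) ⟨Q₁, hQ₁prime⟩ Qb hle

end main

end Groth.Agent.H68.FD
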