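import Groth.Agent.H68.PruferLocal

/-!
# The dimension function `δ(P) = trdeg κ(P)/κ(p) - ht p` over a Prüfer domain
-/

set_option autoImplicit false

open IsLocalRing TensorProduct

namespace Groth.Agent.H68.Pruf

universe u

/-- Quotients of a localization by a prime are algebraic over the quotient of the base. -/
theorem isAlgebraic_quotient_of_isLocalization {R A : Type*} [CommRing R] [CommRing A]
    [Algebra R A] (M : Submonoid R) [IsLocalization M A] (I : Ideal A) [I.IsPrime]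
    (p : Ideal R) [I.LiesOver p] : Algebra.IsAlgebraic (R ⧸ p) (A ⧸ I) := by
  have hp : p.IsPrime := Ideal.isPrime_of_liesOver I p
  have hnt : Nontrivial (R ⧸ p) := Ideal.Quotient.nontrivial_iff.mpr hp.ne_top
  refine ⟨fun x => ?_⟩
  obtain ⟨a, rfl⟩ := Ideal.Quotient.mk_surjective x
  obtain ⟨⟨r, m⟩, h⟩ := IsLocalization.surj M a
  refine ⟨Polynomial.C (Ideal.Quotient.mk p m.1) * Polynomial.X -
    Polynomial.C (Ideal.Quotient.mk p r), fun eq => ?_, ?_⟩
  · have h1 : Ideal.Quotient.mk p m.1 = 0 := by simpa using congr(Polynomial.coeff $eq 1)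
    have h2 : (m : R) ∈ p := Ideal.Quotient.eq_zero_iff_mem.mp h1
    have h3 : algebraMap R A m ∈ I := (Ideal.mem_of_liesOver I p _).mp h2
    exact Ideal.IsPrime.ne_top ‹_› (Ideal.eq_top_of_isUnit_mem _ h3 (IsLocalization.map_units A m))
  · simp only [map_sub, map_mul, Polynomial.aeval_C, Polynomial.aeval_X,
      Ideal.Quotient.algebraMap_mk_of_liesOver]
    rw [← map_mul, ← map_sub, Ideal.Quotient.eq_zero_iff_mem]
    have : algebraMap R A m * a - algebraMap R A r = 0 := by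
      rw [mul_comm]; exact sub_eq_zero.mpr h
    rw [this]
    exact I.zero_mem

/-- Transcendence degrees of residue extensions are invariant under localization. -/
theorem trdeg_eq_of_isLocalization {R S V B : Type u} [CommRing R] [CommRing S] [CommRing V]
    [CommRing B] [Algebra R S] [Algebra R V] [Algebra S B] [Algebra V B] [Algebra R B]
    [IsScalarTower R S B] [IsScalarTower R V B] (M : Submonoid R) [IsLocalization M V]
    (N : Submonoid S) [IsLocalization N B] (P' : Ideal B) [P'.IsPrime] (p : Ideal R)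
    (P : Ideal S) (𝔭 : Ideal V) [P.LiesOver p] [𝔭.LiesOver p] [P'.LiesOver P] [P'.LiesOver 𝔭] :
    Algebra.trdeg (R ⧸ p) (S ⧸ P) = Algebra.trdeg (V ⧸ 𝔭) (B ⧸ P') := by
  have hP'p : P'.LiesOver p := Ideal.LiesOver.trans P' P p
  have hPprime : P.IsPrime := Ideal.isPrime_of_liesOver P' P
  have h𝔭prime : 𝔭.IsPrime := Ideal.isPrime_of_liesOver P' 𝔭
  have hpprime : p.IsPrime := Ideal.isPrime_of_liesOver P p
  have hdom : IsDomain (B ⧸ P') := Ideal.Quotient.isDomain P'
  have hnt : Nontrivial (R ⧸ p) := Ideal.Quotient.nontrivial_iff.mpr hpprime.ne_top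
  have hRV : Algebra.IsAlgebraic (R ⧸ p) (V ⧸ 𝔭) := isAlgebraic_quotient_of_isLocalization M 𝔭 p
  have hSB : Algebra.IsAlgebraic (S ⧸ P) (B ⧸ P') := isAlgebraic_quotient_of_isLocalization N P' P
  have t1 : IsScalarTower (R ⧸ p) (V ⧸ 𝔭) (B ⧸ P') := by
    refine IsScalarTower.of_algebraMap_eq (fun x => ?_)
    obtain ⟨a, rfl⟩ := Ideal.Quotient.mk_surjective x
    simp only [Ideal.Quotient.algebraMap_mk_of_liesOver]
    rw [← IsScalarTower.algebraMap_apply]
  have t2 : IsScalarTower (R ⧸ p) (S ⧸ P) (B ⧸ P') := by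
    refine IsScalarTower.of_algebraMap_eq (fun x => ?_)
    obtain ⟨a, rfl⟩ := Ideal.Quotient.mk_surjective x
    simp only [Ideal.Quotient.algebraMap_mk_of_liesOver]
    rw [← IsScalarTower.algebraMap_apply]
  have e1 := trdeg_add_eq (R ⧸ p) (V ⧸ 𝔭) (A := B ⧸ P')
  have e2 := trdeg_add_eq (R ⧸ p) (S ⧸ P) (A := B ⧸ P')
  rw [trdeg_eq_zero (R := R ⧸ p) (A := V ⧸ 𝔭), zero_add] at e1
  rw [trdeg_eq_zero (R := S ⧸ P) (A := B ⧸ P'), add_zero] at e2
  rw [e1, e2]


attribute [local instance] Algebra.TensorProduct.rightAlgebra in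
/-- Over a Prüfer domain `R` of finite dimension, for primes `P < Q` of a finite type algebra,
`δ(Q) < δ(P)`, and if `δ(Q) + 2 ≤ δ(P)` there is a prime strictly between (natural number form). -/
theorem main {R S : Type u} [CommRing R] [IsDomain R]
    (hR : ∀ (p : Ideal R) [p.IsPrime], ValuationRing (Localization.AtPrime p))
    (hdim : ringKrullDim R < ⊤) [CommRing S] [Algebra R S] [Algebra.FiniteType R S]
    (P Q : Ideal S) [P.IsPrime] [Q.IsPrime] (hPQ : P < Q) :
    ∃ n t a b : ℕ, Algebra.trdeg (R ⧸ P.under R) (S ⧸ P) = n ∧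
      Algebra.trdeg (R ⧸ Q.under R) (S ⧸ Q) = t ∧ (P.under R).height = a ∧
      (Q.under R).height = b ∧ t + a < n + b ∧
      (t + a + 2 ≤ n + b → ∃ Q' : Ideal S, Q'.IsPrime ∧ P < Q' ∧ Q' < Q) := by
  classical
  have hfinht : ∀ (I : Ideal R) [I.IsPrime], ∃ a : ℕ, I.height = a := by
    intro I _
    have h1 : (I.height : WithBot ℕ∞) ≤ ringKrullDim R := Ideal.height_le_ringKrullDim_of_isPrime
    have h2 : I.height ≠ ⊤ := by
      intro h
      rw [h] at h1
      exact absurd (lt_of_le_of_lt h1 hdim) (lt_irrefl _)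
    obtain ⟨a, ha⟩ := ENat.ne_top_iff_exists.mp h2
    exact ⟨a, ha.symm⟩
  set q : Ideal R := Q.under R with hq
  have hqprime : q.IsPrime := inferInstance
  let V := Localization.AtPrime q
  have hdomV : IsDomain V := IsLocalization.isDomain_localization q.primeCompl_le_nonZeroDivisors
  have hvalV : ValuationRing V := hR q
  let B' := V ⊗[R] S
  let MB := Algebra.algebraMapSubmonoid S q.primeCompl
  have hloc : IsLocalization MB B' := IsLocalization.tensorRight _ q.primeCompl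
  have hFT : Algebra.FiniteType V B' := inferInstance
  have hdisj : ∀ 𝔓 : Ideal S, 𝔓 ≤ Q → Disjoint (MB : Set S) (𝔓 : Set S) := by
    intro 𝔓 h𝔓
    rw [Set.disjoint_left]
    rintro _ ⟨r, hr, rfl⟩ hrq
    exact hr (h𝔓 hrq)
  have hunder : ∀ 𝔓 : Ideal S, 𝔓.IsPrime → 𝔓 ≤ Q → (𝔓.map (algebraMap S B')).under S = 𝔓 :=
    fun 𝔓 h𝔓p h𝔓 => IsLocalization.under_map_of_isPrime_disjoint MB B' h𝔓p (hdisj 𝔓 h𝔓)
  have hprime : ∀ 𝔓 : Ideal S, 𝔓.IsPrime → 𝔓 ≤ Q → (𝔓.map (algebraMap S B')).IsPrime :=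
    fun 𝔓 h𝔓p h𝔓 => IsLocalization.isPrime_of_isPrime_disjoint MB B' 𝔓 h𝔓p (hdisj 𝔓 h𝔓)
  have hunderV : ∀ 𝔓 : Ideal S, 𝔓.IsPrime → 𝔓 ≤ Q →
      (𝔓.map (algebraMap S B')).under V = (𝔓.under R).map (algebraMap R V) := by
    intro 𝔓 h𝔓p h𝔓
    rw [← IsLocalization.map_under q.primeCompl V ((𝔓.map (algebraMap S B')).under V),
      Ideal.under_under, ← Ideal.under_under (B := S), hunder 𝔓 h𝔓p h𝔓]
  have hheight : ∀ 𝔓 : Ideal S, 𝔓.IsPrime → 𝔓 ≤ Q →
      ((𝔓.map (algebraMap S B')).under V).height = (𝔓.under R).height := by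
    intro 𝔓 h𝔓p h𝔓
    rw [hunderV 𝔓 h𝔓p h𝔓]
    refine IsLocalization.height_map_of_disjoint q.primeCompl (𝔓.under R) ?_
    rw [Set.disjoint_left]
    intro r hr hr'
    exact hr (Ideal.comap_mono h𝔓 hr')
  have htr : ∀ 𝔓 : Ideal S, 𝔓.IsPrime → 𝔓 ≤ Q →
      ∀ [hp' : (𝔓.map (algebraMap S B')).IsPrime],
      Algebra.trdeg (R ⧸ 𝔓.under R) (S ⧸ 𝔓) =
        Algebra.trdeg (V ⧸ (𝔓.map (algebraMap S B')).under V) (B' ⧸ 𝔓.map (algebraMap S B')) := by
    intro 𝔓 h𝔓p h𝔓 hp'
    have l1 : (𝔓.map (algebraMap S B')).LiesOver 𝔓 := ⟨(hunder 𝔓 h𝔓p h𝔓).symm⟩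
    have l2 : ((𝔓.map (algebraMap S B')).under V).LiesOver (𝔓.under R) := by
      refine ⟨?_⟩
      rw [Ideal.under_under]
      conv_rhs => rw [← Ideal.under_under (B := S), hunder 𝔓 h𝔓p h𝔓]
    exact trdeg_eq_of_isLocalization q.primeCompl MB (𝔓.map (algebraMap S B')) (𝔓.under R) 𝔓
      ((𝔓.map (algebraMap S B')).under V)
  have hP' := hprime P inferInstance hPQ.le
  have hQ' := hprime Q inferInstance le_rfl
  obtain ⟨a, ha⟩ := hfinht (P.under R)
  obtain ⟨b, hb⟩ := hfinht (Q.under R)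
  have hqmax : (Q.map (algebraMap S B')).under V = maximalIdeal V := by
    rw [hunderV Q inferInstance le_rfl]
    exact Localization.AtPrime.map_eq_maximalIdeal
  have hP'Q' : P.map (algebraMap S B') < Q.map (algebraMap S B') := by
    refine lt_of_le_of_ne (Ideal.map_mono hPQ.le) ?_
    intro h
    apply hPQ.ne
    rw [← hunder P inferInstance hPQ.le, ← hunder Q inferInstance le_rfl, h]
  obtain ⟨n, t, hn, ht, hlt, hbetween⟩ := local_main ((P.map (algebraMap S B')).under V)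
    ((Q.map (algebraMap S B')).under V) hqmax (P.map (algebraMap S B')) (Q.map (algebraMap S B'))
    hP'Q' ((hheight P inferInstance hPQ.le).trans ha) ((hheight Q inferInstance le_rfl).trans hb)
  refine ⟨n, t, a, b, (htr P inferInstance hPQ.le).trans hn, (htr Q inferInstance le_rfl).trans ht,
    ha, hb, hlt, ?_⟩
  intro hge
  obtain ⟨Q'', hQ''prime, h1, h2⟩ := hbetween hge
  refine ⟨Q''.under S, inferInstance, ?_, ?_⟩
  · have hle : P ≤ Q''.under S := by
      rw [← hunder P inferInstance hPQ.le]; exact Ideal.comap_mono h1.le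
    refine lt_of_le_of_ne hle ?_
    intro h
    apply h1.ne
    rw [h, IsLocalization.map_under MB B' Q'']
  · have hle : Q''.under S ≤ Q := by
      rw [← hunder Q inferInstance le_rfl]; exact Ideal.comap_mono h2.le
    refine lt_of_le_of_ne hle ?_
    intro h
    apply h2.ne
    rw [← h, IsLocalization.map_under MB B' Q'']

end Groth.Agent.H68.Pruf
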