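import Groth.Agent.H68.SpecFibValMain

/-!
# Quasi-sections through closed points of fibres: finitely generated extensions of domains
-/

set_option autoImplicit false

open IsLocalRing

namespace Groth.Agent.H68.SF

universe u

theorem nonunits_comap {K L : Type*} [Field K] [Field L] (W : ValuationSubring L) (f : K →+* L)
    (x : K) : x ∈ (W.comap f).nonunits ↔ f x ∈ W.nonunits := by
  rw [ValuationSubring.mem_nonunits_iff_or, ValuationSubring.mem_nonunits_iff_or,
    ValuationSubring.mem_comap, map_inv₀, map_eq_zero]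

theorem exists_valuationSubring_dominating {B : Type u} [CommRing B] [IsDomain B] (q' : Ideal B)
    [q'.IsPrime] :
    ∃ W : ValuationSubring (FractionRing B), (∀ b, algebraMap B (FractionRing B) b ∈ W) ∧
      ∀ b, algebraMap B (FractionRing B) b ∈ W.nonunits ↔ b ∈ q' := by
  let L := FractionRing B
  let R := Localization.AtPrime q'
  let f : R →+* L := IsLocalization.lift (M := q'.primeCompl) (g := algebraMap B L)
    (fun y => IsUnit.mk0 _ (by
      have : (y : B) ≠ 0 := fun h => y.2 (h ▸ q'.zero_mem)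
      exact (map_ne_zero_iff _ (IsFractionRing.injective B L)).mpr this))
  have hf : ∀ b, f (algebraMap B R b) = algebraMap B L b := fun b => IsLocalization.lift_eq _ b
  obtain ⟨W, h, hloc⟩ := IsLocalRing.exists_factor_valuationRing f
  have hW : ∀ b, algebraMap B L b ∈ W := fun b => hf b ▸ h _
  refine ⟨W, hW, fun b => ?_⟩
  have h1 : algebraMap B L b ∈ W.nonunits ↔ ¬ IsUnit (⟨algebraMap B L b, hW b⟩ : W) := by
    have := ValuationSubring.coe_mem_nonunits_iff (A := W) (a := (⟨algebraMap B L b, hW b⟩ : W))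
    rw [mem_maximalIdeal, mem_nonunits_iff] at this
    exact this
  have hval : ∀ x : R, (((f.codRestrict W.toSubring h) x : W.toSubring) : L) = f x := fun _ => rfl
  have h2 : IsUnit (⟨algebraMap B L b, hW b⟩ : W) ↔ IsUnit (algebraMap B R b) := by
    have heq : (f.codRestrict W.toSubring h) (algebraMap B R b) =
        (⟨algebraMap B L b, hW b⟩ : W.toSubring) := Subtype.ext ((hval _).trans (hf b))
    constructor
    · intro hu
      have : IsUnit ((f.codRestrict W.toSubring h) (algebraMap B R b)) := by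
        rw [heq]; exact hu
      exact hloc.map_nonunit _ this
    · intro hu
      have := hu.map (f.codRestrict W.toSubring h)
      rw [heq] at this
      exact this
  rw [h1, h2, IsLocalization.AtPrime.isUnit_to_map_iff R q' b]
  simp [Ideal.primeCompl]


theorem exists_prime_of_domain {A B : Type u} [CommRing A] [IsDomain A] [CommRing B] [IsDomain B]
    [Algebra A B] [Algebra.FiniteType A B] (hinj : Function.Injective (algebraMap A B))
    (q' : Ideal B) [q'.IsPrime] (hp' : q'.comap (algebraMap A B) ≠ ⊥)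
    (hmax : ∀ q'' : Ideal B, q''.IsPrime → q' ≤ q'' →
      q''.comap (algebraMap A B) = q'.comap (algebraMap A B) → q'' = q')
    (g : B) (hg : g ≠ 0) :
    ∃ q₁ : Ideal B, q₁.IsPrime ∧ q₁ ≤ q' ∧ q₁.comap (algebraMap A B) = ⊥ ∧ g ∉ q₁ ∧
      Algebra.IsAlgebraic A (B ⧸ q₁) := by
  classical
  let L := FractionRing B
  let K := FractionRing A
  have hinjAL : Function.Injective (algebraMap A L) := by
    rw [IsScalarTower.algebraMap_eq A B L]
    exact (IsFractionRing.injective B L).comp hinj
  have : FaithfulSMul A L := (faithfulSMul_iff_algebraMap_injective A L).mpr hinjAL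
  let algKL : Algebra K L := FractionRing.liftAlgebra A L
  obtain ⟨W, hW, hWq'⟩ := exists_valuationSubring_dominating q'
  let Vs : ValuationSubring K := W.comap (algebraMap K L)
  let φV : Vs →+* L := (algebraMap K L).comp Vs.subtype
  let algVL : Algebra Vs L := φV.toAlgebra
  have hφV : ∀ v : Vs, algebraMap Vs L v = algebraMap K L (v : K) := fun _ => rfl
  obtain ⟨s, hs⟩ := (Algebra.FiniteType.out : (⊤ : Subalgebra A B).FG)
  let T : Finset L := s.image (algebraMap B L)
  let BV : Subalgebra Vs L := Algebra.adjoin Vs (T : Set L)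
  have hFT : Algebra.FiniteType Vs BV :=
    (Subalgebra.fg_iff_finiteType BV).mp (Subalgebra.fg_adjoin_finset T)
  let Wsub : Subalgebra Vs L :=
    { W.toSubring with
      algebraMap_mem' := fun v => v.2 }
  have hBVW : BV ≤ Wsub := Algebra.adjoin_le (by
    intro x hx
    obtain ⟨b, -, rfl⟩ := Finset.mem_image.mp (Finset.mem_coe.mp hx)
    exact hW b)
  have hALK : ∀ a : A, algebraMap K L (algebraMap A K a) = algebraMap B L (algebraMap A B a) :=
    fun a => by
      rw [← IsScalarTower.algebraMap_apply A K L, ← IsScalarTower.algebraMap_apply A B L]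
  have hAV : ∀ a : A, algebraMap A K a ∈ Vs := fun a => by
    change algebraMap K L (algebraMap A K a) ∈ W
    rw [hALK]; exact hW _
  have hBBV : ∀ b : B, algebraMap B L b ∈ BV := by
    intro b
    have hb : b ∈ Algebra.adjoin A (s : Set B) := hs ▸ Algebra.mem_top
    induction hb using Algebra.adjoin_induction with
    | mem x hx => exact Algebra.subset_adjoin (Finset.mem_coe.mpr (Finset.mem_image_of_mem _ hx))
    | algebraMap a =>
      have : algebraMap B L (algebraMap A B a) = algebraMap Vs L ⟨algebraMap A K a, hAV a⟩ := by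
        rw [hφV, hALK]
      rw [this]; exact BV.algebraMap_mem _
    | add x y _ _ hx hy => rw [map_add]; exact BV.add_mem hx hy
    | mul x y _ _ hx hy => rw [map_mul]; exact BV.mul_mem hx hy
  let ι : B →+* BV := (algebraMap B L).codRestrict BV hBBV
  have hι : ∀ b, ((ι b : BV) : L) = algebraMap B L b := fun _ => rfl
  have hιinj : Function.Injective ι := fun x y h =>
    IsFractionRing.injective B L (by rw [← hι, ← hι, h])
  let j : BV →+* W := (BV.val : BV →+* L).codRestrict W (fun x => hBVW x.2)
  have hj : ∀ x : BV, ((j x : W) : L) = x := fun _ => rfl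
  let I₀ : Ideal BV := (maximalIdeal W).comap j
  have hI₀ : I₀ ≠ ⊤ := (Ideal.comap_isPrime j (maximalIdeal W)).ne_top
  obtain ⟨Q, hQmax, hI₀Q⟩ := Ideal.exists_le_maximal I₀ hI₀
  have hmemI₀ : ∀ x : BV, (x : L) ∈ W.nonunits → x ∈ Q := by
    intro x hx
    apply hI₀Q
    change j x ∈ maximalIdeal W
    rw [← ValuationSubring.coe_mem_nonunits_iff]
    exact hx
  -- `𝔪_V` maps into `Q`
  have hmV : ∀ v : Vs, v ∈ maximalIdeal Vs → algebraMap Vs BV v ∈ Q := by
    intro v hv
    apply hmemI₀
    change algebraMap K L (v : K) ∈ W.nonunits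
    rw [← nonunits_comap, ValuationSubring.coe_mem_nonunits_iff]
    exact hv
  have hQV : Q.comap (algebraMap Vs BV) = maximalIdeal Vs := by
    have hle : maximalIdeal Vs ≤ Q.comap (algebraMap Vs BV) := fun v hv => hmV v hv
    exact ((maximalIdeal.isMaximal Vs).eq_of_le (Ideal.comap_ne_top _ hQmax.ne_top) hle).symm
  have hq'Q : ∀ b ∈ q', ι b ∈ Q := fun b hb => hmemI₀ _ ((hWq' b).mpr hb)
  -- the element of `V` attached to `a : A`
  have hAmem : ∀ a : A, (⟨algebraMap A K a, hAV a⟩ : Vs) ∈ maximalIdeal Vs ↔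
      algebraMap A B a ∈ q' := by
    intro a
    rw [← hWq', ← hALK, ← nonunits_comap, ← ValuationSubring.coe_mem_nonunits_iff]
  have hιA : ∀ a : A, ι (algebraMap A B a) = algebraMap Vs BV ⟨algebraMap A K a, hAV a⟩ := by
    intro a
    apply Subtype.ext
    rw [hι, ← hALK]; rfl
  have hVne : maximalIdeal Vs ≠ ⊥ := by
    obtain ⟨a, ha, ha0⟩ := Submodule.exists_mem_ne_zero_of_ne_bot hp'
    intro hbot
    have h1 : (⟨algebraMap A K a, hAV a⟩ : Vs) ∈ maximalIdeal Vs := (hAmem a).mpr ha
    rw [hbot, Ideal.mem_bot] at h1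
    have h2 := congrArg Subtype.val h1
    exact ha0 (IsFractionRing.injective A K (h2.trans (map_zero _).symm))
  have hinjV : Function.Injective (algebraMap Vs BV) := by
    intro x y h
    have h1 := congrArg (Subtype.val : BV → L) h
    change algebraMap K L (x : K) = algebraMap K L (y : K) at h1
    exact Subtype.ext ((algebraMap K L).injective h1)
  have hgι : ι g ≠ 0 := fun h => hg (hιinj (h.trans (map_zero ι).symm))
  obtain ⟨q₁', hq₁'prime, hq₁'Q, hq₁'V, hgq₁', hq₁'alg⟩ :=
    exists_prime_of_valuationRing hVne hinjV Q hQV (ι g) hgι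
  refine ⟨q₁'.comap ι, Ideal.comap_isPrime ι q₁', ?_, ?_, hgq₁', ?_⟩
  · -- `q₁ ≤ q'`
    have hq'' : Q.comap ι = q' := by
      refine hmax _ (Ideal.comap_isPrime ι Q) (fun b hb => hq'Q b hb) ?_
      ext a
      simp only [Ideal.mem_comap]
      rw [hιA, ← hAmem, ← hQV, Ideal.mem_comap]
    rw [← hq'']
    exact Ideal.comap_mono hq₁'Q
  · rw [eq_bot_iff]
    intro a ha
    have h1 : ι (algebraMap A B a) ∈ q₁' := ha
    rw [hιA] at h1
    have h2 : (⟨algebraMap A K a, hAV a⟩ : Vs) ∈ q₁'.comap (algebraMap Vs BV) := h1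
    rw [hq₁'V, Ideal.mem_bot] at h2
    have h3 := congrArg Subtype.val h2
    exact IsFractionRing.injective A K (h3.trans (map_zero _).symm)
  · let algAV : Algebra A Vs := ((algebraMap A K).codRestrict Vs hAV).toAlgebra
    have : IsScalarTower A Vs K := .of_algebraMap_eq (fun _ => rfl)
    have hAK : Algebra.IsAlgebraic A K := IsLocalization.isAlgebraic K (nonZeroDivisors A)
    have hAVs : Algebra.IsAlgebraic A Vs :=
      Algebra.IsAlgebraic.of_injective (IsScalarTower.toAlgHom A Vs K) Subtype.val_injective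
    let algAD : Algebra A (BV ⧸ q₁') :=
      ((algebraMap Vs (BV ⧸ q₁')).comp (algebraMap A Vs)).toAlgebra
    have : IsScalarTower A Vs (BV ⧸ q₁') := .of_algebraMap_eq (fun _ => rfl)
    have hAD : Algebra.IsAlgebraic A (BV ⧸ q₁') := Algebra.IsAlgebraic.trans A Vs (BV ⧸ q₁')
    refine Algebra.IsAlgebraic.of_ringHom_of_comp_eq (S := A) (B := BV ⧸ q₁') (RingHom.id A)
      (Ideal.quotientMap q₁' ι le_rfl) Function.surjective_id
      (Ideal.quotientMap_injective' le_rfl) ?_
    ext a
    change _ = Ideal.quotientMap q₁' ι le_rfl (Ideal.Quotient.mk _ (algebraMap A B a))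
    rw [Ideal.quotientMap_mk, hιA]
    rfl

end Groth.Agent.H68.SF
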