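import Groth.Agent.H68.FlatDimFib
import Groth.Agent.H68.SpecFibDom
import Groth.Agent.H68.PruferMain

/-!
# Flat local algebras of essentially finite type over a local domain: the dimension formula

`dim (B / 𝔪_A B) + trdeg_{κ(A)} κ(B) = trdeg_A B`.
-/

set_option autoImplicit false
set_option linter.style.haveILetI false

open IsLocalRing TensorProduct

namespace Groth.Agent.H68.FD

universe u

noncomputable section

section main

variable {A C B : Type u} [CommRing A] [IsDomain A] [IsLocalRing A] [CommRing C] [IsDomain C]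
  [Algebra A C] [Algebra.FiniteType A C]
  [CommRing B] [Algebra A B] [Algebra C B] [IsScalarTower A C B] [Module.Flat A B]

/-- `localDim_fibre_eq` with the auxiliary valuation ring constructed. -/
theorem localDim_fibre_eq' (M : Submonoid C) [IsLocalization M B]
    (hAC : Function.Injective (algebraMap A C))
    (qbar : Ideal (ResidueField A ⊗[A] C)) [qbar.IsPrime]
    (hq : ∀ s ∈ M, (1 : ResidueField A) ⊗ₜ[A] s ∉ qbar) :
    ∃ n : ℕ, Algebra.trdeg A C = n ∧
      FlatMor.localDim (PrimeSpectrum (ResidueField A ⊗[A] C)) ⟨qbar, inferInstance⟩ = n := by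
  classical
  let K := FractionRing A
  let L := FractionRing C
  have hinjAL : Function.Injective (algebraMap A L) := by
    rw [IsScalarTower.algebraMap_eq A C L]
    exact (IsFractionRing.injective C L).comp hAC
  have : FaithfulSMul A L := (faithfulSMul_iff_algebraMap_injective A L).mpr hinjAL
  let algKL : Algebra K L := FractionRing.liftAlgebra A L
  obtain ⟨W, hW, hWm⟩ := SF.exists_valuationSubring_dominating (maximalIdeal A)
  let algAV : Algebra A W := ((algebraMap A K).codRestrict W.toSubring hW).toAlgebra
  have hAVval : ∀ a : A, ((algebraMap A W a : W) : K) = algebraMap A K a := fun _ => rfl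
  have : IsScalarTower A W K := .of_algebraMap_eq (fun _ => rfl)
  let algVL : Algebra W L := ((algebraMap K L).comp W.subtype).toAlgebra
  have hVLval : ∀ v : W, algebraMap W L v = algebraMap K L (v : K) := fun _ => rfl
  have : IsScalarTower A W L := .of_algebraMap_eq (fun a => by
    rw [hVLval, hAVval, ← IsScalarTower.algebraMap_apply A K L])
  have hloc : IsLocalHom (algebraMap A W) := by
    refine ⟨fun a ha => ?_⟩
    by_contra hna
    have h1 : a ∈ maximalIdeal A := (mem_maximalIdeal a).mpr hna
    have h2 : algebraMap A K a ∈ W.nonunits := (hWm a).mpr h1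
    have h3 : ((algebraMap A W a : W) : K) ∈ W.nonunits := h2
    rw [ValuationSubring.coe_mem_nonunits_iff, mem_maximalIdeal, mem_nonunits_iff] at h3
    exact h3 ha
  have hAK : Algebra.IsAlgebraic A K := IsLocalization.isAlgebraic K (nonZeroDivisors A)
  have halg : Algebra.IsAlgebraic A W :=
    Algebra.IsAlgebraic.of_injective (IsScalarTower.toAlgHom A W K) Subtype.val_injective
  have hAV : Function.Injective (algebraMap A W) := by
    intro x y h
    exact IsFractionRing.injective A K (by rw [← hAVval, ← hAVval, h])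
  have hVL : Function.Injective (algebraMap W L) := by
    intro x y h
    rw [hVLval, hVLval] at h
    exact Subtype.ext ((algebraMap K L).injective h)
  have hden : ∀ v : W, ∃ a a' : A, a ≠ 0 ∧ a • v = algebraMap A W a' := by
    intro v
    obtain ⟨x, y, hy, hxy⟩ := IsFractionRing.div_surjective (A := A) (v : K)
    refine ⟨y, x, nonZeroDivisors.ne_zero hy, Subtype.ext ?_⟩
    rw [Algebra.smul_def]
    change algebraMap A K y * (v : K) = algebraMap A K x
    rw [← hxy, mul_div_cancel₀]
    exact (map_ne_zero_iff _ (IsFractionRing.injective A K)).mpr (nonZeroDivisors.ne_zero hy)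
  exact localDim_fibre_eq (B := B) W L M hAC hAV hVL hden qbar hq

end main

section model

variable {A C B : Type u} [CommRing A] [IsDomain A] [IsLocalRing A] [CommRing C] [IsDomain C]
  [Algebra A C] [Algebra.FiniteType A C]
  [CommRing B] [IsDomain B] [IsLocalRing B] [Algebra A B] [Algebra C B] [IsScalarTower A C B]
  [Module.Flat A B] [IsLocalHom (algebraMap A B)]

/-- The dimension formula, for `B` presented as a localization of a finite type domain `C`. -/
theorem dim_formula_model (M : Submonoid C) [IsLocalization M B]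
    (hM : ∀ c : C, c ∈ M ↔ IsUnit (algebraMap C B c))
    (hAC : Function.Injective (algebraMap A C)) (hCB : Function.Injective (algebraMap C B)) :
    ∃ d e : ℕ, ringKrullDim (B ⧸ (maximalIdeal A).map (algebraMap A B)) = d ∧
      Algebra.trdeg (ResidueField A) (ResidueField B) = e ∧ Algebra.trdeg A B = (d + e : ℕ) := by
  classical
  let g : C →ₐ[A] ResidueField B :=
    (IsScalarTower.toAlgHom A B (ResidueField B)).comp (IsScalarTower.toAlgHom A C B)
  let ρ : ResidueField A ⊗[A] C →ₐ[ResidueField A] ResidueField B :=
    Algebra.TensorProduct.lift (Algebra.ofId (ResidueField A) (ResidueField B)) g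
      (fun _ _ => Commute.all _ _)
  have hρ : ∀ c : C, ρ ((1 : ResidueField A) ⊗ₜ[A] c) = residue B (algebraMap C B c) := by
    intro c
    simp [ρ, g]
  set qbar := RingHom.ker ρ with hqbar
  haveI : qbar.IsPrime := RingHom.ker_isPrime _
  have hunit : ∀ c : C, (1 : ResidueField A) ⊗ₜ[A] c ∉ qbar ↔ c ∈ M := by
    intro c
    rw [hqbar, RingHom.mem_ker, hρ, hM, ← residue_ne_zero_iff_isUnit]
  obtain ⟨n, hn1, hn2⟩ := localDim_fibre_eq' (B := B) M hAC qbar (fun s hs => (hunit s).mpr hs)
  -- the height of `q̄` is the dimension of the closed fibre of `B`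
  have hht : ringKrullDim (B ⧸ (maximalIdeal A).map (algebraMap A B)) = qbar.height := by
    let gB : ResidueField A ⊗[A] C →ₐ[A] ResidueField A ⊗[A] B :=
      Algebra.TensorProduct.map (AlgHom.id A (ResidueField A)) (IsScalarTower.toAlgHom A C B)
    letI : Algebra (ResidueField A ⊗[A] C) (ResidueField A ⊗[A] B) := gB.toAlgebra
    haveI : IsScalarTower (ResidueField A) (ResidueField A ⊗[A] C) (ResidueField A ⊗[A] B) :=
      .of_algebraMap_eq <| by intro; simp [RingHom.algebraMap_toAlgebra, gB]
    haveI hloc := IsLocalization.tensorProduct_tensorProduct_right A (ResidueField A) M B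
      (by ext; simp [RingHom.algebraMap_toAlgebra, gB])
    have hMq : M.map (Algebra.TensorProduct.includeRight (R := A) (A := ResidueField A)) =
        qbar.primeCompl := by
      ext x
      constructor
      · rintro ⟨s, hs, rfl⟩
        exact (hunit s).mpr hs
      · intro hx
        obtain ⟨c, rfl⟩ := Algebra.TensorProduct.includeRight_surjective (R := A)
          (S := ResidueField A) C residue_surjective x
        exact ⟨c, (hunit c).mp hx, rfl⟩
    haveI : IsLocalization.AtPrime (ResidueField A ⊗[A] B) qbar := by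
      change IsLocalization qbar.primeCompl _
      rw [← hMq]; exact hloc
    rw [← IsLocalization.AtPrime.ringKrullDim_eq_height qbar (ResidueField A ⊗[A] B)]
    exact ringKrullDim_eq_of_ringEquiv
      (Algebra.TensorProduct.quotIdealMapEquivQuotTensor B (maximalIdeal A)).toRingEquiv
  -- the coheight of `q̄` is `dim C/q`
  let ιS : C →+* ResidueField A ⊗[A] C :=
    (Algebra.TensorProduct.includeRight : C →ₐ[A] ResidueField A ⊗[A] C).toRingHom
  have hιS : Function.Surjective ιS :=
    Algebra.TensorProduct.includeRight_surjective (R := A) (S := ResidueField A) C residue_surjective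
  set q : Ideal C := qbar.comap ιS with hq
  haveI : q.IsPrime := Ideal.comap_isPrime _ _
  have hqmem : ∀ c : C, c ∈ q ↔ algebraMap C B c ∈ maximalIdeal B := by
    intro c
    rw [hq, Ideal.mem_comap, hqbar, RingHom.mem_ker]
    change ρ ((1 : ResidueField A) ⊗ₜ[A] c) = 0 ↔ _
    rw [hρ, residue_eq_zero_iff]
  have hdimq : ringKrullDim (C ⧸ q) = ringKrullDim ((ResidueField A ⊗[A] C) ⧸ qbar) :=
    ringKrullDim_quotient_comap ιS hιS qbar
  haveI hqB : (maximalIdeal B).LiesOver q := ⟨by
    ext c; rw [hqmem, Ideal.under_def, Ideal.mem_comap]⟩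
  haveI hqA : q.LiesOver (maximalIdeal A) := ⟨by
    ext a
    rw [Ideal.under_def, Ideal.mem_comap, hqmem, ← IsScalarTower.algebraMap_apply A C B]
    have h := ((local_hom_TFAE (algebraMap A B)).out 0 4 rfl rfl).mp inferInstance
    rw [← h, Ideal.mem_comap]⟩
  letI algkq : Algebra (ResidueField A) (C ⧸ q) :=
    inferInstanceAs (Algebra (A ⧸ maximalIdeal A) (C ⧸ q))
  have hFT1 : Algebra.FiniteType A (C ⧸ q) :=
    Algebra.FiniteType.of_surjective (Ideal.Quotient.mkₐ A q) (Ideal.Quotient.mkₐ_surjective A q)
  haveI tw1 : IsScalarTower A (ResidueField A) (C ⧸ q) :=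
    inferInstanceAs (IsScalarTower A (A ⧸ maximalIdeal A) (C ⧸ q))
  have hFT : Algebra.FiniteType (ResidueField A) (C ⧸ q) :=
    Algebra.FiniteType.of_restrictScalars_finiteType A _ _
  obtain ⟨e, he1, he2⟩ := Pruf.exists_dim_eq_trdeg (ResidueField A) (C ⧸ q)
  -- the residue field of `B` is algebraic over `C/q`
  have he3 : Algebra.trdeg (ResidueField A) (ResidueField B) = e := by
    rw [← he1]
    letI algqB : Algebra (C ⧸ q) (ResidueField B) :=
      inferInstanceAs (Algebra (C ⧸ q) (B ⧸ maximalIdeal B))
    have hCqalg : Algebra.IsAlgebraic (C ⧸ q) (ResidueField B) :=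
      Pruf.isAlgebraic_quotient_of_isLocalization M (maximalIdeal B) q
    haveI tw2 : IsScalarTower (ResidueField A) (C ⧸ q) (ResidueField B) := by
      refine IsScalarTower.of_algebraMap_eq (fun x => ?_)
      obtain ⟨a, rfl⟩ := Ideal.Quotient.mk_surjective x
      change Ideal.Quotient.mk (maximalIdeal B) (algebraMap A B a) =
        Ideal.Quotient.mk (maximalIdeal B) (algebraMap C B (algebraMap A C a))
      rw [← IsScalarTower.algebraMap_apply A C B]
    haveI f1 : FaithfulSMul (ResidueField A) (C ⧸ q) :=
      (faithfulSMul_iff_algebraMap_injective _ _).mpr (RingHom.injective _)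
    haveI f2 : FaithfulSMul (C ⧸ q) (ResidueField B) :=
      inferInstanceAs (FaithfulSMul (C ⧸ q) (B ⧸ maximalIdeal B))
    have e1 := trdeg_add_eq (ResidueField A) (C ⧸ q) (A := ResidueField B)
    rw [trdeg_eq_zero (R := C ⧸ q) (A := ResidueField B), add_zero] at e1
    exact e1.symm
  -- assemble
  let qs : PrimeSpectrum (ResidueField A ⊗[A] C) := ⟨qbar, inferInstance⟩
  have h1 := Groth.Agent.H11.FtDim.localDim_eq_height_add_coheight (k := ResidueField A) qs
  have hco := Groth.Agent.H24.coheight_eq_ringKrullDim_quotient qs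
  have hhq : qbar.height = Order.height qs := PrimeSpectrum.height_eq_orderHeight qs
  have hco' : Order.coheight qs = (e : ℕ∞) := by
    have : ((Order.coheight qs : ℕ∞) : WithBot ℕ∞) = ((e : ℕ∞) : WithBot ℕ∞) := by
      rw [hco]
      change ringKrullDim ((ResidueField A ⊗[A] C) ⧸ qbar) = _
      rw [← hdimq, he2]; rfl
    exact WithBot.coe_injective this
  have hsum : Order.height qs + (e : ℕ∞) = (n : ℕ∞) := by
    have : ((Order.height qs + (e : ℕ∞) : ℕ∞) : WithBot ℕ∞) = ((n : ℕ∞) : WithBot ℕ∞) := by
      rw [← hco', ← h1]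
      exact hn2
    exact WithBot.coe_injective this
  have hfin : Order.height qs ≠ ⊤ := by
    intro htop
    rw [htop, top_add] at hsum
    exact ENat.top_ne_natCast n hsum
  obtain ⟨d, hd⟩ := ENat.ne_top_iff_exists.mp hfin
  have hden : d + e = n := by
    rw [← hd] at hsum
    exact_mod_cast hsum
  refine ⟨d, e, ?_, he3, ?_⟩
  · rw [hht, hhq, ← hd]; rfl
  · have fAC : FaithfulSMul A C := (faithfulSMul_iff_algebraMap_injective A C).mpr hAC
    have fCB : FaithfulSMul C B := (faithfulSMul_iff_algebraMap_injective C B).mpr hCB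
    have aCB : Algebra.IsAlgebraic C B := IsLocalization.isAlgebraic B M
    have e1 := trdeg_add_eq A C (A := B)
    rw [trdeg_eq_zero (R := C) (A := B), add_zero] at e1
    rw [← e1, hn1, hden]

end model

end

end Groth.Agent.H68.FD
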