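import Groth.Agent.H68.PruferLocal

/-!
# Flat local algebras of essentially finite type over a local domain: the valuation ring core

`A` a domain, `C` a finite type `A`-domain, `V` a valuation ring between `A` and `Frac A`,
`L = Frac C`.  We study `V ⊗[A] C` and the kernel `T` of `V ⊗[A] C → L`.
-/

set_option autoImplicit false
set_option linter.style.haveILetI false

open IsLocalRing TensorProduct

namespace Groth.Agent.H68.FD

universe u

section basic

variable (A C V L : Type u) [CommRing A] [CommRing C] [Algebra A C] [CommRing V] [Algebra A V]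
  [Field L] [Algebra A L] [Algebra C L] [Algebra V L] [IsScalarTower A C L] [IsScalarTower A V L]

/-- The canonical map `V ⊗[A] C → L`. -/
noncomputable def psi : V ⊗[A] C →ₐ[V] L :=
  Algebra.TensorProduct.lift (Algebra.ofId V L) (IsScalarTower.toAlgHom A C L)
    (fun _ _ => Commute.all _ _)

theorem psi_tmul (v : V) (c : C) :
    psi A C V L (v ⊗ₜ[A] c) = algebraMap V L v * algebraMap C L c := by
  simp [psi, Algebra.ofId_apply]

variable {A C V L}

/-- Clearing denominators in `V ⊗[A] C`. -/
theorem exists_smul_eq_one_tmul [NoZeroDivisors A]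
    (hden : ∀ v : V, ∃ a a' : A, a ≠ 0 ∧ a • v = algebraMap A V a') (t : V ⊗[A] C) :
    ∃ a : A, a ≠ 0 ∧ ∃ c : C, a • t = (1 : V) ⊗ₜ[A] c := by
  induction t using TensorProduct.induction_on with
  | zero =>
    rcases subsingleton_or_nontrivial A with h | h
    · obtain ⟨a, a', ha, -⟩ := hden 0
      exact absurd (Subsingleton.elim a 0) ha
    · exact ⟨1, one_ne_zero, 0, by simp⟩
  | tmul v c =>
    obtain ⟨a, a', ha, h⟩ := hden v
    refine ⟨a, ha, a' • c, ?_⟩
    rw [TensorProduct.smul_tmul', h, Algebra.algebraMap_eq_smul_one, TensorProduct.smul_tmul]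
  | add x y hx hy =>
    obtain ⟨a₁, ha₁, c₁, h₁⟩ := hx
    obtain ⟨a₂, ha₂, c₂, h₂⟩ := hy
    refine ⟨a₁ * a₂, mul_ne_zero ha₁ ha₂, a₂ • c₁ + a₁ • c₂, ?_⟩
    rw [smul_add, mul_comm a₁ a₂, mul_smul, h₁, mul_comm a₂ a₁, mul_smul, h₂, TensorProduct.tmul_add,
      TensorProduct.tmul_smul, TensorProduct.tmul_smul]

/-- Elements of the kernel of `V ⊗[A] C → L` are `A`-torsion. -/
theorem exists_smul_eq_zero_of_psi_eq_zero [NoZeroDivisors A]
    (hden : ∀ v : V, ∃ a a' : A, a ≠ 0 ∧ a • v = algebraMap A V a')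
    (hCL : Function.Injective (algebraMap C L)) (t : V ⊗[A] C) (ht : psi A C V L t = 0) :
    ∃ a : A, a ≠ 0 ∧ a • t = 0 := by
  obtain ⟨a, ha, c, hc⟩ := exists_smul_eq_one_tmul hden t
  refine ⟨a, ha, ?_⟩
  have h1 : psi A C V L (a • t) = 0 := by
    rw [← algebraMap_smul V a t, map_smul, ht, smul_zero]
  rw [hc, psi_tmul, map_one, one_mul] at h1
  have h2 : c = 0 := hCL (h1.trans (map_zero _).symm)
  rw [hc, h2, TensorProduct.tmul_zero]

/-- Over a flat `A`-algebra `B`, the module `V ⊗[A] B` has no `A`-torsion. -/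
theorem eq_zero_of_smul_eq_zero_of_flat [NoZeroDivisors V] {B : Type u} [CommRing B] [Algebra A B]
    [Module.Flat A B] (hAV : Function.Injective (algebraMap A V)) (a : A) (ha : a ≠ 0)
    (x : V ⊗[A] B) (hx : a • x = 0) : x = 0 := by
  have hinj : Function.Injective (LinearMap.lsmul A V a) := by
    intro v w h
    simp only [LinearMap.lsmul_apply, Algebra.smul_def] at h
    have ha' : algebraMap A V a ≠ 0 := fun h0 => ha (hAV (h0.trans (map_zero _).symm))
    exact mul_left_cancel₀ ha' h
  have h1 := Module.Flat.rTensor_preserves_injective_linearMap (M := B) (LinearMap.lsmul A V a) hinj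
  have h2 : ∀ y : V ⊗[A] B, (LinearMap.lsmul A V a).rTensor B y = a • y := by
    intro y
    induction y using TensorProduct.induction_on with
    | zero => simp
    | tmul v b => simp [TensorProduct.smul_tmul']
    | add y z hy hz => rw [map_add, hy, hz, smul_add]
  apply h1
  rw [h2, hx, map_zero]

/-- **Flatness step.**  If `B` is a flat `A`-algebra which is a localization of `C` at `M`, every
prime of `V ⊗[A] C` disjoint from `M` contains the kernel of `V ⊗[A] C → L`. -/
theorem ker_psi_le [NoZeroDivisors A] [NoZeroDivisors V] (M : Submonoid C) {B : Type u} [CommRing B]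
    [Algebra A B] [Algebra C B] [IsScalarTower A C B] [IsLocalization M B] [Module.Flat A B]
    (hden : ∀ v : V, ∃ a a' : A, a ≠ 0 ∧ a • v = algebraMap A V a')
    (hCL : Function.Injective (algebraMap C L)) (hAV : Function.Injective (algebraMap A V))
    (Q : Ideal (V ⊗[A] C)) [Q.IsPrime] (hQ : ∀ s ∈ M, (1 : V) ⊗ₜ[A] s ∉ Q) :
    RingHom.ker (psi A C V L) ≤ Q := by
  intro t ht
  obtain ⟨a, ha, hat⟩ := exists_smul_eq_zero_of_psi_eq_zero hden hCL t ht
  let g : V ⊗[A] C →ₐ[A] V ⊗[A] B :=
    Algebra.TensorProduct.map (AlgHom.id A V) (IsScalarTower.toAlgHom A C B)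
  letI : Algebra (V ⊗[A] C) (V ⊗[A] B) := g.toAlgebra
  haveI : IsScalarTower V (V ⊗[A] C) (V ⊗[A] B) :=
    .of_algebraMap_eq <| by intro; simp [RingHom.algebraMap_toAlgebra, g]
  haveI := IsLocalization.tensorProduct_tensorProduct_right A V M B
    (by ext; simp [RingHom.algebraMap_toAlgebra, g])
  have h1 : a • g t = 0 := by rw [← map_smul, hat, map_zero]
  have h2 : g t = 0 := eq_zero_of_smul_eq_zero_of_flat hAV a ha _ h1
  have h3 : algebraMap (V ⊗[A] C) (V ⊗[A] B) t = 0 := h2
  obtain ⟨⟨m, hm⟩, hmt⟩ := (IsLocalization.map_eq_zero_iff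
    (M.map (Algebra.TensorProduct.includeRight (R := A) (A := V))) (V ⊗[A] B) t).mp h3
  obtain ⟨s, hs, rfl⟩ := hm
  have h4 : ((1 : V) ⊗ₜ[A] s) * t ∈ Q := by
    have : ((1 : V) ⊗ₜ[A] s) * t = 0 := hmt
    rw [this]; exact Q.zero_mem
  exact (Ideal.IsPrime.mem_or_mem ‹_› h4).resolve_left (hQ s hs)

end basic

section trdeg

variable {A C V L : Type u} [CommRing A] [IsDomain A] [CommRing C] [IsDomain C] [Algebra A C]
  [CommRing V] [IsDomain V] [Algebra A V]
  [Field L] [Algebra A L] [Algebra C L] [Algebra V L] [IsScalarTower A C L] [IsScalarTower A V L]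
  [IsFractionRing C L]

/-- `V ⊗[A] C` modulo the kernel of the map to `Frac C` has the transcendence degree of `C`. -/
theorem trdeg_quotient_ker_psi [Algebra.IsAlgebraic A V]
    (hAC : Function.Injective (algebraMap A C)) (hAV : Function.Injective (algebraMap A V))
    (hVL : Function.Injective (algebraMap V L)) :
    Algebra.trdeg V ((V ⊗[A] C) ⧸ RingHom.ker (psi A C V L)) = Algebra.trdeg A C := by
  set T := RingHom.ker (psi A C V L) with hT
  let W := (V ⊗[A] C) ⧸ T
  let j : W →ₐ[V] L := Ideal.kerLiftAlg (psi A C V L)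
  have hj : Function.Injective j := Ideal.kerLiftAlg_injective (psi A C V L)
  have hTprime : T.IsPrime := RingHom.ker_isPrime _
  have hdomW : IsDomain W := Ideal.Quotient.isDomain T
  letI algWL : Algebra W L := j.toRingHom.toAlgebra
  haveI : IsScalarTower V W L := .of_algebraMap_eq (fun v => (j.commutes v).symm)
  letI algCW : Algebra C W :=
    ((Ideal.Quotient.mk T).comp
      (Algebra.TensorProduct.includeRight : C →ₐ[A] V ⊗[A] C).toRingHom).toAlgebra
  haveI : IsScalarTower C W L := .of_algebraMap_eq (fun c => by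
    change algebraMap C L c = j (Ideal.Quotient.mk T ((1 : V) ⊗ₜ[A] c))
    change _ = psi A C V L ((1 : V) ⊗ₜ[A] c)
    rw [psi_tmul, map_one, one_mul])
  have hCL : Function.Injective (algebraMap C L) := IsFractionRing.injective C L
  have fAC : FaithfulSMul A C := (faithfulSMul_iff_algebraMap_injective A C).mpr hAC
  have fCL : FaithfulSMul C L := (faithfulSMul_iff_algebraMap_injective C L).mpr hCL
  have fAV : FaithfulSMul A V := (faithfulSMul_iff_algebraMap_injective A V).mpr hAV
  have fVL : FaithfulSMul V L := (faithfulSMul_iff_algebraMap_injective V L).mpr hVL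
  have fWL : FaithfulSMul W L := (faithfulSMul_iff_algebraMap_injective W L).mpr hj
  have fVW : FaithfulSMul V W := by
    refine (faithfulSMul_iff_algebraMap_injective V W).mpr (fun x y h => hVL ?_)
    rw [IsScalarTower.algebraMap_apply V W L, h, ← IsScalarTower.algebraMap_apply V W L]
  have aCL : Algebra.IsAlgebraic C L := IsLocalization.isAlgebraic L (nonZeroDivisors C)
  have hCW : Function.Injective (algebraMap C W) := by
    intro x y h
    apply hCL
    rw [IsScalarTower.algebraMap_apply C W L, h, ← IsScalarTower.algebraMap_apply C W L]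
  have aWL : Algebra.IsAlgebraic W L := Algebra.IsAlgebraic.extendScalars (R := C) hCW
  have e1 := trdeg_add_eq A C (A := L)
  have e2 := trdeg_add_eq A V (A := L)
  have e3 := trdeg_add_eq V W (A := L)
  rw [trdeg_eq_zero (R := C) (A := L), add_zero] at e1
  rw [trdeg_eq_zero (R := A) (A := V), zero_add] at e2
  rw [trdeg_eq_zero (R := W) (A := L), add_zero] at e3
  rw [e3, e2, e1]

/-- **Dimension of the components of the special fibre of `V ⊗[A] C`** through which the torsion
kernel passes. -/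
theorem exists_trdeg_eq_dim [ValuationRing V] [Algebra.FiniteType A C] [Algebra.IsAlgebraic A V]
    (hAC : Function.Injective (algebraMap A C)) (hAV : Function.Injective (algebraMap A V))
    (hVL : Function.Injective (algebraMap V L))
    (Q : Ideal (V ⊗[A] C)) [Q.IsPrime] (hTQ : RingHom.ker (psi A C V L) ≤ Q)
    (hIQ : (maximalIdeal V).map (algebraMap V (V ⊗[A] C)) ≤ Q)
    (hmin : ∀ Q' : Ideal (V ⊗[A] C), Q'.IsPrime →
      (maximalIdeal V).map (algebraMap V (V ⊗[A] C)) ≤ Q' → Q' ≤ Q → Q' = Q) :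
    ∃ n : ℕ, Algebra.trdeg A C = n ∧ ringKrullDim ((V ⊗[A] C) ⧸ Q) = n := by
  set T := RingHom.ker (psi A C V L) with hT
  have hTprime : T.IsPrime := RingHom.ker_isPrime _
  have hbot : (⊥ : Ideal V).IsPrime := Ideal.isPrime_bot
  have hover : T.LiesOver (⊥ : Ideal V) := by
    refine ⟨?_⟩
    ext v
    rw [Ideal.mem_bot, Ideal.under_def, Ideal.mem_comap, hT, RingHom.mem_ker]
    have : psi A C V L (algebraMap V (V ⊗[A] C) v) = algebraMap V L v := (psi A C V L).commutes v
    rw [this]
    constructor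
    · rintro rfl; exact map_zero _
    · intro h; exact hVL (h.trans (map_zero _).symm)
  obtain ⟨n, hn1, hn2⟩ := SF.exists_trdeg_quotient_eq_dim (⊥ : Ideal V) T Q hTQ hIQ hmin
  refine ⟨n, ?_, hn2⟩
  rw [← trdeg_quotient_ker_psi (V := V) (L := L) hAC hAV hVL, ← hn1]
  have hdomW : IsDomain ((V ⊗[A] C) ⧸ T) := Ideal.Quotient.isDomain T
  have hdomV : IsDomain (V ⧸ (⊥ : Ideal V)) := Ideal.Quotient.isDomain _
  have f1 : FaithfulSMul V (V ⧸ (⊥ : Ideal V)) := by
    refine (faithfulSMul_iff_algebraMap_injective _ _).mpr ?_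
    intro x y h
    have h' : Ideal.Quotient.mk (⊥ : Ideal V) x = Ideal.Quotient.mk ⊥ y := h
    rw [Ideal.Quotient.eq, Ideal.mem_bot, sub_eq_zero] at h'
    exact h'
  have a1 : Algebra.IsAlgebraic V (V ⧸ (⊥ : Ideal V)) :=
    haveI := Algebra.isIntegral_of_surjective (R := V) (B := V ⧸ (⊥ : Ideal V))
      Ideal.Quotient.mk_surjective
    Algebra.IsIntegral.isAlgebraic
  have e := trdeg_add_eq V (V ⧸ (⊥ : Ideal V)) (A := (V ⊗[A] C) ⧸ T)
  rw [trdeg_eq_zero (R := V) (A := V ⧸ (⊥ : Ideal V)), zero_add] at e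
  exact e.symm

end trdeg

end Groth.Agent.H68.FD
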