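import Mathlib.AlgebraicGeometry.Morphisms.Flat
import Mathlib.AlgebraicGeometry.Morphisms.QuasiCompact
import Mathlib.AlgebraicGeometry.Morphisms.UniversallyOpen
import Mathlib.AlgebraicGeometry.PullbackCarrier

set_option autoImplicit false
universe u
open CategoryTheory CategoryTheory.Limits AlgebraicGeometry

namespace Groth.Agent.H68

/-- A quasi-compact morphism whose base change along a flat surjective morphism is a
homeomorphism is a homeomorphism. -/
theorem isHomeomorph_of_flat_surjective {X Y Y' : Scheme.{u}} (f : X ⟶ Y) (g : Y' ⟶ Y)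
    [Flat g] [Surjective g] [QuasiCompact f] (h : IsHomeomorph (pullback.snd f g).base) :
    IsHomeomorph f.base := by
  have hcond : ∀ z : ↑(pullback f g), f (pullback.fst f g z) = g (pullback.snd f g z) := by
    intro z
    rw [← Scheme.Hom.comp_apply, ← Scheme.Hom.comp_apply, pullback.condition]
  have hinj : Function.Injective f.base := by
    intro x₁ x₂ hx
    obtain ⟨y', hy'⟩ := g.surjective (f x₁)
    obtain ⟨z₁, hz₁, hz₁'⟩ := Scheme.Pullback.exists_preimage_pullback (f := f) (g := g) x₁ y' hy'.symm
    obtain ⟨z₂, hz₂, hz₂'⟩ := Scheme.Pullback.exists_preimage_pullback (f := f) (g := g) x₂ y'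
      (hx.symm.trans hy'.symm)
    have : z₁ = z₂ := h.injective (hz₁'.trans hz₂'.symm)
    rw [← hz₁, ← hz₂, this]
  have hsurj : Function.Surjective f.base := by
    intro y
    obtain ⟨y', hy'⟩ := g.surjective y
    obtain ⟨z, hz⟩ := h.surjective y'
    refine ⟨pullback.fst f g z, ?_⟩
    rw [← hy', ← hz]
    exact hcond z
  have hspec : SpecializingMap f.base := by
    intro a b hab
    obtain ⟨b', hb'⟩ := g.surjective b
    have hgen : GeneralizingMap g.base := Flat.generalizingMap g
    obtain ⟨c', hc', hgc'⟩ := hgen (a := b') (b := f a) (by rw [hb']; exact hab)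
    obtain ⟨z, hz, hz'⟩ := Scheme.Pullback.exists_preimage_pullback (f := f) (g := g) a c' hgc'.symm
    have hsnd : SpecializingMap (pullback.snd f g).base := h.isClosedMap.specializingMap
    obtain ⟨z', hzz', hz'b⟩ := hsnd (a := z) (b := b') (by rw [hz']; exact hc')
    refine ⟨pullback.fst f g z', ?_, ?_⟩
    · rw [← hz]
      exact hzz'.map (pullback.fst f g).continuous
    · rw [← hb', ← hz'b]
      exact hcond z'
  have hclosed : IsClosedMap f.base := (isClosedMap_iff_specializingMap f).2 hspec
  exact isHomeomorph_iff_continuous_isClosedMap_bijective.2 ⟨f.continuous, hclosed, hinj, hsurj⟩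

end Groth.Agent.H68
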