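import Groth.Agent.H68.FlatHomeo
import Groth.Agent.H68.FamilyFF
import Mathlib.AlgebraicGeometry.Morphisms.IsIso
import Mathlib.AlgebraicGeometry.Morphisms.Affine
import Mathlib.AlgebraicGeometry.Morphisms.Flat
import Mathlib.AlgebraicGeometry.Pullbacks

set_option autoImplicit false
universe u
open CategoryTheory CategoryTheory.Limits AlgebraicGeometry

namespace Groth.Agent.H68

section transport
variable {C : Type*} [Category C] [HasPullbacks C]

lemma isIso_snd_comp {X Y Y' W : C} (f : X ⟶ Y) (g : Y' ⟶ Y) (g' : W ⟶ Y')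
    (h : IsIso (pullback.snd f g)) : IsIso (pullback.snd f (g' ≫ g)) := by
  have : pullback.snd f (g' ≫ g) =
      (pullbackLeftPullbackSndIso f g g').inv ≫ pullback.snd (pullback.snd f g) g' := by
    simp
  rw [this]; infer_instance

lemma isIso_snd_of_comp {X Y Y' W : C} (f : X ⟶ Y) (g : Y' ⟶ Y) (g' : W ⟶ Y')
    (h : IsIso (pullback.snd f (g' ≫ g))) : IsIso (pullback.snd (pullback.snd f g) g') := by
  have : pullback.snd (pullback.snd f g) g' =
      (pullbackLeftPullbackSndIso f g g').hom ≫ pullback.snd f (g' ≫ g) := by simp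
  rw [this]; infer_instance

lemma isIso_snd_congr {X Y Y' : C} (f : X ⟶ Y) {g₁ g₂ : Y' ⟶ Y} (e : g₁ = g₂)
    (h : IsIso (pullback.snd f g₁)) : IsIso (pullback.snd f g₂) := by
  subst e; exact h

lemma isIso_snd_of_map {W X Y Z S T : C} (f₁ : W ⟶ S) (f₂ : X ⟶ S)
    (g₁ : Y ⟶ T) (g₂ : Z ⟶ T) (i₁ : W ⟶ Y) (i₂ : X ⟶ Z) (i₃ : S ⟶ T)
    (eq₁ : f₁ ≫ i₃ = i₁ ≫ g₁) (eq₂ : f₂ ≫ i₃ = i₂ ≫ g₂) [IsIso i₁] [IsIso i₂] [IsIso i₃]
    (h : IsIso (pullback.snd f₁ f₂)) : IsIso (pullback.snd g₁ g₂) := by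
  have e : pullback.map f₁ f₂ g₁ g₂ i₁ i₂ i₃ eq₁ eq₂ ≫ pullback.snd g₁ g₂ =
      pullback.snd f₁ f₂ ≫ i₂ := pullback.lift_snd _ _ _
  have : IsIso (pullback.map f₁ f₂ g₁ g₂ i₁ i₂ i₃ eq₁ eq₂ ≫ pullback.snd g₁ g₂) := by
    rw [e]; infer_instance
  exact IsIso.of_isIso_comp_left (pullback.map f₁ f₂ g₁ g₂ i₁ i₂ i₃ eq₁ eq₂) _

end transport

open TensorProduct in
/-- Affine case: a ring map whose base changes along a flat jointly surjective family are
isomorphisms is bijective. -/
theorem bijective_of_isIso_snd {A B : CommRingCat.{u}} (φ : A ⟶ B) {Y' : Scheme.{u}}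
    (g : Y' ⟶ Spec A) [Flat g] [Surjective g] (h : IsIso (pullback.snd (Spec.map φ) g)) :
    Function.Bijective φ.hom := by
  let 𝒰 := Y'.affineOpenCover
  let ψ : ∀ j : 𝒰.I₀, A ⟶ 𝒰.X j := fun j => Spec.preimage (𝒰.f j ≫ g)
  have hψ : ∀ j, Spec.map (ψ j) = 𝒰.f j ≫ g := fun j => Spec.map_preimage _
  let _ : Algebra A B := φ.hom.toAlgebra
  let _ : ∀ j, Algebra A (𝒰.X j) := fun j => (ψ j).hom.toAlgebra
  have hflat : ∀ j, Module.Flat A (𝒰.X j) := by
    intro j
    have : Flat (Spec.map (ψ j)) := by rw [hψ j]; infer_instance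
    exact Flat.SpecMap_iff.1 this
  have hcov : ∀ m : Ideal A, m.IsMaximal → ∃ j, m.map (algebraMap A (𝒰.X j)) ≠ ⊤ := by
    intro m hm
    obtain ⟨y', hy'⟩ := g.surjective ⟨m, hm.isPrime⟩
    obtain ⟨z, hz⟩ := 𝒰.covers y'
    refine ⟨𝒰.idx y', ?_⟩
    intro htop
    have hz' : (Spec.map (ψ (𝒰.idx y'))) z = ⟨m, hm.isPrime⟩ := by
      rw [hψ, Scheme.Hom.comp_apply, hz, hy']
    have hm' : m = Ideal.comap (ψ (𝒰.idx y')).hom z.asIdeal := by
      have := congrArg PrimeSpectrum.asIdeal hz'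
      exact this.symm
    have hle : m.map (algebraMap A (𝒰.X (𝒰.idx y'))) ≤ z.asIdeal := by
      rw [Ideal.map_le_iff_le_comap, hm']
      exact le_rfl
    exact z.2.ne_top (top_le_iff.1 (htop ▸ hle))
  have key : Function.Bijective (algebraMap A B) := by
    refine bijective_of_family (fun j => 𝒰.X j) hcov B ?_
    intro j
    have h1 : IsIso (pullback.snd (Spec.map φ) (Spec.map (ψ j))) :=
      isIso_snd_congr _ (hψ j).symm (isIso_snd_comp _ g (𝒰.f j) h)
    have h2 : IsIso (pullback.snd (Spec.map (CommRingCat.ofHom (algebraMap A B)))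
        (Spec.map (CommRingCat.ofHom (algebraMap A (𝒰.X j))))) := h1
    have h3 : IsIso (Spec.map (CommRingCat.ofHom (R := 𝒰.X j) (S := B ⊗[A] 𝒰.X j)
        (RingHomClass.toRingHom Algebra.TensorProduct.includeRight))) := by
      rw [← pullbackSpecIso_inv_snd]; infer_instance
    exact isIso_SpecMap_iff.1 h3
  exact key

/-- Affine source and target. -/
theorem isIso_of_isIso_snd_of_isAffine {X Y Y' : Scheme.{u}} [IsAffine X] [IsAffine Y]
    (f : X ⟶ Y) (g : Y' ⟶ Y) [Flat g] [Surjective g] (h : IsIso (pullback.snd f g)) :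
    IsIso f := by
  have h' : IsIso (pullback.snd (Spec.map f.appTop) (g ≫ Y.isoSpec.hom)) :=
    isIso_snd_of_map f g (Spec.map f.appTop) (g ≫ Y.isoSpec.hom) X.isoSpec.hom (𝟙 _)
      Y.isoSpec.hom (Scheme.isoSpec_hom_naturality f).symm (Category.id_comp _).symm h
  have hb := bijective_of_isIso_snd f.appTop (g ≫ Y.isoSpec.hom) h'
  have : IsIso (Spec.map f.appTop) := isIso_SpecMap_iff.2 hb
  have e : f = X.isoSpec.hom ≫ Spec.map f.appTop ≫ Y.isoSpec.inv := by
    rw [Scheme.isoSpec_hom_naturality_assoc, Iso.hom_inv_id, Category.comp_id]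
  rw [e]; infer_instance

/-- A quasi-compact morphism whose base change along a flat surjective morphism is an
isomorphism is an isomorphism. -/
theorem isIso_of_flat_surjective {X Y Y' : Scheme.{u}} (f : X ⟶ Y) (g : Y' ⟶ Y)
    [Flat g] [Surjective g] [QuasiCompact f] (h : IsIso (pullback.snd f g)) : IsIso f := by
  have hhomeo : IsHomeomorph f.base := isHomeomorph_of_flat_surjective f g
    (TopCat.homeoOfIso (asIso (pullback.snd f g).base)).isHomeomorph
  have haff : IsAffineHom f := isAffineHom_of_isInducing f hhomeo.isInducing (by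
    rw [hhomeo.surjective.range_eq]; exact isClosed_univ)
  rw [← MorphismProperty.isomorphisms.iff,
    IsZariskiLocalAtTarget.iff_of_openCover (P := MorphismProperty.isomorphisms Scheme)
      Y.affineCover]
  intro i
  rw [MorphismProperty.isomorphisms.iff]
  change IsIso (pullback.snd f (Y.affineCover.f i))
  have : IsAffine (pullback f (Y.affineCover.f i)) :=
    isAffine_of_isAffineHom (pullback.snd f (Y.affineCover.f i))
  refine isIso_of_isIso_snd_of_isAffine (pullback.snd f (Y.affineCover.f i))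
    (pullback.snd g (Y.affineCover.f i)) ?_
  apply isIso_snd_of_comp
  refine isIso_snd_congr f (pullback.condition (f := g) (g := Y.affineCover.f i)) ?_
  exact isIso_snd_comp f g _ h

end Groth.Agent.H68
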