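import Groth.Agent.H68.FlatVanish
import Mathlib

/-!
# Symmetric tensors of a flat module come from finite free stages
-/

set_option autoImplicit false
universe u
open scoped TensorProduct

namespace Groth.Agent.H68.FV

variable {R : Type u} [CommRing R] {N : Type u} [AddCommGroup N] [Module R N]
  {Q : Type u} [AddCommGroup Q] [Module R Q]

/-- Every element of `Q ⊗ T^n(N)` is a combination of pure tensors of members of a finite family. -/
theorem exists_rep (n : ℕ) (z : Q ⊗[R] (⨂[R] _ : Fin n, N)) :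
    ∃ (J : Type) (_ : Fintype J) (m : J → N) (w : (Fin n → J) → Q),
      z = ∑ c, w c ⊗ₜ[R] PiTensorProduct.tprod R (fun i => m (c i)) := by
  classical
  -- closure under addition
  have hadd : ∀ z₁ z₂ : Q ⊗[R] (⨂[R] _ : Fin n, N),
      (∃ (J : Type) (_ : Fintype J) (m : J → N) (w : (Fin n → J) → Q),
        z₁ = ∑ c, w c ⊗ₜ[R] PiTensorProduct.tprod R (fun i => m (c i))) →
      (∃ (J : Type) (_ : Fintype J) (m : J → N) (w : (Fin n → J) → Q),
        z₂ = ∑ c, w c ⊗ₜ[R] PiTensorProduct.tprod R (fun i => m (c i))) →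
      ∃ (J : Type) (_ : Fintype J) (m : J → N) (w : (Fin n → J) → Q),
        z₁ + z₂ = ∑ c, w c ⊗ₜ[R] PiTensorProduct.tprod R (fun i => m (c i)) := by
    rintro z₁ z₂ ⟨J₁, _, m₁, w₁, rfl⟩ ⟨J₂, _, m₂, w₂, rfl⟩
    refine ⟨J₁ ⊕ J₂, inferInstance, Sum.elim m₁ m₂, fun c =>
      (∑ c₁ : Fin n → J₁, if c = (fun i => Sum.inl (c₁ i)) then w₁ c₁ else 0) +
      (∑ c₂ : Fin n → J₂, if c = (fun i => Sum.inr (c₂ i)) then w₂ c₂ else 0), ?_⟩
    simp only [TensorProduct.add_tmul, TensorProduct.sum_tmul, Finset.sum_add_distrib]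
    congr 1
    · rw [Finset.sum_comm]
      refine Finset.sum_congr rfl fun c₁ _ => ?_
      simp only [TensorProduct.ite_tmul]
      rw [Finset.sum_ite_eq' Finset.univ (fun i => Sum.inl (c₁ i))
        (fun c => w₁ c₁ ⊗ₜ[R] PiTensorProduct.tprod R (fun i => Sum.elim m₁ m₂ (c i)))]
      simp
    · rw [Finset.sum_comm]
      refine Finset.sum_congr rfl fun c₂ _ => ?_
      simp only [TensorProduct.ite_tmul]
      rw [Finset.sum_ite_eq' Finset.univ (fun i => Sum.inr (c₂ i))
        (fun c => w₂ c₂ ⊗ₜ[R] PiTensorProduct.tprod R (fun i => Sum.elim m₁ m₂ (c i)))]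
      simp
  induction z using TensorProduct.induction_on with
  | zero => exact ⟨Empty, inferInstance, Empty.elim, fun _ => 0, by simp⟩
  | add z₁ z₂ h₁ h₂ => exact hadd z₁ z₂ h₁ h₂
  | tmul q x =>
    induction x using PiTensorProduct.induction_on with
    | smul_tprod r v =>
      refine ⟨Fin n, inferInstance, v, fun c => if c = id then r • q else 0, ?_⟩
      simp only [TensorProduct.ite_tmul]
      rw [Finset.sum_ite_eq' Finset.univ (id : Fin n → Fin n)
        (fun c => (r • q) ⊗ₜ[R] PiTensorProduct.tprod R (fun i => v (c i)))]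
      simp [TensorProduct.smul_tmul]
    | add x y hx hy =>
      rw [TensorProduct.tmul_add]
      exact hadd _ _ hx hy

/-- Precomposition with a permutation, as a permutation of the tuples. -/
def compPerm (J : Type) {n : ℕ} (σ : Equiv.Perm (Fin n)) : (Fin n → J) ≃ (Fin n → J) where
  toFun c := fun i => c (σ i)
  invFun c := fun i => c (σ.symm i)
  left_inv c := by funext i; simp
  right_inv c := by funext i; simp

/-- **Symmetric tensors of a flat module come from a finite free stage**: a symmetric element `z`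
of `Q ⊗ T^n(N)` killed by `φ ⊗ id` is a combination `∑ W c' ⊗ (y_{c' 0} ⊗ ⋯)` of pure tensors of
members of a finite family, with symmetric coefficients `W c'` killed by `φ`. -/
theorem exists_sym_rep [Module.Flat R N] {Q₂ : Type u} [AddCommGroup Q₂] [Module R Q₂]
    (φ : Q →ₗ[R] Q₂) (n : ℕ) (z : Q ⊗[R] (⨂[R] _ : Fin n, N))
    (hsym : ∀ σ : Equiv.Perm (Fin n),
      (PiTensorProduct.reindex R (fun _ : Fin n => N) σ).toLinearMap.lTensor Q z = z)
    (hφ : φ.rTensor (⨂[R] _ : Fin n, N) z = 0) :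
    ∃ (l : ℕ) (y : Fin l → N) (W : (Fin n → Fin l) → Q),
      (∀ (σ : Equiv.Perm (Fin n)) (c' : Fin n → Fin l), W (fun i => c' (σ i)) = W c') ∧
      (∀ c', φ (W c') = 0) ∧
      z = ∑ c', W c' ⊗ₜ[R] PiTensorProduct.tprod R (fun i => y (c' i)) := by
  classical
  obtain ⟨J, _, m, w, rfl⟩ := exists_rep n z
  -- the symmetry relations
  have h2 : ∀ σ : Equiv.Perm (Fin n), ∑ c : Fin n → J, (w (fun i => c (σ i)) - w c) ⊗ₜ[R]
      PiTensorProduct.tprod R (fun i => m (c i)) = 0 := by
    intro σ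
    have h := hsym σ
    rw [map_sum] at h
    have e1 : ∀ c : Fin n → J,
        (PiTensorProduct.reindex R (fun _ : Fin n => N) σ).toLinearMap.lTensor Q
          (w c ⊗ₜ[R] PiTensorProduct.tprod R (fun i => m (c i))) =
        w c ⊗ₜ[R] PiTensorProduct.tprod R (fun i => m (c (σ.symm i))) := by
      intro c
      rw [LinearMap.lTensor_tmul, LinearEquiv.coe_coe, PiTensorProduct.reindex_tprod]
    rw [Finset.sum_congr rfl fun c _ => e1 c] at h
    rw [← (compPerm J σ).sum_comp] at h
    simp only [compPerm, Equiv.coe_fn_mk, Equiv.apply_symm_apply] at h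
    simp only [TensorProduct.sub_tmul, Finset.sum_sub_distrib]
    rw [h, sub_self]
  -- all relations at once
  let ι₁ : Equiv.Perm (Fin n) → Q →ₗ[R] ((Equiv.Perm (Fin n) → Q) × Q₂) := fun σ =>
    (LinearMap.inl R (Equiv.Perm (Fin n) → Q) Q₂) ∘ₗ
      (LinearMap.single R (fun _ : Equiv.Perm (Fin n) => Q) σ)
  let ι₂ : Q₂ →ₗ[R] ((Equiv.Perm (Fin n) → Q) × Q₂) := LinearMap.inr R _ _
  let w' : (Fin n → J) → ((Equiv.Perm (Fin n) → Q) × Q₂) := fun c =>
    (fun σ => w (fun i => c (σ i)) - w c, φ (w c))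
  have hw'eq : ∀ c : Fin n → J,
      w' c = ∑ σ : Equiv.Perm (Fin n), ι₁ σ (w (fun i => c (σ i)) - w c) + ι₂ (φ (w c)) := by
    intro c
    refine Prod.ext ?_ ?_
    · simp only [w', ι₁, ι₂, LinearMap.comp_apply, LinearMap.inl_apply, LinearMap.inr_apply,
        Prod.fst_add, Prod.fst_sum, add_zero]
      exact (Finset.univ_sum_single
        (fun σ : Equiv.Perm (Fin n) => w (fun i => c (σ i)) - w c)).symm
    · simp only [w', ι₁, ι₂, LinearMap.comp_apply, LinearMap.inl_apply, LinearMap.inr_apply,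
        Prod.snd_add, Prod.snd_sum, Finset.sum_const_zero, zero_add]
  have hw' : ∑ c, w' c ⊗ₜ[R] PiTensorProduct.tprod R (fun i => m (c i)) =
      (0 : ((Equiv.Perm (Fin n) → Q) × Q₂) ⊗[R] (⨂[R] _ : Fin n, N)) := by
    have e2 : ∀ c : Fin n → J, w' c ⊗ₜ[R] PiTensorProduct.tprod R (fun i => m (c i)) =
        ∑ σ : Equiv.Perm (Fin n), (ι₁ σ).rTensor _ ((w (fun i => c (σ i)) - w c) ⊗ₜ[R]
          PiTensorProduct.tprod R (fun i => m (c i))) +
          ι₂.rTensor _ (φ.rTensor _ (w c ⊗ₜ[R] PiTensorProduct.tprod R (fun i => m (c i)))) := by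
      intro c
      rw [hw'eq c, TensorProduct.add_tmul, TensorProduct.sum_tmul]
      rfl
    rw [Finset.sum_congr rfl fun c _ => e2 c, Finset.sum_add_distrib, Finset.sum_comm,
      ← map_sum, ← map_sum, hφ, map_zero, add_zero]
    refine Finset.sum_eq_zero fun σ _ => ?_
    rw [← map_sum, h2 σ, map_zero]
  obtain ⟨l, a, y, hy, hc⟩ := MVu n ((Equiv.Perm (Fin n) → Q) × Q₂) m w' hw'
  have hc1 : ∀ (c' : Fin n → Fin l) (σ : Equiv.Perm (Fin n)),
      ∑ c : Fin n → J, (∏ i, a (c i) (c' i)) • w (fun i => c (σ i)) =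
        ∑ c : Fin n → J, (∏ i, a (c i) (c' i)) • w c := by
    intro c' σ
    have := congrFun (congrArg Prod.fst (hc c')) σ
    simp only [w', Prod.fst_sum, Prod.smul_fst, Finset.sum_apply, Pi.smul_apply, smul_sub,
      Finset.sum_sub_distrib, Prod.fst_zero, Pi.zero_apply] at this
    exact sub_eq_zero.mp this
  have hc2 : ∀ c' : Fin n → Fin l, ∑ c : Fin n → J, (∏ i, a (c i) (c' i)) • φ (w c) = 0 := by
    intro c'
    have := congrArg Prod.snd (hc c')
    simpa only [w', Prod.snd_sum, Prod.smul_snd, Prod.snd_zero] using this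
  refine ⟨l, y, fun c' => ∑ c : Fin n → J, (∏ i, a (c i) (c' i)) • w c, ?_, ?_, ?_⟩
  · intro σ c'
    simp only
    rw [← hc1 c' σ, ← (compPerm J σ).sum_comp]
    refine Finset.sum_congr rfl fun c _ => ?_
    congr 1
    exact (Equiv.prod_comp σ (fun i => a (c i) (c' i))).symm ▸ rfl
  · intro c'
    rw [map_sum, ← hc2 c']
    refine Finset.sum_congr rfl fun c _ => ?_
    rw [map_smul]
  · have e3 : ∀ c : Fin n → J, PiTensorProduct.tprod R (fun i => m (c i)) =
        ∑ c' : Fin n → Fin l,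
          (∏ i, a (c i) (c' i)) • PiTensorProduct.tprod R (fun i => y (c' i)) := by
      intro c
      rw [show (fun i => m (c i)) = fun i => ∑ j', a (c i) j' • y j' from funext fun i => hy (c i)]
      exact tprod_expand (fun i => a (c i)) y
    rw [Finset.sum_congr rfl fun c _ => by rw [e3 c, TensorProduct.tmul_sum]]
    rw [Finset.sum_comm]
    refine Finset.sum_congr rfl fun c' _ => ?_
    rw [TensorProduct.sum_tmul]
    refine Finset.sum_congr rfl fun c _ => ?_
    rw [TensorProduct.tmul_smul, TensorProduct.smul_tmul']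

end Groth.Agent.H68.FV
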