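import Mathlib

/-!
# Vanishing in tensor powers of a flat module ("Lazard-lite")

Let `M` be a flat module.  If `∑_c w_c ⊗ (m_{c 0} ⊗ ⋯ ⊗ m_{c (n-1)}) = 0` in `Q ⊗ T^n(M)` for a
finite family `m` of elements of `M` and coefficients `w_c` in a module `Q`, then the family `m`
factors through a finite family `y` of elements of `M`, `m = a · y`, such that the relation
already holds formally in the free module on the indices of `y`:
`∑_c (∏_i a (c i) (c' i)) • w_c = 0` for all `c'`.

This replaces, for tensor powers, the statement that a flat module is a filtered colimit of finite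
free modules.
-/

set_option autoImplicit false
universe u
open scoped TensorProduct

namespace Groth.Agent.H68.FV

variable {R : Type u} [CommRing R] {M : Type u} [AddCommGroup M] [Module R M]

section Split

variable (R M)

/-- Auxiliary linear map for `splitML`. -/
noncomputable def splitLin (n : ℕ) :
    M →ₗ[R] MultilinearMap R (fun _ : Fin n => M) ((⨂[R] _ : Fin n, M) ⊗[R] M) where
  toFun x := ((TensorProduct.mk R (⨂[R] _ : Fin n, M) M).flip x).compMultilinearMap
    (PiTensorProduct.tprod R)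
  map_add' x y := by
    ext v
    simp
  map_smul' r x := by
    ext v
    simp

/-- The multilinear map `v ↦ (v 1 ⊗ ⋯ ⊗ v n) ⊗ v 0`. -/
noncomputable def splitML (n : ℕ) :
    MultilinearMap R (fun _ : Fin (n + 1) => M) ((⨂[R] _ : Fin n, M) ⊗[R] M) :=
  (splitLin R M n).uncurryLeft

lemma splitML_apply (n : ℕ) (v : Fin (n + 1) → M) :
    splitML R M n v = PiTensorProduct.tprod R (Fin.tail v) ⊗ₜ[R] v 0 := rfl

/-- The linear map `T^{n+1}(M) → T^n(M) ⊗ M` splitting off the first factor. -/
noncomputable def split (n : ℕ) : (⨂[R] _ : Fin (n + 1), M) →ₗ[R] (⨂[R] _ : Fin n, M) ⊗[R] M :=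
  PiTensorProduct.lift (splitML R M n)

lemma split_tprod (n : ℕ) (v : Fin (n + 1) → M) :
    split R M n (PiTensorProduct.tprod R v) = PiTensorProduct.tprod R (Fin.tail v) ⊗ₜ[R] v 0 := by
  rw [split, PiTensorProduct.lift.tprod, splitML_apply]

variable (Q : Type u) [AddCommGroup Q] [Module R Q]

/-- The linear map `Q ⊗ T^{n+1}(M) → (Q ⊗ T^n(M)) ⊗ M`. -/
noncomputable def splitQ (n : ℕ) :
    Q ⊗[R] (⨂[R] _ : Fin (n + 1), M) →ₗ[R] (Q ⊗[R] (⨂[R] _ : Fin n, M)) ⊗[R] M :=
  (TensorProduct.assoc R Q (⨂[R] _ : Fin n, M) M).symm.toLinearMap ∘ₗ (split R M n).lTensor Q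

lemma splitQ_tmul (n : ℕ) (q : Q) (v : Fin (n + 1) → M) :
    splitQ R M Q n (q ⊗ₜ[R] PiTensorProduct.tprod R v) =
      (q ⊗ₜ[R] PiTensorProduct.tprod R (Fin.tail v)) ⊗ₜ[R] v 0 := by
  rw [splitQ, LinearMap.comp_apply, LinearMap.lTensor_tmul, split_tprod]
  rfl

end Split

section MV

variable [Module.Flat R M]

lemma exists_castAdd_or_natAdd {a b : ℕ} (x : Fin (a + b)) :
    (∃ j : Fin a, x = Fin.castAdd b j) ∨ (∃ j : Fin b, x = Fin.natAdd a j) :=
  Fin.addCases (motive := fun x => (∃ j : Fin a, x = Fin.castAdd b j) ∨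
    (∃ j : Fin b, x = Fin.natAdd a j)) (fun j => Or.inl ⟨j, rfl⟩) (fun j => Or.inr ⟨j, rfl⟩) x

/-- Reindexing a sum over tuples by the first entry and the tail. -/
lemma sum_cons {N : Type*} [AddCommMonoid N] {n k : ℕ} (f : (Fin (n + 1) → Fin k) → N) :
    ∑ c, f c = ∑ j, ∑ c' : Fin n → Fin k, f (Fin.cons j c') := by
  rw [← (Fin.consEquiv (fun _ => Fin k)).sum_comp, Fintype.sum_prod_type]
  rfl

/-- **Vanishing in tensor powers of a flat module**, with one factorisation per slot but a common
family `y`. -/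
theorem MVc : ∀ (n : ℕ) (Q : Type u) [AddCommGroup Q] [Module R Q] (k : ℕ)
    (m : Fin n → Fin k → M) (w : (Fin n → Fin k) → Q),
    ∑ c, w c ⊗ₜ[R] PiTensorProduct.tprod R (fun i => m i (c i)) =
      (0 : Q ⊗[R] (⨂[R] _ : Fin n, M)) →
    ∃ (l : ℕ) (a : Fin n → Fin k → Fin l → R) (y : Fin l → M),
      (∀ i j, m i j = ∑ j', a i j j' • y j') ∧
      ∀ c' : Fin n → Fin l, ∑ c, (∏ i, a i (c i) (c' i)) • w c = 0 := by
  intro n
  induction n with
  | zero =>
    intro Q _ _ k m w hw
    refine ⟨0, fun i => i.elim0, fun j => j.elim0, fun i => i.elim0, fun c' => ?_⟩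
    have h1 := congrArg ((TensorProduct.rid R Q).toLinearMap ∘ₗ
      (PiTensorProduct.isEmptyEquiv (R := R) (s := fun _ : Fin 0 => M) (Fin 0)).toLinearMap.lTensor Q) hw
    rw [map_sum, map_zero] at h1
    rw [Fintype.sum_unique] at h1 ⊢
    simp only [LinearMap.comp_apply, LinearMap.lTensor_tmul, LinearEquiv.coe_coe,
      PiTensorProduct.isEmptyEquiv_apply_tprod, TensorProduct.rid_tmul, one_smul] at h1
    rw [Finset.univ_eq_empty, Finset.prod_empty, one_smul]
    exact h1
  | succ n ih =>
    intro Q _ _ k m w hw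
    classical
    have h1 := congrArg (splitQ R M Q n) hw
    rw [map_sum, map_zero] at h1
    have h2 : ∀ c : Fin (n + 1) → Fin k,
        splitQ R M Q n (w c ⊗ₜ[R] PiTensorProduct.tprod R (fun i => m i (c i))) =
          (w c ⊗ₜ[R] PiTensorProduct.tprod R (fun i : Fin n => m i.succ (c i.succ))) ⊗ₜ[R]
            m 0 (c 0) := by
      intro c
      rw [splitQ_tmul]
      rfl
    rw [Finset.sum_congr rfl (fun c _ => h2 c)] at h1
    let p : Fin k → Q ⊗[R] (⨂[R] _ : Fin n, M) := fun j =>
      ∑ c' : Fin n → Fin k,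
        w (Fin.cons j c') ⊗ₜ[R] PiTensorProduct.tprod R (fun i => m i.succ (c' i))
    have h3 : ∑ j, p j ⊗ₜ[R] m 0 j = 0 := by
      rw [← h1, sum_cons]
      refine Finset.sum_congr rfl fun j _ => ?_
      rw [TensorProduct.sum_tmul]
      refine Finset.sum_congr rfl fun c' _ => ?_
      simp only [Fin.cons_zero, Fin.cons_succ]
    have hinj : Function.Injective
        (LinearMap.rTensor M (Submodule.span R (Set.range p)).subtype) :=
      Module.Flat.rTensor_preserves_injective_linearMap _ Subtype.val_injective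
    obtain ⟨l₀, a₀, y₀, hy₀, hp₀⟩ :=
      TensorProduct.vanishesTrivially_of_sum_tmul_eq_zero_of_rTensor_injective R hinj h3
    -- the coefficients for the induction hypothesis
    let w' : (Fin n → Fin k) → (Fin l₀ → Q) := fun c' j' => ∑ j, a₀ j j' • w (Fin.cons j c')
    have hw' : ∑ c', w' c' ⊗ₜ[R] PiTensorProduct.tprod R (fun i => m i.succ (c' i)) =
        (0 : (Fin l₀ → Q) ⊗[R] (⨂[R] _ : Fin n, M)) := by
      have e1 : ∀ c', w' c' = ∑ j', LinearMap.single R (fun _ : Fin l₀ => Q) j' (w' c' j') := by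
        intro c'
        exact (Finset.univ_sum_single (w' c')).symm
      have e2 : ∀ j' : Fin l₀,
          ∑ c', (w' c' j') ⊗ₜ[R] PiTensorProduct.tprod R (fun i => m i.succ (c' i)) =
            (0 : Q ⊗[R] (⨂[R] _ : Fin n, M)) := by
        intro j'
        rw [← hp₀ j']
        simp only [w', p, TensorProduct.sum_tmul, Finset.smul_sum, TensorProduct.smul_tmul']
        rw [Finset.sum_comm]
      calc ∑ c', w' c' ⊗ₜ[R] PiTensorProduct.tprod R (fun i => m i.succ (c' i))
          = ∑ c', ∑ j', (LinearMap.single R (fun _ : Fin l₀ => Q) j').rTensor _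
              ((w' c' j') ⊗ₜ[R] PiTensorProduct.tprod R (fun i => m i.succ (c' i))) := by
            refine Finset.sum_congr rfl fun c' _ => ?_
            conv_lhs => rw [e1 c']
            rw [TensorProduct.sum_tmul]
            rfl
        _ = ∑ j', (LinearMap.single R (fun _ : Fin l₀ => Q) j').rTensor _
              (∑ c', (w' c' j') ⊗ₜ[R] PiTensorProduct.tprod R (fun i => m i.succ (c' i))) := by
            rw [Finset.sum_comm]
            refine Finset.sum_congr rfl fun j' _ => ?_
            rw [map_sum]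
        _ = 0 := by
            refine Finset.sum_eq_zero fun j' _ => ?_
            rw [e2 j', map_zero]
    obtain ⟨l₁, a₁, y₁, hy₁, hc₁⟩ := ih (Fin l₀ → Q) k (fun i => m i.succ) w' hw'
    -- combine
    refine ⟨l₀ + l₁,
      Fin.cons (fun j => Fin.append (a₀ j) (fun _ => 0))
        (fun i j => Fin.append (fun _ => 0) (a₁ i j)),
      Fin.append y₀ y₁, ?_, ?_⟩
    · intro i j
      cases i using Fin.cases with
      | zero =>
        rw [Fin.cons_zero, Fin.sum_univ_add]
        simp only [Fin.append_left, Fin.append_right, zero_smul, Finset.sum_const_zero, add_zero]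
        exact hy₀ j
      | succ i =>
        rw [Fin.cons_succ, Fin.sum_univ_add]
        simp only [Fin.append_left, Fin.append_right, zero_smul, Finset.sum_const_zero, zero_add]
        exact hy₁ i j
    · intro C
      simp only [Fin.prod_univ_succ, Fin.cons_zero, Fin.cons_succ]
      rcases exists_castAdd_or_natAdd (C 0) with ⟨j'₀, hj'₀⟩ | ⟨j'₁, hj'₁⟩
      swap
      · refine Finset.sum_eq_zero fun c _ => ?_
        rw [hj'₁, Fin.append_right, zero_mul, zero_smul]
      by_cases hex : ∀ i : Fin n, ∃ j'' : Fin l₁, C i.succ = Fin.natAdd l₀ j''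
      swap
      · push Not at hex
        obtain ⟨i, hi⟩ := hex
        have hi' : ∃ j : Fin l₀, C i.succ = Fin.castAdd l₁ j := by
          rcases exists_castAdd_or_natAdd (C i.succ) with h | ⟨j, hj⟩
          · exact h
          · exact absurd hj (hi j)
        obtain ⟨j, hj⟩ := hi'
        refine Finset.sum_eq_zero fun c _ => ?_
        have : ∏ i : Fin n, Fin.append (fun _ : Fin l₀ => (0 : R)) (a₁ i (c i.succ)) (C i.succ) = 0 := by
          refine Finset.prod_eq_zero (Finset.mem_univ i) ?_
          rw [hj, Fin.append_left]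
        rw [this, mul_zero, zero_smul]
      choose c'' hc'' using hex
      have h4 := congrFun (hc₁ c'') j'₀
      rw [Finset.sum_apply] at h4
      simp only [Pi.smul_apply, Pi.zero_apply, w', Finset.smul_sum, smul_smul] at h4
      rw [sum_cons, Finset.sum_comm]
      rw [← h4]
      refine Finset.sum_congr rfl fun c' _ => ?_
      refine Finset.sum_congr rfl fun j _ => ?_
      simp only [Fin.cons_zero, Fin.cons_succ, hj'₀, hc'', Fin.append_left, Fin.append_right]
      rw [mul_comm]

/-- Finitely many relations among finitely many elements of a flat module become trivial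
simultaneously. -/
theorem TR {l : ℕ} (y : Fin l → M) {T : Type} [Fintype T] (ρ : T → Fin l → R)
    (hρ : ∀ t, ∑ j', ρ t j' • y j' = 0) :
    ∃ (p : ℕ) (C : Fin l → Fin p → R) (y' : Fin p → M),
      (∀ j', y j' = ∑ μ, C j' μ • y' μ) ∧ ∀ t μ, ∑ j', ρ t j' * C j' μ = 0 := by
  classical
  let f : (T →₀ R) →ₗ[R] (Fin l →₀ R) :=
    Finsupp.linearCombination R (fun t => Finsupp.equivFunOnFinite.symm (ρ t))
  let x : (Fin l →₀ R) →ₗ[R] M := Finsupp.linearCombination R y
  have hx : ∀ g : Fin l →₀ R, x g = ∑ j', g j' • y j' := by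
    intro g
    simp only [x, Finsupp.linearCombination_apply]
    exact Finsupp.sum_fintype _ _ (fun _ => zero_smul _ _)
  have h : x ∘ₗ f = 0 := by
    apply Finsupp.lhom_ext'
    intro t
    ext
    simp only [LinearMap.comp_apply, Finsupp.lsingle_apply, LinearMap.zero_apply, f,
      Finsupp.linearCombination_single, one_smul]
    rw [hx]
    exact hρ t
  obtain ⟨p, a, y'', hxa, haf⟩ := Module.Flat.exists_factorization_of_comp_eq_zero_of_free h
  have ha : ∀ g : Fin l →₀ R, ∀ μ, a g μ = ∑ j', g j' * a (Finsupp.single j' 1) μ := by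
    intro g μ
    conv_lhs => rw [← Finsupp.univ_sum_single g]
    rw [map_sum, Finsupp.finsetSum_apply]
    refine Finset.sum_congr rfl fun j' _ => ?_
    have : Finsupp.single j' (g j') = g j' • Finsupp.single j' (1 : R) := by
      rw [Finsupp.smul_single, smul_eq_mul, mul_one]
    rw [this, map_smul, Finsupp.smul_apply, smul_eq_mul]
  refine ⟨p, fun j' μ => a (Finsupp.single j' 1) μ, fun μ => y'' (Finsupp.single μ 1), ?_, ?_⟩
  · intro j'
    have h1 : y j' = x (Finsupp.single j' 1) := by
      simp [x]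
    rw [h1, hxa, LinearMap.comp_apply]
    conv_lhs => rw [← Finsupp.univ_sum_single (a (Finsupp.single j' 1))]
    rw [map_sum]
    refine Finset.sum_congr rfl fun μ _ => ?_
    have : Finsupp.single μ (a (Finsupp.single j' 1) μ) =
        a (Finsupp.single j' 1) μ • Finsupp.single μ (1 : R) := by
      rw [Finsupp.smul_single, smul_eq_mul, mul_one]
    rw [this, map_smul]
  · intro t μ
    have h2 := DFunLike.congr_fun (LinearMap.congr_fun haf (Finsupp.single t 1)) μ
    simp only [LinearMap.comp_apply, LinearMap.zero_apply, Finsupp.coe_zero, Pi.zero_apply, f,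
      Finsupp.linearCombination_single, one_smul] at h2
    rw [ha] at h2
    exact h2

/-- Expansion of a pure tensor of combinations. -/
lemma tprod_expand {N : Type u} [AddCommGroup N] [Module R N] {n l : ℕ}
    (b : Fin n → Fin l → R) (y : Fin l → N) :
    PiTensorProduct.tprod R (fun i => ∑ j', b i j' • y j') =
      ∑ c' : Fin n → Fin l, (∏ i, b i (c' i)) • PiTensorProduct.tprod R (fun i => y (c' i)) := by
  classical
  rw [MultilinearMap.map_sum]
  refine Finset.sum_congr rfl fun c' _ => ?_
  rw [MultilinearMap.map_smul_univ]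

/-- **Vanishing in tensor powers of a flat module** (`Fin k`-indexed family). -/
theorem MVu_fin (n : ℕ) (Q : Type u) [AddCommGroup Q] [Module R Q] (k : ℕ)
    (m : Fin k → M) (w : (Fin n → Fin k) → Q)
    (hw : ∑ c, w c ⊗ₜ[R] PiTensorProduct.tprod R (fun i => m (c i)) =
      (0 : Q ⊗[R] (⨂[R] _ : Fin n, M))) :
    ∃ (l : ℕ) (a : Fin k → Fin l → R) (y : Fin l → M),
      (∀ j, m j = ∑ j', a j j' • y j') ∧
      ∀ c' : Fin n → Fin l, ∑ c, (∏ i, a (c i) (c' i)) • w c = 0 := by
  classical
  obtain ⟨l, a, y, hy, hc⟩ := MVc n Q k (fun _ => m) w hw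
  -- the relations
  let Y : Fin (l + k) → M := Fin.append y m
  let ρ : Fin n × Fin k → Fin (l + k) → R := fun t =>
    Fin.append (a t.1 t.2) (fun j₂ => -(Pi.single t.2 (1 : R) : Fin k → R) j₂)
  have hρ : ∀ t, ∑ J', ρ t J' • Y J' = 0 := by
    rintro ⟨i, j⟩
    rw [Fin.sum_univ_add]
    simp only [ρ, Y, Fin.append_left, Fin.append_right]
    rw [← hy i j]
    simp only [neg_smul, Finset.sum_neg_distrib, Pi.single_apply, ite_smul, one_smul, zero_smul,
      Finset.sum_ite_eq', Finset.mem_univ, if_true]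
    exact add_neg_cancel _
  obtain ⟨p, C, y', hY, hC⟩ := TR Y ρ hρ
  have hC' : ∀ i j μ, ∑ j', a i j j' * C (Fin.castAdd k j') μ = C (Fin.natAdd l j) μ := by
    intro i j μ
    have := hC (i, j) μ
    rw [Fin.sum_univ_add] at this
    simp only [ρ, Fin.append_left, Fin.append_right, Pi.single_apply, neg_mul, ite_mul, one_mul,
      zero_mul, Finset.sum_neg_distrib, Finset.sum_ite_eq', Finset.mem_univ, if_true] at this
    exact add_neg_eq_zero.mp this
  refine ⟨p, fun j μ => C (Fin.natAdd l j) μ, y', ?_, ?_⟩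
  · intro j
    have := hY (Fin.natAdd l j)
    simp only [Y, Fin.append_right] at this
    exact this
  · intro c''
    have h1 : ∀ c : Fin n → Fin k, ∏ i, C (Fin.natAdd l (c i)) (c'' i) =
        ∑ c' : Fin n → Fin l, (∏ i, a i (c i) (c' i)) * ∏ i, C (Fin.castAdd k (c' i)) (c'' i) := by
      intro c
      rw [Finset.prod_congr rfl fun i _ => (hC' i (c i) (c'' i)).symm, Finset.prod_univ_sum,
        Fintype.piFinset_univ]
      refine Finset.sum_congr rfl fun c' _ => ?_
      rw [Finset.prod_mul_distrib]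
    simp only [h1, Finset.sum_smul]
    rw [Finset.sum_comm]
    refine Finset.sum_eq_zero fun c' _ => ?_
    have h2 := hc c'
    calc ∑ c, ((∏ i, a i (c i) (c' i)) * ∏ i, C (Fin.castAdd k (c' i)) (c'' i)) • w c
        = (∏ i, C (Fin.castAdd k (c' i)) (c'' i)) • ∑ c, (∏ i, a i (c i) (c' i)) • w c := by
          rw [Finset.smul_sum]
          refine Finset.sum_congr rfl fun c _ => ?_
          rw [smul_smul, mul_comm]
      _ = 0 := by rw [h2, smul_zero]

/-- **Vanishing in tensor powers of a flat module**: if `∑_c w_c ⊗ (m_{c 0} ⊗ ⋯) = 0` then `m`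
factors through a finite family `y` via a matrix `a` such that the relation holds formally. -/
theorem MVu {J : Type} [Fintype J] (n : ℕ) (Q : Type u) [AddCommGroup Q] [Module R Q]
    (m : J → M) (w : (Fin n → J) → Q)
    (hw : ∑ c, w c ⊗ₜ[R] PiTensorProduct.tprod R (fun i => m (c i)) =
      (0 : Q ⊗[R] (⨂[R] _ : Fin n, M))) :
    ∃ (l : ℕ) (a : J → Fin l → R) (y : Fin l → M),
      (∀ j, m j = ∑ j', a j j' • y j') ∧
      ∀ c' : Fin n → Fin l, ∑ c, (∏ i, a (c i) (c' i)) • w c = 0 := by
  classical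
  let e := Fintype.equivFin J
  let E : (Fin n → Fin (Fintype.card J)) ≃ (Fin n → J) := Equiv.piCongrRight fun _ => e.symm
  have hw' : ∑ c : Fin n → Fin (Fintype.card J),
      w (E c) ⊗ₜ[R] PiTensorProduct.tprod R (fun i => (m ∘ e.symm) (c i)) =
      (0 : Q ⊗[R] (⨂[R] _ : Fin n, M)) := by
    rw [← hw, ← E.sum_comp]
    rfl
  obtain ⟨l, a, y, hy, hc⟩ := MVu_fin n Q _ (m ∘ e.symm) (fun c => w (E c)) hw'
  refine ⟨l, fun j => a (e j), y, fun j => ?_, fun c' => ?_⟩
  · have := hy (e j)
    simpa using this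
  · rw [← hc c', ← E.sum_comp]
    refine Finset.sum_congr rfl fun c _ => ?_
    simp [E]

end MV

end Groth.Agent.H68.FV
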