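import Groth.Prelude.Def_CGrpSh
import Mathlib.CategoryTheory.Sites.EpiMono
import Mathlib.Algebra.Homology.ShortComplex.Ab
import Mathlib.Algebra.Homology.ShortComplex.ExactFunctor
import Mathlib.CategoryTheory.Sites.Limits

/-!
# Local lifting and descent along epimorphisms of sheaves of points (helper68)

For a subcanonical big site `QuotSh.J K S` on `Over S`:
* `eq_of_locally_eq`: morphisms into any `S`-scheme agreeing on a covering sieve are equal;
* `exists_glue`: compatible families of morphisms on a covering sieve glue;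
* `liftSieve u b`, `IsLocSurj K u`: local surjectivity on points of a morphism `u : A ⟶ B`;
* `isLocSurj_of_epi`: an epimorphism of sheaves of points of commutative group schemes is locally
  surjective on points;
* `liftSieve_mem_of_exact`: exactness of `M' → M → M''` as sheaves gives local lifting of the kernel;
* `exists_unique_desc`: a morphism constant on the fibres of a locally surjective `u` factors uniquely
  through `u` (locally surjective maps are effective epimorphisms).
-/

set_option autoImplicit false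

universe u

open CategoryTheory CategoryTheory.Limits Opposite AlgebraicGeometry MonObj MonoidalCategory
  CartesianMonoidalCategory

namespace Groth.Agent.H68.FL

variable {S : Scheme.{u}} (K : Precoverage Scheme.{u})

section General

variable [(QuotSh.J K S).Subcanonical]

theorem eq_of_locally_eq {T N : Over S} (a b : T ⟶ N) (R : Sieve T) (hR : R ∈ QuotSh.J K S T)
    (h : ∀ ⦃T' : Over S⦄ (g : T' ⟶ T), R g → g ≫ a = g ≫ b) : a = b := by
  have hsh : Presieve.IsSheaf (QuotSh.J K S) (yoneda.obj N) :=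
    GrothendieckTopology.Subcanonical.isSheaf_of_isRepresentable _
  exact (hsh R hR).isSeparatedFor.ext (fun T' g hg => h g hg)

theorem exists_glue {T N : Over S} (R : Sieve T) (hR : R ∈ QuotSh.J K S T)
    (x : ∀ ⦃T' : Over S⦄ (g : T' ⟶ T), R g → (T' ⟶ N))
    (hx : ∀ ⦃T' T'' : Over S⦄ (g : T' ⟶ T) (h : T'' ⟶ T') (hg : R g),
      x (h ≫ g) (R.downward_closed hg h) = h ≫ x g hg) :
    ∃ a : T ⟶ N, ∀ ⦃T' : Over S⦄ (g : T' ⟶ T) (hg : R g), g ≫ a = x g hg := by
  have hsh : Presieve.IsSheaf (QuotSh.J K S) (yoneda.obj N) :=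
    GrothendieckTopology.Subcanonical.isSheaf_of_isRepresentable _
  let fam : Presieve.FamilyOfElements (yoneda.obj N) R.arrows := fun T' g hg => x g hg
  have hc : fam.Compatible := by
    rw [Presieve.compatible_iff_sieveCompatible]
    intro T' T'' g h hg
    exact hx g h hg
  refine ⟨(hsh R hR).amalgamate fam hc, fun T' g hg => ?_⟩
  exact (hsh R hR).valid_glue hc g hg

end General

/-- The sieve of arrows `g : T' ⟶ T` along which the point `b : T ⟶ B` lifts through `u : A ⟶ B`. -/
def liftSieve {A B : Over S} (u : A ⟶ B) {T : Over S} (b : T ⟶ B) : Sieve T where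
  arrows T' g := ∃ a : T' ⟶ A, a ≫ u = g ≫ b
  downward_closed := by
    rintro T' T'' g ⟨a, ha⟩ h
    exact ⟨h ≫ a, by rw [Category.assoc, ha, Category.assoc]⟩

theorem liftSieve_apply {A B : Over S} (u : A ⟶ B) {T T' : Over S} (b : T ⟶ B) (g : T' ⟶ T) :
    liftSieve u b g ↔ ∃ a : T' ⟶ A, a ≫ u = g ≫ b := Iff.rfl

/-- `u : A ⟶ B` is locally surjective on points for the big `K`-site. -/
def IsLocSurj {A B : Over S} (u : A ⟶ B) : Prop :=
  ∀ (T : Over S) (b : T ⟶ B), liftSieve u b ∈ QuotSh.J K S T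

section Grp

variable [(QuotSh.J K S).Subcanonical]

theorem isLocSurj_of_epi {M M'' : Over S} [GrpObj M] [IsCommMonObj M] [GrpObj M''] [IsCommMonObj M'']
    (π : M ⟶ M'') [IsMonHom π] (hπ : Epi (CGrpSh.ptsMap K π)) : IsLocSurj K π := by
  have hls : Sheaf.IsLocallySurjective (CGrpSh.ptsMap K π) :=
    (Sheaf.isLocallySurjective_iff_epi' AddCommGrpCat.{u+1} _).2 hπ
  intro T y
  have hmem := Presheaf.imageSieve_mem (QuotSh.J K S) (CGrpSh.ptsMap K π).hom (U := op T)
    (ULift.up (Additive.ofMul y))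
  refine GrothendieckTopology.superset_covering _ ?_ hmem
  intro T' g hg
  obtain ⟨t, ht⟩ := hg
  refine ⟨t.down.toMul, ?_⟩
  exact congrArg (fun z => z.down.toMul) ht

theorem liftSieve_mem_of_exact {M' M M'' : Over S} [GrpObj M'] [IsCommMonObj M'] [GrpObj M]
    [IsCommMonObj M] [GrpObj M''] [IsCommMonObj M'']
    (j : M' ⟶ M) (π : M ⟶ M'') [IsMonHom j] [IsMonHom π] (w : j ≫ π = 1)
    (hex : (CGrpSh.seq K j π w).Exact) {T : Over S} (x : T ⟶ M) (hx : x ≫ π = 1) :
    liftSieve j x ∈ QuotSh.J K S T := by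
  set Sx := CGrpSh.seq K j π w with hSx
  -- the kernel complex
  let S' : ShortComplex (BigSite.Ab K S) := ShortComplex.mk Sx.iCycles Sx.g Sx.iCycles_g
  have hS' : S'.Exact := ShortComplex.exact_of_f_is_kernel _ Sx.cyclesIsKernel
  let F : BigSite.Ab K S ⥤ AddCommGrpCat.{u+1} :=
    sheafToPresheaf (QuotSh.J K S) AddCommGrpCat.{u+1} ⋙ (evaluation _ _).obj (op T)
  have hmono : Mono S'.f := inferInstanceAs (Mono Sx.iCycles)
  have hF : (S'.map F).Exact :=
    hS'.map_of_mono_of_preservesKernel F hmono inferInstance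
  rw [ShortComplex.ab_exact_iff] at hF
  obtain ⟨c, hc⟩ := hF (ULift.up (Additive.ofMul x)) (by
    apply ULift.ext
    change Additive.ofMul (x ≫ π) = 0
    rw [hx]; rfl)
  -- toCycles is epi hence locally surjective
  have hepi : Epi Sx.toCycles := hex.epi_toCycles
  have hls : Sheaf.IsLocallySurjective Sx.toCycles :=
    (Sheaf.isLocallySurjective_iff_epi' AddCommGrpCat.{u+1} _).2 hepi
  have hmem := Presheaf.imageSieve_mem (QuotSh.J K S) Sx.toCycles.hom (U := op T) c
  refine GrothendieckTopology.superset_covering _ ?_ hmem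
  intro T' g hg
  obtain ⟨t, ht⟩ := hg
  refine ⟨t.down.toMul, ?_⟩
  have h1 : Sx.toCycles ≫ Sx.iCycles = CGrpSh.ptsMap K j := Sx.toCycles_i
  have h2 := congrArg (fun z => (Sx.iCycles.hom.app (op T')) z) ht
  simp only at h2
  have h3 : (Sx.iCycles.hom.app (op T')) ((Sx.toCycles.hom.app (op T')) t) =
      ((CGrpSh.ptsMap K j).hom.app (op T')) t := by
    rw [← h1]; rfl
  have h4 : (Sx.iCycles.hom.app (op T')) ((Sx.cycles.obj.map g.op) c) =
      ((CGrpSh.pts K M).obj.map g.op) ((Sx.iCycles.hom.app (op T)) c) := by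
    have := Sx.iCycles.hom.naturality g.op
    exact congrArg (fun φ => φ c) (congrArg (fun φ => φ.hom) this)
  rw [h3, h4] at h2
  have hc' : (Sx.iCycles.hom.app (op T)) c = ULift.up (Additive.ofMul x) := hc
  rw [hc'] at h2
  exact congrArg (fun z => z.down.toMul) h2

end Grp

section Desc

variable [(QuotSh.J K S).Subcanonical]

/-- A locally surjective morphism is an effective epimorphism: a morphism constant on its fibres
factors uniquely through it. -/
theorem exists_unique_desc {A B N : Over S} (u : A ⟶ B) (hu : IsLocSurj K u) (ψ : A ⟶ N)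
    (hψ : ∀ ⦃T : Over S⦄ (a₁ a₂ : T ⟶ A), a₁ ≫ u = a₂ ≫ u → a₁ ≫ ψ = a₂ ≫ ψ) :
    ∃ ψ' : B ⟶ N, u ≫ ψ' = ψ ∧ ∀ ψ'' : B ⟶ N, u ≫ ψ'' = ψ → ψ'' = ψ' := by
  classical
  have hR := hu B (𝟙 B)
  set R := liftSieve u (𝟙 B) with hRdef
  let x : ∀ ⦃T' : Over S⦄ (g : T' ⟶ B), R g → (T' ⟶ N) := fun T' g hg => hg.choose ≫ ψ
  have hxspec : ∀ ⦃T' : Over S⦄ (g : T' ⟶ B) (hg : R g) (a : T' ⟶ A), a ≫ u = g →
      x g hg = a ≫ ψ := by
    intro T' g hg a ha
    apply hψ
    rw [hg.choose_spec, Category.comp_id, ha]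
  obtain ⟨ψ', hψ'⟩ := exists_glue K R hR x (by
    intro T' T'' g h hg
    rw [hxspec (h ≫ g) _ (h ≫ hg.choose) (by rw [Category.assoc, hg.choose_spec, Category.comp_id]),
      Category.assoc])
  have hRu : R u := ⟨𝟙 A, by rw [Category.id_comp, Category.comp_id]⟩
  refine ⟨ψ', ?_, ?_⟩
  · rw [hψ' u hRu, hxspec u hRu (𝟙 A) (Category.id_comp _), Category.id_comp]
  · intro ψ'' h''
    apply eq_of_locally_eq K ψ'' ψ' R hR
    intro T' g hg
    obtain ⟨a, ha⟩ := hg
    rw [Category.comp_id] at ha
    rw [hψ' g ⟨a, by rw [ha, Category.comp_id]⟩, hxspec g _ a ha, ← ha, Category.assoc, h'']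

theorem sieve_iInf_apply {X : Over S} {I : Type*} (s : I → Sieve X) {Y : Over S} (f : Y ⟶ X) :
    (⨅ i, s i) f ↔ ∀ i, s i f := by
  rw [iInf, Sieve.sInf_apply]
  constructor
  · intro h i
    exact h (s i) ⟨i, rfl⟩
  · rintro h _ ⟨i, rfl⟩
    exact h i

theorem isLocSurj_inter {A B : Over S} (u : A ⟶ B) (hu : IsLocSurj K u) {T : Over S}
    {I : Type*} [Finite I] (b : I → (T ⟶ B)) :
    (⨅ i, liftSieve u (b i)) ∈ QuotSh.J K S T := by
  classical
  induction I using Finite.induction_empty_option with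
  | of_equiv e ih =>
    rename_i α β
    have := ih (fun a => b (e a))
    refine GrothendieckTopology.superset_covering _ ?_ this
    intro T' g hg
    rw [sieve_iInf_apply] at hg ⊢
    intro i
    have := hg (e.symm i)
    simpa using this
  | h_empty =>
    rw [iInf_of_empty]
    exact GrothendieckTopology.top_mem _ _
  | h_option ih =>
    rename_i α _
    rw [iInf_option]
    exact GrothendieckTopology.intersection_covering _ (hu T (b none)) (ih (fun a => b (some a)))

end Desc

end Groth.Agent.H68.FL
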