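import Mathlib

/-!
# Divided powers `γ_d(m)` span `Γ^d(M)` when residue fields are large or `M` is locally cyclic

Vandermonde elimination on the expansions of `dp d (m + a • m')`, done prime by prime on the
conductor ideal (no base change of the divided power algebra is needed).
-/

set_option autoImplicit false
universe u

namespace Groth.Agent.H68.GS

open DividedPowerAlgebra Finset

section sat

variable {A : Type*} [CommRing A] {Q : Type*} [AddCommGroup Q] [Module A Q]

/-- the saturation of a submodule at a prime: elements that land in `N` after multiplication by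
an element outside `p`. -/
def sat (p : Ideal A) [p.IsPrime] (N : Submodule A Q) : Submodule A Q where
  carrier := {z | ∃ s, s ∉ p ∧ s • z ∈ N}
  add_mem' := by
    rintro x y ⟨s, hs, hx⟩ ⟨t, ht, hy⟩
    refine ⟨s * t, fun h => ?_, ?_⟩
    · rcases Ideal.IsPrime.mem_or_mem inferInstance h with h | h
      · exact hs h
      · exact ht h
    · rw [smul_add]
      refine N.add_mem ?_ ?_
      · rw [mul_comm, mul_smul]; exact N.smul_mem _ hx
      · rw [mul_smul]; exact N.smul_mem _ hy
  zero_mem' := ⟨1, fun h => (Ideal.IsPrime.ne_top inferInstance) ((Ideal.eq_top_iff_one p).mpr h),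
    by simp⟩
  smul_mem' := by
    rintro c x ⟨s, hs, hx⟩
    exact ⟨s, hs, by rw [smul_comm]; exact N.smul_mem _ hx⟩

variable (p : Ideal A) [p.IsPrime] (N : Submodule A Q)

theorem mem_sat {z : Q} : z ∈ sat p N ↔ ∃ s, s ∉ p ∧ s • z ∈ N := Iff.rfl

theorem le_sat : N ≤ sat p N := fun z hz =>
  ⟨1, fun h => (Ideal.IsPrime.ne_top inferInstance) ((Ideal.eq_top_iff_one p).mpr h), by simpa⟩

theorem mem_sat_of_smul_mem {z : Q} {s : A} (hs : s ∉ p) (h : s • z ∈ sat p N) : z ∈ sat p N := by
  obtain ⟨t, ht, h⟩ := h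
  refine ⟨t * s, fun h' => ?_, by rwa [mul_smul]⟩
  rcases Ideal.IsPrime.mem_or_mem inferInstance h' with h' | h'
  · exact ht h'
  · exact hs h'

/-- Vandermonde elimination. -/
theorem mem_sat_of_vandermonde (r : ℕ) (a : Fin r → A)
    (ha : ∀ i j, i ≠ j → a i - a j ∉ p) (T : Fin r → Q)
    (h : ∀ c, ∑ j : Fin r, a c ^ (j : ℕ) • T j ∈ sat p N) (j : Fin r) : T j ∈ sat p N := by
  classical
  set V := Matrix.vandermonde a with hV
  have hdet : V.det ∉ p := by
    rw [hV, Matrix.det_vandermonde]
    intro hmem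
    obtain ⟨i, -, hi⟩ := (Ideal.IsPrime.prod_mem_iff (p := p)).mp hmem
    obtain ⟨k, hk, hik⟩ := (Ideal.IsPrime.prod_mem_iff (p := p)).mp hi
    rw [Finset.mem_Ioi] at hk
    exact ha k i (ne_of_gt hk) hik
  apply mem_sat_of_smul_mem p N hdet
  have key : V.det • T j = ∑ c, V.adjugate j c • ∑ i : Fin r, a c ^ (i : ℕ) • T i := by
    have h1 : ∀ c, V.adjugate j c • ∑ i : Fin r, a c ^ (i : ℕ) • T i =
        ∑ i, (V.adjugate j c * V c i) • T i := by
      intro c
      rw [Finset.smul_sum]
      refine Finset.sum_congr rfl fun i _ => ?_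
      rw [mul_smul]
      rfl
    simp_rw [h1]
    rw [Finset.sum_comm]
    simp_rw [← Finset.sum_smul]
    have h2 : ∀ i, ∑ c, V.adjugate j c * V c i = (V.adjugate * V) j i := fun i => by
      rw [Matrix.mul_apply]
    simp_rw [h2, Matrix.adjugate_mul, Matrix.smul_apply, Matrix.one_apply, smul_eq_mul, mul_ite,
      mul_one, mul_zero, ite_smul, zero_smul]
    rw [Finset.sum_ite_eq]
    simp
  rw [key]
  exact (sat p N).sum_mem fun c _ => (sat p N).smul_mem _ (h c)

end sat

section card

variable {A : Type u} [CommRing A]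

/-- if the residue field at `p` has at least `d` elements, there are `d` elements of `A` which are
pairwise distinct modulo `p`. -/
theorem exists_distinct_mod (p : Ideal A) [p.IsPrime] (d : ℕ)
    (h : (d : Cardinal) ≤ Cardinal.mk p.ResidueField) :
    ∃ a : Fin d → A, ∀ i j, i ≠ j → a i - a j ∉ p := by
  suffices H : ∃ b : Fin d → A ⧸ p, Function.Injective b by
    obtain ⟨b, hb⟩ := H
    choose a ha using fun i => Ideal.Quotient.mk_surjective (b i)
    refine ⟨a, fun i j hij hmem => hij (hb ?_)⟩
    rw [← ha i, ← ha j]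
    exact (Ideal.Quotient.eq).mpr hmem
  by_cases hinf : Infinite (A ⧸ p)
  · exact ⟨fun i => Infinite.natEmbedding (A ⧸ p) i, fun i j hij =>
      Fin.ext ((Infinite.natEmbedding (A ⧸ p)).injective hij)⟩
  · rw [not_infinite_iff_finite] at hinf
    have hfield : IsField (A ⧸ p) := Finite.isField_of_domain (A ⧸ p)
    have hmax : p.IsMaximal := Ideal.Quotient.maximal_of_isField p hfield
    have hbij := Ideal.bijective_algebraMap_quotient_residueField p
    have hcard : Cardinal.mk (A ⧸ p) = Cardinal.mk p.ResidueField :=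
      Cardinal.mk_congr (Equiv.ofBijective _ hbij)
    rw [← hcard] at h
    have h' : Cardinal.lift.{u} (Cardinal.mk (Fin d)) ≤ Cardinal.lift.{0} (Cardinal.mk (A ⧸ p)) := by
      rw [Cardinal.mk_fin, Cardinal.lift_natCast, Cardinal.lift_uzero]
      exact h
    obtain ⟨e⟩ := Cardinal.lift_mk_le'.mp h'
    exact ⟨e, e.injective⟩

end card

section main

variable {A M : Type u} [CommRing A] [AddCommGroup M] [Module A M]

variable (A M) in
/-- the span of the `d`-th divided powers -/
noncomputable def N (d : ℕ) : Submodule A (DividedPowerAlgebra A M) :=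
  Submodule.span A (Set.range (dp A d : M → DividedPowerAlgebra A M))

/-- `w` times any `r`-th divided power lies in the saturation of `N d` at `p`. -/
def Good (p : Ideal A) [p.IsPrime] (d r : ℕ) (w : DividedPowerAlgebra A M) : Prop :=
  ∀ m : M, dp A r m * w ∈ sat p (N A M d)

theorem dp_smul_add (r : ℕ) (a : A) (m m' : M) :
    dp A r (a • m' + m) = ∑ t ∈ range (r + 1), a ^ t • (dp A t m' * dp A (r - t) m) := by
  rw [dp_add, Finset.Nat.sum_antidiagonal_eq_sum_range_succ_mk]
  refine Finset.sum_congr rfl fun t _ => ?_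
  rw [dp_smul, smul_mul_assoc]

theorem good_step (p : Ideal A) [p.IsPrime] (d : ℕ) (a : Fin d → A)
    (ha : ∀ i j, i ≠ j → a i - a j ∉ p) (r : ℕ) (hr : r ≤ d) (w : DividedPowerAlgebra A M)
    (hG : Good p d r w) (i j : ℕ) (hij : i + j = r) (m' : M) :
    Good p d i (dp A j m' * w) := by
  intro m
  set a' : Fin r → A := fun c => a (Fin.castLE hr c) with ha'
  have hT : ∀ t : Fin r, dp A (t : ℕ) m' * dp A (r - t) m * w ∈ sat p (N A M d) := by
    apply mem_sat_of_vandermonde p _ r a'
    · intro c c' hcc'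
      exact ha _ _ (fun h => hcc' (Fin.castLE_injective hr h))
    · intro c
      have h1 := hG (a' c • m' + m)
      have h2 := hG m'
      have e : ∑ t : Fin r, a' c ^ (t : ℕ) • (dp A (t : ℕ) m' * dp A (r - t) m * w) =
          dp A r (a' c • m' + m) * w - a' c ^ r • (dp A r m' * w) := by
        rw [dp_smul_add, Finset.sum_range_succ, Nat.sub_self, dp_zero, mul_one, add_mul,
          Finset.sum_mul, smul_mul_assoc, add_sub_cancel_right,
          Finset.sum_range (fun t => a' c ^ t • (dp A t m' * dp A (r - t) m) * w)]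
        refine Finset.sum_congr rfl fun t _ => ?_
        rw [smul_mul_assoc]
      rw [e]
      exact Submodule.sub_mem _ h1 (Submodule.smul_mem _ _ h2)
  rcases Nat.lt_or_ge j r with hjr | hjr
  · have hi : r - j = i := by omega
    have := hT ⟨j, hjr⟩
    simp only [hi] at this
    have e : dp A i m * (dp A j m' * w) = dp A j m' * dp A i m * w := by ring
    rw [e]
    exact this
  · have hj : j = r := by omega
    have hi : i = 0 := by omega
    subst hj hi
    rw [dp_zero, one_mul]
    exact hG m'

theorem good_prod (p : Ideal A) [p.IsPrime] (d : ℕ) (a : Fin d → A)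
    (ha : ∀ i j, i ≠ j → a i - a j ∉ p) :
    ∀ (n : ℕ) (k : Fin n → ℕ) (m : Fin n → M) (r : ℕ), r + ∑ i, k i = d →
      Good p d r (∏ i, dp A (k i) (m i)) := by
  intro n
  induction n with
  | zero =>
    intro k m r hr
    simp only [univ_eq_empty, sum_empty, add_zero] at hr
    subst hr
    intro x
    simp only [univ_eq_empty, prod_empty, mul_one]
    exact le_sat _ _ (Submodule.subset_span ⟨x, rfl⟩)
  | succ n ih =>
    intro k m r hr
    rw [Fin.prod_univ_succ]
    rw [Fin.sum_univ_succ] at hr
    have := ih (fun i => k i.succ) (fun i => m i.succ) (r + k 0) (by omega)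
    exact good_step p d a ha (r + k 0) (by omega) _ this r (k 0) rfl (m 0)

theorem prod_mem_sat_of_card (p : Ideal A) [p.IsPrime] (d : ℕ)
    (h : (d : Cardinal) ≤ Cardinal.mk p.ResidueField) (n : ℕ) (k : Fin n → ℕ) (m : Fin n → M)
    (hk : ∑ i, k i = d) : ∏ i, dp A (k i) (m i) ∈ sat p (N A M d) := by
  obtain ⟨a, ha⟩ := exists_distinct_mod p d h
  have := good_prod p d a ha n k m 0 (by omega) (0 : M)
  rwa [dp_zero, one_mul] at this

theorem prod_mem_sat_of_cyclic (p : Ideal A) [p.IsPrime] (d : ℕ)
    (x : LocalizedModule p.primeCompl M)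
    (hx : Submodule.span (Localization.AtPrime p) {x} = ⊤) (n : ℕ) (k : Fin n → ℕ)
    (m : Fin n → M) (hk : ∑ i, k i = d) : ∏ i, dp A (k i) (m i) ∈ sat p (N A M d) := by
  classical
  induction x using LocalizedModule.induction_on with
  | h m₀ t =>
  have hex : ∀ i, ∃ s : A, s ∉ p ∧ ∃ c : A, s • m i = c • m₀ := by
    intro i
    have hmem : LocalizedModule.mk (m i) (1 : p.primeCompl) ∈
        Submodule.span (Localization.AtPrime p) {LocalizedModule.mk m₀ t} := by
      rw [hx]; trivial
    obtain ⟨l, hl⟩ := Submodule.mem_span_singleton.mp hmem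
    induction l using Localization.induction_on with
    | H bu =>
    obtain ⟨b, u⟩ := bu
    rw [LocalizedModule.mk_smul_mk, LocalizedModule.mk_eq] at hl
    obtain ⟨v, hv⟩ := hl
    refine ⟨(v : A) * ((u : A) * (t : A)), ?_, (v : A) * b, ?_⟩
    · exact (v * (u * t)).2
    · have := hv.symm
      simp only [Submonoid.smul_def, one_smul] at this
      rw [mul_smul, mul_smul (v : A) b, ← this, Submonoid.coe_mul, mul_smul]
  choose s hs c hc using hex
  refine ⟨∏ i, s i ^ k i, ?_, ?_⟩
  · intro hmem
    obtain ⟨i, -, hi⟩ := (Ideal.IsPrime.prod_mem_iff (p := p)).mp hmem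
    exact hs i (Ideal.IsPrime.mem_of_pow_mem inferInstance _ hi)
  · rw [← Finset.prod_smul]
    have e : ∀ i, s i ^ k i • dp A (k i) (m i) = c i ^ k i • dp A (k i) m₀ := by
      intro i
      rw [← dp_smul, hc i, dp_smul]
    simp_rw [e]
    rw [Finset.prod_smul, prod_dp, hk]
    refine Submodule.smul_mem _ _ ?_
    rw [← nsmul_eq_mul]
    exact Submodule.smul_of_tower_mem _ _ (Submodule.subset_span ⟨m₀, rfl⟩)

/-- **Main theorem**: if at every prime either the residue field has at least `d` elements or
`M` is locally cyclic, every product of divided powers of total degree `d` lies in the span of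
the `d`-th divided powers. -/
theorem prod_dp_mem_span (d : ℕ)
    (h : ∀ p : PrimeSpectrum A, (d : Cardinal) ≤ Cardinal.mk p.asIdeal.ResidueField ∨
      ∃ x : LocalizedModule p.asIdeal.primeCompl M,
        Submodule.span (Localization.AtPrime p.asIdeal) {x} = ⊤)
    (n : ℕ) (k : Fin n → ℕ) (m : Fin n → M) (hk : ∑ i, k i = d) :
    ∏ i, dp A (k i) (m i) ∈ N A M d := by
  set z := ∏ i, dp A (k i) (m i) with hz
  let I : Ideal A := (N A M d).comap (LinearMap.toSpanSingleton A _ z)
  have hI : ∀ s : A, s ∈ I ↔ s • z ∈ N A M d := fun s => Iff.rfl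
  suffices hI1 : I = ⊤ by
    have : (1 : A) ∈ I := by rw [hI1]; trivial
    rw [hI, one_smul] at this
    exact this
  by_contra hne
  obtain ⟨P, hP, hle⟩ := Ideal.exists_le_maximal I hne
  have hPp : P.IsPrime := hP.isPrime
  have hmem : z ∈ sat P (N A M d) := by
    rcases h ⟨P, hPp⟩ with h1 | ⟨x, hx⟩
    · exact prod_mem_sat_of_card P d h1 n k m hk
    · exact prod_mem_sat_of_cyclic P d x hx n k m hk
  obtain ⟨s, hs, hsz⟩ := hmem
  exact hs (hle ((hI s).mpr hsz))

end main

end Groth.Agent.H68.GS
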