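import Groth.Agent.H68.LawGammaGen
import Mathlib

/-!
# The divided power algebra is unique up to unique isomorphism
-/

set_option autoImplicit false
universe u
open scoped TensorProduct

namespace Groth.Agent.H68.CR

variable {A : Type u} [CommRing A] {B : Type u} [CommRing B] [Algebra A B] {d : ℕ}
  {C P : Type u} [CommRing C] [Algebra A C] [CommRing P] [Algebra A P]

/-- Two divided power algebras of the same algebra are isomorphic, compatibly with the laws. -/
theorem exists_algEquiv_of_isGammaD (γ : PolLaw.MulLaw A B C d) (hγ : PolLaw.IsGammaD γ)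
    (τ : PolLaw.MulLaw A B P d) (hτ : PolLaw.IsGammaD τ) :
    ∃ e : C ≃ₐ[A] P, PolLaw.postcomp e.toAlgHom.toLinearMap γ.law = τ.law := by
  obtain ⟨f, hf, -⟩ := hγ P τ
  obtain ⟨g, hg, -⟩ := hτ C γ
  obtain ⟨i, -, hi⟩ := hγ C γ
  obtain ⟨j, -, hj⟩ := hτ P τ
  have e1 : PolLaw.postcomp (g.comp f).toLinearMap γ.law = γ.law := by
    rw [postcomp_comp, hf, hg]
  have e2 : PolLaw.postcomp (f.comp g).toLinearMap τ.law = τ.law := by
    rw [postcomp_comp, hg, hf]
  have h1 : g.comp f = AlgHom.id A C := by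
    rw [hi (g.comp f) e1, hi (AlgHom.id A C) (postcomp_id γ.law)]
  have h2 : f.comp g = AlgHom.id A P := by
    rw [hj (f.comp g) e2, hj (AlgHom.id A P) (postcomp_id τ.law)]
  exact ⟨AlgEquiv.ofAlgHom f g h2 h1, hf⟩

end Groth.Agent.H68.CR
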