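import Mathlib.RingTheory.GradedAlgebra.Homogeneous.Ideal
import Mathlib.RingTheory.FiniteType
import Mathlib.RingTheory.Noetherian.Basic
import Mathlib.RingTheory.Adjoin.FG

set_option autoImplicit false
universe u
open DirectSum

namespace Groth.Agent.H68.GrRing

variable {R A : Type u} [CommRing R] [CommRing A] [Algebra R A]
    (𝒜 : ℤ → Submodule R A) [GradedAlgebra 𝒜]

/-- Key extraction lemma: a homogeneous ideal generated by elements of a fixed degree `n` is
generated by finitely many of them, and its degree `n` part is spanned over `𝒜 0` by them. -/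
lemma exists_finset_span (hFG : ∀ I : Ideal A, I.IsHomogeneous 𝒜 → I.FG) (n : ℤ) (S : Set A)
    (hS : S ⊆ 𝒜 n) :
    ∃ T : Finset A, ↑T ⊆ S ∧ ∀ x ∈ Ideal.span S, x ∈ 𝒜 n →
      x ∈ Submodule.span (𝒜 0) (T : Set A) := by
  classical
  have hhom : (Ideal.span S).IsHomogeneous 𝒜 :=
    Ideal.homogeneous_span 𝒜 S (fun x hx => ⟨n, hS hx⟩)
  obtain ⟨T, hTS, hT⟩ := (Submodule.fg_span_iff_fg_span_finset_subset S).1 (hFG _ hhom)
  refine ⟨T, hTS, ?_⟩
  intro x hx hxn
  have hx' : x ∈ Submodule.span A (T : Set A) := hT ▸ hx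
  obtain ⟨f, -, hf⟩ := Submodule.mem_span_finset.1 hx'
  have h1 : x = ∑ t ∈ T, ((decompose 𝒜 (f t) 0 : A)) * t := by
    conv_lhs => rw [← decompose_of_mem_same 𝒜 hxn, ← hf]
    rw [decompose_sum, DFinsupp.finsetSum_apply, AddSubmonoidClass.coe_finsetSum]
    refine Finset.sum_congr rfl fun t ht => ?_
    have htn : t ∈ 𝒜 n := hS (hTS ht)
    have := coe_decompose_mul_add_of_right_mem 𝒜 (i := 0) (a := f t) htn
    rw [zero_add] at this
    rw [smul_eq_mul, this]
  rw [h1]
  refine Submodule.sum_mem _ fun t ht => ?_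
  have : ((decompose 𝒜 (f t) 0 : A)) * t = (decompose 𝒜 (f t) 0 : 𝒜 0) • t := rfl
  rw [this]
  exact Submodule.smul_mem _ _ (Submodule.subset_span ht)

/-- Under finite generation of homogeneous ideals, the degree zero part is Noetherian. -/
lemma isNoetherianRing_zero (hFG : ∀ I : Ideal A, I.IsHomogeneous 𝒜 → I.FG) :
    IsNoetherianRing (𝒜 0) := by
  classical
  rw [isNoetherianRing_iff_ideal_fg]
  intro J
  let ι : 𝒜 0 →ₗ[𝒜 0] A := Algebra.linearMap (𝒜 0) A
  have hι : ∀ j : 𝒜 0, ι j = (j : A) := fun j => SetLike.GradeZero.algebraMap_apply 𝒜 j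
  have hιinj : Function.Injective ι := by
    intro a b hab
    rw [hι, hι] at hab
    exact Subtype.ext hab
  obtain ⟨T, hTS, hT⟩ := exists_finset_span 𝒜 hFG 0 (ι '' (J : Set (𝒜 0))) (by
    rintro _ ⟨j, -, rfl⟩
    rw [hι]; exact j.2)
  obtain ⟨T', hT'J, rfl⟩ := Finset.subset_set_image_iff.1 hTS
  refine ⟨T', le_antisymm (Submodule.span_le.2 hT'J) ?_⟩
  intro x hx
  have h1 : ι x ∈ Submodule.span (𝒜 0) ((T'.image ι : Finset A) : Set A) :=
    hT (ι x) (Ideal.subset_span ⟨x, hx, rfl⟩) (by rw [hι]; exact x.2)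
  rw [Finset.coe_image, ← Submodule.map_span] at h1
  obtain ⟨y, hy, hyx⟩ := h1
  rw [← hιinj hyx]
  exact hy

/-- Under finite generation of homogeneous ideals, the subalgebra generated over `𝒜 0` by the
pieces of degrees `ε * m`, `m : ℕ`, is finitely generated. -/
lemma adjoin_fg_of_sign (hFG : ∀ I : Ideal A, I.IsHomogeneous 𝒜 → I.FG) (ε : ℤ) :
    (Algebra.adjoin (𝒜 0) {a : A | ∃ m : ℕ, a ∈ 𝒜 (ε * m)}).FG := by
  classical
  let Sp : Set A := {a : A | ∃ m : ℕ, 0 < m ∧ a ∈ 𝒜 (ε * m)}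
  have hhom : (Ideal.span Sp).IsHomogeneous 𝒜 :=
    Ideal.homogeneous_span 𝒜 Sp (fun x hx => by
      obtain ⟨m, -, hm⟩ := hx
      exact ⟨_, hm⟩)
  obtain ⟨T₀, hT₀S, hT₀⟩ := (Submodule.fg_span_iff_fg_span_finset_subset Sp).1 (hFG _ hhom)
  have hdeg : ∀ t ∈ T₀, ∃ m : ℕ, 0 < m ∧ t ∈ 𝒜 (ε * m) := fun t ht => hT₀S ht
  choose! dg hdg0 hdg using hdeg
  let D : ℕ := 1 + T₀.sup dg
  have hD : ∀ t ∈ T₀, dg t < D := fun t ht => by
    have := Finset.le_sup (f := dg) ht
    omega
  choose Tm hTm₁ hTm₂ using fun m : ℕ =>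
    exists_finset_span 𝒜 hFG (ε * m) (𝒜 (ε * m) : Set A) subset_rfl
  let T : Finset A := T₀ ∪ (Finset.range D).biUnion Tm
  have hT₀T : ∀ t ∈ T₀, t ∈ Algebra.adjoin (𝒜 0) (T : Set A) := fun t ht =>
    Algebra.subset_adjoin (Finset.mem_coe.2 (Finset.mem_union_left _ ht))
  have claim : ∀ m : ℕ, ∀ x ∈ 𝒜 (ε * m), x ∈ Algebra.adjoin (𝒜 0) (T : Set A) := by
    intro m
    induction m using Nat.strong_induction_on with
    | _ m ih =>
      intro x hx
      by_cases hm : m < D
      · have h1 : x ∈ Submodule.span (𝒜 0) (Tm m : Set A) :=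
          hTm₂ m x (Ideal.subset_span hx) hx
        have h2 : Submodule.span (𝒜 0) (Tm m : Set A) ≤
            Subalgebra.toSubmodule (Algebra.adjoin (𝒜 0) (T : Set A)) := by
          rw [Submodule.span_le]
          intro y hy
          refine Algebra.subset_adjoin (Finset.mem_coe.2 (Finset.mem_union_right _ ?_))
          exact Finset.mem_biUnion.2 ⟨m, Finset.mem_range.2 hm, hy⟩
        exact h2 h1
      · rw [not_lt] at hm
        have hxI : x ∈ Submodule.span A (T₀ : Set A) := by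
          have : x ∈ Submodule.span A Sp := Submodule.subset_span ⟨m, by omega, hx⟩
          exact hT₀ ▸ this
        obtain ⟨f, -, hf⟩ := Submodule.mem_span_finset.1 hxI
        have h1 : x = ∑ t ∈ T₀, ((decompose 𝒜 (f t) (ε * ((m - dg t : ℕ) : ℤ)) : A)) * t := by
          conv_lhs => rw [← decompose_of_mem_same 𝒜 hx, ← hf]
          rw [decompose_sum, DFinsupp.finsetSum_apply, AddSubmonoidClass.coe_finsetSum]
          refine Finset.sum_congr rfl fun t ht => ?_
          have htn : t ∈ 𝒜 (ε * (dg t : ℤ)) := hdg t ht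
          have hle : dg t ≤ m := (hD t ht).le.trans hm
          have := coe_decompose_mul_add_of_right_mem 𝒜 (i := ε * ((m - dg t : ℕ) : ℤ))
            (a := f t) htn
          have e : ε * ((m - dg t : ℕ) : ℤ) + ε * (dg t : ℤ) = ε * (m : ℤ) := by
            rw [← mul_add]; congr 1; omega
          rw [e] at this
          rw [smul_eq_mul, this]
        rw [h1]
        refine Subalgebra.sum_mem _ fun t ht => ?_
        refine Subalgebra.mul_mem _ ?_ (hT₀T t ht)
        have hlt : m - dg t < m := by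
          have := hdg0 t ht
          have hle : dg t ≤ m := (hD t ht).le.trans hm
          omega
        exact ih (m - dg t) hlt _ (SetLike.coe_mem _)
  refine ⟨T, le_antisymm (Algebra.adjoin_mono ?_) (Algebra.adjoin_le ?_)⟩
  · intro t ht
    rcases Finset.mem_union.1 (Finset.mem_coe.1 ht) with h | h
    · obtain ⟨m, -, hm⟩ := hT₀S h
      exact ⟨m, hm⟩
    · obtain ⟨m, -, hm⟩ := Finset.mem_biUnion.1 h
      exact ⟨m, hTm₁ m hm⟩
  · rintro x ⟨m, hm⟩
    exact claim m x hm

end Groth.Agent.H68.GrRing
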