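import Mathlib.RingTheory.GradedAlgebra.Basic
import Mathlib.Algebra.Algebra.Operations
import Mathlib.RingTheory.Ideal.Span
import Mathlib.RingTheory.Ideal.Operations
import Mathlib.Algebra.BigOperators.Fin

set_option autoImplicit false
universe u
open DirectSum

namespace Groth.Agent.H68.GrRing

variable {R A : Type u} [CommRing R] [CommRing A] [Algebra R A]
    (𝒜 : ℤ → Submodule R A) [GradedAlgebra 𝒜]
    {p : ℕ} (f : Fin p → A) (deg : Fin p → ℤ)

/-- The monomial `∏ f_i ^ α_i`. -/
noncomputable def mono (α : Fin p → ℕ) : A := ∏ i, f i ^ α i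

/-- The weight `∑ α_i deg_i`. -/
def wt (α : Fin p → ℕ) : ℤ := ∑ i, (α i : ℤ) * deg i

lemma mono_add (α β : Fin p → ℕ) : mono f (α + β) = mono f α * mono f β := by
  unfold mono
  rw [← Finset.prod_mul_distrib]
  refine Finset.prod_congr rfl fun i _ => ?_
  rw [Pi.add_apply, pow_add]

lemma wt_add (α β : Fin p → ℕ) : wt deg (α + β) = wt deg α + wt deg β := by
  unfold wt
  rw [← Finset.sum_add_distrib]
  refine Finset.sum_congr rfl fun i _ => ?_
  rw [Pi.add_apply]; push_cast; ring

lemma mono_single (i : Fin p) (e : ℕ) : mono f (Pi.single i e) = f i ^ e := by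
  classical
  unfold mono
  rw [Fintype.prod_eq_single i]
  · rw [Pi.single_eq_same]
  · intro j hj
    rw [Pi.single_eq_of_ne hj, pow_zero]

lemma wt_single (i : Fin p) (e : ℕ) : wt deg (Pi.single i e) = (e : ℤ) * deg i := by
  classical
  unfold wt
  rw [Fintype.sum_eq_single i]
  · rw [Pi.single_eq_same]
  · intro j hj
    rw [Pi.single_eq_of_ne hj]; simp

lemma mono_zero : mono f (0 : Fin p → ℕ) = 1 := by
  unfold mono; simp

lemma wt_zero : wt deg (0 : Fin p → ℕ) = 0 := by
  unfold wt; simp

variable {f deg}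

lemma mono_mem (hf : ∀ i, f i ∈ 𝒜 (deg i)) (α : Fin p → ℕ) : mono f α ∈ 𝒜 (wt deg α) := by
  unfold mono wt
  have := SetLike.prod_pow_mem_graded 𝒜 deg f (F := Finset.univ) α (fun k _ => hf k)
  simpa [nsmul_eq_mul] using this

variable (f deg)

/-- The generating set of "monomial terms" of total degree `n`. -/
def gens (n : ℤ) : Set A :=
  {y | ∃ (k : ℤ) (a : A) (α : Fin p → ℕ), k ≤ 0 ∧ a ∈ 𝒜 k ∧ k + wt deg α = n ∧ y = a * mono f α}

lemma gens_mul (n : ℤ) (i : Fin p) {y : A} (hy : y ∈ gens 𝒜 f deg n) :
    y * f i ∈ gens 𝒜 f deg (n + deg i) := by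
  obtain ⟨k, a, α, hk, ha, hn, rfl⟩ := hy
  refine ⟨k, a, α + Pi.single i 1, hk, ha, ?_, ?_⟩
  · rw [wt_add, wt_single, ← hn]; push_cast; ring
  · rw [mono_add, mono_single, pow_one, mul_assoc]

lemma span_gens_mul (n : ℤ) (i : Fin p) {y : A} (hy : y ∈ Submodule.span R (gens 𝒜 f deg n)) :
    y * f i ∈ Submodule.span R (gens 𝒜 f deg (n + deg i)) := by
  have h : (Submodule.span R (gens 𝒜 f deg n)).map (LinearMap.mulRight R (f i)) ≤
      Submodule.span R (gens 𝒜 f deg (n + deg i)) := by
    rw [Submodule.map_span, Submodule.span_le]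
    rintro _ ⟨y, hy, rfl⟩
    exact Submodule.subset_span (gens_mul 𝒜 f deg n i hy)
  exact h ⟨y, hy, rfl⟩

variable {f deg}

/-- Every homogeneous element is an `R`-combination of monomial terms with coefficient of
nonpositive degree. -/
lemma mem_span_gens (hdeg : ∀ i, 0 < deg i) (hf : ∀ i, f i ∈ 𝒜 (deg i))
    (hgen : Ideal.span {a : A | ∃ n : ℤ, 0 < n ∧ a ∈ 𝒜 n} = Ideal.span (Set.range f))
    (m : ℕ) : ∀ n : ℤ, n ≤ m → ∀ x ∈ 𝒜 n, x ∈ Submodule.span R (gens 𝒜 f deg n) := by
  induction m with
  | zero =>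
    intro n hn x hx
    refine Submodule.subset_span ⟨n, x, 0, by simpa using hn, hx, ?_, ?_⟩
    · rw [wt_zero, add_zero]
    · rw [mono_zero, mul_one]
  | succ m ih =>
    intro n hn x hx
    by_cases hnm : n ≤ m
    · exact ih n hnm x hx
    · have hnpos : 0 < n := by omega
      have hxI : x ∈ Ideal.span (Set.range f) := by
        rw [← hgen]; exact Ideal.subset_span ⟨n, hnpos, hx⟩
      obtain ⟨c, hc⟩ := Ideal.mem_span_range_iff_exists_fun.1 hxI
      have h1 : x = ∑ i, ((decompose 𝒜 (c i) (n - deg i) : A)) * f i := by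
        conv_lhs => rw [← decompose_of_mem_same 𝒜 hx, ← hc]
        rw [decompose_sum, DFinsupp.finsetSum_apply, AddSubmonoidClass.coe_finsetSum]
        refine Finset.sum_congr rfl fun i _ => ?_
        have := coe_decompose_mul_add_of_right_mem 𝒜 (i := n - deg i) (a := c i) (hf i)
        rw [sub_add_cancel] at this
        exact this
      rw [h1]
      refine Submodule.sum_mem _ fun i _ => ?_
      have h2 := ih (n - deg i) (by have := hdeg i; push_cast at hn; omega)
        (decompose 𝒜 (c i) (n - deg i) : A) (SetLike.coe_mem _)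
      have h3 := span_gens_mul 𝒜 f deg (n - deg i) i h2
      rwa [sub_add_cancel] at h3

/-- `A_N = A_d · A_{N-d}` for `N > dp - (d_1 + ⋯ + d_p)`. -/
theorem piece_eq_mul (hdeg : ∀ i, 0 < deg i) (hf : ∀ i, f i ∈ 𝒜 (deg i))
    (hgen : Ideal.span {a : A | ∃ n : ℤ, 0 < n ∧ a ∈ 𝒜 n} = Ideal.span (Set.range f))
    (d : ℤ) (hd : 0 < d) (hdvd : ∀ i, deg i ∣ d) (N : ℤ) (hN : d * p - ∑ i, deg i < N) :
    𝒜 N = 𝒜 d * 𝒜 (N - d) := by
  classical
  apply le_antisymm
  · intro x hx
    have hx' := mem_span_gens 𝒜 hdeg hf hgen N.toNat N (Int.self_le_toNat N) x hx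
    have hle : Submodule.span R (gens 𝒜 f deg N) ≤ 𝒜 d * 𝒜 (N - d) := by
      rw [Submodule.span_le]
      rintro _ ⟨k, a, α, hk, ha, hn, rfl⟩
      -- pigeonhole
      choose e he using hdvd
      have hepos : ∀ i, 0 < e i := fun i => by
        have h1 := hdeg i
        have h2 : 0 < deg i * e i := (he i) ▸ hd
        rcases lt_trichotomy 0 (e i) with h' | h' | h'
        · exact h'
        · rw [← h', mul_zero] at h2; exact absurd h2 (lt_irrefl _)
        · exact absurd h2 (not_lt.2 (mul_nonpos_of_nonneg_of_nonpos h1.le h'.le))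
      have hex : ∃ i, (e i).toNat ≤ α i := by
        by_contra hcon
        push Not at hcon
        have h1 : ∀ i, (α i : ℤ) * deg i ≤ d - deg i := by
          intro i
          have h2 : (α i : ℤ) ≤ e i - 1 := by
            have := hcon i
            have h3 := hepos i
            omega
          calc (α i : ℤ) * deg i ≤ (e i - 1) * deg i :=
                mul_le_mul_of_nonneg_right h2 (hdeg i).le
            _ = d - deg i := by rw [he i]; ring
        have h2 : wt deg α ≤ d * p - ∑ i, deg i := by
          unfold wt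
          calc ∑ i, (α i : ℤ) * deg i ≤ ∑ i : Fin p, (d - deg i) := Finset.sum_le_sum fun i _ => h1 i
            _ = d * p - ∑ i, deg i := by
              rw [Finset.sum_sub_distrib, Finset.sum_const, Finset.card_univ, Fintype.card_fin,
                nsmul_eq_mul, mul_comm]
        omega
      obtain ⟨i, hi⟩ := hex
      let β : Fin p → ℕ := Function.update α i (α i - (e i).toNat)
      have hαβ : α = β + Pi.single i (e i).toNat := by
        funext j
        by_cases hj : j = i
        · subst hj
          simp only [β, Pi.add_apply, Function.update_self, Pi.single_eq_same]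
          omega
        · simp only [β, Pi.add_apply, Function.update_of_ne hj, Pi.single_eq_of_ne hj, add_zero]
      have hed : ((e i).toNat : ℤ) * deg i = d := by
        rw [Int.toNat_of_nonneg (hepos i).le, he i, mul_comm]
      have hmono : a * mono f α = f i ^ (e i).toNat * (a * mono f β) := by
        rw [hαβ, mono_add, mono_single]; ring
      rw [hmono]
      refine Submodule.mul_mem_mul ?_ ?_
      · have := SetLike.pow_mem_graded (A := 𝒜) (e i).toNat (hf i)
        rwa [nsmul_eq_mul, hed] at this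
      · have h1 : a * mono f β ∈ 𝒜 (k + wt deg β) :=
          SetLike.mul_mem_graded ha (mono_mem 𝒜 hf β)
        have h2 : k + wt deg β = N - d := by
          have : wt deg α = wt deg β + d := by
            rw [hαβ, wt_add, wt_single, hed]
          omega
        rwa [h2] at h1
    exact hle hx'
  · rw [Submodule.mul_le]
    intro a ha b hb
    have := SetLike.mul_mem_graded ha hb
    rwa [add_sub_cancel] at this

end Groth.Agent.H68.GrRing
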