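import Groth.Prelude.Def_K0Var
import Mathlib

/-!
# Classes of open subschemes in the Grothendieck ring of varieties

For `f : X ⟶ S` of finite type with `X` locally Noetherian (so every open immersion into `X`
is quasi-compact), `clU f U` is the class of the open subscheme `U`.  We prove
inclusion–exclusion and additivity on finite disjoint unions.
-/

set_option autoImplicit false
universe u

open CategoryTheory CategoryTheory.Limits AlgebraicGeometry

namespace Groth.Agent.H68.K0

variable {S X : Scheme.{u}}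

theorem cl_congr_hom {X : Scheme.{u}} {f g : X ⟶ S} [LocallyOfFiniteType f] [QuasiCompact f]
    [LocallyOfFiniteType g] [QuasiCompact g] (h : f = g) : K0Var.cl f = K0Var.cl g := by
  subst h; rfl

theorem cl_eq_zero_of_isEmpty {X : Scheme.{u}} (f : X ⟶ S) [LocallyOfFiniteType f]
    [QuasiCompact f] [IsEmpty X] : K0Var.cl f = 0 :=
  haveI : IsEmpty (K0Var.Gen.mk X f).X := ‹_›
  K0Var.Gen.cl_eq_zero_of_isEmpty (K0Var.Gen.mk X f)

variable (f : X ⟶ S) [LocallyOfFiniteType f] [QuasiCompact f] [IsLocallyNoetherian X]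

/-- The class of the open subscheme `U` of `X` in `K S`. -/
noncomputable def clU (U : X.Opens) : K0Var.K S := K0Var.cl (U.ι ≫ f)

theorem clU_def (U : X.Opens) : clU f U = K0Var.cl (U.ι ≫ f) := rfl

theorem clU_top : clU f ⊤ = K0Var.cl f :=
  K0Var.cl_congr _ _ X.topIso (by simp)

theorem clU_bot : clU f ⊥ = 0 := by
  have : IsEmpty ((⊥ : X.Opens) : Scheme.{u}) :=
    ⟨fun x => (x.2 : (x.1 : X) ∈ (⊥ : X.Opens))⟩
  exact cl_eq_zero_of_isEmpty _

/-- Scissor relation for an open `U ≤ W` and a closed immersion onto `W \ U`. -/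
theorem clU_scissor {U W : X.Opens} (hUW : U ≤ W) {Z : Scheme.{u}} (i : Z ⟶ W.toScheme)
    [IsClosedImmersion i] (hi : Set.range i = (W.ι ⁻¹ᵁ U : Set W.toScheme)ᶜ) :
    clU f W = K0Var.cl (i ≫ W.ι ≫ f) + clU f U := by
  have h1 := K0Var.cl_scissor (W.ι ≫ f) i (X.homOfLE hUW) (by
    rw [hi, compl_inj_iff]
    ext x
    simp only [Set.mem_range, TopologicalSpace.Opens.map_coe, Set.mem_preimage, SetLike.mem_coe]
    constructor
    swap
    · rintro ⟨y, rfl⟩
      have : (W.ι (X.homOfLE hUW y)) = U.ι y := by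
        rw [← Scheme.Hom.comp_apply, Scheme.homOfLE_ι]
      rw [this]
      exact y.2
    · intro hx
      refine ⟨⟨W.ι x, hx⟩, ?_⟩
      apply W.ι.isOpenEmbedding.injective
      rw [← Scheme.Hom.comp_apply, Scheme.homOfLE_ι]
      rfl)
  rw [clU_def, h1, clU_def]
  congr 1
  exact cl_congr_hom (by rw [Scheme.homOfLE_ι_assoc])

/-- Inclusion–exclusion for classes of open subschemes. -/
theorem clU_sup_add_inf (U V : X.Opens) :
    clU f (U ⊔ V) + clU f (U ⊓ V) = clU f U + clU f V := by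
  -- the reduced closed subscheme of `V` supported on `V \ U`
  let C : TopologicalSpace.Closeds V.toScheme :=
    ⟨(V.ι ⁻¹ᵁ (U ⊓ V) : Set V.toScheme)ᶜ, (V.ι ⁻¹ᵁ (U ⊓ V)).2.isClosed_compl⟩
  let I := Scheme.IdealSheafData.vanishingIdeal C
  have hI : Set.range I.subschemeι = (V.ι ⁻¹ᵁ (U ⊓ V) : Set V.toScheme)ᶜ := by
    rw [Scheme.IdealSheafData.range_subschemeι]
    simp [I, C]
  have h2 := clU_scissor f (inf_le_right : U ⊓ V ≤ V) I.subschemeι hI
  -- the same scheme as a closed subscheme of `U ⊔ V`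
  let i₁ : I.subscheme ⟶ (U ⊔ V).toScheme := I.subschemeι ≫ X.homOfLE le_sup_right
  have hr : Set.range i₁ = ((U ⊔ V).ι ⁻¹ᵁ U : Set (U ⊔ V).toScheme)ᶜ := by
    ext x
    simp only [i₁, Scheme.Hom.comp_base, TopCat.hom_comp, ContinuousMap.coe_comp, Set.range_comp,
      hI, Set.mem_image, Set.mem_compl_iff, TopologicalSpace.Opens.map_coe, Set.mem_preimage,
      SetLike.mem_coe]
    constructor
    · rintro ⟨y, hy, rfl⟩ hx
      apply hy
      have : (U ⊔ V).ι (X.homOfLE le_sup_right y) = V.ι y := by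
        rw [← Scheme.Hom.comp_apply, Scheme.homOfLE_ι]
      rw [this] at hx
      exact ⟨hx, y.2⟩
    · intro hx
      have hxV : (U ⊔ V).ι x ∈ V := by
        rcases x.2 with h | h
        · exact absurd h hx
        · exact h
      refine ⟨⟨(U ⊔ V).ι x, hxV⟩, fun h => hx h.1, ?_⟩
      apply (U ⊔ V).ι.isOpenEmbedding.injective
      rw [← Scheme.Hom.comp_apply, Scheme.homOfLE_ι]
      rfl
  have : IsClosedImmersion i₁ := by
    apply IsClosedImmersion.of_isPreimmersion
    rw [hr]
    exact ((U ⊔ V).ι ⁻¹ᵁ U).2.isClosed_compl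
  have h1 := clU_scissor f (le_sup_left : U ≤ U ⊔ V) i₁ hr
  have h3 : K0Var.cl (i₁ ≫ (U ⊔ V).ι ≫ f) = K0Var.cl (I.subschemeι ≫ V.ι ≫ f) :=
    cl_congr_hom (by simp only [i₁, Category.assoc, Scheme.homOfLE_ι_assoc])
  rw [h1, h2, h3]
  ring

theorem clU_sup_of_disjoint (U V : X.Opens) (h : U ⊓ V = ⊥) :
    clU f (U ⊔ V) = clU f U + clU f V := by
  have := clU_sup_add_inf f U V
  rwa [h, clU_bot, add_zero] at this

/-- Additivity of classes on finite disjoint unions of opens. -/
theorem clU_biSup {ι : Type*} (s : Finset ι) (U : ι → X.Opens)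
    (hd : ∀ a ∈ s, ∀ b ∈ s, a ≠ b → U a ⊓ U b = ⊥) :
    clU f (⨆ a ∈ s, U a) = ∑ a ∈ s, clU f (U a) := by
  classical
  induction s using Finset.induction_on with
  | empty => simp [clU_bot]
  | insert a s ha ih =>
    rw [Finset.iSup_insert, Finset.sum_insert ha, clU_sup_of_disjoint, ih]
    · intro b hb c hc hbc
      exact hd b (Finset.mem_insert_of_mem hb) c (Finset.mem_insert_of_mem hc) hbc
    · rw [inf_iSup₂_eq]
      simp only [iSup_eq_bot]
      intro b hb
      exact hd a (Finset.mem_insert_self a s) b (Finset.mem_insert_of_mem hb)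
        (fun h => ha (h ▸ hb))

end Groth.Agent.H68.K0
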