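import Groth.Agent.H68.K0Open

/-!
# Zariski-locally trivial fibrations in the Grothendieck ring of varieties
-/

set_option autoImplicit false
universe u

open CategoryTheory CategoryTheory.Limits AlgebraicGeometry

namespace Groth.Agent.H68.K0

variable {B X Y F : Scheme.{u}} (pY : Y ⟶ B) (pF : F ⟶ B) (f : X ⟶ Y)

/-- A trivialization over `U` restricts to a trivialization over any smaller open. -/
theorem exists_iso_of_le {U U' : Y.Opens} (hle : U' ≤ U)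
    (e : (f ⁻¹ᵁ U).toScheme ≅ pullback (U.ι ≫ pY) pF)
    (he : e.hom ≫ pullback.fst (U.ι ≫ pY) pF = f ∣_ U) :
    ∃ φ : (f ⁻¹ᵁ U').toScheme ≅ pullback (U'.ι ≫ pY) pF,
      φ.hom ≫ pullback.fst (U'.ι ≫ pY) pF = f ∣_ U' := by
  have hU := isPullback_morphismRestrict f U
  have R : IsPullback (pullback.fst (U.ι ≫ pY) pF) (e.inv ≫ (f ⁻¹ᵁ U).ι) U.ι f :=
    hU.of_iso e (Iso.refl _) (Iso.refl _) (Iso.refl _) (by simp [he]) (by simp) (by simp)
      (by simp)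
  have t : IsPullback (pullback.fst (U.ι ≫ pY) pF) (pullback.snd (U.ι ≫ pY) pF) (U.ι ≫ pY) pF :=
    IsPullback.of_hasPullback _ _
  have s : IsPullback (pullback.fst (U'.ι ≫ pY) pF) (pullback.snd (U'.ι ≫ pY) pF)
      (Y.homOfLE hle ≫ U.ι ≫ pY) pF := by
    rw [Scheme.homOfLE_ι_assoc]
    exact IsPullback.of_hasPullback _ _
  have L := IsPullback.of_bot' s t
  have P := L.paste_vert R
  rw [Scheme.homOfLE_ι] at P
  exact ⟨(isPullback_morphismRestrict f U').isoIsPullback _ _ P,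
    IsPullback.isoIsPullback_hom_fst _ _ _ _⟩

section Main

variable [LocallyOfFiniteType pY] [QuasiCompact pY] [LocallyOfFiniteType pF] [QuasiCompact pF]
  [LocallyOfFiniteType f] [QuasiCompact f] [IsLocallyNoetherian X] [IsLocallyNoetherian Y]

/-- The product formula over the open `U`. -/
def St (U : Y.Opens) : Prop :=
  clU (f ≫ pY) (f ⁻¹ᵁ U) = clU pY U * K0Var.cl pF

theorem st_of_triv {U U' : Y.Opens} (hle : U' ≤ U)
    (e : (f ⁻¹ᵁ U).toScheme ≅ pullback (U.ι ≫ pY) pF)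
    (he : e.hom ≫ pullback.fst (U.ι ≫ pY) pF = f ∣_ U) : St pY pF f U' := by
  obtain ⟨φ, hφ⟩ := exists_iso_of_le pY pF f hle e he
  rw [St, clU_def, clU_def, ← K0Var.cl_mul]
  refine K0Var.cl_congr _ _ φ ?_
  rw [reassoc_of% hφ, morphismRestrict_ι_assoc]

theorem st_sup {U₁ U₂ : Y.Opens} (h₁ : St pY pF f U₁) (h₂ : St pY pF f U₂)
    (h₁₂ : St pY pF f (U₁ ⊓ U₂)) : St pY pF f (U₁ ⊔ U₂) := by
  have hX := clU_sup_add_inf (f ≫ pY) (f ⁻¹ᵁ U₁) (f ⁻¹ᵁ U₂)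
  have hY := clU_sup_add_inf pY U₁ U₂
  have hsup : f ⁻¹ᵁ (U₁ ⊔ U₂) = f ⁻¹ᵁ U₁ ⊔ f ⁻¹ᵁ U₂ := by
    ext x; simp
  have hinf : f ⁻¹ᵁ (U₁ ⊓ U₂) = f ⁻¹ᵁ U₁ ⊓ f ⁻¹ᵁ U₂ := rfl
  rw [St] at h₁ h₂ h₁₂ ⊢
  rw [hsup]
  rw [hinf] at h₁₂
  linear_combination hX - h₁₂ + h₁ + h₂ - (K0Var.cl pF) * hY

/-- The hereditary form of the product formula. -/
def HSt (U : Y.Opens) : Prop := ∀ U' ≤ U, St pY pF f U'

theorem hst_bot : HSt pY pF f ⊥ := by
  intro U' hU'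
  obtain rfl : U' = ⊥ := le_bot_iff.mp hU'
  have : f ⁻¹ᵁ (⊥ : Y.Opens) = ⊥ := rfl
  rw [St, this, clU_bot, clU_bot, zero_mul]

theorem hst_sup {U₁ U₂ : Y.Opens} (h₁ : HSt pY pF f U₁) (h₂ : HSt pY pF f U₂) :
    HSt pY pF f (U₁ ⊔ U₂) := by
  intro U' hU'
  have : U' = (U' ⊓ U₁) ⊔ (U' ⊓ U₂) := by
    rw [← inf_sup_left]; exact (inf_eq_left.mpr hU').symm
  rw [this]
  exact st_sup pY pF f (h₁ _ inf_le_right) (h₂ _ inf_le_right)
    (h₁ _ (inf_le_left.trans inf_le_right))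

theorem hst_biSup {ι : Type*} (s : Finset ι) (U : ι → Y.Opens)
    (h : ∀ a ∈ s, HSt pY pF f (U a)) : HSt pY pF f (⨆ a ∈ s, U a) := by
  classical
  induction s using Finset.induction_on with
  | empty => simpa using hst_bot pY pF f
  | insert a s ha ih =>
    rw [Finset.iSup_insert]
    exact hst_sup pY pF f (h a (Finset.mem_insert_self a s))
      (ih fun b hb => h b (Finset.mem_insert_of_mem hb))

/-- **Zariski-locally trivial fibrations**: `[X] = [Y] · [F]`. -/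
theorem cl_eq_mul_of_locally_trivial [CompactSpace Y]
    (hf : ∀ y : Y, ∃ (U : Y.Opens) (e : (f ⁻¹ᵁ U).toScheme ≅ pullback (U.ι ≫ pY) pF),
      y ∈ U ∧ e.hom ≫ pullback.fst (U.ι ≫ pY) pF = f ∣_ U) :
    K0Var.cl (f ≫ pY) = K0Var.cl pY * K0Var.cl pF := by
  choose U e hyU he using hf
  obtain ⟨t, ht⟩ := CompactSpace.elim_nhds_subcover (fun y => (U y : Set Y))
    (fun y => (U y).2.mem_nhds (hyU y))
  have hcov : (⨆ y ∈ t, U y) = ⊤ := by
    apply TopologicalSpace.Opens.ext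
    rw [TopologicalSpace.Opens.coe_top, ← Set.top_eq_univ, ← ht]
    simp
  have key := hst_biSup pY pF f t U (fun y _ U' hU' => st_of_triv pY pF f hU' (e y) (he y))
  have := key ⊤ (by rw [hcov])
  rw [St] at this
  have htop : f ⁻¹ᵁ (⊤ : Y.Opens) = ⊤ := rfl
  rwa [htop, clU_top, clU_top] at this

end Main

end Groth.Agent.H68.K0
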