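import Groth.Agent.H68.LawCHMain
import Mathlib

/-!
# Base change of a multiplicative polynomial law `B → A` along `A → S`
-/

set_option autoImplicit false
universe u
open scoped TensorProduct

namespace Groth.Agent.H68.LC

variable {A : Type u} [CommRing A] {B : Type u} [CommRing B] [Algebra A B]
variable (S : Type u) [CommRing S] [Algebra A S]

/-- The member over the `S`-algebra `R` of the base change to `S` of a law `B → A`. -/
noncomputable def bcFun (F : B →ₚₗ[A] A) (R : Type u) [CommSemiring R] [Algebra S R]
    (z : R ⊗[S] (S ⊗[A] B)) : R ⊗[S] S :=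
  letI : Algebra A R := Algebra.compHom R (algebraMap A S)
  haveI : IsScalarTower A S R := IsScalarTower.of_algebraMap_eq (fun _ => rfl)
  (Algebra.TensorProduct.rid S R R).symm
    (Algebra.TensorProduct.rid A R R
      (F.toFun' R (Algebra.TensorProduct.cancelBaseChange A S R R B z)))

lemma bcFun_compat (F : B →ₚₗ[A] A) {R R' : Type u} [CommSemiring R] [Algebra S R]
    [CommSemiring R'] [Algebra S R'] (φ : R →ₐ[S] R') (z : R ⊗[S] (S ⊗[A] B)) :
    φ.toLinearMap.rTensor S (bcFun S F R z) =
      bcFun S F R' (φ.toLinearMap.rTensor (S ⊗[A] B) z) := by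
  let iR : Algebra A R := Algebra.compHom R (algebraMap A S)
  have tR : IsScalarTower A S R := IsScalarTower.of_algebraMap_eq (fun _ => rfl)
  let iR' : Algebra A R' := Algebra.compHom R' (algebraMap A S)
  have tR' : IsScalarTower A S R' := IsScalarTower.of_algebraMap_eq (fun _ => rfl)
  let φA : R →ₐ[A] R' := φ.restrictScalars A
  have h1 : ∀ z : R ⊗[S] (S ⊗[A] B),
      Algebra.TensorProduct.cancelBaseChange A S R' R' B (φ.toLinearMap.rTensor (S ⊗[A] B) z) =
        φA.toLinearMap.rTensor B (Algebra.TensorProduct.cancelBaseChange A S R R B z) := by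
    intro z
    induction z using TensorProduct.induction_on with
    | zero => simp
    | tmul r y =>
      induction y using TensorProduct.induction_on with
      | zero => simp
      | tmul s b =>
        simp only [LinearMap.rTensor_tmul, AlgHom.toLinearMap_apply,
          Algebra.TensorProduct.cancelBaseChange_tmul]
        simp [φA]
      | add y₁ y₂ h₁ h₂ =>
        simp only [TensorProduct.tmul_add, map_add, h₁, h₂]
    | add z₁ z₂ h₁ h₂ => simp only [map_add, h₁, h₂]
  have h2 : ∀ u : R ⊗[A] A,
      (Algebra.TensorProduct.rid S R' R').symm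
        (Algebra.TensorProduct.rid A R' R' (φA.toLinearMap.rTensor A u)) =
      φ.toLinearMap.rTensor S ((Algebra.TensorProduct.rid S R R).symm
        (Algebra.TensorProduct.rid A R R u)) := by
    intro u
    induction u using TensorProduct.induction_on with
    | zero => simp
    | tmul r a =>
      simp only [LinearMap.rTensor_tmul, AlgHom.toLinearMap_apply,
        Algebra.TensorProduct.rid_tmul, Algebra.TensorProduct.rid_symm_apply]
      rw [show φ (a • r) = a • φ r from map_smul φA a r]
      rfl
    | add u₁ u₂ h₁ h₂ => simp only [map_add, h₁, h₂]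
  show φ.toLinearMap.rTensor S ((Algebra.TensorProduct.rid S R R).symm
    (Algebra.TensorProduct.rid A R R
      (F.toFun' R (Algebra.TensorProduct.cancelBaseChange A S R R B z)))) =
    (Algebra.TensorProduct.rid S R' R').symm
    (Algebra.TensorProduct.rid A R' R'
      (F.toFun' R' (Algebra.TensorProduct.cancelBaseChange A S R' R' B
        (φ.toLinearMap.rTensor (S ⊗[A] B) z))))
  rw [h1, ← F.isCompat_apply' φA, h2]

/-- The base change to `S` of a law `B → A`. -/
noncomputable def bcLaw (F : B →ₚₗ[A] A) : (S ⊗[A] B) →ₚₗ[S] S where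
  toFun' R _ _ := bcFun S F R
  isCompat' φ := by
    funext z
    exact bcFun_compat S F φ z

lemma bcLaw_toFun' (F : B →ₚₗ[A] A) (R : Type u) [CommSemiring R] [Algebra S R]
    (z : R ⊗[S] (S ⊗[A] B)) : (bcLaw S F).toFun' R z = bcFun S F R z := rfl

/-- The base change to `S` of a multiplicative law `B → A` homogeneous of degree `d`. -/
noncomputable def bc {d : ℕ} (F : PolLaw.MulLaw A B A d) : PolLaw.MulLaw S (S ⊗[A] B) S d where
  law := bcLaw S F.law
  homog R _ _ r z := by
    let iR : Algebra A R := Algebra.compHom R (algebraMap A S)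
    have tR : IsScalarTower A S R := IsScalarTower.of_algebraMap_eq (fun _ => rfl)
    show (Algebra.TensorProduct.rid S R R).symm
      (Algebra.TensorProduct.rid A R R
        (F.law.toFun' R (Algebra.TensorProduct.cancelBaseChange A S R R B (r • z)))) =
      r ^ d • (Algebra.TensorProduct.rid S R R).symm
      (Algebra.TensorProduct.rid A R R
        (F.law.toFun' R (Algebra.TensorProduct.cancelBaseChange A S R R B z)))
    rw [map_smul, F.homog R r, map_smul, map_smul]
  mult R _ _ := by
    let iR : Algebra A R := Algebra.compHom R (algebraMap A S)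
    have tR : IsScalarTower A S R := IsScalarTower.of_algebraMap_eq (fun _ => rfl)
    constructor
    · show (Algebra.TensorProduct.rid S R R).symm
        (Algebra.TensorProduct.rid A R R
          (F.law.toFun' R (Algebra.TensorProduct.cancelBaseChange A S R R B 1))) = 1
      rw [map_one, (F.mult R).1, map_one, map_one]
    · intro x y
      show (Algebra.TensorProduct.rid S R R).symm
        (Algebra.TensorProduct.rid A R R
          (F.law.toFun' R (Algebra.TensorProduct.cancelBaseChange A S R R B (x * y)))) =
        (Algebra.TensorProduct.rid S R R).symm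
        (Algebra.TensorProduct.rid A R R
          (F.law.toFun' R (Algebra.TensorProduct.cancelBaseChange A S R R B x))) *
        (Algebra.TensorProduct.rid S R R).symm
        (Algebra.TensorProduct.rid A R R
          (F.law.toFun' R (Algebra.TensorProduct.cancelBaseChange A S R R B y)))
      rw [map_mul, (F.mult R).2, map_mul, map_mul]

lemma cancel_one_tmul (R : Type u) [CommSemiring R] [Algebra A R] [Algebra S R]
    [IsScalarTower A S R] (c : S ⊗[A] B) :
    Algebra.TensorProduct.cancelBaseChange A S R R B ((1 : R) ⊗ₜ[S] c) =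
      Algebra.TensorProduct.map (IsScalarTower.toAlgHom A S R) (AlgHom.id A B) c := by
  induction c using TensorProduct.induction_on with
  | zero => simp
  | tmul s b =>
    rw [Algebra.TensorProduct.cancelBaseChange_tmul, Algebra.TensorProduct.map_tmul,
      IsScalarTower.coe_toAlgHom', AlgHom.id_apply, Algebra.algebraMap_eq_smul_one]
  | add c₁ c₂ h₁ h₂ => simp only [TensorProduct.tmul_add, map_add, h₁, h₂]

/-- The kernel of the base-changed law is the kernel `kerBC` of the prelude. -/
theorem ker_bc {d : ℕ} (F : PolLaw.MulLaw A B A d) :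
    PolLaw.ker (bc S F).law = PolLaw.kerBC F.law S := by
  ext c
  constructor
  · intro h R iR iA iS tower x w
    have e : iA = Algebra.compHom R (algebraMap A S) :=
      Algebra.algebra_ext _ _ (fun a => IsScalarTower.algebraMap_apply A S R a)
    subst e
    let iA' : Algebra A R := Algebra.compHom R (algebraMap A S)
    have h1 := h R ((Algebra.TensorProduct.cancelBaseChange A S R R B).symm x)
      ((Algebra.TensorProduct.cancelBaseChange A S R R B).symm w)
    have h2 : F.law.toFun' R (Algebra.TensorProduct.cancelBaseChange A S R R B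
        ((Algebra.TensorProduct.cancelBaseChange A S R R B).symm x +
          (Algebra.TensorProduct.cancelBaseChange A S R R B).symm w * ((1 : R) ⊗ₜ[S] c))) =
        F.law.toFun' R (Algebra.TensorProduct.cancelBaseChange A S R R B
          ((Algebra.TensorProduct.cancelBaseChange A S R R B).symm x)) :=
      (Algebra.TensorProduct.rid A R R).injective
        ((Algebra.TensorProduct.rid S R R).symm.injective h1)
    rw [map_add, map_mul, AlgEquiv.apply_symm_apply, AlgEquiv.apply_symm_apply,
      cancel_one_tmul] at h2
    exact h2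
  · intro h R _ _ X W
    let iR : Algebra A R := Algebra.compHom R (algebraMap A S)
    have tR : IsScalarTower A S R := IsScalarTower.of_algebraMap_eq (fun _ => rfl)
    show (Algebra.TensorProduct.rid S R R).symm
      (Algebra.TensorProduct.rid A R R
        (F.law.toFun' R (Algebra.TensorProduct.cancelBaseChange A S R R B
          (X + W * ((1 : R) ⊗ₜ[S] c))))) =
      (Algebra.TensorProduct.rid S R R).symm
      (Algebra.TensorProduct.rid A R R
        (F.law.toFun' R (Algebra.TensorProduct.cancelBaseChange A S R R B X)))
    rw [map_add, map_mul, cancel_one_tmul, h R]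

/-- The member of the base-changed law over a test ring carrying compatible structures. -/
lemma bcFun_eq (F : B →ₚₗ[A] A) (R : Type u) [CommSemiring R] [iA : Algebra A R] [Algebra S R]
    [tower : IsScalarTower A S R] (z : R ⊗[S] (S ⊗[A] B)) :
    bcFun S F R z = (Algebra.TensorProduct.rid S R R).symm
      (Algebra.TensorProduct.rid A R R
        (F.toFun' R (Algebra.TensorProduct.cancelBaseChange A S R R B z))) := by
  have e : iA = Algebra.compHom R (algebraMap A S) :=
    Algebra.algebra_ext _ _ (fun a => IsScalarTower.algebraMap_apply A S R a)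
  subst e
  rfl

open Polynomial in
/-- The characteristic polynomial with respect to the base-changed law. -/
lemma charpoly_bc {d : ℕ} (F : PolLaw.MulLaw A B A d) (y : S ⊗[A] B) :
    charpolyLaw (bc S F).law y =
      Algebra.TensorProduct.rid A S[X] S[X]
        (F.law.toFun' S[X]
          (Algebra.TensorProduct.map (IsScalarTower.toAlgHom A S S[X]) (AlgHom.id A B) y -
            (X : S[X]) ⊗ₜ[A] (1 : B))) := by
  rw [charpolyLaw]
  show TensorProduct.rid S S[X] (bcFun S F.law S[X] _) = _
  rw [bcFun_eq, Algebra.TensorProduct.rid_symm_apply, TensorProduct.rid_tmul, one_smul, map_sub,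
    cancel_one_tmul]
  congr 3
  rw [Algebra.TensorProduct.one_def, Algebra.TensorProduct.cancelBaseChange_tmul, one_smul]

lemma rid_map' {R₀ R : Type u} [CommSemiring R₀] [Algebra A R₀] [CommSemiring R] [Algebra A R]
    (ψ : R₀ →ₐ[A] R) (u : R₀ ⊗[A] A) :
    Algebra.TensorProduct.rid A R R (Algebra.TensorProduct.map ψ (AlgHom.id A A) u) =
      ψ (Algebra.TensorProduct.rid A R₀ R₀ u) := by
  induction u using TensorProduct.induction_on with
  | zero => simp
  | tmul r a => simp
  | add x y hx hy => simp only [map_add, hx, hy]

open Polynomial Groth.Agent.H68.PL in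
/-- The characteristic polynomial is natural in the base. -/
lemma charpoly_bc_map {d : ℕ} (F : PolLaw.MulLaw A B A d) {S' : Type u} [CommRing S']
    [Algebra A S'] (ψ : S →ₐ[A] S') (y : S ⊗[A] B) :
    charpolyLaw (bc S' F).law (Algebra.TensorProduct.map ψ (AlgHom.id A B) y) =
      (charpolyLaw (bc S F).law y).map (ψ : S →+* S') := by
  rw [charpoly_bc, charpoly_bc]
  let Ψ : S[X] →ₐ[A] S'[X] := Polynomial.mapAlgHom ψ
  have h1 : Algebra.TensorProduct.map (IsScalarTower.toAlgHom A S' S'[X]) (AlgHom.id A B)
      (Algebra.TensorProduct.map ψ (AlgHom.id A B) y) - (X : S'[X]) ⊗ₜ[A] (1 : B) =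
      Algebra.TensorProduct.map Ψ (AlgHom.id A B)
        (Algebra.TensorProduct.map (IsScalarTower.toAlgHom A S S[X]) (AlgHom.id A B) y -
          (X : S[X]) ⊗ₜ[A] (1 : B)) := by
    rw [map_sub, PL.map_map, PL.map_map, Algebra.TensorProduct.map_tmul]
    congr 2
    · congr 1
      ext s
      simp [Ψ]
    · simp [Ψ]
  rw [h1, ← compat, rid_map']
  simp [Ψ]

/-- Evaluating polynomials is natural in the base. -/
lemma map_aeval {S' : Type u} [CommRing S'] [Algebra A S'] (ψ : S →ₐ[A] S') (y : S ⊗[A] B)
    (p : Polynomial S) :
    Algebra.TensorProduct.map ψ (AlgHom.id A B) (Polynomial.aeval y p) =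
      Polynomial.aeval (Algebra.TensorProduct.map ψ (AlgHom.id A B) y)
        (p.map (ψ : S →+* S')) := by
  rw [Polynomial.aeval_def, Polynomial.aeval_def, Polynomial.eval₂_map,
    ← AlgHom.coe_toRingHom (Algebra.TensorProduct.map ψ (AlgHom.id A B)), Polynomial.hom_eval₂]
  congr 1

end Groth.Agent.H68.LC
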