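import Groth.Agent.H68.LawTransfer
import Groth.Prelude.Def_PolLaw2
import Mathlib

/-!
# Cayley–Hamilton for laws that factor linearly through a product of algebra maps
-/

set_option autoImplicit false
universe u
open scoped TensorProduct

namespace Groth.Agent.H68.LC

variable {A : Type u} [CommRing A] {B P : Type u} [CommRing B] [Algebra A B]
  [CommRing P] [Algebra A P]

lemma finset_prod_tmul {S : Type u} [CommSemiring S] [Algebra A S] {T : Type*} (t : Finset T)
    (a : T → S) (b : T → P) :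
    ∏ x ∈ t, (a x ⊗ₜ[A] b x) = (∏ x ∈ t, a x) ⊗ₜ[A] (∏ x ∈ t, b x) := by
  classical
  induction t using Finset.induction_on with
  | empty => simp [Algebra.TensorProduct.one_def]
  | insert x t hx ih =>
    rw [Finset.prod_insert hx, Finset.prod_insert hx, Finset.prod_insert hx, ih,
      Algebra.TensorProduct.tmul_mul_tmul]

lemma finsupp_prod_tmul_pow {S : Type u} [CommSemiring S] [Algebra A S] {J : Type}
    (s : J → S) (p : J → P) (l : J →₀ ℕ) :
    (l.prod fun j a => (s j ⊗ₜ[A] p j) ^ a) =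
      (l.prod fun j a => s j ^ a) ⊗ₜ[A] (l.prod fun j a => p j ^ a) := by
  rw [Finsupp.prod, Finsupp.prod, Finsupp.prod, ← finset_prod_tmul]
  refine Finset.prod_congr rfl fun j _ => ?_
  rw [Algebra.TensorProduct.tmul_pow]

section Key

variable {κ : Type} [Fintype κ] (g : κ → (B →ₐ[A] P)) (d : ℕ) (hd : Fintype.card κ = d)

/-- Multiplying the two `P`-factors. -/
noncomputable def mulP (S : Type u) [CommSemiring S] [Algebra A S] :
    (S ⊗[A] P) ⊗[A] P →ₐ[A] S ⊗[A] P :=
  Algebra.TensorProduct.productMap (AlgHom.id A (S ⊗[A] P))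
    (Algebra.TensorProduct.includeRight : P →ₐ[A] S ⊗[A] P)

lemma mulP_tmul (S : Type u) [CommSemiring S] [Algebra A S] (r : S ⊗[A] P) (q : P) :
    mulP (A := A) S (r ⊗ₜ[A] q) = r * (1 ⊗ₜ[A] q) := rfl

lemma mulP_prodMap (S : Type u) [CommSemiring S] [Algebra A S] {J : Type} [Fintype J]
    (s : J → S) (p : J → P) (y : J → B) :
    mulP S ((PolLaw.MulLaw.prodMap g d hd).law.toFun' (S ⊗[A] P)
      (∑ j, (s j ⊗ₜ[A] p j) ⊗ₜ[A] y j)) =
    ∏ i, ∑ j, s j ⊗ₜ[A] (p j * g i (y j)) := by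
  rw [PolLaw.MulLaw.prodMap_toFun', map_prod]
  refine Finset.prod_congr rfl fun i _ => ?_
  rw [map_sum, map_sum]
  refine Finset.sum_congr rfl fun j _ => ?_
  rw [Algebra.TensorProduct.map_tmul, mulP_tmul, AlgHom.id_apply,
    Algebra.TensorProduct.tmul_mul_tmul, mul_one]

lemma mulP_prodMap_expand (S : Type u) [CommSemiring S] [Algebra A S] {J : Type} [Fintype J]
    (s : J → S) (p : J → P) (y : J → B) :
    mulP S ((PolLaw.MulLaw.prodMap g d hd).law.toFun' (S ⊗[A] P)
      (∑ j, (s j ⊗ₜ[A] p j) ⊗ₜ[A] y j)) =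
    ∑ l ∈ (coeffE (PolLaw.MulLaw.prodMap g d hd).law y Finset.univ).support,
      (l.prod fun j a => s j ^ a) ⊗ₜ[A]
        ((l.prod fun j a => p j ^ a) *
          coeffE (PolLaw.MulLaw.prodMap g d hd).law y Finset.univ l) := by
  rw [toFun'_sum, Finsupp.sum, map_sum]
  refine Finset.sum_congr rfl fun l _ => ?_
  rw [mulP_tmul, finsupp_prod_tmul_pow, Algebra.TensorProduct.tmul_mul_tmul, mul_one]

end Key

section Factor

variable {κ : Type} [Fintype κ] (g : κ → (B →ₐ[A] P)) (d : ℕ) (hd : Fintype.card κ = d)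
  (F : PolLaw.MulLaw A B A d) (f : P →ₗ[A] A)
  (hFG : ∀ (S : Type u) [CommSemiring S] [Algebra A S] (z : S ⊗[A] B),
    F.law.toFun' S z = f.lTensor S ((PolLaw.MulLaw.prodMap g d hd).law.toFun' S z))

include hFG

lemma map_prod_mul_of_factor {J : Type} (p : J → P)
    (hp : ∀ j, p j ∈ TS (PolLaw.MulLaw.prodMap g d hd).law) (l : J →₀ ℕ) {q : P}
    (hq : q ∈ TS (PolLaw.MulLaw.prodMap g d hd).law) :
    f ((l.prod fun j a => p j ^ a) * q) = (l.prod fun j a => f (p j) ^ a) * f q := by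
  set G := (PolLaw.MulLaw.prodMap g d hd).law with hGdef
  have hG : PolLaw.IsMult G := (PolLaw.MulLaw.prodMap g d hd).mult
  let φ := TShom F.law G f hFG F.mult hG
  let p' : J → TSalg G hG := fun j => ⟨p j, hp j⟩
  let q' : TSalg G hG := ⟨q, hq⟩
  have h1 : ((l.prod fun j a => p' j ^ a : TSalg G hG) : P) = l.prod fun j a => p j ^ a := by
    rw [← Subalgebra.coe_val, map_finsuppProd]
    rfl
  have h2 : φ ((l.prod fun j a => p' j ^ a) * q') =
      (l.prod fun j a => φ (p' j) ^ a) * φ q' := by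
    rw [map_mul, map_finsuppProd]
    simp only [map_pow]
  have h3 : φ ((l.prod fun j a => p' j ^ a) * q') = f ((l.prod fun j a => p j ^ a) * q) := by
    rw [TShom_apply, Subalgebra.coe_mul, h1]
  rw [← h3, h2]
  rfl

lemma factor_expand (S : Type u) [CommSemiring S] [Algebra A S] {J : Type} [Fintype J]
    (s : J → S) (p : J → P) (hp : ∀ j, p j ∈ TS (PolLaw.MulLaw.prodMap g d hd).law)
    (y : J → B) :
    f.lTensor S (∏ i, ∑ j, s j ⊗ₜ[A] (p j * g i (y j))) =
      ∑ l ∈ (coeffE (PolLaw.MulLaw.prodMap g d hd).law y Finset.univ).support,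
        (l.prod fun j a => s j ^ a) ⊗ₜ[A]
          ((l.prod fun j a => f (p j) ^ a) *
            f (coeffE (PolLaw.MulLaw.prodMap g d hd).law y Finset.univ l)) := by
  rw [← mulP_prodMap g d hd, mulP_prodMap_expand, map_sum]
  refine Finset.sum_congr rfl fun l _ => ?_
  rw [LinearMap.lTensor_tmul, map_prod_mul_of_factor g d hd F f hFG p hp l (coeffE_mem_TS _ _ _ _)]

/-- The value only depends on the images of the `p j` under `f`. -/
lemma factor_congr (S : Type u) [CommSemiring S] [Algebra A S] {J : Type} [Fintype J]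
    (s : J → S) (p p' : J → P) (hp : ∀ j, p j ∈ TS (PolLaw.MulLaw.prodMap g d hd).law)
    (hp' : ∀ j, p' j ∈ TS (PolLaw.MulLaw.prodMap g d hd).law) (hpp : ∀ j, f (p j) = f (p' j))
    (y : J → B) :
    f.lTensor S (∏ i, ∑ j, s j ⊗ₜ[A] (p j * g i (y j))) =
      f.lTensor S (∏ i, ∑ j, s j ⊗ₜ[A] (p' j * g i (y j))) := by
  rw [factor_expand g d hd F f hFG S s p hp y, factor_expand g d hd F f hFG S s p' hp' y]
  refine Finset.sum_congr rfl fun l _ => ?_
  simp only [hpp]

end Factor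

lemma exists_fintype_sum {S : Type u} [CommSemiring S] [Algebra A S] (x : S ⊗[A] B) :
    ∃ (J : Type) (_ : Fintype J) (s : J → S) (b : J → B), x = ∑ j, s j ⊗ₜ[A] b j := by
  induction x using TensorProduct.induction_on with
  | zero => exact ⟨Empty, inferInstance, Empty.elim, Empty.elim, by simp⟩
  | tmul s b => exact ⟨Unit, inferInstance, fun _ => s, fun _ => b, by simp⟩
  | add x y hx hy =>
    obtain ⟨J, _, s, b, rfl⟩ := hx
    obtain ⟨J', _, s', b', rfl⟩ := hy
    exact ⟨J ⊕ J', inferInstance, Sum.elim s s', Sum.elim b b', by simp [Fintype.sum_sum_type]⟩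

section CH

variable {κ : Type} [Fintype κ] (g : κ → (B →ₐ[A] P)) (d : ℕ) (hd : Fintype.card κ = d)
  (F : PolLaw.MulLaw A B A d) (f : P →ₗ[A] A)
  (hFG : ∀ (S : Type u) [CommSemiring S] [Algebra A S] (z : S ⊗[A] B),
    F.law.toFun' S z = f.lTensor S ((PolLaw.MulLaw.prodMap g d hd).law.toFun' S z))

lemma finsupp_prod_fin_two {S : Type*} [CommMonoid S] (s : Fin 2 → S) (l : Fin 2 →₀ ℕ) :
    (l.prod fun i a => s i ^ a) = s 0 ^ l 0 * s 1 ^ l 1 := by
  rw [Finsupp.prod_fintype _ _ (fun i => pow_zero _), Fin.prod_univ_two]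

/-- The characteristic polynomial in terms of the coefficients with respect to `T, 1`. -/
lemma charpoly_eq (F : B →ₚₗ[A] A) (T : B) :
    TensorProduct.rid A (Polynomial A)
      (F.toFun' (Polynomial A) ((1 : Polynomial A) ⊗ₜ[A] T - Polynomial.X ⊗ₜ[A] (1 : B))) =
    ∑ l ∈ (coeffE F ![T, 1] Finset.univ).support,
      coeffE F ![T, 1] Finset.univ l • (-Polynomial.X : Polynomial A) ^ l 1 := by
  have h1 : (1 : Polynomial A) ⊗ₜ[A] T - Polynomial.X ⊗ₜ[A] (1 : B) =
      ∑ i, (![1, -Polynomial.X] : Fin 2 → Polynomial A) i ⊗ₜ[A] (![T, 1] : Fin 2 → B) i := by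
    rw [Fin.sum_univ_two]
    simp [TensorProduct.neg_tmul, sub_eq_add_neg]
  rw [h1, toFun'_sum, Finsupp.sum, map_sum]
  refine Finset.sum_congr rfl fun l _ => ?_
  rw [TensorProduct.rid_tmul, finsupp_prod_fin_two]
  simp

omit hFG in
lemma sum_pow_mul_coeff_eq_zero (T : B) (i : κ) :
    ∑ l ∈ (coeffE (PolLaw.MulLaw.prodMap g d hd).law ![T, 1] Finset.univ).support,
      (-(g i T)) ^ l 1 * coeffE (PolLaw.MulLaw.prodMap g d hd).law ![T, 1] Finset.univ l = 0 := by
  have h1 : ∑ j, (![1, -(g i T)] : Fin 2 → P) j ⊗ₜ[A] (![T, 1] : Fin 2 → B) j =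
      (1 : P) ⊗ₜ[A] T - (g i T) ⊗ₜ[A] (1 : B) := by
    rw [Fin.sum_univ_two]
    simp [TensorProduct.neg_tmul, sub_eq_add_neg]
  have h2 := toFun'_sum (PolLaw.MulLaw.prodMap g d hd).law (![T, 1] : Fin 2 → B) Finset.univ P
    (![1, -(g i T)] : Fin 2 → P)
  rw [h1, PolLaw.MulLaw.prodMap_toFun'] at h2
  have h3 := congrArg (Algebra.TensorProduct.lmul' (S := P) A) h2
  rw [map_prod, Finsupp.sum, map_sum] at h3
  have h4 : ∏ x, (Algebra.TensorProduct.lmul' (S := P) A)
      ((Algebra.TensorProduct.map (AlgHom.id P P) (g x)) ((1 : P) ⊗ₜ[A] T - (g i T) ⊗ₜ[A] (1 : B)))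
      = 0 := by
    refine Finset.prod_eq_zero (Finset.mem_univ i) ?_
    simp
  rw [h4] at h3
  rw [h3]
  refine Finset.sum_congr rfl fun l _ => ?_
  rw [Algebra.TensorProduct.lmul'_apply_tmul, finsupp_prod_fin_two]
  simp

include hFG

/-- Cayley–Hamilton for a multiplicative law `F` factoring linearly through the product of the
algebra maps `g i`. -/
theorem ch_of_factor (T : B) :
    Polynomial.aeval T (TensorProduct.rid A (Polynomial A)
      (F.law.toFun' (Polynomial A) ((1 : Polynomial A) ⊗ₜ[A] T - Polynomial.X ⊗ₜ[A] (1 : B))))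
      ∈ PolLaw.ker F.law := by
  classical
  set G := (PolLaw.MulLaw.prodMap g d hd).law with hGdef
  have hG : PolLaw.IsMult G := (PolLaw.MulLaw.prodMap g d hd).mult
  set c₂ := coeffE F.law (![T, 1] : Fin 2 → B) Finset.univ with hc₂
  set g₂ := coeffE G (![T, 1] : Fin 2 → B) Finset.univ with hg₂
  have hfg₂ : ∀ l, f (g₂ l) = c₂ l := fun l => map_coeffE F.law G f hFG _ _ l
  have hsub : c₂.support ⊆ g₂.support := by
    intro l hl
    rw [Finsupp.mem_support_iff] at hl ⊢
    intro h0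
    apply hl
    rw [← hfg₂, h0, map_zero]
  -- the Cayley–Hamilton element
  set cT : B := ∑ l ∈ g₂.support, c₂ l • (-T) ^ l 1 with hcT
  have hcT' : Polynomial.aeval T (TensorProduct.rid A (Polynomial A)
      (F.law.toFun' (Polynomial A) ((1 : Polynomial A) ⊗ₜ[A] T - Polynomial.X ⊗ₜ[A] (1 : B))))
      = cT := by
    rw [charpoly_eq, map_sum, hcT]
    rw [Finset.sum_subset hsub]
    · refine Finset.sum_congr rfl fun l _ => ?_
      rw [map_smul, map_pow, map_neg, Polynomial.aeval_X]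
    · intro l _ hl
      rw [Finsupp.notMem_support_iff.mp hl]
      simp
  rw [hcT']
  -- the correction terms
  let δ : (Fin 2 →₀ ℕ) → P := fun l => algebraMap A P (c₂ l) - g₂ l
  have hδmem : ∀ l, δ l ∈ TS G := by
    intro l
    refine Submodule.sub_mem _ ?_ (coeffE_mem_TS G _ _ l)
    exact (TSalg G hG).algebraMap_mem (c₂ l)
  have hf1 : f 1 = 1 := map_one_of_factor F.law G f hFG F.mult hG
  have hδ0 : ∀ l, f (δ l) = 0 := by
    intro l
    simp only [δ]
    rw [map_sub, hfg₂, Algebra.algebraMap_eq_smul_one, map_smul, hf1, smul_eq_mul, mul_one, sub_self]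
  have hgcT : ∀ i : κ, g i cT = ∑ l ∈ g₂.support, δ l * (-(g i T)) ^ l 1 := by
    intro i
    have h0 := sum_pow_mul_coeff_eq_zero g d hd T i
    rw [hcT, map_sum]
    have : ∑ l ∈ g₂.support, δ l * (-(g i T)) ^ l 1 =
        ∑ l ∈ g₂.support, g i (c₂ l • (-T) ^ l 1) -
          ∑ l ∈ g₂.support, (-(g i T)) ^ l 1 * g₂ l := by
      rw [← Finset.sum_sub_distrib]
      refine Finset.sum_congr rfl fun l _ => ?_
      simp only [δ]
      rw [map_smul, map_pow, map_neg, Algebra.smul_def]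
      ring
    rw [this, h0, sub_zero]
  intro S _ _ x w
  obtain ⟨Jx, _, sx, bx, rfl⟩ := exists_fintype_sum (A := A) x
  obtain ⟨Jw, _, sw, bw, rfl⟩ := exists_fintype_sum (A := A) w
  let K := g₂.support
  let J := Jx ⊕ (Jw × K)
  let s : J → S := Sum.elim sx (fun bk => sw bk.1)
  let y : J → B := Sum.elim bx (fun bk => bw bk.1 * (-T) ^ (bk.2 : Fin 2 →₀ ℕ) 1)
  let p : J → P := Sum.elim (fun _ => 1) (fun bk => δ bk.2)
  let p₀ : J → P := Sum.elim (fun _ => 1) (fun _ => 0)
  have hp : ∀ j, p j ∈ TS G := by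
    rintro (a | bk)
    · exact one_mem_TS G hG
    · exact hδmem _
  have hp₀ : ∀ j, p₀ j ∈ TS G := by
    rintro (a | bk)
    · exact one_mem_TS G hG
    · exact Submodule.zero_mem _
  have hpp : ∀ j, f (p j) = f (p₀ j) := by
    rintro (a | bk)
    · rfl
    · simp only [p, p₀, Sum.elim_inr]
      rw [hδ0, map_zero]
  have key := factor_congr g d hd F f hFG S s p p₀ hp hp₀ hpp y
  have e1 : ∀ i : κ, ∑ j, s j ⊗ₜ[A] (p j * g i (y j)) =
      Algebra.TensorProduct.map (AlgHom.id S S) (g i)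
        (∑ j, sx j ⊗ₜ[A] bx j + (∑ j, sw j ⊗ₜ[A] bw j) * (1 ⊗ₜ[A] cT)) := by
    intro i
    rw [Fintype.sum_sum_type, Fintype.sum_prod_type, map_add, map_mul, map_sum, map_sum,
      Finset.sum_mul]
    congr 1
    · refine Finset.sum_congr rfl fun a _ => ?_
      simp [s, p, y]
    · refine Finset.sum_congr rfl fun b _ => ?_
      simp only [s, p, y, Sum.elim_inr, Algebra.TensorProduct.map_tmul, AlgHom.id_apply,
        Algebra.TensorProduct.tmul_mul_tmul, mul_one, map_one]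
      rw [← TensorProduct.tmul_sum, hgcT, Finset.mul_sum]
      congr 1
      rw [← Finset.sum_coe_sort g₂.support]
      refine Finset.sum_congr rfl fun l _ => ?_
      rw [map_mul, map_pow, map_neg]
      ring
  have e2 : ∀ i : κ, ∑ j, s j ⊗ₜ[A] (p₀ j * g i (y j)) =
      Algebra.TensorProduct.map (AlgHom.id S S) (g i) (∑ j, sx j ⊗ₜ[A] bx j) := by
    intro i
    rw [Fintype.sum_sum_type, map_sum]
    have : ∑ a₂ : Jw × K, s (Sum.inr a₂) ⊗ₜ[A] (p₀ (Sum.inr a₂) * (g i) (y (Sum.inr a₂))) = 0 := by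
      refine Finset.sum_eq_zero fun bk _ => ?_
      simp [p₀]
    rw [this, add_zero]
    refine Finset.sum_congr rfl fun a _ => ?_
    simp [s, p₀, y]
  rw [hFG, hFG, PolLaw.MulLaw.prodMap_toFun', PolLaw.MulLaw.prodMap_toFun']
  rw [Finset.prod_congr rfl fun i _ => e1 i, Finset.prod_congr rfl fun i _ => e2 i] at key
  exact key

end CH

end Groth.Agent.H68.LC
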