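import Groth.Agent.H68.LawTS
import Mathlib

/-!
# The Cayley–Hamilton theorem for multiplicative polynomial laws

For a multiplicative law `F : B → A` homogeneous of degree `d` over a commutative ring `A` and
`b : B`, the value at `b` of the characteristic polynomial `χ_b = F_{A[X]}(1 ⊗ b - X ⊗ 1)` lies in
the kernel of `F`.
-/

set_option autoImplicit false
universe u
open scoped TensorProduct

namespace Groth.Agent.H68.LC

variable {A : Type u} [CommRing A] {B : Type u} [CommRing B] [Algebra A B] {d : ℕ}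

/-- The characteristic polynomial of `b` with respect to the law `F`. -/
noncomputable def charpolyLaw (F : B →ₚₗ[A] A) (b : B) : Polynomial A :=
  TensorProduct.rid A (Polynomial A)
    (F.toFun' (Polynomial A) ((1 : Polynomial A) ⊗ₜ[A] b - Polynomial.X ⊗ₜ[A] (1 : B)))

/-- Cayley–Hamilton over a polynomial ring. -/
theorem ch_mvPolynomial (σ : Type) (F : PolLaw.MulLaw A (MvPolynomial σ A) A d)
    (T : MvPolynomial σ A) :
    Polynomial.aeval T (charpolyLaw F.law T) ∈ PolLaw.ker F.law :=
  ch_of_factor (gT A (MvPolynomial σ A) d) d (Fintype.card_fin d) F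
    (fT (MvPolynomial.basisMonomials σ A) d F.law)
    (fun S _ _ z => factor_GT (MvPolynomial.basisMonomials σ A) d F.homog S z) T

lemma precomp_toFun' {B' : Type u} [CommRing B'] [Algebra A B'] (F : PolLaw.MulLaw A B A d)
    (π : B' →ₐ[A] B) (S : Type u) [CommSemiring S] [Algebra A S] (z : S ⊗[A] B') :
    (F.precomp π).law.toFun' S z =
      F.law.toFun' S (Algebra.TensorProduct.map (AlgHom.id S S) π z) := by
  rw [← PolLaw.lTensor_algHom_apply]
  rfl

/-- **Cayley–Hamilton** for multiplicative polynomial laws. -/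
theorem cayleyHamilton_mem_ker (F : PolLaw.MulLaw A B A d) (b : B) :
    Polynomial.aeval b (charpolyLaw F.law b) ∈ PolLaw.ker F.law := by
  intro S _ _ x w
  obtain ⟨Jx, _, sx, bx, rfl⟩ := exists_fintype_sum (A := A) x
  obtain ⟨Jw, _, sw, bw, rfl⟩ := exists_fintype_sum (A := A) w
  let σ := Option (Jx ⊕ Jw)
  let v : σ → B := fun o => o.elim b (Sum.elim bx bw)
  let π : MvPolynomial σ A →ₐ[A] B := MvPolynomial.aeval v
  let F' := F.precomp π
  let T : MvPolynomial σ A := MvPolynomial.X none
  have hπT : π T = b := by simp [π, T, v]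
  have hchar : charpolyLaw F'.law T = charpolyLaw F.law b := by
    rw [charpolyLaw, charpolyLaw, precomp_toFun']
    congr 2
    rw [map_sub, Algebra.TensorProduct.map_tmul, Algebra.TensorProduct.map_tmul, hπT, map_one,
      map_one, AlgHom.id_apply]
  have hc : π (Polynomial.aeval T (charpolyLaw F'.law T)) =
      Polynomial.aeval b (charpolyLaw F.law b) := by
    rw [← Polynomial.aeval_algHom_apply, hπT, hchar]
  have hmem := ch_mvPolynomial σ F' T
  let x' : S ⊗[A] MvPolynomial σ A := ∑ j, sx j ⊗ₜ[A] MvPolynomial.X (some (Sum.inl j))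
  let w' : S ⊗[A] MvPolynomial σ A := ∑ j, sw j ⊗ₜ[A] MvPolynomial.X (some (Sum.inr j))
  have hx' : Algebra.TensorProduct.map (AlgHom.id S S) π x' = ∑ j, sx j ⊗ₜ[A] bx j := by
    simp [x', π, v]
  have hw' : Algebra.TensorProduct.map (AlgHom.id S S) π w' = ∑ j, sw j ⊗ₜ[A] bw j := by
    simp [w', π, v]
  have h := hmem S x' w'
  rw [precomp_toFun', precomp_toFun', map_add, map_mul, Algebra.TensorProduct.map_tmul, hc, hx',
    hw', map_one] at h
  exact h

lemma deg_fin_two (l : Fin 2 →₀ ℕ) : deg l = l 0 + l 1 := by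
  rw [deg, Finsupp.sum_fintype _ _ (fun _ => rfl), Fin.sum_univ_two]

lemma eq_single_of_deg {l : Fin 2 →₀ ℕ} (h : deg l = d) (h1 : l 1 = d) :
    l = Finsupp.single 1 d := by
  rw [deg_fin_two] at h
  ext i
  fin_cases i
  · simp only [Fin.zero_eta, Fin.isValue]
    rw [Finsupp.single_apply, if_neg (by decide)]
    omega
  · simp only [Fin.mk_one, Fin.isValue, Finsupp.single_eq_same]
    exact h1

/-- The top coefficient of a multiplicative homogeneous law with respect to `b, 1`. -/
lemma coeffE_single_one (F : PolLaw.MulLaw A B A d) (b : B) :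
    coeffE F.law (![b, 1] : Fin 2 → B) Finset.univ (Finsupp.single 1 d) = 1 := by
  classical
  have h1 : ∑ i, (![0, 1] : Fin 2 → A) i ⊗ₜ[A] (![b, 1] : Fin 2 → B) i = (1 : A ⊗[A] B) := by
    rw [Fin.sum_univ_two]
    simp [Algebra.TensorProduct.one_def]
  have h2 := toFun'_sum F.law (![b, 1] : Fin 2 → B) Finset.univ A (![0, 1] : Fin 2 → A)
  rw [h1, (F.mult A).1, Finsupp.sum] at h2
  have h3 : ∀ l ∈ (coeffE F.law (![b, 1] : Fin 2 → B) Finset.univ).support,
      (l.prod fun i a => (![0, 1] : Fin 2 → A) i ^ a) ⊗ₜ[A]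
        coeffE F.law (![b, 1] : Fin 2 → B) Finset.univ l =
      if l = Finsupp.single 1 d then
        (1 : A) ⊗ₜ[A] coeffE F.law (![b, 1] : Fin 2 → B) Finset.univ (Finsupp.single 1 d)
      else 0 := by
    intro l hl
    have hdeg := coeffE_degree F.homog _ _ hl
    rw [finsupp_prod_fin_two]
    simp only [Matrix.cons_val_zero, Matrix.cons_val_one, one_pow, mul_one]
    split_ifs with h
    · rw [h]
      simp
    · have : l 0 ≠ 0 := by
        intro h0
        apply h
        refine eq_single_of_deg hdeg ?_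
        rw [deg_fin_two] at hdeg
        omega
      rw [zero_pow this, TensorProduct.zero_tmul]
  rw [Finset.sum_congr rfl h3, Finset.sum_ite_eq'] at h2
  split_ifs at h2 with hmem
  · have := congrArg (TensorProduct.lid A A) h2
    simpa [Algebra.TensorProduct.one_def] using this.symm
  · have := congrArg (TensorProduct.lid A A) h2
    simp only [Algebra.TensorProduct.one_def, TensorProduct.lid_tmul, smul_eq_mul, mul_one,
      map_zero] at this
    have hA : ∀ a : A, a = 0 := fun a => by rw [← mul_one a, this, mul_zero]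
    rw [hA (coeffE F.law _ _ _), hA 1]

lemma charpolyLaw_natDegree_le (F : PolLaw.MulLaw A B A d) (b : B) :
    (charpolyLaw F.law b).natDegree ≤ d := by
  rw [charpolyLaw, charpoly_eq]
  refine Polynomial.natDegree_sum_le_of_forall_le _ _ fun l hl => ?_
  have hdeg := coeffE_degree F.homog _ _ hl
  rw [deg_fin_two] at hdeg
  refine (Polynomial.natDegree_smul_le _ _).trans ?_
  refine Polynomial.natDegree_pow_le.trans ?_
  rw [Polynomial.natDegree_neg]
  have hX : (Polynomial.X : Polynomial A).natDegree ≤ 1 := Polynomial.natDegree_X_le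
  calc l 1 * (Polynomial.X : Polynomial A).natDegree ≤ l 1 * 1 := Nat.mul_le_mul_left _ hX
    _ ≤ d := by omega

lemma charpolyLaw_coeff (F : PolLaw.MulLaw A B A d) (b : B) :
    (charpolyLaw F.law b).coeff d = (-1) ^ d := by
  classical
  rw [charpolyLaw, charpoly_eq, Polynomial.finsetSum_coeff]
  have hX : ∀ m : ℕ, ((-Polynomial.X : Polynomial A) ^ m).coeff d = if d = m then (-1) ^ m else 0 := by
    intro m
    have : (-Polynomial.X : Polynomial A) ^ m = Polynomial.C ((-1) ^ m) * Polynomial.X ^ m := by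
      rw [neg_pow, map_pow, map_neg, map_one]
    rw [this, Polynomial.coeff_C_mul, Polynomial.coeff_X_pow]
    split_ifs <;> simp
  have h3 : ∀ l ∈ (coeffE F.law (![b, 1] : Fin 2 → B) Finset.univ).support,
      (coeffE F.law (![b, 1] : Fin 2 → B) Finset.univ l • (-Polynomial.X : Polynomial A) ^ l 1).coeff d =
      if l = Finsupp.single 1 d then (-1) ^ d else 0 := by
    intro l hl
    have hdeg := coeffE_degree F.homog _ _ hl
    rw [Polynomial.coeff_smul, hX]
    split_ifs with h1 h2 h2
    · rw [h2, coeffE_single_one, h1]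
      simp
    · exact absurd (eq_single_of_deg hdeg h1.symm) h2
    · exfalso
      apply h1
      rw [h2]
      simp
    · simp
  rw [Finset.sum_congr rfl h3, Finset.sum_ite_eq']
  split_ifs with hmem
  · rfl
  · have h0 := Finsupp.notMem_support_iff.mp hmem
    rw [coeffE_single_one] at h0
    have hA : ∀ a : A, a = 0 := fun a => by rw [← mul_one a, h0, mul_zero]
    rw [hA ((-1) ^ d)]

/-- The image of `b` in `B ⧸ ker F` is integral over `A`. -/
theorem isIntegral_mk_ker (F : PolLaw.MulLaw A B A d) (b : B) :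
    IsIntegral A (Ideal.Quotient.mk (PolLaw.ker F.law) b) := by
  refine ⟨Polynomial.C ((-1) ^ d) * charpolyLaw F.law b, ?_, ?_⟩
  · refine Polynomial.monic_of_natDegree_le_of_coeff_eq_one d ?_ ?_
    · exact (Polynomial.natDegree_C_mul_le _ _).trans (charpolyLaw_natDegree_le F b)
    · rw [Polynomial.coeff_C_mul, charpolyLaw_coeff, ← mul_pow]
      simp
  · rw [Polynomial.eval₂_mul]
    have h := cayleyHamilton_mem_ker F b
    have h2 : Polynomial.eval₂ (algebraMap A (B ⧸ PolLaw.ker F.law))
        (Ideal.Quotient.mk (PolLaw.ker F.law) b) (charpolyLaw F.law b) = 0 := by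
      have : Polynomial.eval₂ (algebraMap A (B ⧸ PolLaw.ker F.law))
          (Ideal.Quotient.mk (PolLaw.ker F.law) b) (charpolyLaw F.law b) =
          Ideal.Quotient.mk (PolLaw.ker F.law) (Polynomial.aeval b (charpolyLaw F.law b)) := by
        rw [Polynomial.aeval_def, Polynomial.hom_eval₂]
        rfl
      rw [this]
      exact Ideal.Quotient.eq_zero_iff_mem.mpr h
    rw [h2, mul_zero]

/-- The characteristic polynomial of an element of the kernel. -/
lemma charpolyLaw_of_mem_ker (F : PolLaw.MulLaw A B A d) {b : B} (hb : b ∈ PolLaw.ker F.law) :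
    charpolyLaw F.law b = (-Polynomial.X) ^ d := by
  rw [charpolyLaw]
  have h := hb (Polynomial A) (-(Polynomial.X ⊗ₜ[A] (1 : B))) 1
  rw [one_mul] at h
  have h2 : (1 : Polynomial A) ⊗ₜ[A] b - Polynomial.X ⊗ₜ[A] (1 : B) =
      -(Polynomial.X ⊗ₜ[A] (1 : B)) + 1 ⊗ₜ[A] b := by ring
  rw [h2, h]
  have h3 : -((Polynomial.X : Polynomial A) ⊗ₜ[A] (1 : B)) =
      (-Polynomial.X : Polynomial A) • (1 : Polynomial A ⊗[A] B) := by
    rw [Algebra.TensorProduct.one_def, TensorProduct.smul_tmul', smul_eq_mul, mul_one,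
      TensorProduct.neg_tmul]
  rw [h3, F.homog, (F.mult _).1, Algebra.TensorProduct.one_def, TensorProduct.smul_tmul',
    TensorProduct.rid_tmul, one_smul, smul_eq_mul, mul_one]

/-- A power of every element of the kernel is a value of a characteristic polynomial. -/
lemma pow_mem_of_mem_ker (F : PolLaw.MulLaw A B A d) {b : B} (hb : b ∈ PolLaw.ker F.law) :
    b ^ d = (-1) ^ d * Polynomial.aeval b (charpolyLaw F.law b) := by
  rw [charpolyLaw_of_mem_ker F hb, map_pow, map_neg, Polynomial.aeval_X, ← mul_pow]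
  simp

end Groth.Agent.H68.LC
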