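import Groth.Agent.H68.PolLawBase
import Mathlib

/-!
# Coefficients of a polynomial law with respect to a family of elements

For a polynomial law `F : M →ₚₗ[A] N`, a family `e : I → M` and a finite set `E` of indices, the
value of `F` at the generic combination `∑ i ∈ E, X i ⊗ e i` over `MvPolynomial I A` has an
expansion `∑ k, X ^ k ⊗ c k`; the finitely supported function `c = coeffE F e E` determines all
values `F_S (∑ i ∈ E, s i ⊗ e i)`.
-/

set_option autoImplicit false
universe u
open scoped TensorProduct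

namespace Groth.Agent.H68.LC

section Phi

variable (J : Type) (A : Type u) [CommRing A] (N : Type u) [AddCommGroup N] [Module A N]

open Classical in
/-- Coefficient extraction: `MvPolynomial J A ⊗ N` is the module of finitely supported families of
elements of `N` indexed by the monomials. -/
noncomputable def Φ : MvPolynomial J A ⊗[A] N ≃ₗ[A] ((J →₀ ℕ) →₀ N) :=
  TensorProduct.equivFinsuppOfBasisLeft (MvPolynomial.basisMonomials J A)

variable {J A N}

lemma Φ_tmul (p : MvPolynomial J A) (n : N) (k : J →₀ ℕ) :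
    Φ J A N (p ⊗ₜ[A] n) k = MvPolynomial.coeff k p • n := by
  classical
  rw [Φ, TensorProduct.equivFinsuppOfBasisLeft_apply_tmul_apply]
  rfl

lemma Φ_symm_apply (c : (J →₀ ℕ) →₀ N) :
    (Φ J A N).symm c = c.sum fun k n => (MvPolynomial.monomial k (1 : A)) ⊗ₜ[A] n := by
  classical
  rw [Φ, TensorProduct.equivFinsuppOfBasisLeft_symm_apply]
  rfl

lemma eq_sum (u : MvPolynomial J A ⊗[A] N) :
    u = (Φ J A N u).sum fun k n => (MvPolynomial.monomial k (1 : A)) ⊗ₜ[A] n := by
  rw [← Φ_symm_apply, LinearEquiv.symm_apply_apply]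

lemma Φ_sum_monomial_tmul {T : Type*} (t : Finset T) (g : T → (J →₀ ℕ)) (n : T → N)
    (k : J →₀ ℕ) [DecidablePred fun x => g x = k] :
    Φ J A N (∑ x ∈ t, MvPolynomial.monomial (g x) (1 : A) ⊗ₜ[A] n x) k =
      ∑ x ∈ t with g x = k, n x := by
  classical
  rw [map_sum, Finsupp.finsetSum_apply, Finset.sum_filter]
  refine Finset.sum_congr rfl fun x _ => ?_
  rw [Φ_tmul, MvPolynomial.coeff_monomial]
  split_ifs <;> simp

end Phi

section Law

variable {A : Type u} [CommRing A] {M N : Type u} [AddCommGroup M] [Module A M]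
  [AddCommGroup N] [Module A N]

/-- The generic combination of the members of the family `e` with index in `E`. -/
noncomputable def genE {I : Type} (e : I → M) (E : Finset I) : MvPolynomial I A ⊗[A] M :=
  ∑ i ∈ E, (MvPolynomial.X i : MvPolynomial I A) ⊗ₜ[A] e i

/-- The coefficients of the law `F` with respect to the members of `e` with index in `E`. -/
noncomputable def coeffE (F : M →ₚₗ[A] N) {I : Type} (e : I → M) (E : Finset I) :
    (I →₀ ℕ) →₀ N :=
  Φ I A N (F.toFun' (MvPolynomial I A) (genE e E))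

theorem toFun'_sum (F : M →ₚₗ[A] N) {I : Type} (e : I → M) (E : Finset I)
    (S : Type u) [CommSemiring S] [Algebra A S] (s : I → S) :
    F.toFun' S (∑ i ∈ E, s i ⊗ₜ[A] e i) =
      (coeffE F e E).sum fun k n => (k.prod fun i a => s i ^ a) ⊗ₜ[A] n := by
  have h1 : ∑ i ∈ E, s i ⊗ₜ[A] e i =
      (MvPolynomial.aeval s : MvPolynomial I A →ₐ[A] S).toLinearMap.rTensor M (genE e E) := by
    simp [genE, map_sum]
  rw [h1, ← F.isCompat_apply']
  conv_lhs => rw [eq_sum (F.toFun' (MvPolynomial I A) (genE e E))]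
  change (LinearMap.rTensor N (MvPolynomial.aeval s : MvPolynomial I A →ₐ[A] S).toLinearMap)
    ((coeffE F e E).sum fun k n => (MvPolynomial.monomial k (1 : A)) ⊗ₜ[A] n) = _
  rw [map_finsuppSum]
  refine Finsupp.sum_congr fun k _ => ?_
  rw [LinearMap.rTensor_tmul, AlgHom.toLinearMap_apply, MvPolynomial.aeval_monomial, map_one,
    one_mul]

open Classical in
lemma prod_ite_X_pow {I : Type} (E' : Finset I) (k : I →₀ ℕ) :
    (k.prod fun i a => (if i ∈ E' then (MvPolynomial.X i : MvPolynomial I A) else 0) ^ a) =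
      if (↑k.support : Set I) ⊆ ↑E' then MvPolynomial.monomial k (1 : A) else 0 := by
  split_ifs with h
  · rw [Finsupp.prod, ← MvPolynomial.prod_X_pow_eq_monomial]
    refine Finset.prod_congr rfl fun i hi => ?_
    have hi2 : i ∈ E' := Finset.mem_coe.mp (h (Finset.mem_coe.mpr hi))
    rw [if_pos hi2]
  · rw [Set.not_subset] at h
    obtain ⟨i, hi, hi'⟩ := h
    have hi1 : i ∈ k.support := Finset.mem_coe.mp hi
    have hi2 : i ∉ E' := fun hh => hi' (Finset.mem_coe.mpr hh)
    refine Finset.prod_eq_zero hi1 ?_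
    simp only
    rw [if_neg hi2, zero_pow (Finsupp.mem_support_iff.mp hi1)]

open Classical in
/-- The coefficients with respect to a smaller set of indices are those of the bigger set whose
monomials only involve the smaller set. -/
theorem coeffE_restrict (F : M →ₚₗ[A] N) {I : Type} (e : I → M) {E' E : Finset I} (h : E' ⊆ E)
    (k : I →₀ ℕ) :
    coeffE F e E' k = if (↑k.support : Set I) ⊆ ↑E' then coeffE F e E k else 0 := by
  have h1 : genE (A := A) e E' =
      ∑ i ∈ E, (if i ∈ E' then (MvPolynomial.X i : MvPolynomial I A) else 0) ⊗ₜ[A] e i := by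
    rw [genE, ← Finset.sum_subset h]
    · refine Finset.sum_congr rfl fun i hi => ?_
      rw [if_pos hi]
    · intro i _ hi
      rw [if_neg hi, TensorProduct.zero_tmul]
  rw [coeffE, h1, toFun'_sum, Finsupp.sum]
  have h2 : ∀ x ∈ (coeffE F e E).support,
      (x.prod fun i a => (if i ∈ E' then (MvPolynomial.X i : MvPolynomial I A) else 0) ^ a)
        ⊗ₜ[A] (coeffE F e E) x =
      MvPolynomial.monomial x (1 : A) ⊗ₜ[A]
        (if (↑x.support : Set I) ⊆ ↑E' then coeffE F e E x else 0) := by
    intro x _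
    rw [prod_ite_X_pow]
    split_ifs
    · rfl
    · rw [TensorProduct.zero_tmul, TensorProduct.tmul_zero]
  rw [Finset.sum_congr rfl h2, Φ_sum_monomial_tmul, Finset.filter_eq']
  split_ifs with h3 h4 h4
  · rw [Finset.sum_singleton, if_pos h4]
  · rw [Finset.sum_singleton, if_neg h4]
  · rw [Finset.sum_empty, Finsupp.notMem_support_iff.mp h3]
  · rw [Finset.sum_empty]

theorem coeffE_support_subset (F : M →ₚₗ[A] N) {I : Type} (e : I → M) (E : Finset I)
    {k : I →₀ ℕ} (hk : k ∈ (coeffE F e E).support) : (↑k.support : Set I) ⊆ ↑E := by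
  classical
  by_contra h
  have := coeffE_restrict F e (Finset.Subset.refl E) k
  rw [if_neg h] at this
  exact (Finsupp.mem_support_iff.mp hk) this

theorem coeffE_mono (F : M →ₚₗ[A] N) {I : Type} (e : I → M) {E' E : Finset I} (h : E' ⊆ E)
    {k : I →₀ ℕ} (hk : (↑k.support : Set I) ⊆ ↑E') : coeffE F e E' k = coeffE F e E k := by
  classical
  rw [coeffE_restrict F e h k, if_pos hk]

lemma finsupp_prod_monomial_pow {J L : Type} (k : J →₀ ℕ) (g : J → (L →₀ ℕ)) :
    (k.prod fun j a => (MvPolynomial.monomial (g j) (1 : A)) ^ a) =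
      MvPolynomial.monomial (k.sum fun j a => a • g j) (1 : A) := by
  rw [Finsupp.prod, Finsupp.sum, MvPolynomial.monomial_sum_one]
  refine Finset.prod_congr rfl fun j _ => ?_
  rw [MvPolynomial.monomial_pow, one_pow]

/-- The degree of a multi-index. -/
def deg {I : Type} (k : I →₀ ℕ) : ℕ := k.sum fun _ a => a

open Classical in
/-- The coefficients of a law that is homogeneous of degree `d` vanish outside degree `d`. -/
theorem coeffE_degree {F : M →ₚₗ[A] N} {d : ℕ} (hF : PolLaw.IsHomog F d) {I : Type} (e : I → M)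
    (E : Finset I) {k₀ : I →₀ ℕ} (hk : k₀ ∈ (coeffE F e E).support) : deg k₀ = d := by
  by_contra hne
  let S := MvPolynomial (Option I) A
  let t : S := MvPolynomial.X none
  let s : I → S := fun i => MvPolynomial.X (some i)
  let g₁ : (I →₀ ℕ) → (Option I →₀ ℕ) := fun k => Finsupp.single none (deg k) + k.mapDomain some
  let g₂ : (I →₀ ℕ) → (Option I →₀ ℕ) := fun k => Finsupp.single none d + k.mapDomain some
  have hmap : ∀ k : I →₀ ℕ, (k.sum fun i a => a • (Finsupp.single (some i) 1 : Option I →₀ ℕ)) =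
      k.mapDomain some := by
    intro k
    rw [Finsupp.mapDomain]
    refine Finsupp.sum_congr fun i _ => ?_
    rw [Finsupp.smul_single, smul_eq_mul, mul_one]
  have hs : ∀ k : I →₀ ℕ, (k.prod fun i a => s i ^ a) =
      MvPolynomial.monomial (k.mapDomain some) (1 : A) := by
    intro k
    have := finsupp_prod_monomial_pow (A := A) k (fun i => (Finsupp.single (some i) 1 : Option I →₀ ℕ))
    rw [hmap] at this
    rw [← this]
    rfl
  have hts : ∀ k : I →₀ ℕ, (k.prod fun i a => (t * s i) ^ a) =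
      MvPolynomial.monomial (g₁ k) (1 : A) := by
    intro k
    have h1 : (k.prod fun i a => (t * s i) ^ a) = t ^ deg k * k.prod fun i a => s i ^ a := by
      rw [Finsupp.prod, Finsupp.prod, deg, Finsupp.sum, ← Finset.prod_pow_eq_pow_sum,
        ← Finset.prod_mul_distrib]
      refine Finset.prod_congr rfl fun i _ => ?_
      rw [mul_pow]
    rw [h1, hs, MvPolynomial.X_pow_eq_monomial, MvPolynomial.monomial_mul, one_mul]
  have hL : F.toFun' S (t • ∑ i ∈ E, s i ⊗ₜ[A] e i) =
      ∑ k ∈ (coeffE F e E).support, MvPolynomial.monomial (g₁ k) (1 : A) ⊗ₜ[A] coeffE F e E k := by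
    have : t • ∑ i ∈ E, s i ⊗ₜ[A] e i = ∑ i ∈ E, (t * s i) ⊗ₜ[A] e i := by
      rw [Finset.smul_sum]
      refine Finset.sum_congr rfl fun i _ => ?_
      rw [TensorProduct.smul_tmul', smul_eq_mul]
    rw [this, toFun'_sum, Finsupp.sum]
    refine Finset.sum_congr rfl fun k _ => ?_
    rw [hts]
  have hR : t ^ d • F.toFun' S (∑ i ∈ E, s i ⊗ₜ[A] e i) =
      ∑ k ∈ (coeffE F e E).support, MvPolynomial.monomial (g₂ k) (1 : A) ⊗ₜ[A] coeffE F e E k := by
    rw [toFun'_sum, Finsupp.sum, Finset.smul_sum]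
    refine Finset.sum_congr rfl fun k _ => ?_
    rw [TensorProduct.smul_tmul', smul_eq_mul, hs, MvPolynomial.X_pow_eq_monomial,
      MvPolynomial.monomial_mul, one_mul]
  have hEq := hF S t (∑ i ∈ E, s i ⊗ₜ[A] e i)
  rw [hL, hR] at hEq
  have hEq2 := congrArg (fun u => Φ (Option I) A N u (g₁ k₀)) hEq
  simp only [Φ_sum_monomial_tmul] at hEq2
  have hg₁ : ∀ k : I →₀ ℕ, g₁ k = g₁ k₀ → k = k₀ := by
    intro k hk'
    ext i
    have := DFunLike.congr_fun hk' (some i)
    simpa [g₁, Finsupp.mapDomain_apply (Option.some_injective I)] using this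
  have hg₂ : ∀ k : I →₀ ℕ, g₂ k ≠ g₁ k₀ := by
    intro k hk'
    have := DFunLike.congr_fun hk' none
    have h0 : ∀ k' : I →₀ ℕ, (k'.mapDomain some) (none : Option I) = 0 := by
      intro k'
      refine Finsupp.mapDomain_of_notMem_range _ _ ?_
      simp
    simp only [g₁, g₂, Finsupp.add_apply, Finsupp.single_eq_same, h0, add_zero] at this
    exact hne this.symm
  have hl : (∑ x ∈ (coeffE F e E).support with g₁ x = g₁ k₀, coeffE F e E x) = coeffE F e E k₀ := by
    have : (coeffE F e E).support.filter (fun x => g₁ x = g₁ k₀) = {k₀} := by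
      ext x
      simp only [Finset.mem_filter, Finset.mem_singleton]
      constructor
      · exact fun h => hg₁ x h.2
      · rintro rfl
        exact ⟨hk, rfl⟩
    rw [this, Finset.sum_singleton]
  have hr : (∑ x ∈ (coeffE F e E).support with g₂ x = g₁ k₀, coeffE F e E x) = 0 := by
    have : (coeffE F e E).support.filter (fun x => g₂ x = g₁ k₀) = ∅ := by
      ext x
      simp [hg₂ x]
    rw [this, Finset.sum_empty]
  rw [hl, hr] at hEq2
  exact (Finsupp.mem_support_iff.mp hk) hEq2

lemma finsupp_prod_X_pow {I L : Type} (f : I → L) (k : I →₀ ℕ) :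
    (k.prod fun i a => (MvPolynomial.X (f i) : MvPolynomial L A) ^ a) =
      MvPolynomial.monomial (k.mapDomain f) (1 : A) := by
  have h := finsupp_prod_monomial_pow (A := A) k (fun i => (Finsupp.single (f i) 1 : L →₀ ℕ))
  have hmap : (k.sum fun i a => a • (Finsupp.single (f i) 1 : L →₀ ℕ)) = k.mapDomain f := by
    rw [Finsupp.mapDomain]
    refine Finsupp.sum_congr fun i _ => ?_
    rw [Finsupp.smul_single, smul_eq_mul, mul_one]
  rw [hmap] at h
  rw [← h]
  rfl

lemma Φ_lTensor {N' : Type u} [AddCommGroup N'] [Module A N'] {J : Type} (g : N →ₗ[A] N')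
    (u : MvPolynomial J A ⊗[A] N) (k : J →₀ ℕ) :
    Φ J A N' (g.lTensor (MvPolynomial J A) u) k = g (Φ J A N u k) := by
  induction u using TensorProduct.induction_on with
  | zero => simp
  | tmul p n => rw [LinearMap.lTensor_tmul, Φ_tmul, Φ_tmul, map_smul]
  | add x y hx hy => simp only [map_add, Finsupp.add_apply, hx, hy]

/-- Coefficients are natural for post-composition with a linear map. -/
theorem coeffE_postcomp {N' : Type u} [AddCommGroup N'] [Module A N'] (F : M →ₚₗ[A] N)
    (F' : M →ₚₗ[A] N') (g : N →ₗ[A] N')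
    (h : ∀ (S : Type u) [CommSemiring S] [Algebra A S] (z : S ⊗[A] M),
      F'.toFun' S z = g.lTensor S (F.toFun' S z))
    {I : Type} (e : I → M) (E : Finset I) (k : I →₀ ℕ) :
    coeffE F' e E k = g (coeffE F e E k) := by
  rw [coeffE, h, Φ_lTensor]
  rfl

end Law

section Mul

variable {A : Type u} [CommRing A] {B C : Type u} [CommRing B] [Algebra A B]
  [CommRing C] [Algebra A C]

lemma sumElim_inj {I I' : Type} {k₁ k : I →₀ ℕ} {k₁' k' : I' →₀ ℕ}
    (h : k₁.mapDomain (Sum.inl : I → I ⊕ I') + k₁'.mapDomain (Sum.inr : I' → I ⊕ I') =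
      k.mapDomain (Sum.inl : I → I ⊕ I') + k'.mapDomain (Sum.inr : I' → I ⊕ I')) :
    k₁ = k ∧ k₁' = k' := by
  have hl : ∀ (a : I →₀ ℕ) (i' : I'), (a.mapDomain (Sum.inl : I → I ⊕ I')) (Sum.inr i') = 0 := by
    intro a i'
    refine Finsupp.mapDomain_of_notMem_range _ _ ?_
    simp
  have hr : ∀ (a : I' →₀ ℕ) (i : I), (a.mapDomain (Sum.inr : I' → I ⊕ I')) (Sum.inl i) = 0 := by
    intro a i
    refine Finsupp.mapDomain_of_notMem_range _ _ ?_
    simp
  constructor
  · ext i
    have := DFunLike.congr_fun h (Sum.inl i)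
    simpa [Finsupp.mapDomain_apply Sum.inl_injective, hr] using this
  · ext i'
    have := DFunLike.congr_fun h (Sum.inr i')
    simpa [Finsupp.mapDomain_apply Sum.inr_injective, hl] using this

open Classical in
/-- The product formula for the coefficients of a multiplicative law. -/
theorem coeffE_mul (H : B →ₚₗ[A] C) (hH : PolLaw.IsMult H) {I I' : Type} (e : I → B)
    (e' : I' → B) (E : Finset I) (E' : Finset I') (k : I →₀ ℕ) (k' : I' →₀ ℕ) :
    coeffE H e E k * coeffE H e' E' k' =
      ∑ κ ∈ (coeffE H (fun p : I × I' => e p.1 * e' p.2) (E ×ˢ E')).support with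
        (κ.mapDomain Prod.fst = k ∧ κ.mapDomain Prod.snd = k'),
        coeffE H (fun p : I × I' => e p.1 * e' p.2) (E ×ˢ E') κ := by
  let S := MvPolynomial (I ⊕ I') A
  let s : I → S := fun i => MvPolynomial.X (Sum.inl i)
  let s' : I' → S := fun i' => MvPolynomial.X (Sum.inr i')
  set c := coeffE H e E with hc
  set c' := coeffE H e' E' with hc'
  set c'' := coeffE H (fun p : I × I' => e p.1 * e' p.2) (E ×ˢ E') with hc''
  let gL : (I →₀ ℕ) × (I' →₀ ℕ) → (I ⊕ I' →₀ ℕ) := fun q =>
    q.1.mapDomain Sum.inl + q.2.mapDomain Sum.inr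
  have hmul : (∑ i ∈ E, s i ⊗ₜ[A] e i) * (∑ i' ∈ E', s' i' ⊗ₜ[A] e' i') =
      ∑ p ∈ E ×ˢ E', (s p.1 * s' p.2) ⊗ₜ[A] (e p.1 * e' p.2) := by
    rw [Finset.sum_mul_sum, ← Finset.sum_product']
    refine Finset.sum_congr rfl fun p _ => ?_
    rw [Algebra.TensorProduct.tmul_mul_tmul]
  have h1 : H.toFun' S ((∑ i ∈ E, s i ⊗ₜ[A] e i) * (∑ i' ∈ E', s' i' ⊗ₜ[A] e' i')) =
      ∑ q ∈ c.support ×ˢ c'.support,
        MvPolynomial.monomial (gL q) (1 : A) ⊗ₜ[A] (c q.1 * c' q.2) := by
    rw [(hH S).2, toFun'_sum, toFun'_sum, Finsupp.sum, Finsupp.sum, Finset.sum_mul_sum,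
      ← Finset.sum_product']
    refine Finset.sum_congr rfl fun q _ => ?_
    rw [Algebra.TensorProduct.tmul_mul_tmul, finsupp_prod_X_pow, finsupp_prod_X_pow,
      MvPolynomial.monomial_mul, one_mul]
  have h2 : H.toFun' S ((∑ i ∈ E, s i ⊗ₜ[A] e i) * (∑ i' ∈ E', s' i' ⊗ₜ[A] e' i')) =
      ∑ κ ∈ c''.support,
        MvPolynomial.monomial (gL (κ.mapDomain Prod.fst, κ.mapDomain Prod.snd)) (1 : A)
          ⊗ₜ[A] c'' κ := by
    rw [hmul, toFun'_sum (e := fun p : I × I' => e p.1 * e' p.2) (s := fun p => s p.1 * s' p.2),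
      Finsupp.sum]
    refine Finset.sum_congr rfl fun κ _ => ?_
    congr 1
    have : (κ.prod fun p a => (s p.1 * s' p.2) ^ a) =
        (κ.prod fun p a => (MvPolynomial.X ((Sum.inl ∘ Prod.fst) p) : S) ^ a) *
          (κ.prod fun p a => (MvPolynomial.X ((Sum.inr ∘ Prod.snd) p) : S) ^ a) := by
      rw [← Finsupp.prod_mul]
      refine Finsupp.prod_congr fun p _ => ?_
      rw [mul_pow]
      rfl
    rw [this, finsupp_prod_X_pow, finsupp_prod_X_pow, MvPolynomial.monomial_mul, one_mul,
      Finsupp.mapDomain_comp, Finsupp.mapDomain_comp]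
  have h3 := congrArg (fun u => Φ (I ⊕ I') A C u (gL (k, k'))) (h1.symm.trans h2)
  simp only [Φ_sum_monomial_tmul] at h3
  have hL : (∑ x ∈ c.support ×ˢ c'.support with gL x = gL (k, k'), c x.1 * c' x.2) =
      c k * c' k' := by
    by_cases hkk : (k, k') ∈ c.support ×ˢ c'.support
    · have : (c.support ×ˢ c'.support).filter (fun x => gL x = gL (k, k')) = {(k, k')} := by
        ext x
        simp only [Finset.mem_filter, Finset.mem_singleton]
        constructor
        · rintro ⟨_, hx⟩
          obtain ⟨h1, h2⟩ := sumElim_inj hx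
          exact Prod.ext h1 h2
        · rintro rfl
          exact ⟨hkk, rfl⟩
      rw [this, Finset.sum_singleton]
    · have : (c.support ×ˢ c'.support).filter (fun x => gL x = gL (k, k')) = ∅ := by
        ext x
        simp only [Finset.mem_filter, Finset.notMem_empty, iff_false, not_and]
        intro hx hx'
        obtain ⟨h1, h2⟩ := sumElim_inj hx'
        exact hkk (by rw [← Prod.ext h1 h2]; exact hx)
      rw [this, Finset.sum_empty]
      rw [Finset.mem_product, not_and_or] at hkk
      rcases hkk with h | h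
      · rw [Finsupp.notMem_support_iff.mp h, zero_mul]
      · rw [Finsupp.notMem_support_iff.mp h, mul_zero]
  rw [hL] at h3
  rw [h3]
  refine Finset.sum_congr ?_ fun _ _ => rfl
  ext κ
  simp only [Finset.mem_filter]
  constructor
  · rintro ⟨hκ, hx⟩
    exact ⟨hκ, sumElim_inj hx⟩
  · rintro ⟨hκ, h1, h2⟩
    exact ⟨hκ, by rw [h1, h2]⟩

end Mul

end Groth.Agent.H68.LC
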