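import Groth.Agent.H68.LawTransfer
import Mathlib

/-!
# Corestriction of a polynomial law

If all values of a law `G : M → N` lie in the image of `S ⊗ N' → S ⊗ N` for an injective linear
map `ι : N' → N`, then `G = ι ∘ G'` for a law `G' : M → N'`.  (The point is that `S ⊗ N' → S ⊗ N`
need not be injective; it is for polynomial rings `S`, and every test ring is a quotient of a
polynomial ring.)
-/

set_option autoImplicit false
universe u
open scoped TensorProduct

namespace Groth.Agent.H68.CR

open Groth.Agent.H68

section Module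

variable {A : Type u} [CommRing A] {M N N' : Type u} [AddCommGroup M] [Module A M]
  [AddCommGroup N] [Module A N] [AddCommGroup N'] [Module A N']

/-- The canonical presentation of a test ring as a quotient of a polynomial ring. -/
noncomputable def pr (A : Type u) [CommRing A] (S : Type u) [CommSemiring S] [Algebra A S] :
    MvPolynomial S A →ₐ[A] S := MvPolynomial.aeval id

lemma pr_X (S : Type u) [CommSemiring S] [Algebra A S] (s : S) :
    pr A S (MvPolynomial.X s) = s := by
  simp [pr]

lemma pr_surjective (S : Type u) [CommSemiring S] [Algebra A S] :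
    Function.Surjective (pr A S) := fun s => ⟨MvPolynomial.X s, pr_X S s⟩

/-- The law `G` takes its values in `N'`. -/
structure ValuedIn (G : M →ₚₗ[A] N) (ι : N' →ₗ[A] N) : Prop where
  inj : Function.Injective ι
  mem : ∀ (S : Type u) [CommSemiring S] [Algebra A S] (z : S ⊗[A] M),
    G.toFun' S z ∈ LinearMap.range (ι.lTensor S)

variable {G : M →ₚₗ[A] N} {ι : N' →ₗ[A] N} (h : ValuedIn G ι)

include h in
lemma lTensor_inj (σ : Type u) : Function.Injective (ι.lTensor (MvPolynomial σ A)) :=
  Module.Flat.lTensor_preserves_injective_linearMap ι h.inj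

/-- The value of the corestricted law over a polynomial ring. -/
noncomputable def gP (σ : Type u) (z : MvPolynomial σ A ⊗[A] M) : MvPolynomial σ A ⊗[A] N' :=
  (h.mem (MvPolynomial σ A) z).choose

lemma gP_spec (σ : Type u) (z : MvPolynomial σ A ⊗[A] M) :
    ι.lTensor (MvPolynomial σ A) (gP h σ z) = G.toFun' (MvPolynomial σ A) z :=
  (h.mem (MvPolynomial σ A) z).choose_spec

lemma lTensor_rTensor {S S' : Type u} [CommSemiring S] [Algebra A S] [CommSemiring S']
    [Algebra A S'] (θ : S →ₐ[A] S') (u : S ⊗[A] N') :
    ι.lTensor S' (θ.toLinearMap.rTensor N' u) = θ.toLinearMap.rTensor N (ι.lTensor S u) := by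
  rw [← LinearMap.comp_apply, ← LinearMap.comp_apply, LinearMap.lTensor_comp_rTensor,
    LinearMap.rTensor_comp_lTensor]

lemma gP_nat {σ τ : Type u} (θ : MvPolynomial σ A →ₐ[A] MvPolynomial τ A)
    (z : MvPolynomial σ A ⊗[A] M) :
    θ.toLinearMap.rTensor N' (gP h σ z) = gP h τ (θ.toLinearMap.rTensor M z) := by
  apply lTensor_inj h τ
  rw [lTensor_rTensor, gP_spec, gP_spec]
  exact G.isCompat_apply' θ z

lemma rTensor_rTensor {S S' S'' : Type u} [CommSemiring S] [Algebra A S] [CommSemiring S']
    [Algebra A S'] [CommSemiring S''] [Algebra A S''] {L : Type u} [AddCommGroup L] [Module A L]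
    (ψ : S' →ₐ[A] S'') (φ : S →ₐ[A] S') (u : S ⊗[A] L) :
    ψ.toLinearMap.rTensor L (φ.toLinearMap.rTensor L u) = (ψ.comp φ).toLinearMap.rTensor L u := by
  rw [AlgHom.comp_toLinearMap, LinearMap.rTensor_comp, LinearMap.comp_apply]

lemma wd_step (S : Type u) [CommSemiring S] [Algebra A S] (a : MvPolynomial S A)
    (ha : pr A S a = 0) (m : M) (z : MvPolynomial S A ⊗[A] M) :
    (pr A S).toLinearMap.rTensor N' (gP h S (z + a ⊗ₜ[A] m)) =
      (pr A S).toLinearMap.rTensor N' (gP h S z) := by
  let ιo : MvPolynomial S A →ₐ[A] MvPolynomial (Option S) A := MvPolynomial.rename some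
  let σa : MvPolynomial (Option S) A →ₐ[A] MvPolynomial S A :=
    MvPolynomial.aeval (fun o : Option S => o.elim a MvPolynomial.X)
  let σ0 : MvPolynomial (Option S) A →ₐ[A] MvPolynomial S A :=
    MvPolynomial.aeval (fun o : Option S => o.elim 0 MvPolynomial.X)
  have hσa : σa.comp ιo = AlgHom.id A _ := by
    apply MvPolynomial.algHom_ext
    intro s
    simp [σa, ιo]
  have hσ0 : σ0.comp ιo = AlgHom.id A _ := by
    apply MvPolynomial.algHom_ext
    intro s
    simp [σ0, ιo]
  have hpr : (pr A S).comp σa = (pr A S).comp σ0 := by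
    apply MvPolynomial.algHom_ext
    intro o
    cases o with
    | none => simp [σa, σ0, ha]
    | some s => simp [σa, σ0]
  let w : MvPolynomial (Option S) A ⊗[A] M :=
    ιo.toLinearMap.rTensor M z + (MvPolynomial.X none) ⊗ₜ[A] m
  have hwa : σa.toLinearMap.rTensor M w = z + a ⊗ₜ[A] m := by
    show σa.toLinearMap.rTensor M (ιo.toLinearMap.rTensor M z + (MvPolynomial.X none) ⊗ₜ[A] m) = _
    rw [map_add, rTensor_rTensor, hσa, LinearMap.rTensor_tmul]
    simp [σa]
  have hw0 : σ0.toLinearMap.rTensor M w = z := by
    show σ0.toLinearMap.rTensor M (ιo.toLinearMap.rTensor M z + (MvPolynomial.X none) ⊗ₜ[A] m) = _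
    rw [map_add, rTensor_rTensor, hσ0, LinearMap.rTensor_tmul]
    simp [σ0]
  rw [← hwa, ← gP_nat, rTensor_rTensor, hpr, ← rTensor_rTensor, gP_nat, hw0]

lemma wd (S : Type u) [CommSemiring S] [Algebra A S] (z₁ z₂ : MvPolynomial S A ⊗[A] M)
    (hz : (pr A S).toLinearMap.rTensor M z₁ = (pr A S).toLinearMap.rTensor M z₂) :
    (pr A S).toLinearMap.rTensor N' (gP h S z₁) = (pr A S).toLinearMap.rTensor N' (gP h S z₂) := by
  let _ : Ring S := Algebra.semiringToRing A
  let K := RingHom.ker (pr A S).toRingHom
  let incl : K →ₗ[A] MvPolynomial S A := K.subtype.restrictScalars A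
  have hex : Function.Exact incl (pr A S).toLinearMap := by
    intro x
    constructor
    · intro hx
      exact ⟨⟨x, hx⟩, rfl⟩
    · rintro ⟨y, rfl⟩
      exact y.2
  have h2 := rTensor_exact M hex (pr_surjective S)
  have h3 : (pr A S).toLinearMap.rTensor M (z₁ - z₂) = 0 := by
    rw [map_sub, hz, sub_self]
  obtain ⟨y, hy⟩ := (h2 (z₁ - z₂)).mp h3
  have hz₁ : z₁ = z₂ + incl.rTensor M y := by rw [hy]; abel
  rw [hz₁]
  clear hz₁ hy h3 hz z₁
  generalize z₂ = z
  induction y using TensorProduct.induction_on generalizing z with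
  | zero => rw [map_zero, add_zero]
  | tmul a m =>
    rw [LinearMap.rTensor_tmul]
    exact wd_step h S (a : MvPolynomial S A) a.2 m z
  | add y₁ y₂ h₁ h₂ =>
    rw [map_add, ← add_assoc, h₂, h₁]

lemma rTensor_pr_surjective (S : Type u) [CommSemiring S] [Algebra A S] (z : S ⊗[A] M) :
    ∃ w : MvPolynomial S A ⊗[A] M, (pr A S).toLinearMap.rTensor M w = z := by
  induction z using TensorProduct.induction_on with
  | zero => exact ⟨0, map_zero _⟩
  | tmul s m =>
    refine ⟨MvPolynomial.X s ⊗ₜ[A] m, ?_⟩
    rw [LinearMap.rTensor_tmul, AlgHom.toLinearMap_apply, pr_X]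
  | add z₁ z₂ h₁ h₂ =>
    obtain ⟨w₁, h₁⟩ := h₁
    obtain ⟨w₂, h₂⟩ := h₂
    exact ⟨w₁ + w₂, by rw [map_add, h₁, h₂]⟩

/-- A lift of an element of `S ⊗ M` to the polynomial ring presenting `S`. -/
noncomputable def lift (S : Type u) [CommSemiring S] [Algebra A S] (z : S ⊗[A] M) :
    MvPolynomial S A ⊗[A] M :=
  (rTensor_pr_surjective S z).choose

lemma lift_spec (S : Type u) [CommSemiring S] [Algebra A S] (z : S ⊗[A] M) :
    (pr A S).toLinearMap.rTensor M (lift S z) = z :=
  (rTensor_pr_surjective S z).choose_spec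

/-- The corestriction of the law `G` to `N'`. -/
noncomputable def corestrict : M →ₚₗ[A] N' where
  toFun' S _ _ z := (pr A S).toLinearMap.rTensor N' (gP h S (lift S z))
  isCompat' {S _ _ S' _ _} φ := by
    funext z
    simp only [Function.comp_apply]
    let Φ : MvPolynomial S A →ₐ[A] MvPolynomial S' A := MvPolynomial.rename φ
    have hΦ : (pr A S').comp Φ = φ.comp (pr A S) := by
      apply MvPolynomial.algHom_ext
      intro s
      simp [Φ, pr]
    rw [rTensor_rTensor, ← hΦ, ← rTensor_rTensor, gP_nat]
    apply wd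
    rw [rTensor_rTensor, hΦ, ← rTensor_rTensor, lift_spec, lift_spec]

theorem lTensor_corestrict (S : Type u) [CommSemiring S] [Algebra A S] (z : S ⊗[A] M) :
    ι.lTensor S ((corestrict h).toFun' S z) = G.toFun' S z := by
  show ι.lTensor S ((pr A S).toLinearMap.rTensor N' (gP h S (lift S z))) = _
  rw [lTensor_rTensor, gP_spec, G.isCompat_apply', lift_spec]

end Module

section Algebra

variable {A : Type u} [CommRing A] {B C : Type u} [CommRing B] [Algebra A B] [CommRing C]
  [Algebra A C] {d : ℕ}

lemma smul_eq_tmul_mul {S : Type u} [CommSemiring S] [Algebra A S] {R : Type u} [CommRing R]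
    [Algebra A R] (s : S) (x : S ⊗[A] R) : s • x = (s ⊗ₜ[A] (1 : R)) * x := by
  induction x using TensorProduct.induction_on with
  | zero => simp
  | tmul t b => rw [TensorProduct.smul_tmul', Algebra.TensorProduct.tmul_mul_tmul, one_mul,
      smul_eq_mul]
  | add x y hx hy => rw [smul_add, mul_add, hx, hy]

variable (γ : PolLaw.MulLaw A B C d) (C' : Subalgebra A C)
  (h : ValuedIn γ.law C'.val.toLinearMap)

/-- The corestriction of a multiplicative law to a subalgebra containing its values. -/
noncomputable def corestrictMul : PolLaw.MulLaw A B C' d where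
  law := corestrict h
  homog := by
    intro S _ _ s x
    let P := MvPolynomial S A
    let x' : P ⊗[A] B := lift S x
    have hx' : (pr A S).toLinearMap.rTensor B x' = x := lift_spec S x
    -- the identity over the polynomial ring
    have hP : (corestrict h).toFun' P ((MvPolynomial.X s : P) • x') =
        (MvPolynomial.X s : P) ^ d • (corestrict h).toFun' P x' := by
      apply lTensor_inj h S
      rw [lTensor_corestrict, γ.homog P, PolLaw.lTensor_algHom_apply, smul_eq_tmul_mul,
        smul_eq_tmul_mul, map_mul, Algebra.TensorProduct.map_tmul, map_one, AlgHom.id_apply,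
        ← PolLaw.lTensor_algHom_apply, lTensor_corestrict]
    have h1 : (pr A S).toLinearMap.rTensor B ((MvPolynomial.X s : P) • x') = s • x := by
      rw [PL.rTensor_eq_map, smul_eq_tmul_mul, map_mul, Algebra.TensorProduct.map_tmul, map_one,
        pr_X, ← PL.rTensor_eq_map, hx', ← smul_eq_tmul_mul]
    rw [← h1, ← (corestrict h).isCompat_apply', hP, PL.rTensor_eq_map, smul_eq_tmul_mul, map_mul,
      Algebra.TensorProduct.map_tmul, map_one, map_pow, pr_X, ← PL.rTensor_eq_map,
      (corestrict h).isCompat_apply', hx', ← smul_eq_tmul_mul]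
  mult := by
    intro S _ _
    let P := MvPolynomial S A
    constructor
    · have hP : (corestrict h).toFun' P 1 = 1 := by
        apply lTensor_inj h S
        rw [lTensor_corestrict, (γ.mult P).1, PolLaw.lTensor_algHom_apply, map_one]
      have h1 : (pr A S).toLinearMap.rTensor B (1 : P ⊗[A] B) = 1 := by
        rw [PL.rTensor_eq_map, map_one]
      rw [← h1, ← (corestrict h).isCompat_apply', hP, PL.rTensor_eq_map, map_one]
    · intro x y
      let x' : P ⊗[A] B := lift S x
      have hx' : (pr A S).toLinearMap.rTensor B x' = x := lift_spec S x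
      let y' : P ⊗[A] B := lift S y
      have hy' : (pr A S).toLinearMap.rTensor B y' = y := lift_spec S y
      have hP : (corestrict h).toFun' P (x' * y') =
          (corestrict h).toFun' P x' * (corestrict h).toFun' P y' := by
        apply lTensor_inj h S
        have e : ∀ u : P ⊗[A] C', C'.val.toLinearMap.lTensor P u =
            Algebra.TensorProduct.map (AlgHom.id P P) C'.val u :=
          PolLaw.lTensor_algHom_apply C'.val P
        rw [lTensor_corestrict, (γ.mult P).2, e, map_mul, ← e, ← e, lTensor_corestrict,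
          lTensor_corestrict]
      have h1 : (pr A S).toLinearMap.rTensor B (x' * y') = x * y := by
        rw [PL.rTensor_eq_map, map_mul, ← PL.rTensor_eq_map, ← PL.rTensor_eq_map, hx', hy']
      have e2 : ∀ u : P ⊗[A] C', (pr A S).toLinearMap.rTensor C' u =
          Algebra.TensorProduct.map (pr A S) (AlgHom.id A C') u :=
        fun u => PL.rTensor_eq_map (pr A S) u
      rw [← h1, ← (corestrict h).isCompat_apply', hP, e2, map_mul, ← e2, ← e2,
        (corestrict h).isCompat_apply', (corestrict h).isCompat_apply', hx', hy']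

theorem postcomp_corestrictMul :
    PolLaw.postcomp C'.val.toLinearMap (corestrictMul γ C' h).law = γ.law := by
  ext S _ _ z
  exact lTensor_corestrict h S z

end Algebra

end Groth.Agent.H68.CR
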