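import Groth.Agent.H68.LawTorsion
import Mathlib

/-!
# The support of a multiplicative law on a finite type algebra is cut out by a f.g. ideal
-/

set_option autoImplicit false
universe u
open scoped TensorProduct

namespace Groth.Agent.H68.LC

open Groth.Agent.H68

variable {A : Type u} [CommRing A] {B : Type u} [CommRing B] [Algebra A B] {d : ℕ}

/-- The coefficients of an element of the extension of `I` to `A[X] ⊗ B` lie in `I`. -/
lemma Φ_mem_of_mem_map {J : Type} (I : Ideal B) {z : MvPolynomial J A ⊗[A] B}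
    (hz : z ∈ I.map (Algebra.TensorProduct.includeRight : B →ₐ[A] MvPolynomial J A ⊗[A] B))
    (ν : J →₀ ℕ) : Φ J A B z ν ∈ I := by
  have h : z ∈ (I.map (Algebra.TensorProduct.includeRight :
      B →ₐ[A] MvPolynomial J A ⊗[A] B)).restrictScalars A := hz
  rw [Ideal.map_includeRight_eq] at h
  obtain ⟨y, rfl⟩ := h
  clear hz
  induction y using TensorProduct.induction_on with
  | zero => simp
  | tmul p b =>
    rw [LinearMap.lTensor_tmul, Φ_tmul]
    exact Submodule.smul_of_tower_mem I _ b.2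
  | add y₁ y₂ h₁ h₂ =>
    rw [map_add, map_add, Finsupp.add_apply]
    exact I.add_mem h₁ h₂

/-- If the Cayley–Hamilton element of `b` lies in `I`, then `b` is integral modulo `I`. -/
theorem isIntegral_mk_of_ch_mem (F : PolLaw.MulLaw A B A d) (b : B) (I : Ideal B)
    (h : Polynomial.aeval b (charpolyLaw F.law b) ∈ I) :
    IsIntegral A (Ideal.Quotient.mk I b) := by
  refine ⟨Polynomial.C ((-1) ^ d) * charpolyLaw F.law b, ?_, ?_⟩
  · refine Polynomial.monic_of_natDegree_le_of_coeff_eq_one d ?_ ?_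
    · exact (Polynomial.natDegree_C_mul_le _ _).trans (charpolyLaw_natDegree_le F b)
    · rw [Polynomial.coeff_C_mul, charpolyLaw_coeff, ← mul_pow]
      simp
  · rw [Polynomial.eval₂_mul]
    have h2 : Polynomial.eval₂ (algebraMap A (B ⧸ I))
        (Ideal.Quotient.mk I b) (charpolyLaw F.law b) = 0 := by
      have : Polynomial.eval₂ (algebraMap A (B ⧸ I))
          (Ideal.Quotient.mk I b) (charpolyLaw F.law b) =
          Ideal.Quotient.mk I (Polynomial.aeval b (charpolyLaw F.law b)) := by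
        rw [Polynomial.aeval_def, Polynomial.hom_eval₂]
        rfl
      rw [this]
      exact Ideal.Quotient.eq_zero_iff_mem.mpr h
    rw [h2, mul_zero]

/-- For a law on a finite type algebra there are a f.g. ideal `J₀ ≤ ker F` and finitely many
elements spanning `B` modulo `J₀`. -/
theorem exists_fg_finite [Algebra.FiniteType A B] (F : PolLaw.MulLaw A B A d) :
    ∃ J₀ : Ideal B, J₀.FG ∧ J₀ ≤ PolLaw.ker F.law ∧ ∃ (m : ℕ) (e : Fin m → B),
      ∀ b : B, ∃ r : Fin m → A, b - ∑ i, r i • e i ∈ J₀ := by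
  classical
  obtain ⟨s, hs⟩ := (Algebra.FiniteType.out : (⊤ : Subalgebra A B).FG)
  let g : B → B := fun b => Polynomial.aeval b (charpolyLaw F.law b)
  let J₀ : Ideal B := Ideal.span ((s.image g : Finset B) : Set B)
  have hJ₀le : J₀ ≤ PolLaw.ker F.law := by
    rw [Ideal.span_le]
    intro x hx
    rw [Finset.mem_coe, Finset.mem_image] at hx
    obtain ⟨b, _, rfl⟩ := hx
    exact cayleyHamilton_mem_ker F b
  have hint : Algebra.IsIntegral A (B ⧸ J₀) := by
    have hgen : Algebra.adjoin A ((Ideal.Quotient.mkₐ A J₀) '' (s : Set B)) = ⊤ := by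
      rw [← AlgHom.map_adjoin, hs, Algebra.map_top, AlgHom.range_eq_top]
      exact Ideal.Quotient.mkₐ_surjective A J₀
    have hle : Algebra.adjoin A ((Ideal.Quotient.mkₐ A J₀) '' (s : Set B)) ≤
        integralClosure A (B ⧸ J₀) := by
      rw [Algebra.adjoin_le_iff]
      rintro _ ⟨b, hb, rfl⟩
      refine isIntegral_mk_of_ch_mem F b J₀ (Ideal.subset_span ?_)
      rw [Finset.mem_coe, Finset.mem_image]
      exact ⟨b, hb, rfl⟩
    refine ⟨fun x => hle ?_⟩
    rw [hgen]
    exact Algebra.mem_top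
  have hft : Algebra.FiniteType A (B ⧸ J₀) :=
    Algebra.FiniteType.of_surjective (Ideal.Quotient.mkₐ A J₀) (Ideal.Quotient.mkₐ_surjective A J₀)
  have hfin : Module.Finite A (B ⧸ J₀) := Algebra.IsIntegral.finite
  obtain ⟨m, t, ht⟩ := Module.Finite.exists_fin (R := A) (M := B ⧸ J₀)
  have hex : ∀ i, ∃ b : B, Ideal.Quotient.mk J₀ b = t i := fun i =>
    Ideal.Quotient.mk_surjective (t i)
  choose e he using hex
  refine ⟨J₀, ⟨s.image g, rfl⟩, hJ₀le, m, e, fun b => ?_⟩
  have hb : Ideal.Quotient.mk J₀ b ∈ Submodule.span A (Set.range t) := by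
    rw [ht]; exact Submodule.mem_top
  rw [Submodule.mem_span_range_iff_exists_fun] at hb
  obtain ⟨r, hr⟩ := hb
  refine ⟨r, ?_⟩
  rw [← Ideal.Quotient.eq_zero_iff_mem, map_sub, map_sum, ← hr, sub_eq_zero]
  refine Finset.sum_congr rfl fun i _ => ?_
  rw [← he i]
  exact (map_smul (Ideal.Quotient.mkₐ A J₀) (r i) (e i)).symm

/-- Every element of a base change `K ⊗ B` is a `K`-combination of the `e i` modulo `J₀`. -/
lemma exists_comb {m : ℕ} (e : Fin m → B) (J₀ : Ideal B)
    (he : ∀ b : B, ∃ r : Fin m → A, b - ∑ i, r i • e i ∈ J₀)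
    (K : Type u) [CommRing K] [Algebra A K] (y : K ⊗[A] B) :
    ∃ a : Fin m → K, y - ∑ i, a i ⊗ₜ[A] e i ∈
      J₀.map (Algebra.TensorProduct.includeRight : B →ₐ[A] K ⊗[A] B) := by
  induction y using TensorProduct.induction_on with
  | zero => exact ⟨0, by simp⟩
  | tmul c b =>
    obtain ⟨r, hr⟩ := he b
    refine ⟨fun i => r i • c, ?_⟩
    have h1 : c ⊗ₜ[A] b - ∑ i, (r i • c) ⊗ₜ[A] e i =
        (c ⊗ₜ[A] (1 : B)) * ((1 : K) ⊗ₜ[A] (b - ∑ i, r i • e i)) := by
      rw [Algebra.TensorProduct.tmul_mul_tmul, mul_one, one_mul, TensorProduct.tmul_sub,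
        TensorProduct.tmul_sum]
      congr 1
      refine Finset.sum_congr rfl fun i _ => ?_
      rw [TensorProduct.smul_tmul]
    rw [h1]
    exact Ideal.mul_mem_left _ _ (Ideal.mem_map_of_mem _ hr)
  | add y₁ y₂ h₁ h₂ =>
    obtain ⟨a₁, h₁⟩ := h₁
    obtain ⟨a₂, h₂⟩ := h₂
    refine ⟨a₁ + a₂, ?_⟩
    have : y₁ + y₂ - ∑ i, (a₁ + a₂) i ⊗ₜ[A] e i =
        (y₁ - ∑ i, a₁ i ⊗ₜ[A] e i) + (y₂ - ∑ i, a₂ i ⊗ₜ[A] e i) := by
      simp only [Pi.add_apply, TensorProduct.add_tmul, Finset.sum_add_distrib]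
      ring
    rw [this]
    exact Ideal.add_mem _ h₁ h₂

/-- On a finite type algebra, the kernel of a multiplicative law has the radical of a finitely
generated ideal contained in it. -/
theorem exists_fg_radical [Algebra.FiniteType A B] (F : PolLaw.MulLaw A B A d) :
    ∃ J : Ideal B, J.FG ∧ J ≤ PolLaw.ker F.law ∧ J.radical = (PolLaw.ker F.law).radical := by
  classical
  obtain ⟨J₀, hJ₀fg, hJ₀le, m, e, he⟩ := exists_fg_finite F
  let P := MvPolynomial (Fin m) A
  let Y : P ⊗[A] B := ∑ i, (MvPolynomial.X i : P) ⊗ₜ[A] e i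
  let Z : P ⊗[A] B := Polynomial.aeval Y (charpolyLaw (bc P F).law Y)
  have hZ : Z ∈ (PolLaw.ker F.law).map
      (Algebra.TensorProduct.includeRight : B →ₐ[A] P ⊗[A] B) := ch_bc_mem_map F P Y
  let c : (Fin m →₀ ℕ) →₀ B := Φ (Fin m) A B Z
  have hc : ∀ ν, c ν ∈ PolLaw.ker F.law := fun ν => Φ_mem_of_mem_map _ hZ ν
  let J₁ : Ideal B := Ideal.span ((c.support.image c : Finset B) : Set B)
  have hJ₁le : J₁ ≤ PolLaw.ker F.law := by
    rw [Ideal.span_le]
    intro x hx
    rw [Finset.mem_coe, Finset.mem_image] at hx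
    obtain ⟨ν, _, rfl⟩ := hx
    exact hc ν
  have hcJ₁ : ∀ ν, c ν ∈ J₁ := by
    intro ν
    by_cases hν : ν ∈ c.support
    · refine Ideal.subset_span ?_
      rw [Finset.mem_coe, Finset.mem_image]
      exact ⟨ν, hν, rfl⟩
    · rw [Finsupp.notMem_support_iff.mp hν]
      exact Ideal.zero_mem _
  have hJle : J₀ ⊔ J₁ ≤ PolLaw.ker F.law := sup_le hJ₀le hJ₁le
  refine ⟨J₀ ⊔ J₁, Submodule.FG.sup hJ₀fg ⟨c.support.image c, rfl⟩, hJle,
    le_antisymm (Ideal.radical_mono hJle) ?_⟩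
  rw [Ideal.radical_le_radical_iff, Ideal.radical_eq_sInf]
  intro x hx
  rw [Ideal.mem_sInf]
  rintro Q ⟨hJQ, hQ⟩
  -- the residue field at `Q`
  let k := FractionRing (B ⧸ Q)
  let ξ : B →ₐ[A] k := (IsScalarTower.toAlgHom A (B ⧸ Q) k).comp (Ideal.Quotient.mkₐ A Q)
  have hξ : ∀ b : B, ξ b = 0 ↔ b ∈ Q := by
    intro b
    show algebraMap (B ⧸ Q) k (Ideal.Quotient.mk Q b) = 0 ↔ _
    rw [map_eq_zero_iff _ (IsFractionRing.injective (B ⧸ Q) k), Ideal.Quotient.eq_zero_iff_mem]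
  let ξk : k ⊗[A] B →ₐ[k] k :=
    Algebra.TensorProduct.lift (Algebra.ofId k k) ξ (fun _ _ => Commute.all _ _)
  have hξk : ∀ (a : k) (b : B), ξk (a ⊗ₜ[A] b) = a * ξ b := by
    intro a b
    show Algebra.TensorProduct.lift (Algebra.ofId k k) ξ (fun _ _ => Commute.all _ _)
      (a ⊗ₜ[A] b) = _
    rw [Algebra.TensorProduct.lift_tmul]
    rfl
  have hmapQ : ∀ I : Ideal B, I ≤ Q →
      I.map (Algebra.TensorProduct.includeRight : B →ₐ[A] k ⊗[A] B) ≤ RingHom.ker ξk := by
    intro I hI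
    rw [Ideal.map_le_iff_le_comap]
    intro b hb
    rw [Ideal.mem_comap, RingHom.mem_ker, Algebra.TensorProduct.includeRight_apply, hξk, one_mul,
      hξ]
    exact hI hb
  have hmapker : ∀ I : Ideal B, I ≤ PolLaw.ker F.law →
      I.map (Algebra.TensorProduct.includeRight : B →ₐ[A] k ⊗[A] B) ≤
        PolLaw.ker (bc k F).law := by
    intro I hI
    rw [ker_bc]
    exact (Ideal.map_mono hI).trans (PL.map_ker_le_kerBC F.law k)
  have hkey : PolLaw.ker (bc k F).law ≤ RingHom.ker ξk := by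
    intro y hy
    obtain ⟨a, ha⟩ := exists_comb e J₀ he k y
    set y' : k ⊗[A] B := ∑ i, a i ⊗ₜ[A] e i with hy'def
    have hy' : y' ∈ PolLaw.ker (bc k F).law := by
      have : y' = y - (y - y') := by ring
      rw [this]
      exact Ideal.sub_mem _ hy (hmapker J₀ hJ₀le ha)
    have hξy : ξk y = ξk y' := by
      have h1 : ξk (y - y') = 0 := hmapQ J₀ (le_sup_left.trans hJQ) ha
      rw [map_sub, sub_eq_zero] at h1
      exact h1
    rw [RingHom.mem_ker, hξy]
    let ψ : P →ₐ[A] k := MvPolynomial.aeval a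
    have hψY : Algebra.TensorProduct.map ψ (AlgHom.id A B) Y = y' := by
      show Algebra.TensorProduct.map (MvPolynomial.aeval a) (AlgHom.id A B)
        (∑ i, (MvPolynomial.X i : MvPolynomial (Fin m) A) ⊗ₜ[A] e i) = _
      rw [map_sum]
      refine Finset.sum_congr rfl fun i _ => ?_
      rw [Algebra.TensorProduct.map_tmul, MvPolynomial.aeval_X, AlgHom.id_apply]
    have hψZ : Algebra.TensorProduct.map ψ (AlgHom.id A B) Z = (-y') ^ d := by
      show Algebra.TensorProduct.map ψ (AlgHom.id A B)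
        (Polynomial.aeval Y (charpolyLaw (bc P F).law Y)) = _
      rw [map_aeval, ← charpoly_bc_map, hψY, charpolyLaw_of_mem_ker (bc k F) hy', map_pow,
        map_neg, Polynomial.aeval_X]
    have hξZ : ξk (Algebra.TensorProduct.map ψ (AlgHom.id A B) Z) = 0 := by
      have hZsum := eq_sum Z
      rw [hZsum, Finsupp.sum, map_sum, map_sum]
      refine Finset.sum_eq_zero fun ν _ => ?_
      rw [Algebra.TensorProduct.map_tmul, AlgHom.id_apply, hξk]
      have : ξ (Φ (Fin m) A B Z ν) = 0 := (hξ _).mpr (hJQ (le_sup_right (a := J₀) (hcJ₁ ν)))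
      rw [this, mul_zero]
    rw [hψZ, map_pow, map_neg] at hξZ
    have := eq_zero_of_pow_eq_zero hξZ
    exact neg_eq_zero.mp this
  have h1 : (1 : k) ⊗ₜ[A] x ∈ PolLaw.ker (bc k F).law :=
    hmapker _ le_rfl (Ideal.mem_map_of_mem _ hx)
  have h2 := hkey h1
  rw [RingHom.mem_ker, hξk, one_mul, hξ] at h2
  exact h2

end Groth.Agent.H68.LC
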