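import Groth.Agent.H68.LawFG
import Mathlib

/-!
# Going down for the image of a multiplicative law
-/

set_option autoImplicit false
universe u
open scoped TensorProduct

namespace Groth.Agent.H68.LC

open Groth.Agent.H68

variable {A : Type u} [CommRing A] {B : Type u} [CommRing B] [Algebra A B] {d : ℕ}

/-- Over a domain, the minimal primes over `ker F` contract to zero. -/
theorem comap_eq_bot_of_mem_minimalPrimes [IsDomain A] (F : PolLaw.MulLaw A B A d) {P : Ideal B}
    (hP : P ∈ (PolLaw.ker F.law).minimalPrimes) : P.comap (algebraMap A B) = ⊥ := by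
  rw [eq_bot_iff]
  intro a ha
  rw [Ideal.mem_comap] at ha
  rw [Ideal.mem_bot]
  by_contra hne
  obtain ⟨y, hy, hay⟩ := Ideal.exists_mul_mem_of_mem_minimalPrimes hP ha
  rw [← Algebra.smul_def] at hay
  exact hy (mem_ker_of_smul_mem F.law hne hay)

/-- Going down for the primes containing `ker F`. -/
theorem going_down (F : PolLaw.MulLaw A B A d) (P' : Ideal B) [hP'prime : P'.IsPrime]
    (hP' : PolLaw.ker F.law ≤ P') (p : Ideal A) [hp : p.IsPrime]
    (hpP' : p ≤ P'.comap (algebraMap A B)) :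
    ∃ P₀ : Ideal B, P₀.IsPrime ∧ PolLaw.ker F.law ≤ P₀ ∧ P₀ ≤ P' ∧
      P₀.comap (algebraMap A B) = p := by
  let A₁ := A ⧸ p
  let F₁ := bc A₁ F
  -- the point of `A₁ ⊗ B` over `P'`
  let f : A₁ →ₐ[A] B ⧸ P' := Ideal.Quotient.liftₐ p (Algebra.ofId A (B ⧸ P')) (by
    intro a ha
    have h1 : algebraMap A B a ∈ P' := hpP' ha
    show algebraMap A (B ⧸ P') a = 0
    rw [IsScalarTower.algebraMap_apply A B (B ⧸ P'), Ideal.Quotient.algebraMap_eq,
      Ideal.Quotient.eq_zero_iff_mem]
    exact h1)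
  let ξ : A₁ ⊗[A] B →ₐ[A] B ⧸ P' :=
    Algebra.TensorProduct.lift f (Ideal.Quotient.mkₐ A P') (fun _ _ => Commute.all _ _)
  have hξ : ∀ (a : A₁) (b : B), ξ (a ⊗ₜ[A] b) = f a * Ideal.Quotient.mk P' b := by
    intro a b
    show Algebra.TensorProduct.lift f (Ideal.Quotient.mkₐ A P') (fun _ _ => Commute.all _ _)
      (a ⊗ₜ[A] b) = _
    rw [Algebra.TensorProduct.lift_tmul]
    rfl
  have hP''prime : (RingHom.ker ξ).IsPrime := RingHom.ker_isPrime _
  have hmapker : (PolLaw.ker F.law).map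
      (Algebra.TensorProduct.includeRight : B →ₐ[A] A₁ ⊗[A] B) ≤ PolLaw.ker F₁.law := by
    rw [ker_bc]
    exact PL.map_ker_le_kerBC F.law A₁
  have hkerle : PolLaw.ker F₁.law ≤ RingHom.ker ξ := by
    rw [ker_bc]
    refine Ideal.le_radical.trans ?_
    rw [radical_kerBC, hP''prime.radical_le_iff, Ideal.map_le_iff_le_comap]
    intro x hx
    rw [Ideal.mem_comap, RingHom.mem_ker, Algebra.TensorProduct.includeRight_apply, hξ, map_one,
      one_mul, Ideal.Quotient.eq_zero_iff_mem]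
    exact hP' hx
  obtain ⟨P₀'', hmin, hle⟩ := Ideal.exists_minimalPrimes_le hkerle
  have hP₀''prime : P₀''.IsPrime := hmin.1.1
  have hbot := comap_eq_bot_of_mem_minimalPrimes F₁ hmin
  refine ⟨P₀''.comap (Algebra.TensorProduct.includeRight : B →ₐ[A] A₁ ⊗[A] B),
    Ideal.comap_isPrime _ _, ?_, ?_, ?_⟩
  · intro x hx
    rw [Ideal.mem_comap]
    exact hmin.1.2 (hmapker (Ideal.mem_map_of_mem _ hx))
  · intro x hx
    rw [Ideal.mem_comap] at hx
    have h1 := hle hx
    rw [RingHom.mem_ker, Algebra.TensorProduct.includeRight_apply, hξ, map_one, one_mul,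
      Ideal.Quotient.eq_zero_iff_mem] at h1
    exact h1
  · ext a
    rw [Ideal.mem_comap, Ideal.mem_comap, Algebra.TensorProduct.includeRight_apply]
    have h1 : (1 : A₁) ⊗ₜ[A] (algebraMap A B a) =
        algebraMap A₁ (A₁ ⊗[A] B) (Ideal.Quotient.mk p a) := by
      rw [Algebra.TensorProduct.algebraMap_apply, Algebra.algebraMap_eq_smul_one,
        TensorProduct.tmul_smul, TensorProduct.smul_tmul', Algebra.smul_def, mul_one]
      rfl
    rw [h1, ← Ideal.mem_comap, hbot, Ideal.mem_bot, Ideal.Quotient.eq_zero_iff_mem]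

/-- Going down for quotients of `B` with the same underlying space as `B ⧸ ker F`. -/
theorem hasGoingDown_of_surjective (F : PolLaw.MulLaw A B A d) {C : Type u} [CommRing C]
    [Algebra A C] (ρ : B →ₐ[A] C) (hρ : Function.Surjective ρ)
    (hker : (RingHom.ker ρ).radical = (PolLaw.ker F.law).radical) :
    Algebra.HasGoingDown A C := by
  constructor
  intro p hp Q hQ hlt
  have hP'prime : (Q.comap ρ).IsPrime := Ideal.comap_isPrime _ _
  have hkerP' : PolLaw.ker F.law ≤ Q.comap ρ := by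
    refine Ideal.le_radical.trans ?_
    rw [← hker, hP'prime.radical_le_iff]
    intro x hx
    rw [Ideal.mem_comap, RingHom.mem_ker.mp hx]
    exact Ideal.zero_mem _
  have hpP' : p ≤ (Q.comap ρ).comap (algebraMap A B) := by
    intro a ha
    have h1 : a ∈ Q.under A := hlt.le ha
    rw [Ideal.mem_comap, Ideal.mem_comap, AlgHom.commutes]
    exact h1
  obtain ⟨P₀, hP₀prime, hkerP₀, hP₀le, hP₀p⟩ := going_down F (Q.comap ρ) hkerP' p hpP'
  have hkerρ : RingHom.ker ρ ≤ P₀ := by
    refine Ideal.le_radical.trans ?_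
    rw [hker, hP₀prime.radical_le_iff]
    exact hkerP₀
  have hcomap : (P₀.map ρ).comap ρ = P₀ := by
    rw [Ideal.comap_map_of_surjective ρ hρ]
    have : Ideal.comap ρ ⊥ = RingHom.ker ρ := rfl
    rw [this]
    exact sup_eq_left.mpr hkerρ
  refine ⟨P₀.map ρ, ?_, Ideal.map_isPrime_of_surjective hρ hkerρ, ⟨?_⟩⟩
  · rw [Ideal.map_le_iff_le_comap]
    exact hP₀le
  · rw [← hP₀p]
    ext a
    rw [Ideal.under_def, Ideal.mem_comap, Ideal.mem_comap, ← ρ.commutes a]
    show _ ↔ algebraMap A B a ∈ (P₀.map ρ).comap ρ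
    rw [hcomap]

/-- `Spec (A' ⊗ (B ⧸ ker F)) → Spec A'` has going down, for every `A`-algebra `A'`. -/
theorem hasGoingDown_tensor_image (F : PolLaw.MulLaw A B A d) (A' : Type u) [CommRing A']
    [Algebra A A'] : Algebra.HasGoingDown A' (A' ⊗[A] PolLaw.image F.law) := by
  let ρ : A' ⊗[A] B →ₐ[A'] A' ⊗[A] PolLaw.image F.law :=
    Algebra.TensorProduct.map (AlgHom.id A' A') (Ideal.Quotient.mkₐ A (PolLaw.ker F.law))
  have hρ : Function.Surjective ρ :=
    Algebra.TensorProduct.map_surjective _ _ Function.surjective_id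
      (Ideal.Quotient.mkₐ_surjective A _)
  refine hasGoingDown_of_surjective (bc A' F) ρ hρ ?_
  have h1 : RingHom.ker ρ = (PolLaw.ker F.law).map
      (Algebra.TensorProduct.includeRight : B →ₐ[A] A' ⊗[A] B) := by
    have := Algebra.TensorProduct.lTensor_ker (A := A')
      (Ideal.Quotient.mkₐ A (PolLaw.ker F.law)) (Ideal.Quotient.mkₐ_surjective A _)
    have hk : RingHom.ker (Ideal.Quotient.mkₐ A (PolLaw.ker F.law)) = PolLaw.ker F.law := by
      ext x
      rw [RingHom.mem_ker]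
      exact Ideal.Quotient.eq_zero_iff_mem
    rw [hk] at this
    rw [← this]
    ext x
    rw [RingHom.mem_ker, RingHom.mem_ker]
    rfl
  rw [h1, ker_bc, radical_kerBC]

end Groth.Agent.H68.LC
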