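import Groth.Agent.H68.LawGammaGen
import Mathlib

/-!
# Finiteness of the span of the coefficients of a law on a finite module
-/

set_option autoImplicit false
universe u
open scoped TensorProduct

namespace Groth.Agent.H68.CR

open Groth.Agent.H68 Groth.Agent.H68.LC

variable {A : Type u} [CommRing A] {B C : Type u} [CommRing B] [Algebra A B] [CommRing C]
  [Algebra A C] {d : ℕ}

/-- If `m` spans `B`, every coefficient of `F` is a combination of the coefficients with respect
to `m`. -/
theorem coeffE_mem_span_of_span (F : B →ₚₗ[A] C) {r : ℕ} (m : Fin r → B)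
    (hm : Submodule.span A (Set.range m) = ⊤) {I : Type} (e : I → B) (E : Finset I)
    (κ : I →₀ ℕ) :
    coeffE F e E κ ∈ Submodule.span A (Set.range (coeffE F m Finset.univ)) := by
  have hex : ∀ i, ∃ a : Fin r → A, ∑ j, a j • m j = e i := by
    intro i
    have : e i ∈ Submodule.span A (Set.range m) := by rw [hm]; exact Submodule.mem_top
    exact (Submodule.mem_span_range_iff_exists_fun A).mp this
  choose a ha using hex
  let p : Fin r → MvPolynomial I A := fun j => ∑ i ∈ E, a i j • (MvPolynomial.X i)
  have hgen : genE (A := A) e E = ∑ j ∈ Finset.univ, p j ⊗ₜ[A] m j := by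
    rw [genE]
    simp only [p, TensorProduct.sum_tmul]
    rw [Finset.sum_comm]
    refine Finset.sum_congr rfl fun i _ => ?_
    rw [← ha i, TensorProduct.tmul_sum]
    refine Finset.sum_congr rfl fun j _ => ?_
    rw [TensorProduct.tmul_smul, TensorProduct.smul_tmul']
  have hc : coeffE F e E κ = Φ I A C (F.toFun' (MvPolynomial I A) (genE e E)) κ := rfl
  rw [hc, hgen, toFun'_sum, Finsupp.sum, map_sum, Finsupp.finsetSum_apply]
  refine Submodule.sum_mem _ fun k _ => ?_
  rw [Φ_tmul]
  exact Submodule.smul_mem _ _ (Submodule.subset_span ⟨k, rfl⟩)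

/-- The span of the coefficients of a law on a finite module is finitely generated. -/
theorem TS_fg [Module.Finite A B] (F : B →ₚₗ[A] C) : (TS F).FG := by
  obtain ⟨r, m, hm⟩ := Module.Finite.exists_fin (R := A) (M := B)
  have h1 : TS F = Submodule.span A (Set.range (coeffE F m Finset.univ)) := by
    apply le_antisymm
    · rw [TS, Submodule.span_le]
      rintro _ ⟨I, e, E, k, rfl⟩
      exact coeffE_mem_span_of_span F m hm e E k
    · rw [Submodule.span_le]
      rintro _ ⟨k, rfl⟩
      exact coeffE_mem_TS F m Finset.univ k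
  rw [h1]
  exact Submodule.fg_span (Finsupp.finite_range _)

/-- `Γ^d_A(B)` is a finite module when `B` is. -/
theorem finite_of_isGammaD [Module.Finite A B] (γ : PolLaw.MulLaw A B C d)
    (hγ : PolLaw.IsGammaD γ) : Module.Finite A C := by
  rw [Module.finite_def, ← TS_eq_top γ hγ]
  exact TS_fg γ.law

end Groth.Agent.H68.CR
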