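import Groth.Agent.H68.LawCorestrict
import Groth.Agent.H68.LawCH
import Mathlib

/-!
# `Γ^d_A(B)` is spanned by the coefficients of its universal law
-/

set_option autoImplicit false
universe u
open scoped TensorProduct

namespace Groth.Agent.H68.CR

open Groth.Agent.H68 Groth.Agent.H68.LC

variable {A : Type u} [CommRing A] {B C : Type u} [CommRing B] [Algebra A B] [CommRing C]
  [Algebra A C] {d : ℕ}

/-- A law takes its values in every subalgebra containing its coefficients. -/
lemma valuedIn_of_coeff (γ : PolLaw.MulLaw A B C d) (C' : Subalgebra A C)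
    (hC' : ∀ (I : Type) (e : I → B) (E : Finset I) (k : I →₀ ℕ), coeffE γ.law e E k ∈ C') :
    ValuedIn γ.law C'.val.toLinearMap where
  inj := Subtype.val_injective
  mem S _ _ z := by
    obtain ⟨J, _, s, b, rfl⟩ := exists_fintype_sum (A := A) z
    rw [toFun'_sum, Finsupp.sum]
    refine Submodule.sum_mem _ fun k _ => ?_
    exact ⟨(k.prod fun i a => s i ^ a) ⊗ₜ[A] ⟨coeffE γ.law b Finset.univ k, hC' _ _ _ _⟩, rfl⟩

/-- Post-composition of laws is functorial. -/
lemma postcomp_comp {C₁ C₂ : Type u} [CommRing C₁] [Algebra A C₁] [CommRing C₂] [Algebra A C₂]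
    (g : C₁ →ₐ[A] C₂) (f : C →ₐ[A] C₁) (F : B →ₚₗ[A] C) :
    PolLaw.postcomp (g.comp f).toLinearMap F =
      PolLaw.postcomp g.toLinearMap (PolLaw.postcomp f.toLinearMap F) := by
  ext S _ _ z
  show (g.comp f).toLinearMap.lTensor S (F.toFun' S z) =
    g.toLinearMap.lTensor S (f.toLinearMap.lTensor S (F.toFun' S z))
  rw [AlgHom.comp_toLinearMap, LinearMap.lTensor_comp, LinearMap.comp_apply]

lemma postcomp_id (F : B →ₚₗ[A] C) :
    PolLaw.postcomp (AlgHom.id A C).toLinearMap F = F := by
  ext S _ _ z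
  show (AlgHom.id A C).toLinearMap.lTensor S (F.toFun' S z) = F.toFun' S z
  have : (AlgHom.id A C).toLinearMap = LinearMap.id := rfl
  rw [this, LinearMap.lTensor_id, LinearMap.id_apply]

/-- A subalgebra of `Γ^d_A(B)` containing the coefficients of the universal law is everything. -/
theorem subalgebra_eq_top (γ : PolLaw.MulLaw A B C d) (hγ : PolLaw.IsGammaD γ)
    (C' : Subalgebra A C)
    (hC' : ∀ (I : Type) (e : I → B) (E : Finset I) (k : I →₀ ℕ), coeffE γ.law e E k ∈ C') :
    C' = ⊤ := by
  have h := valuedIn_of_coeff γ C' hC'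
  let γ' := corestrictMul γ C' h
  obtain ⟨f, hf, -⟩ := hγ C' γ'
  have h1 : PolLaw.postcomp (C'.val.comp f).toLinearMap γ.law = γ.law := by
    rw [postcomp_comp, hf]
    exact postcomp_corestrictMul γ C' h
  obtain ⟨g, -, hg⟩ := hγ C γ
  have h2 : C'.val.comp f = g := hg _ h1
  have h3 : AlgHom.id A C = g := hg _ (postcomp_id γ.law)
  rw [eq_top_iff]
  intro c _
  have : C'.val (f c) = c := by
    have := DFunLike.congr_fun (h2.trans h3.symm) c
    exact this
  rw [← this]
  exact (f c).2

/-- `Γ^d_A(B)` is spanned by the coefficients of its universal law. -/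
theorem TS_eq_top (γ : PolLaw.MulLaw A B C d) (hγ : PolLaw.IsGammaD γ) : TS γ.law = ⊤ := by
  have := subalgebra_eq_top γ hγ (TSalg γ.law γ.mult) (fun I e E k => coeffE_mem_TS γ.law e E k)
  rw [eq_top_iff]
  intro c _
  have hc : c ∈ TSalg γ.law γ.mult := by rw [this]; exact Algebra.mem_top
  exact hc

end Groth.Agent.H68.CR
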