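import Groth.Agent.H68.LawGammaFin
import Mathlib

/-!
# Integrality of `Γ^d_A(B)` for integral `B`
-/

set_option autoImplicit false
universe u
open scoped TensorProduct

namespace Groth.Agent.H68.CR

open Groth.Agent.H68 Groth.Agent.H68.LC

variable {A : Type u} [CommRing A] {B C : Type u} [CommRing B] [Algebra A B] [CommRing C]
  [Algebra A C] {d : ℕ}

/-- The coefficients of a multiplicative law on an integral algebra are integral. -/
theorem isIntegral_coeffE [Algebra.IsIntegral A B] (γ : PolLaw.MulLaw A B C d) {I : Type}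
    (e : I → B) (E : Finset I) (κ : I →₀ ℕ) : IsIntegral A (coeffE γ.law e E κ) := by
  classical
  let s : Set B := e '' (E : Set I)
  let B₀ : Subalgebra A B := Algebra.adjoin A s
  have hfg : (Subalgebra.toSubmodule B₀).FG :=
    fg_adjoin_of_finite (E.finite_toSet.image e) (fun x _ => Algebra.IsIntegral.isIntegral x)
  have hfin : Module.Finite A B₀ := Module.Finite.iff_fg.mpr hfg
  let γ₀ : PolLaw.MulLaw A B₀ C d := γ.precomp B₀.val
  let e₀ : I → B₀ := fun i => if h : e i ∈ B₀ then ⟨e i, h⟩ else 0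
  have he₀ : ∀ i ∈ E, (e₀ i : B) = e i := by
    intro i hi
    have hmem : e i ∈ B₀ := Algebra.subset_adjoin ⟨i, hi, rfl⟩
    simp only [e₀, dif_pos hmem]
  have hcoef : coeffE γ.law e E κ = coeffE γ₀.law e₀ E κ := by
    rw [coeffE, coeffE]
    congr 2
    show _ = γ.law.toFun' _ (B₀.val.toLinearMap.lTensor _ (genE e₀ E))
    congr 1
    rw [genE, genE, map_sum]
    refine Finset.sum_congr rfl fun i hi => ?_
    rw [LinearMap.lTensor_tmul, AlgHom.toLinearMap_apply, Subalgebra.val_apply, he₀ i hi]
  rw [hcoef]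
  have hfg' : (Subalgebra.toSubmodule (TSalg γ₀.law γ₀.mult)).FG := TS_fg γ₀.law
  exact IsIntegral.of_mem_of_fg (TSalg γ₀.law γ₀.mult) hfg' _ (coeffE_mem_TS γ₀.law e₀ E κ)

/-- `Γ^d_A(B)` is integral over `A` when `B` is. -/
theorem isIntegral_of_isGammaD [Algebra.IsIntegral A B] (γ : PolLaw.MulLaw A B C d)
    (hγ : PolLaw.IsGammaD γ) : Algebra.IsIntegral A C := by
  constructor
  intro c
  have hc : c ∈ TS γ.law := by rw [TS_eq_top γ hγ]; exact Submodule.mem_top
  induction hc using Submodule.span_induction with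
  | mem x hx =>
    obtain ⟨I, e, E, k, rfl⟩ := hx
    exact isIntegral_coeffE γ e E k
  | zero => exact isIntegral_zero
  | add x y _ _ hx hy => exact hx.add hy
  | smul a x _ hx => exact hx.smul a

end Groth.Agent.H68.CR
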