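import Groth.Agent.H68.LawGD
import Mathlib

/-!
# The image of a multiplicative law is universally open over the base
-/

set_option autoImplicit false
universe u
open scoped TensorProduct

namespace Groth.Agent.H68.LC

open Groth.Agent.H68

variable {A : Type u} [CommRing A] {B : Type u} [CommRing B] [Algebra A B] {d : ℕ}

/-- The radical of the kernel of a restricted law. -/
theorem radical_ker_precomp {B' : Type u} [CommRing B'] [Algebra A B'] (F : PolLaw.MulLaw A B A d)
    (φ : B' →ₐ[A] B) :
    (PolLaw.ker (F.precomp φ).law).radical = ((PolLaw.ker F.law).comap φ).radical := by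
  apply le_antisymm
  · rw [Ideal.radical_le_radical_iff]
    intro b' hb'
    refine ⟨d, ?_⟩
    rw [Ideal.mem_comap, map_pow]
    have hchar : charpolyLaw F.law (φ b') = charpolyLaw (F.precomp φ).law b' := by
      rw [charpolyLaw, charpolyLaw, precomp_toFun']
      congr 2
      rw [map_sub, Algebra.TensorProduct.map_tmul, Algebra.TensorProduct.map_tmul, map_one,
        map_one, AlgHom.id_apply]
    have h1 := cayleyHamilton_mem_ker F (φ b')
    rw [hchar, charpolyLaw_of_mem_ker (F.precomp φ) hb', map_pow, map_neg, Polynomial.aeval_X]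
      at h1
    have h2 : (φ b') ^ d = (-1) ^ d * (-(φ b')) ^ d := by
      rw [← mul_pow]
      simp
    rw [h2]
    exact Ideal.mul_mem_left _ _ h1
  · apply Ideal.radical_mono
    intro b' hb'
    rw [Ideal.mem_comap] at hb'
    intro S _ _ x w
    rw [precomp_toFun', precomp_toFun', map_add, map_mul, Algebra.TensorProduct.map_tmul, map_one]
    exact hb' S _ _

/-- The image in `Spec A` of the part of the support of `F` where `f` does not vanish. -/
def imSet (F : PolLaw.MulLaw A B A d) (f : B) : Set (PrimeSpectrum A) :=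
  {q | ∃ P : Ideal B, P.IsPrime ∧ PolLaw.ker F.law ≤ P ∧ f ∉ P ∧
    P.comap (algebraMap A B) = q.asIdeal}

lemma image_basicOpen_eq_imSet (F : PolLaw.MulLaw A B A d) {C : Type u} [CommRing C]
    [Algebra A C] (ρ : B →ₐ[A] C) (hρ : Function.Surjective ρ)
    (hker : (RingHom.ker ρ).radical = (PolLaw.ker F.law).radical) (f : B) :
    PrimeSpectrum.comap (algebraMap A C) '' (PrimeSpectrum.basicOpen (ρ f) : Set (PrimeSpectrum C)) =
      imSet F f := by
  ext q
  constructor
  · rintro ⟨x, hx, rfl⟩
    have hxf : ρ f ∉ x.asIdeal := hx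
    have hPprime : (x.asIdeal.comap ρ).IsPrime := Ideal.comap_isPrime _ _
    refine ⟨x.asIdeal.comap ρ, hPprime, ?_, hxf, ?_⟩
    · refine Ideal.le_radical.trans ?_
      rw [← hker, hPprime.radical_le_iff]
      intro y hy
      rw [Ideal.mem_comap, RingHom.mem_ker.mp hy]
      exact Ideal.zero_mem _
    · ext a
      rw [Ideal.mem_comap, Ideal.mem_comap, AlgHom.commutes]
      rfl
  · rintro ⟨P, hPprime, hkerP, hfP, hq⟩
    have hkerρ : RingHom.ker ρ ≤ P := by
      refine Ideal.le_radical.trans ?_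
      rw [hker, hPprime.radical_le_iff]
      exact hkerP
    have hcomap : (P.map ρ).comap ρ = P := by
      rw [Ideal.comap_map_of_surjective ρ hρ]
      have : Ideal.comap ρ ⊥ = RingHom.ker ρ := rfl
      rw [this]
      exact sup_eq_left.mpr hkerρ
    have hmapprime : (P.map ρ).IsPrime := Ideal.map_isPrime_of_surjective hρ hkerρ
    refine ⟨⟨P.map ρ, hmapprime⟩, ?_, ?_⟩
    · show ρ f ∉ P.map ρ
      intro h
      apply hfP
      rw [← hcomap]
      exact h
    · ext a
      show algebraMap A C a ∈ P.map ρ ↔ a ∈ q.asIdeal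
      rw [← hq, Ideal.mem_comap, ← ρ.commutes a]
      show algebraMap A B a ∈ (P.map ρ).comap ρ ↔ _
      rw [hcomap]

open Polynomial in
lemma imSet_precomp (F : PolLaw.MulLaw A B A d) (f : B) :
    imSet F f = imSet (F.precomp (Polynomial.aeval f : A[X] →ₐ[A] B)) (X : A[X]) := by
  let φ : A[X] →ₐ[A] B := Polynomial.aeval f
  have hrad := radical_ker_precomp F φ
  ext q
  constructor
  · rintro ⟨P, hPprime, hkerP, hfP, hq⟩
    have hP₁prime : (P.comap φ).IsPrime := Ideal.comap_isPrime _ _
    refine ⟨P.comap φ, hP₁prime, ?_, ?_, ?_⟩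
    · refine Ideal.le_radical.trans ?_
      rw [hrad, hP₁prime.radical_le_iff]
      exact Ideal.comap_mono hkerP
    · rw [Ideal.mem_comap]
      show Polynomial.aeval f (X : A[X]) ∉ P
      rw [Polynomial.aeval_X]
      exact hfP
    · rw [← hq]
      ext a
      rw [Ideal.mem_comap, Ideal.mem_comap, Ideal.mem_comap, AlgHom.commutes]
  · rintro ⟨P₁, hP₁prime, hkerP₁, hXP₁, hq⟩
    have hle : (PolLaw.ker F.law).comap φ ≤ P₁ := by
      refine Ideal.le_radical.trans ?_
      rw [← hrad, hP₁prime.radical_le_iff]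
      exact hkerP₁
    let Cq := B ⧸ PolLaw.ker F.law
    let mk : B →+* Cq := Ideal.Quotient.mk (PolLaw.ker F.law)
    let alg : Algebra A[X] Cq := (mk.comp φ.toRingHom).toAlgebra
    have halg : ∀ g : A[X], algebraMap A[X] Cq g = mk (φ g) := fun g => rfl
    have tower : IsScalarTower A A[X] Cq := IsScalarTower.of_algebraMap_eq (fun a => by
      rw [halg, ← Polynomial.C_eq_algebraMap]
      show algebraMap A Cq a = mk (Polynomial.aeval f (Polynomial.C a))
      rw [Polynomial.aeval_C]
      rfl)
    have hint : Algebra.IsIntegral A Cq := isIntegral_image F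
    have hint' : Algebra.IsIntegral A[X] Cq := Algebra.IsIntegral.tower_top (R := A)
    have hbot : (⊥ : Ideal Cq).comap (algebraMap A[X] Cq) ≤ P₁ := by
      intro g hg
      rw [Ideal.mem_comap, Ideal.mem_bot, halg] at hg
      exact hle ((Ideal.Quotient.eq_zero_iff_mem (I := PolLaw.ker F.law)).mp hg)
    obtain ⟨Q, -, hQprime, hQ⟩ :=
      Ideal.exists_ideal_over_prime_of_isIntegral P₁ (⊥ : Ideal Cq) hbot
    have hφP : ∀ g : A[X], φ g ∈ Q.comap mk ↔ g ∈ P₁ := by
      intro g
      rw [← hQ, Ideal.mem_comap, Ideal.mem_comap, halg]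
    refine ⟨Q.comap mk, Ideal.comap_isPrime _ _, ?_, ?_, ?_⟩
    · intro x hx
      rw [Ideal.mem_comap]
      have : mk x = 0 := Ideal.Quotient.eq_zero_iff_mem.mpr hx
      rw [this]
      exact Ideal.zero_mem _
    · intro hf
      apply hXP₁
      rw [← hφP]
      show Polynomial.aeval f (X : A[X]) ∈ _
      rw [Polynomial.aeval_X]
      exact hf
    · rw [← hq]
      ext a
      show algebraMap A B a ∈ Q.comap mk ↔ algebraMap A A[X] a ∈ P₁
      rw [← hφP, AlgHom.commutes]

open Polynomial in
lemma isOpen_imSet_polynomial (F : PolLaw.MulLaw A A[X] A d) (g : A[X]) : IsOpen (imSet F g) := by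
  obtain ⟨J, hJfg, hJle, hJrad⟩ := exists_fg_radical F
  have hfp : Algebra.FinitePresentation A (A[X] ⧸ J) := Algebra.FinitePresentation.quotient hJfg
  have hker : (RingHom.ker (Ideal.Quotient.mkₐ A J)).radical = (PolLaw.ker F.law).radical := by
    have hk : RingHom.ker (Ideal.Quotient.mkₐ A J) = J := by
      ext x
      rw [RingHom.mem_ker]
      exact Ideal.Quotient.eq_zero_iff_mem
    rw [hk, hJrad]
  have hgd : Algebra.HasGoingDown A (A[X] ⧸ J) :=
    hasGoingDown_of_surjective F (Ideal.Quotient.mkₐ A J) (Ideal.Quotient.mkₐ_surjective A J) hker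
  have hopen : IsOpenMap (PrimeSpectrum.comap (algebraMap A (A[X] ⧸ J))) :=
    PrimeSpectrum.isOpenMap_comap_of_hasGoingDown_of_finitePresentation
  rw [← image_basicOpen_eq_imSet F (Ideal.Quotient.mkₐ A J) (Ideal.Quotient.mkₐ_surjective A J)
    hker g]
  exact hopen _ (PrimeSpectrum.basicOpen _).isOpen

theorem isOpen_imSet (F : PolLaw.MulLaw A B A d) (f : B) : IsOpen (imSet F f) := by
  rw [imSet_precomp]
  exact isOpen_imSet_polynomial _ _

/-- Quotients of `B` with the same underlying space as `B ⧸ ker F` are open over `A`. -/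
theorem isOpenMap_of_surjective (F : PolLaw.MulLaw A B A d) {C : Type u} [CommRing C]
    [Algebra A C] (ρ : B →ₐ[A] C) (hρ : Function.Surjective ρ)
    (hker : (RingHom.ker ρ).radical = (PolLaw.ker F.law).radical) :
    IsOpenMap (PrimeSpectrum.comap (algebraMap A C)) := by
  rw [PrimeSpectrum.isBasis_basic_opens.isOpenMap_iff]
  rintro _ ⟨_, ⟨c, rfl⟩, rfl⟩
  obtain ⟨f, rfl⟩ := hρ c
  rw [image_basicOpen_eq_imSet F ρ hρ hker f]
  exact isOpen_imSet F f

/-- `Spec (A' ⊗ (B ⧸ ker F)) → Spec A'` is open, for every `A`-algebra `A'`. -/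
theorem isOpenMap_tensor_image (F : PolLaw.MulLaw A B A d) (A' : Type u) [CommRing A']
    [Algebra A A'] :
    IsOpenMap (PrimeSpectrum.comap (algebraMap A' (A' ⊗[A] PolLaw.image F.law))) := by
  let ρ : A' ⊗[A] B →ₐ[A'] A' ⊗[A] PolLaw.image F.law :=
    Algebra.TensorProduct.map (AlgHom.id A' A') (Ideal.Quotient.mkₐ A (PolLaw.ker F.law))
  have hρ : Function.Surjective ρ :=
    Algebra.TensorProduct.map_surjective _ _ Function.surjective_id
      (Ideal.Quotient.mkₐ_surjective A _)
  refine isOpenMap_of_surjective (bc A' F) ρ hρ ?_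
  have h1 : RingHom.ker ρ = (PolLaw.ker F.law).map
      (Algebra.TensorProduct.includeRight : B →ₐ[A] A' ⊗[A] B) := by
    have := Algebra.TensorProduct.lTensor_ker (A := A')
      (Ideal.Quotient.mkₐ A (PolLaw.ker F.law)) (Ideal.Quotient.mkₐ_surjective A _)
    have hk : RingHom.ker (Ideal.Quotient.mkₐ A (PolLaw.ker F.law)) = PolLaw.ker F.law := by
      ext x
      rw [RingHom.mem_ker]
      exact Ideal.Quotient.eq_zero_iff_mem
    rw [hk] at this
    rw [← this]
    ext x
    rw [RingHom.mem_ker, RingHom.mem_ker]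
    rfl
  rw [h1, ker_bc, radical_kerBC]

end Groth.Agent.H68.LC
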