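import Groth.Agent.H68.LawPolyBC
import Mathlib

/-!
# A multiplicative law of degree `d` over a field has at most `d` points in its support
-/

set_option autoImplicit false
universe u
open scoped TensorProduct

namespace Groth.Agent.H68.LC

/-- A type into which `Fin (d + 1)` does not inject is finite with at most `d` elements. -/
lemma finite_card_le_of_no_inj {X : Type*} {d : ℕ}
    (h : ∀ f : Fin (d + 1) → X, ¬ Function.Injective f) : Finite X ∧ Nat.card X ≤ d := by
  have hfin : Finite X := by
    by_contra hinf
    rw [not_finite_iff_infinite] at hinf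
    exact h (fun i => Infinite.natEmbedding X i) (fun i j hij =>
      Fin.ext ((Infinite.natEmbedding X).injective hij))
  refine ⟨hfin, ?_⟩
  by_contra hcard
  push Not at hcard
  have := Fintype.ofFinite X
  rw [Nat.card_eq_fintype_card] at hcard
  let e := Fintype.equivFin X
  refine h (fun i => e.symm (Fin.castLE hcard i)) ?_
  intro i j hij
  exact Fin.castLE_injective hcard (e.symm.injective hij)

variable {k : Type u} [Field k] {B : Type u} [CommRing B] [Algebra k B] {d : ℕ}

/-- There are no `d + 1` distinct maximal ideals containing the kernel of a multiplicative law of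
degree `d` over a field. -/
theorem no_points (F : PolLaw.MulLaw k B k d) (M : Fin (d + 1) → Ideal B)
    (hmax : ∀ i, (M i).IsMaximal) (hinj : Function.Injective M)
    (hker : ∀ i, PolLaw.ker F.law ≤ M i) : False := by
  classical
  have hcop : Pairwise (Function.onFun IsCoprime M) := by
    intro i j hij
    rw [Function.onFun, Ideal.isCoprime_iff_sup_eq]
    exact Ideal.IsMaximal.coprime_of_ne (hmax i) (hmax j) (fun h => hij (hinj h))
  have hb : ∀ i : Fin (d + 1), ∃ b : B, ∀ j, b - (Pi.single i (1 : B) : Fin (d + 1) → B) j ∈ M j :=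
    fun i => Ideal.exists_forall_sub_mem_ideal hcop _
  choose b hb using hb
  let S := MvPolynomial (Fin (d + 1)) k
  let y : S ⊗[k] B := ∑ j, (MvPolynomial.X j : S) ⊗ₜ[k] b j
  set χ := charpolyLaw (bc S F).law y with hχ
  have hY := ch_bc_mem_map F S y
  have hroot : ∀ i : Fin (d + 1), χ.eval (MvPolynomial.X i : S) = 0 := by
    intro i
    have := hmax i
    let L := B ⧸ M i
    let ρ : S ⊗[k] B →ₐ[S] S ⊗[k] L :=
      Algebra.TensorProduct.map (AlgHom.id S S) (Ideal.Quotient.mkₐ k (M i))
    have hρY : ρ (Polynomial.aeval y χ) = 0 := by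
      have hle : (PolLaw.ker F.law).map
          (Algebra.TensorProduct.includeRight : B →ₐ[k] S ⊗[k] B) ≤ RingHom.ker ρ := by
        rw [Ideal.map_le_iff_le_comap]
        intro x hx
        rw [Ideal.mem_comap, RingHom.mem_ker, Algebra.TensorProduct.includeRight_apply]
        show Algebra.TensorProduct.map (AlgHom.id S S) (Ideal.Quotient.mkₐ k (M i))
          ((1 : S) ⊗ₜ[k] x) = 0
        rw [Algebra.TensorProduct.map_tmul, Ideal.Quotient.mkₐ_eq_mk,
          Ideal.Quotient.eq_zero_iff_mem.mpr (hker i hx), TensorProduct.tmul_zero]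
      exact hle hY
    have hρy : ρ y = algebraMap S (S ⊗[k] L) (MvPolynomial.X i) := by
      show Algebra.TensorProduct.map (AlgHom.id S S) (Ideal.Quotient.mkₐ k (M i))
        (∑ j, (MvPolynomial.X j : S) ⊗ₜ[k] b j) = _
      rw [map_sum, Finset.sum_eq_single_of_mem i (Finset.mem_univ i)]
      · rw [Algebra.TensorProduct.map_tmul, Ideal.Quotient.mkₐ_eq_mk, AlgHom.id_apply,
          Algebra.TensorProduct.algebraMap_apply]
        congr 1
        have := hb i i
        rw [Pi.single_eq_same] at this
        rw [← sub_eq_zero, ← map_one (Ideal.Quotient.mk (M i)), ← map_sub]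
        exact Ideal.Quotient.eq_zero_iff_mem.mpr this
      · intro j _ hji
        rw [Algebra.TensorProduct.map_tmul, Ideal.Quotient.mkₐ_eq_mk]
        have := hb j i
        rw [Pi.single_eq_of_ne (Ne.symm hji), sub_zero] at this
        rw [Ideal.Quotient.eq_zero_iff_mem.mpr this, TensorProduct.tmul_zero]
    rw [← Polynomial.aeval_algHom_apply, hρy, Polynomial.aeval_algebraMap_apply] at hρY
    have hinjL : Function.Injective (algebraMap S (S ⊗[k] L)) := by
      have h1 : Function.Injective (algebraMap k L) := (algebraMap k L).injective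
      exact Algebra.TensorProduct.includeLeft_injective (S := S) h1
    rw [Polynomial.coe_aeval_eq_eval] at hρY
    exact hinjL (by rw [hρY, map_zero])
  have hzero : χ = 0 := by
    refine Polynomial.eq_zero_of_natDegree_lt_card_of_eval_eq_zero χ
      (f := fun i : Fin (d + 1) => (MvPolynomial.X i : S)) (MvPolynomial.X_injective) hroot ?_
    rw [Fintype.card_fin]
    exact Nat.lt_succ_of_le (charpolyLaw_natDegree_le (bc S F) y)
  have hcoeff := charpolyLaw_coeff (bc S F) y
  rw [← hχ, hzero, Polynomial.coeff_zero] at hcoeff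
  have h1 : ((-1 : S) ^ d) ≠ 0 := pow_ne_zero _ (neg_ne_zero.mpr one_ne_zero)
  exact h1 hcoeff.symm

/-- `B ⧸ ker F` is integral over the base. -/
theorem isIntegral_image {A : Type u} [CommRing A] {B : Type u} [CommRing B] [Algebra A B]
    {d : ℕ} (F : PolLaw.MulLaw A B A d) : Algebra.IsIntegral A (PolLaw.image F.law) := by
  constructor
  intro x
  obtain ⟨b, rfl⟩ := Ideal.Quotient.mk_surjective x
  exact isIntegral_mk_ker F b

/-- Over a field, every prime of `B ⧸ ker F` is maximal. -/
theorem isMaximal_of_prime_image (F : PolLaw.MulLaw k B k d) (P : Ideal (PolLaw.image F.law))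
    [P.IsPrime] : P.IsMaximal := by
  have hint := isIntegral_image F
  refine Ideal.isMaximal_of_isIntegral_of_isMaximal_comap (R := k) P ?_
  have : (P.comap (algebraMap k (PolLaw.image F.law))) = ⊥ := Ideal.eq_bot_of_prime _
  rw [this]; exact Ideal.bot_isMaximal

/-- Over a field, every prime containing `ker F` is maximal. -/
theorem isMaximal_of_prime_of_ker_le (F : PolLaw.MulLaw k B k d) (M : Ideal B) [hM : M.IsPrime]
    (h : PolLaw.ker F.law ≤ M) : M.IsMaximal := by
  have hmk : Function.Surjective (Ideal.Quotient.mk (PolLaw.ker F.law)) :=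
    Ideal.Quotient.mk_surjective
  have hk : RingHom.ker (Ideal.Quotient.mk (PolLaw.ker F.law)) ≤ M := by
    rw [Ideal.mk_ker]; exact h
  have hprime : (M.map (Ideal.Quotient.mk (PolLaw.ker F.law))).IsPrime :=
    Ideal.map_isPrime_of_surjective hmk hk
  have hmax := isMaximal_of_prime_image F (M.map (Ideal.Quotient.mk (PolLaw.ker F.law)))
  have hcomap : (M.map (Ideal.Quotient.mk (PolLaw.ker F.law))).comap
      (Ideal.Quotient.mk (PolLaw.ker F.law)) = M := by
    rw [Ideal.comap_map_of_surjective _ hmk, ← RingHom.ker_eq_comap_bot, Ideal.mk_ker]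
    exact sup_eq_left.mpr h
  rw [← hcomap]
  exact Ideal.comap_isMaximal_of_surjective _ hmk

/-- There are no `d + 1` distinct primes containing the kernel of a multiplicative law of
degree `d` over a field. -/
theorem no_points_prime (F : PolLaw.MulLaw k B k d) (M : Fin (d + 1) → Ideal B)
    (hprime : ∀ i, (M i).IsPrime) (hinj : Function.Injective M)
    (hker : ∀ i, PolLaw.ker F.law ≤ M i) : False :=
  no_points F M (fun i => by
    have := hprime i
    exact isMaximal_of_prime_of_ker_le F (M i) (hker i)) hinj hker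

/-- For a ring hom `ρ` out of `B` which is surjective and kills `ker F`, the target has at most
`d` primes. -/
theorem card_primeSpectrum_le_of_surjective (F : PolLaw.MulLaw k B k d) {C : Type*} [CommRing C]
    (ρ : B →+* C) (hρ : Function.Surjective ρ)
    (hker : PolLaw.ker F.law ≤ (RingHom.ker ρ).radical) :
    Finite (PrimeSpectrum C) ∧ Nat.card (PrimeSpectrum C) ≤ d := by
  apply finite_card_le_of_no_inj
  intro f hf
  refine no_points_prime F (fun i => (f i).asIdeal.comap ρ) ?_ ?_ ?_
  · intro i
    exact Ideal.comap_isPrime ρ _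
  · intro i j hij
    exact hf (PrimeSpectrum.ext (Ideal.comap_injective_of_surjective _ hρ hij))
  · intro i
    refine hker.trans ?_
    have hp : ((f i).asIdeal.comap ρ).IsPrime := Ideal.comap_isPrime ρ _
    rw [hp.radical_le_iff]
    intro x hx
    rw [Ideal.mem_comap, RingHom.mem_ker.mp hx]
    exact Ideal.zero_mem _

/-- The fibres of `Spec (B ⧸ ker F) → Spec A` have at most `d` points. -/
theorem fibre_card_le {A : Type u} [CommRing A] {B : Type u} [CommRing B] [Algebra A B]
    {d : ℕ} (F : PolLaw.MulLaw A B A d) (K : Type u) [Field K] [Algebra A K] :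
    Finite (PrimeSpectrum (K ⊗[A] PolLaw.image F.law)) ∧
      Nat.card (PrimeSpectrum (K ⊗[A] PolLaw.image F.law)) ≤ d := by
  let ρ : K ⊗[A] B →ₐ[K] K ⊗[A] PolLaw.image F.law :=
    Algebra.TensorProduct.map (AlgHom.id K K) (Ideal.Quotient.mkₐ A (PolLaw.ker F.law))
  have hρ : Function.Surjective ρ :=
    Algebra.TensorProduct.map_surjective _ _ Function.surjective_id
      (Ideal.Quotient.mkₐ_surjective A _)
  refine card_primeSpectrum_le_of_surjective (bc K F) (ρ : K ⊗[A] B →+* _) hρ ?_
  rw [ker_bc]
  refine Ideal.le_radical.trans ?_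
  rw [radical_kerBC]
  apply Ideal.radical_mono
  rw [Ideal.map_le_iff_le_comap]
  intro x hx
  rw [Ideal.mem_comap, RingHom.mem_ker, Algebra.TensorProduct.includeRight_apply]
  show Algebra.TensorProduct.map (AlgHom.id K K) (Ideal.Quotient.mkₐ A (PolLaw.ker F.law))
    ((1 : K) ⊗ₜ[A] x) = 0
  rw [Algebra.TensorProduct.map_tmul, Ideal.Quotient.mkₐ_eq_mk,
    Ideal.Quotient.eq_zero_iff_mem.mpr hx, TensorProduct.tmul_zero]

/-- The fibres of `Spec (B ⧸ ker F) → Spec A` are finite. -/
theorem finite_fibre {A : Type u} [CommRing A] {B : Type u} [CommRing B] [Algebra A B]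
    {d : ℕ} (F : PolLaw.MulLaw A B A d) (x : PrimeSpectrum A) :
    (PrimeSpectrum.comap (algebraMap A (PolLaw.image F.law)) ⁻¹' {x}).Finite := by
  have e := PrimeSpectrum.preimageEquivFiber A (PolLaw.image F.law) x
  have := (fibre_card_le F x.asIdeal.ResidueField).1
  exact Set.finite_coe_iff.mp (Finite.of_equiv _ e.symm)

/-- If `A` is semilocal then so is `B ⧸ ker F`. -/
theorem finite_maximalSpectrum_image {A : Type u} [CommRing A] [Finite (MaximalSpectrum A)]
    {B : Type u} [CommRing B] [Algebra A B]
    {d : ℕ} (F : PolLaw.MulLaw A B A d) :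
    Finite (MaximalSpectrum (PolLaw.image F.law)) := by
  have hint := isIntegral_image F
  let f : PrimeSpectrum (PolLaw.image F.law) → PrimeSpectrum A :=
    PrimeSpectrum.comap (algebraMap A (PolLaw.image F.law))
  let s : Set (PrimeSpectrum (PolLaw.image F.law)) := Set.range MaximalSpectrum.toPrimeSpectrum
  have hs : s.Finite := by
    apply Set.Finite.of_finite_fibers f
    · apply Set.Finite.subset (Set.finite_range (MaximalSpectrum.toPrimeSpectrum (R := A)))
      rintro _ ⟨_, ⟨M, rfl⟩, rfl⟩
      have := M.isMaximal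
      exact ⟨⟨_, Ideal.isMaximal_comap_of_isIntegral_of_isMaximal (R := A) M.asIdeal⟩,
        PrimeSpectrum.ext rfl⟩
    · intro x _
      exact (finite_fibre F x).subset Set.inter_subset_right
  have : Finite s := hs
  exact Finite.of_injective (fun M => (⟨M.toPrimeSpectrum, M, rfl⟩ : s)) (fun M N h =>
    MaximalSpectrum.toPrimeSpectrum_injective (Subtype.ext_iff.mp h))

end Groth.Agent.H68.LC
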