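import Groth.Prelude.Def_PolLaw

/-!
# Basic tools for polynomial laws between algebras

* `rTensor_eq_map`, `compat`: the compatibility of a law with base change, in ring-hom form.
* `mem_kerBC_iff`: membership in `PolLaw.kerBC` phrased with algebra maps instead of instances.
* `map_ker_le_kerBC`.
-/

set_option autoImplicit false
universe u
open scoped TensorProduct

namespace Groth.Agent.H68.PL

variable {A : Type u} [CommRing A] {B : Type u} [CommRing B] [Algebra A B]
  {K : Type u} [CommRing K] [Algebra A K]

lemma rTensor_eq_map {M : Type u} [CommRing M] [Algebra A M] {S S' : Type u} [CommSemiring S]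
    [Algebra A S] [CommSemiring S'] [Algebra A S'] (φ : S →ₐ[A] S') (z : S ⊗[A] M) :
    φ.toLinearMap.rTensor M z = Algebra.TensorProduct.map φ (AlgHom.id A M) z := by
  induction z using TensorProduct.induction_on with
  | zero => simp
  | tmul a b => rfl
  | add a b ha hb => simp [ha, hb]

/-- Compatibility of a polynomial law with base change, in ring-hom form. -/
lemma compat (F : B →ₚₗ[A] K) {S S' : Type u} [CommSemiring S]
    [Algebra A S] [CommSemiring S'] [Algebra A S'] (φ : S →ₐ[A] S') (z : S ⊗[A] B) :
    Algebra.TensorProduct.map φ (AlgHom.id A K) (F.toFun' S z) =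
      F.toFun' S' (Algebra.TensorProduct.map φ (AlgHom.id A B) z) := by
  rw [← rTensor_eq_map, ← rTensor_eq_map]
  exact PolynomialLaw.isCompat_apply' φ z

/-- `map` is functorial in the left factor, pointwise. -/
lemma map_map {M : Type u} [CommRing M] [Algebra A M] {S S' S'' : Type u} [CommSemiring S]
    [Algebra A S] [CommSemiring S'] [Algebra A S'] [CommSemiring S''] [Algebra A S'']
    (ψ : S' →ₐ[A] S'') (φ : S →ₐ[A] S') (z : S ⊗[A] M) :
    Algebra.TensorProduct.map ψ (AlgHom.id A M) (Algebra.TensorProduct.map φ (AlgHom.id A M) z) =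
      Algebra.TensorProduct.map (ψ.comp φ) (AlgHom.id A M) z := by
  induction z using TensorProduct.induction_on with
  | zero => simp
  | tmul a b => simp
  | add a b ha hb => simp only [map_add, ha, hb]

/-- Membership in `kerBC`, phrased with algebra maps out of `A'` instead of instances. -/
lemma mem_kerBC_iff (F : B →ₚₗ[A] K) (A' : Type u) [CommRing A'] [Algebra A A'] (c : A' ⊗[A] B) :
    c ∈ PolLaw.kerBC F A' ↔ ∀ (R : Type u) [CommSemiring R] [Algebra A R] (φ : A' →ₐ[A] R)
      (x w : R ⊗[A] B),
      F.toFun' R (x + w * Algebra.TensorProduct.map φ (AlgHom.id A B) c) = F.toFun' R x := by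
  constructor
  · intro h R _ _ φ x w
    let _ : Algebra A' R := φ.toRingHom.toAlgebra
    have : IsScalarTower A A' R := IsScalarTower.of_algebraMap_eq (fun a => (φ.commutes a).symm)
    have h1 := h R x w
    have heq : IsScalarTower.toAlgHom A A' R = φ := by ext; rfl
    rw [heq] at h1
    exact h1
  · intro h R _ _ _ _ x w
    exact h R (IsScalarTower.toAlgHom A A' R) x w

lemma map_ker_le_kerBC (F : B →ₚₗ[A] K) (A' : Type u) [CommRing A'] [Algebra A A'] :
    (PolLaw.ker F).map (Algebra.TensorProduct.includeRight : B →ₐ[A] A' ⊗[A] B) ≤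
      PolLaw.kerBC F A' := by
  rw [Ideal.map_le_iff_le_comap]
  intro b hb
  rw [Ideal.mem_comap, mem_kerBC_iff]
  intro R _ _ φ x w
  rw [Algebra.TensorProduct.includeRight_apply, Algebra.TensorProduct.map_tmul, map_one]
  exact hb R x w

end Groth.Agent.H68.PL
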