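import Groth.Agent.H68.LawBC
import Groth.Agent.S13699
import Mathlib

/-!
# The kernel of a multiplicative law commutes with polynomial base change (several variables)
-/

set_option autoImplicit false
universe u
open scoped TensorProduct

namespace Groth.Agent.H68.LC

open Groth.Agent.H68.PL

variable {A : Type u} [CommRing A] {B : Type u} [CommRing B] [Algebra A B]

/-- `kerBC` is functorial in the base. -/
lemma kerBC_map (F : B →ₚₗ[A] A) {S S' : Type u} [CommRing S] [Algebra A S] [CommRing S']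
    [Algebra A S'] (θ : S →ₐ[A] S') {c : S ⊗[A] B} (hc : c ∈ PolLaw.kerBC F S) :
    Algebra.TensorProduct.map θ (AlgHom.id A B) c ∈ PolLaw.kerBC F S' := by
  rw [mem_kerBC_iff] at hc ⊢
  intro R _ _ φ x w
  rw [PL.map_map]
  exact hc R (φ.comp θ) x w

/-- Coefficient extraction `A[X] ⊗ B → B`. -/
noncomputable def cfP (j : ℕ) : Polynomial A ⊗[A] B →ₗ[A] B :=
  (TensorProduct.lid A B).toLinearMap ∘ₗ (Polynomial.lcoeff A j).rTensor B

lemma cfP_tmul (j : ℕ) (p : Polynomial A) (b : B) : cfP j (p ⊗ₜ[A] b) = p.coeff j • b := by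
  simp [cfP]

lemma cfP_mem_of_mem_map (I : Ideal B) {z : Polynomial A ⊗[A] B}
    (hz : z ∈ I.map (Algebra.TensorProduct.includeRight : B →ₐ[A] Polynomial A ⊗[A] B)) (j : ℕ) :
    cfP j z ∈ I := by
  have h : z ∈ (I.map (Algebra.TensorProduct.includeRight :
      B →ₐ[A] Polynomial A ⊗[A] B)).restrictScalars A := hz
  rw [Ideal.map_includeRight_eq] at h
  obtain ⟨y, rfl⟩ := h
  clear hz
  induction y using TensorProduct.induction_on with
  | zero => simp
  | tmul p b =>
    rw [LinearMap.lTensor_tmul, cfP_tmul]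
    exact Submodule.smul_of_tower_mem I _ b.2
  | add y₁ y₂ h₁ h₂ =>
    rw [map_add, map_add]
    exact I.add_mem h₁ h₂

/-- Base-`N` expansions with digits `< N` are unique. -/
lemma kron_inj (N : ℕ) (hN : 0 < N) : ∀ (n : ℕ) (f g : Fin n → ℕ), (∀ i, f i < N) →
    (∀ i, g i < N) → ∑ i, f i * N ^ (i : ℕ) = ∑ i, g i * N ^ (i : ℕ) → f = g := by
  intro n
  induction n with
  | zero => intro f g _ _ _; funext i; exact i.elim0
  | succ n ih =>
    intro f g hf hg h
    rw [Fin.sum_univ_succ, Fin.sum_univ_succ] at h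
    simp only [Fin.val_zero, pow_zero, mul_one, Fin.val_succ, pow_succ] at h
    have hf' : ∑ i : Fin n, f i.succ * (N ^ (i : ℕ) * N) =
        N * ∑ i : Fin n, f i.succ * N ^ (i : ℕ) := by
      rw [Finset.mul_sum]
      refine Finset.sum_congr rfl fun i _ => ?_
      ring
    have hg' : ∑ i : Fin n, g i.succ * (N ^ (i : ℕ) * N) =
        N * ∑ i : Fin n, g i.succ * N ^ (i : ℕ) := by
      rw [Finset.mul_sum]
      refine Finset.sum_congr rfl fun i _ => ?_
      ring
    rw [hf', hg'] at h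
    have h0 : f 0 = g 0 := by
      have := congrArg (· % N) h
      simp only [Nat.add_mul_mod_self_left] at this
      rwa [Nat.mod_eq_of_lt (hf 0), Nat.mod_eq_of_lt (hg 0)] at this
    have h1 : ∑ i : Fin n, f i.succ * N ^ (i : ℕ) = ∑ i : Fin n, g i.succ * N ^ (i : ℕ) := by
      rw [h0] at h
      exact Nat.eq_of_mul_eq_mul_left hN (Nat.add_left_cancel h)
    have h2 := ih (fun i => f i.succ) (fun i => g i.succ) (fun i => hf _) (fun i => hg _) h1
    funext i
    refine Fin.cases h0 (fun i => ?_) i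
    exact congrFun h2 i

/-- The Kronecker substitution `t_i ↦ X ^ (N ^ i)`. -/
noncomputable def kron (A : Type u) [CommRing A] (n N : ℕ) :
    MvPolynomial (Fin n) A →ₐ[A] Polynomial A :=
  MvPolynomial.aeval fun i => Polynomial.X ^ (N ^ (i : ℕ))

/-- The weight of a monomial under the Kronecker substitution. -/
def wt (N : ℕ) {n : ℕ} (ν : Fin n →₀ ℕ) : ℕ := ∑ i, ν i * N ^ (i : ℕ)

lemma kron_monomial (n N : ℕ) (ν : Fin n →₀ ℕ) :
    kron A n N (MvPolynomial.monomial ν 1) = Polynomial.X ^ wt N ν := by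
  rw [kron, MvPolynomial.aeval_monomial, map_one, one_mul,
    Finsupp.prod_fintype _ _ (fun i => pow_zero _), wt, ← Finset.prod_pow_eq_pow_sum]
  refine Finset.prod_congr rfl fun i _ => ?_
  rw [← pow_mul, mul_comm]

/-- The kernel commutes with base change to a polynomial ring in finitely many variables. -/
theorem kerBC_mvPolynomial {d : ℕ} (F : PolLaw.MulLaw A B A d) (n : ℕ) :
    PolLaw.kerBC F.law (MvPolynomial (Fin n) A) =
      (PolLaw.ker F.law).map
        (Algebra.TensorProduct.includeRight : B →ₐ[A] MvPolynomial (Fin n) A ⊗[A] B) := by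
  classical
  apply le_antisymm _ (map_ker_le_kerBC F.law _)
  intro c hc
  set cΦ := Φ (Fin n) A B c with hcΦ
  have hsum : c = ∑ ν ∈ cΦ.support, MvPolynomial.monomial ν (1 : A) ⊗ₜ[A] cΦ ν := eq_sum c
  set N : ℕ := 1 + ∑ ν ∈ cΦ.support, ∑ i, ν i with hN
  have hlt : ∀ ν ∈ cΦ.support, ∀ i, ν i < N := by
    intro ν hν i
    have h1 : ν i ≤ ∑ i, ν i := Finset.single_le_sum (fun _ _ => Nat.zero_le _) (Finset.mem_univ i)
    have h2 : ∑ i, ν i ≤ ∑ ν ∈ cΦ.support, ∑ i, ν i :=
      Finset.single_le_sum (f := fun ν : Fin n →₀ ℕ => ∑ i, ν i) (fun _ _ => Nat.zero_le _) hν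
    omega
  have hθ : Algebra.TensorProduct.map (kron A n N) (AlgHom.id A B) c ∈
      (PolLaw.ker F.law).map
        (Algebra.TensorProduct.includeRight : B →ₐ[A] Polynomial A ⊗[A] B) := by
    rw [Groth.Agent.S13699.result F]
    exact kerBC_map F.law (kron A n N) hc
  have hθc : Algebra.TensorProduct.map (kron A n N) (AlgHom.id A B) c =
      ∑ ν ∈ cΦ.support, (Polynomial.X ^ wt N ν : Polynomial A) ⊗ₜ[A] cΦ ν := by
    conv_lhs => rw [hsum]
    rw [map_sum]
    refine Finset.sum_congr rfl fun ν _ => ?_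
    rw [Algebra.TensorProduct.map_tmul, kron_monomial, AlgHom.id_apply]
  have hmem : ∀ μ ∈ cΦ.support, cΦ μ ∈ PolLaw.ker F.law := by
    intro μ hμ
    have h1 := cfP_mem_of_mem_map (PolLaw.ker F.law) hθ (wt N μ)
    rw [hθc, map_sum, Finset.sum_eq_single_of_mem μ hμ] at h1
    · rw [cfP_tmul, Polynomial.coeff_X_pow, if_pos rfl, one_smul] at h1
      exact h1
    · intro ν hν hne
      rw [cfP_tmul, Polynomial.coeff_X_pow, if_neg, zero_smul]
      intro hwt
      apply hne
      have := kron_inj N (by omega) n (fun i => ν i) (fun i => μ i) (hlt ν hν) (hlt μ hμ)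
        hwt.symm
      ext i
      exact congrFun this i
  rw [hsum]
  refine Ideal.sum_mem _ fun ν hν => ?_
  have : MvPolynomial.monomial ν (1 : A) ⊗ₜ[A] cΦ ν =
      (MvPolynomial.monomial ν (1 : A) ⊗ₜ[A] (1 : B)) *
        (Algebra.TensorProduct.includeRight : B →ₐ[A] MvPolynomial (Fin n) A ⊗[A] B) (cΦ ν) := by
    rw [Algebra.TensorProduct.includeRight_apply, Algebra.TensorProduct.tmul_mul_tmul, mul_one,
      one_mul]
  rw [this]
  exact Ideal.mul_mem_left _ _ (Ideal.mem_map_of_mem _ (hmem ν hν))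

lemma exists_fin_sum {S : Type u} [CommSemiring S] [Algebra A S] (x : S ⊗[A] B) :
    ∃ (n : ℕ) (s : Fin n → S) (b : Fin n → B), x = ∑ j, s j ⊗ₜ[A] b j := by
  obtain ⟨J, _, s, b, rfl⟩ := exists_fintype_sum (A := A) x
  let e := Fintype.equivFin J
  refine ⟨Fintype.card J, s ∘ e.symm, b ∘ e.symm, ?_⟩
  rw [← Equiv.sum_comp e.symm]
  rfl

/-- The Cayley–Hamilton elements of every base change of `F` lie in the extension of the kernel
of `F`. -/
theorem ch_bc_mem_map {d : ℕ} (F : PolLaw.MulLaw A B A d) (S : Type u) [CommRing S] [Algebra A S]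
    (c : S ⊗[A] B) :
    Polynomial.aeval c (charpolyLaw (bc S F).law c) ∈
      (PolLaw.ker F.law).map (Algebra.TensorProduct.includeRight : B →ₐ[A] S ⊗[A] B) := by
  obtain ⟨n, a, b, rfl⟩ := exists_fin_sum (A := A) c
  let P := MvPolynomial (Fin n) A
  let y : P ⊗[A] B := ∑ j, (MvPolynomial.X j : P) ⊗ₜ[A] b j
  let ψ : P →ₐ[A] S := MvPolynomial.aeval a
  have hy : Algebra.TensorProduct.map ψ (AlgHom.id A B) y = ∑ j, a j ⊗ₜ[A] b j := by
    show Algebra.TensorProduct.map (MvPolynomial.aeval a) (AlgHom.id A B)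
      (∑ j, (MvPolynomial.X j : MvPolynomial (Fin n) A) ⊗ₜ[A] b j) = _
    rw [map_sum]
    refine Finset.sum_congr rfl fun j _ => ?_
    rw [Algebra.TensorProduct.map_tmul, MvPolynomial.aeval_X, AlgHom.id_apply]
  have hY : Polynomial.aeval y (charpolyLaw (bc P F).law y) ∈
      (PolLaw.ker F.law).map (Algebra.TensorProduct.includeRight : B →ₐ[A] P ⊗[A] B) := by
    rw [← kerBC_mvPolynomial F n, ← ker_bc]
    exact cayleyHamilton_mem_ker (bc P F) y
  have h1 := Ideal.mem_map_of_mem (Algebra.TensorProduct.map ψ (AlgHom.id A B)) hY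
  rw [map_aeval, ← charpoly_bc_map, hy] at h1
  refine (?_ : Ideal.map (Algebra.TensorProduct.map ψ (AlgHom.id A B))
      (Ideal.map (Algebra.TensorProduct.includeRight : B →ₐ[A] P ⊗[A] B) (PolLaw.ker F.law)) ≤
      (PolLaw.ker F.law).map (Algebra.TensorProduct.includeRight : B →ₐ[A] S ⊗[A] B)) h1
  rw [Ideal.map_le_iff_le_comap, Ideal.map_le_iff_le_comap]
  intro x hx
  rw [Ideal.mem_comap, Ideal.mem_comap, Algebra.TensorProduct.includeRight_apply,
    Algebra.TensorProduct.map_tmul, map_one, AlgHom.id_apply]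
  exact Ideal.mem_map_of_mem (Algebra.TensorProduct.includeRight : B →ₐ[A] S ⊗[A] B) hx

/-- The radical of the kernel commutes with arbitrary base change. -/
theorem radical_kerBC {d : ℕ} (F : PolLaw.MulLaw A B A d) (S : Type u) [CommRing S]
    [Algebra A S] :
    (PolLaw.kerBC F.law S).radical =
      ((PolLaw.ker F.law).map
        (Algebra.TensorProduct.includeRight : B →ₐ[A] S ⊗[A] B)).radical := by
  apply le_antisymm
  · rw [Ideal.radical_le_radical_iff]
    intro c hc
    rw [← ker_bc] at hc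
    refine ⟨d, ?_⟩
    rw [pow_mem_of_mem_ker (bc S F) hc]
    exact Ideal.mul_mem_left _ _ (ch_bc_mem_map F S c)
  · exact Ideal.radical_mono (map_ker_le_kerBC F.law S)

end Groth.Agent.H68.LC
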