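import Groth.Agent.H68.LawPoints
import Mathlib

/-!
# `B ⧸ ker F` is torsion-free over a domain

* `mem_ker_of_mvPolynomial`: membership in `ker F` can be tested over polynomial rings in
  finitely many variables.
* `mem_ker_of_smul_mem`: over a domain `A`, if `a • s ∈ ker F` with `a ≠ 0` then `s ∈ ker F`.
-/

set_option autoImplicit false
universe u
open scoped TensorProduct

namespace Groth.Agent.H68.LC

open Groth.Agent.H68

variable {A : Type u} [CommRing A] {B : Type u} [CommRing B] [Algebra A B]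
  {C : Type u} [CommRing C] [Algebra A C]

/-- Membership in `ker F` can be tested over polynomial rings in finitely many variables. -/
lemma mem_ker_of_mvPolynomial (F : B →ₚₗ[A] C) (b : B)
    (h : ∀ (σ : Type) [Fintype σ] (x w : MvPolynomial σ A ⊗[A] B),
      F.toFun' (MvPolynomial σ A) (x + w * (1 ⊗ₜ[A] b)) = F.toFun' (MvPolynomial σ A) x) :
    b ∈ PolLaw.ker F := by
  intro S _ _ x w
  obtain ⟨n, s, e, rfl⟩ := exists_fin_sum (A := A) x
  obtain ⟨m, t, f, rfl⟩ := exists_fin_sum (A := A) w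
  let P := MvPolynomial (Fin n ⊕ Fin m) A
  let ψ : P →ₐ[A] S := MvPolynomial.aeval (Sum.elim s t)
  let x' : P ⊗[A] B := ∑ i, (MvPolynomial.X (Sum.inl i) : P) ⊗ₜ[A] e i
  let w' : P ⊗[A] B := ∑ j, (MvPolynomial.X (Sum.inr j) : P) ⊗ₜ[A] f j
  have hx : Algebra.TensorProduct.map ψ (AlgHom.id A B) x' = ∑ i, s i ⊗ₜ[A] e i := by
    show Algebra.TensorProduct.map (MvPolynomial.aeval (Sum.elim s t)) (AlgHom.id A B)
      (∑ i, (MvPolynomial.X (Sum.inl i) : MvPolynomial (Fin n ⊕ Fin m) A) ⊗ₜ[A] e i) = _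
    rw [map_sum]
    refine Finset.sum_congr rfl fun i _ => ?_
    rw [Algebra.TensorProduct.map_tmul, MvPolynomial.aeval_X, AlgHom.id_apply, Sum.elim_inl]
  have hw : Algebra.TensorProduct.map ψ (AlgHom.id A B) w' = ∑ j, t j ⊗ₜ[A] f j := by
    show Algebra.TensorProduct.map (MvPolynomial.aeval (Sum.elim s t)) (AlgHom.id A B)
      (∑ j, (MvPolynomial.X (Sum.inr j) : MvPolynomial (Fin n ⊕ Fin m) A) ⊗ₜ[A] f j) = _
    rw [map_sum]
    refine Finset.sum_congr rfl fun i _ => ?_
    rw [Algebra.TensorProduct.map_tmul, MvPolynomial.aeval_X, AlgHom.id_apply, Sum.elim_inr]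
  have h1 := h (Fin n ⊕ Fin m) x' w'
  have h2 := congrArg (Algebra.TensorProduct.map ψ (AlgHom.id A C)) h1
  rw [PL.compat, PL.compat, map_add, map_mul, hx, hw, Algebra.TensorProduct.map_tmul, map_one,
    AlgHom.id_apply] at h2
  exact h2

/-- Over a domain `A`, the quotient `B ⧸ ker F` is torsion-free (for a law with flat target). -/
theorem mem_ker_of_smul_mem [IsDomain A] [Module.Flat A C] (F : B →ₚₗ[A] C) {a : A} (ha : a ≠ 0)
    {s : B} (h : a • s ∈ PolLaw.ker F) : s ∈ PolLaw.ker F := by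
  apply mem_ker_of_mvPolynomial
  intro σ _ x w
  let P := MvPolynomial σ A
  let Q := Polynomial P
  let ι : P →ₐ[A] Q := IsScalarTower.toAlgHom A P Q
  let ev1 : Q →ₐ[A] P := (Polynomial.aeval (1 : P)).restrictScalars A
  let a' : P := algebraMap A P a
  have ha' : a' ≠ 0 := by
    intro h0
    apply ha
    have : algebraMap A P a = algebraMap A P 0 := by rw [map_zero]; exact h0
    exact MvPolynomial.C_injective σ A this
  let θ : Q →ₐ[A] Q :=
    (Polynomial.aeval (Polynomial.C a' * Polynomial.X : Q)).restrictScalars A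
  have hθι : θ.comp ι = ι := by
    refine AlgHom.ext fun p => ?_
    show Polynomial.aeval (Polynomial.C a' * Polynomial.X : Q) (Polynomial.C p) = Polynomial.C p
    rw [Polynomial.aeval_C]; rfl
  have hev1ι : ev1.comp ι = AlgHom.id A P := by
    refine AlgHom.ext fun p => ?_
    show Polynomial.aeval (1 : P) (Polynomial.C p) = p
    rw [Polynomial.aeval_C]; rfl
  have hθinj : Function.Injective θ := by
    intro p q hpq
    have h1 : (p - q).comp (Polynomial.C a' * Polynomial.X) = 0 := by
      rw [Polynomial.sub_comp, sub_eq_zero]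
      have : Polynomial.aeval (Polynomial.C a' * Polynomial.X : Q) p =
          Polynomial.aeval (Polynomial.C a' * Polynomial.X : Q) q := hpq
      rw [Polynomial.comp_eq_aeval, Polynomial.comp_eq_aeval]
      exact this
    rw [Polynomial.comp_eq_zero_iff] at h1
    rcases h1 with h1 | ⟨_, h1⟩
    · exact sub_eq_zero.mp h1
    · exfalso
      have h2 := congrArg (fun r => Polynomial.coeff r 1) h1
      simp only [Polynomial.coeff_C_mul, Polynomial.coeff_X_one, mul_one, Polynomial.coeff_C,
        Polynomial.coeff_X_zero, mul_zero] at h2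
      exact ha' (by simpa using h2)
  have hinj : Function.Injective (Algebra.TensorProduct.map θ (AlgHom.id A C)) := by
    have h1 : Function.Injective (θ.toLinearMap.rTensor C) :=
      Module.Flat.rTensor_preserves_injective_linearMap θ.toLinearMap hθinj
    intro z z' hz
    apply h1
    rw [PL.rTensor_eq_map, PL.rTensor_eq_map]
    exact hz
  let xQ : Q ⊗[A] B := Algebra.TensorProduct.map ι (AlgHom.id A B) x
  let wQ : Q ⊗[A] B := Algebra.TensorProduct.map ι (AlgHom.id A B) w
  let z : Q ⊗[A] B := xQ + ((Polynomial.X : Q) ⊗ₜ[A] (1 : B) * wQ) * ((1 : Q) ⊗ₜ[A] s)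
  have hθx : Algebra.TensorProduct.map θ (AlgHom.id A B) xQ = xQ := by
    show Algebra.TensorProduct.map θ (AlgHom.id A B)
      (Algebra.TensorProduct.map ι (AlgHom.id A B) x) = _
    rw [PL.map_map, hθι]
  have hθw : Algebra.TensorProduct.map θ (AlgHom.id A B) wQ = wQ := by
    show Algebra.TensorProduct.map θ (AlgHom.id A B)
      (Algebra.TensorProduct.map ι (AlgHom.id A B) w) = _
    rw [PL.map_map, hθι]
  have hθX : θ (Polynomial.X : Q) = a • (Polynomial.X : Q) := by
    show Polynomial.aeval (Polynomial.C a' * Polynomial.X : Q) (Polynomial.X : Q) = _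
    rw [Polynomial.aeval_X, Algebra.smul_def]
    rfl
  have hθz : Algebra.TensorProduct.map θ (AlgHom.id A B) z =
      xQ + ((Polynomial.X : Q) ⊗ₜ[A] (1 : B) * wQ) * ((1 : Q) ⊗ₜ[A] (a • s)) := by
    show Algebra.TensorProduct.map θ (AlgHom.id A B)
      (xQ + ((Polynomial.X : Q) ⊗ₜ[A] (1 : B) * wQ) * ((1 : Q) ⊗ₜ[A] s)) = _
    rw [map_add, map_mul, map_mul, hθx, hθw, Algebra.TensorProduct.map_tmul,
      Algebra.TensorProduct.map_tmul, hθX, map_one, map_one, AlgHom.id_apply,
      TensorProduct.tmul_smul, ← TensorProduct.smul_tmul', smul_mul_assoc, smul_mul_assoc,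
      mul_smul_comm]
  have hFz : F.toFun' Q z = F.toFun' Q xQ := by
    apply hinj
    rw [PL.compat, PL.compat, hθz, hθx]
    exact h Q xQ _
  have h3 := congrArg (Algebra.TensorProduct.map ev1 (AlgHom.id A C)) hFz
  rw [PL.compat, PL.compat] at h3
  have hx1 : Algebra.TensorProduct.map ev1 (AlgHom.id A B) xQ = x := by
    show Algebra.TensorProduct.map ev1 (AlgHom.id A B)
      (Algebra.TensorProduct.map ι (AlgHom.id A B) x) = _
    rw [PL.map_map, hev1ι]
    simp
  have hw1 : Algebra.TensorProduct.map ev1 (AlgHom.id A B) wQ = w := by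
    show Algebra.TensorProduct.map ev1 (AlgHom.id A B)
      (Algebra.TensorProduct.map ι (AlgHom.id A B) w) = _
    rw [PL.map_map, hev1ι]
    simp
  have hz1 : Algebra.TensorProduct.map ev1 (AlgHom.id A B) z = x + w * (1 ⊗ₜ[A] s) := by
    show Algebra.TensorProduct.map ev1 (AlgHom.id A B)
      (xQ + ((Polynomial.X : Q) ⊗ₜ[A] (1 : B) * wQ) * ((1 : Q) ⊗ₜ[A] s)) = _
    rw [map_add, map_mul, map_mul, hx1, hw1, Algebra.TensorProduct.map_tmul,
      Algebra.TensorProduct.map_tmul, map_one, map_one, AlgHom.id_apply]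
    have : ev1 (Polynomial.X : Q) = 1 := by
      show Polynomial.aeval (1 : P) (Polynomial.X : Q) = 1
      rw [Polynomial.aeval_X]
    rw [this]
    show x + (1 : P ⊗[A] B) * w * _ = _
    rw [one_mul]
  rw [hz1, hx1] at h3
  exact h3

end Groth.Agent.H68.LC
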