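import Groth.Agent.H68.LawCoeff
import Mathlib

/-!
# Transfer of multiplicativity along a linear factorisation of laws

If `F = f ∘ G` for multiplicative laws `F : B → C`, `G : B → P` and a linear map `f : P → C`, then
`f` is multiplicative on the span `TS G` of all coefficients of `G`, which is a subalgebra of `P`.
-/

set_option autoImplicit false
universe u
open scoped TensorProduct

namespace Groth.Agent.H68.LC

variable {A : Type u} [CommRing A] {B C P : Type u} [CommRing B] [Algebra A B]
  [CommRing C] [Algebra A C] [CommRing P] [Algebra A P]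

/-- The set of all coefficients of the law `G`. -/
def coefSet (G : B →ₚₗ[A] P) : Set P :=
  {c | ∃ (I : Type) (e : I → B) (E : Finset I) (k : I →₀ ℕ), c = coeffE G e E k}

/-- The span of all coefficients of the law `G`. -/
def TS (G : B →ₚₗ[A] P) : Submodule A P := Submodule.span A (coefSet G)

lemma coeffE_mem_TS (G : B →ₚₗ[A] P) {I : Type} (e : I → B) (E : Finset I) (k : I →₀ ℕ) :
    coeffE G e E k ∈ TS G :=
  Submodule.subset_span ⟨I, e, E, k, rfl⟩

lemma lid_lTensor {N N' : Type u} [AddCommGroup N] [Module A N] [AddCommGroup N'] [Module A N']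
    (g : N →ₗ[A] N') (u : A ⊗[A] N) :
    TensorProduct.lid A N' (g.lTensor A u) = g (TensorProduct.lid A N u) := by
  induction u using TensorProduct.induction_on with
  | zero => simp
  | tmul a n => simp
  | add x y hx hy => simp only [map_add, hx, hy]

/-- The value of a law on `1` over the base ring, as a sum of coefficients. -/
lemma lid_toFun'_one (G : B →ₚₗ[A] P) :
    TensorProduct.lid A P (G.toFun' A 1) =
      (coeffE G (fun _ : Unit => (1 : B)) Finset.univ).sum fun _ n => n := by
  have h1 : (1 : A ⊗[A] B) = ∑ i ∈ (Finset.univ : Finset Unit), (fun _ => (1 : A)) i ⊗ₜ[A]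
      (fun _ : Unit => (1 : B)) i := by
    simp [Algebra.TensorProduct.one_def]
  rw [h1, toFun'_sum, map_finsuppSum]
  refine Finsupp.sum_congr fun k _ => ?_
  simp [Finsupp.prod]

lemma one_mem_TS (G : B →ₚₗ[A] P) (hG : PolLaw.IsMult G) : (1 : P) ∈ TS G := by
  have h := lid_toFun'_one G
  rw [(hG A).1] at h
  have h1 : TensorProduct.lid A P (1 : A ⊗[A] P) = 1 := by
    simp [Algebra.TensorProduct.one_def]
  rw [h1] at h
  rw [h, Finsupp.sum]
  exact Submodule.sum_mem _ fun k _ => coeffE_mem_TS G _ _ k

lemma mul_mem_TS (G : B →ₚₗ[A] P) (hG : PolLaw.IsMult G) {u v : P} (hu : u ∈ TS G)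
    (hv : v ∈ TS G) : u * v ∈ TS G := by
  classical
  induction hu using Submodule.span_induction with
  | mem u hu =>
    induction hv using Submodule.span_induction with
    | mem v hv =>
      obtain ⟨I, e, E, k, rfl⟩ := hu
      obtain ⟨I', e', E', k', rfl⟩ := hv
      rw [coeffE_mul G hG]
      exact Submodule.sum_mem _ fun κ _ => coeffE_mem_TS G _ _ κ
    | zero => rw [mul_zero]; exact Submodule.zero_mem _
    | add x y _ _ hx hy => rw [mul_add]; exact Submodule.add_mem _ hx hy
    | smul a x _ hx => rw [mul_smul_comm]; exact Submodule.smul_mem _ a hx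
  | zero => rw [zero_mul]; exact Submodule.zero_mem _
  | add x y _ _ hx hy => rw [add_mul]; exact Submodule.add_mem _ hx hy
  | smul a x _ hx => rw [smul_mul_assoc]; exact Submodule.smul_mem _ a hx

/-- The span of the coefficients of a multiplicative law, as a subalgebra. -/
def TSalg (G : B →ₚₗ[A] P) (hG : PolLaw.IsMult G) : Subalgebra A P where
  carrier := TS G
  mul_mem' := mul_mem_TS G hG
  one_mem' := one_mem_TS G hG
  add_mem' := (TS G).add_mem
  zero_mem' := (TS G).zero_mem
  algebraMap_mem' a := by
    rw [Algebra.algebraMap_eq_smul_one]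
    exact (TS G).smul_mem a (one_mem_TS G hG)

lemma mem_TSalg {G : B →ₚₗ[A] P} {hG : PolLaw.IsMult G} {u : P} : u ∈ TSalg G hG ↔ u ∈ TS G :=
  Iff.rfl

section Transfer

variable (F : B →ₚₗ[A] C) (G : B →ₚₗ[A] P) (f : P →ₗ[A] C)
  (hFG : ∀ (S : Type u) [CommSemiring S] [Algebra A S] (z : S ⊗[A] B),
    F.toFun' S z = f.lTensor S (G.toFun' S z))

include hFG

lemma map_coeffE {I : Type} (e : I → B) (E : Finset I) (k : I →₀ ℕ) :
    f (coeffE G e E k) = coeffE F e E k :=
  (coeffE_postcomp G F f hFG e E k).symm

lemma map_one_of_factor (hF : PolLaw.IsMult F) (hG : PolLaw.IsMult G) : f 1 = 1 := by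
  have h1 : TensorProduct.lid A P (1 : A ⊗[A] P) = 1 := by
    simp [Algebra.TensorProduct.one_def]
  have h2 : TensorProduct.lid A C (1 : A ⊗[A] C) = 1 := by
    simp [Algebra.TensorProduct.one_def]
  have := hFG A 1
  rw [(hF A).1, (hG A).1] at this
  rw [← h1, ← lid_lTensor, ← this, h2]

lemma map_mul_of_factor (hF : PolLaw.IsMult F) (hG : PolLaw.IsMult G) {u v : P}
    (hu : u ∈ TS G) (hv : v ∈ TS G) : f (u * v) = f u * f v := by
  classical
  induction hu using Submodule.span_induction with
  | mem u hu =>
    induction hv using Submodule.span_induction with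
    | mem v hv =>
      obtain ⟨I, e, E, k, rfl⟩ := hu
      obtain ⟨I', e', E', k', rfl⟩ := hv
      rw [coeffE_mul G hG, map_coeffE F G f hFG, map_coeffE F G f hFG, coeffE_mul F hF, map_sum]
      symm
      have hsub : (coeffE F (fun p : I × I' => e p.1 * e' p.2) (E ×ˢ E')).support ⊆
          (coeffE G (fun p : I × I' => e p.1 * e' p.2) (E ×ˢ E')).support := by
        intro κ hκ
        rw [Finsupp.mem_support_iff] at hκ ⊢
        intro h0
        apply hκ
        rw [← map_coeffE F G f hFG, h0, map_zero]
      rw [Finset.sum_congr rfl fun κ _ => map_coeffE F G f hFG _ _ κ]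
      refine Finset.sum_subset (Finset.filter_subset_filter _ hsub) ?_
      intro κ hκ hκ'
      rw [Finset.mem_filter] at hκ hκ'
      rw [not_and] at hκ'
      by_contra h0
      exact hκ' (Finsupp.mem_support_iff.mpr h0) hκ.2
    | zero => simp
    | add x y _ _ hx hy => rw [mul_add, map_add, map_add, mul_add, hx, hy]
    | smul a x _ hx => rw [mul_smul_comm, map_smul, map_smul, hx, mul_smul_comm]
  | zero => simp
  | add x y _ _ hx hy => rw [add_mul, map_add, map_add, add_mul, hx, hy]
  | smul a x _ hx => rw [smul_mul_assoc, map_smul, map_smul, hx, smul_mul_assoc]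

/-- The restriction of `f` to the subalgebra of coefficients, as an algebra homomorphism. -/
noncomputable def TShom (hF : PolLaw.IsMult F) (hG : PolLaw.IsMult G) : TSalg G hG →ₐ[A] C :=
  AlgHom.ofLinearMap (f.comp (TSalg G hG).val.toLinearMap)
    (by simpa using map_one_of_factor F G f hFG hF hG)
    (fun u v => by
      simpa using map_mul_of_factor F G f hFG hF hG u.2 v.2)

lemma TShom_apply (hF : PolLaw.IsMult F) (hG : PolLaw.IsMult G) (u : TSalg G hG) :
    TShom F G f hFG hF hG u = f u := rfl

end Transfer

end Groth.Agent.H68.LC
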