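import Groth.Agent.H68.QuotReynolds
import Groth.Agent.H37.QuotComp
import Mathlib

/-!
# Group actions on fibre products and quotients of fibre products
-/

set_option autoImplicit false
universe u

open CategoryTheory Limits AlgebraicGeometry

namespace Groth.Agent.H68.PbA

variable {A B Y : Scheme.{u}} {G : Type u} [Group G]

section Act

variable (a : A ⟶ Y) (b : B ⟶ Y) (ρA : G →* Aut A) (ρB : G →* Aut B)
  (hA : ∀ g, (ρA g).hom ≫ a = a) (hB : ∀ g, (ρB g).hom ≫ b = b)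

/-- The morphism of `pullback a b` induced by `g`. -/
noncomputable def pbHom (g : G) : pullback a b ⟶ pullback a b :=
  pullback.map a b a b (ρA g).hom (ρB g).hom (𝟙 Y) (by rw [hA, Category.comp_id])
    (by rw [hB, Category.comp_id])

@[reassoc (attr := simp)]
theorem pbHom_fst (g : G) : pbHom a b ρA ρB hA hB g ≫ pullback.fst a b =
    pullback.fst a b ≫ (ρA g).hom :=
  pullback.lift_fst _ _ _

@[reassoc (attr := simp)]
theorem pbHom_snd (g : G) : pbHom a b ρA ρB hA hB g ≫ pullback.snd a b =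
    pullback.snd a b ≫ (ρB g).hom :=
  pullback.lift_snd _ _ _

theorem pbHom_mul (g h : G) : pbHom a b ρA ρB hA hB (g * h) =
    pbHom a b ρA ρB hA hB h ≫ pbHom a b ρA ρB hA hB g := by
  apply pullback.hom_ext
  · simp only [pbHom_fst, Category.assoc, pbHom_fst_assoc, map_mul]; rfl
  · simp only [pbHom_snd, Category.assoc, pbHom_snd_assoc, map_mul]; rfl

theorem pbHom_one : pbHom a b ρA ρB hA hB 1 = 𝟙 _ := by
  apply pullback.hom_ext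
  · simp only [pbHom_fst, map_one, Category.id_comp]; exact Category.comp_id _
  · simp only [pbHom_snd, map_one, Category.id_comp]; exact Category.comp_id _

/-- The diagonal action on a fibre product. -/
noncomputable def pbAct : G →* Aut (pullback a b) :=
  MonoidHom.mk' (fun g =>
    { hom := pbHom a b ρA ρB hA hB g
      inv := pbHom a b ρA ρB hA hB g⁻¹
      hom_inv_id := by rw [← pbHom_mul, inv_mul_cancel, pbHom_one]
      inv_hom_id := by rw [← pbHom_mul, mul_inv_cancel, pbHom_one] })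
    (fun g h => Iso.ext (pbHom_mul a b ρA ρB hA hB g h))

@[simp]
theorem pbAct_hom (g : G) : (pbAct a b ρA ρB hA hB g).hom = pbHom a b ρA ρB hA hB g := rfl

end Act

/-- The trivial action. -/
def trivAct (A : Scheme.{u}) (G : Type u) [Group G] : G →* Aut A := 1

@[simp] theorem trivAct_hom (A : Scheme.{u}) (g : G) : (trivAct A G g).hom = 𝟙 A := rfl

section Prod

variable {G₁ G₂ : Type u} [Group G₁] [Group G₂] [Finite G₁] [Finite G₂]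
  {P₁ Z₁ P₂ Z₂ : Scheme.{u}}
  (ρ₁ : G₁ →* Aut P₁) (p₁ : P₁ ⟶ Z₁) (ρ₂ : G₂ →* Aut P₂) (p₂ : P₂ ⟶ Z₂)
  (a₁ : Z₁ ⟶ Y) (a₂ : Z₂ ⟶ Y) (b₁ : P₁ ⟶ Y) (b₂ : P₂ ⟶ Y)

/-- The product action of `G₁ × G₂` on `P₁ ×_Y P₂`. -/
noncomputable def prodAct (hb₁ : ∀ g, (ρ₁ g).hom ≫ b₁ = b₁) (hb₂ : ∀ g, (ρ₂ g).hom ≫ b₂ = b₂) :
    G₁ × G₂ →* Aut (pullback b₁ b₂) :=
  pbAct b₁ b₂ (ρ₁.comp (MonoidHom.fst G₁ G₂)) (ρ₂.comp (MonoidHom.snd G₁ G₂))
    (fun g => hb₁ g.1) (fun g => hb₂ g.2)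

omit [Finite G₁] [Finite G₂] in
theorem prodAct_fst (hb₁ : ∀ g, (ρ₁ g).hom ≫ b₁ = b₁) (hb₂ : ∀ g, (ρ₂ g).hom ≫ b₂ = b₂)
    (g : G₁ × G₂) : (prodAct ρ₁ ρ₂ b₁ b₂ hb₁ hb₂ g).hom ≫ pullback.fst b₁ b₂ =
      pullback.fst b₁ b₂ ≫ (ρ₁ g.1).hom := by
  simp [prodAct]

omit [Finite G₁] [Finite G₂] in
theorem prodAct_snd (hb₁ : ∀ g, (ρ₁ g).hom ≫ b₁ = b₁) (hb₂ : ∀ g, (ρ₂ g).hom ≫ b₂ = b₂)
    (g : G₁ × G₂) : (prodAct ρ₁ ρ₂ b₁ b₂ hb₁ hb₂ g).hom ≫ pullback.snd b₁ b₂ =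
      pullback.snd b₁ b₂ ≫ (ρ₂ g.2).hom := by
  simp [prodAct]

/-- **Quotient of a fibre product by a product group**, when the group orders are invertible. -/
theorem isQuot_prod (h₁ : SGA1.IsQuot ρ₁ p₁) (h₂ : SGA1.IsQuot ρ₂ p₂)
    (hab₁ : p₁ ≫ a₁ = b₁) (hab₂ : p₂ ≫ a₂ = b₂)
    (hc₁ : ∀ V : Z₁.Opens, IsUnit ((Nat.card G₁ : ℕ) : Γ(Z₁, V)))
    (hc₂ : ∀ V : Z₂.Opens, IsUnit ((Nat.card G₂ : ℕ) : Γ(Z₂, V)))
    (θ : G₁ × G₂ →* Aut (pullback b₁ b₂))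
    (hθ₁ : ∀ g, (θ g).hom ≫ pullback.fst b₁ b₂ = pullback.fst b₁ b₂ ≫ (ρ₁ g.1).hom)
    (hθ₂ : ∀ g, (θ g).hom ≫ pullback.snd b₁ b₂ = pullback.snd b₁ b₂ ≫ (ρ₂ g.2).hom)
    (P : pullback b₁ b₂ ⟶ pullback a₁ a₂)
    (hP₁ : P ≫ pullback.fst a₁ a₂ = pullback.fst b₁ b₂ ≫ p₁)
    (hP₂ : P ≫ pullback.snd a₁ a₂ = pullback.snd b₁ b₂ ≫ p₂) :
    SGA1.IsQuot θ P := by
  -- stage 1 : `P₁ ×_Y P₂ ⟶ Z₁ ×_Y P₂`
  let pN : pullback b₁ b₂ ⟶ pullback a₁ b₂ :=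
    pullback.map b₁ b₂ a₁ b₂ p₁ (𝟙 P₂) (𝟙 Y) (by rw [hab₁, Category.comp_id]) (by simp)
  have hpN₁ : pN ≫ pullback.fst a₁ b₂ = pullback.fst b₁ b₂ ≫ p₁ := pullback.lift_fst _ _ _
  have hpN₂ : pN ≫ pullback.snd a₁ b₂ = pullback.snd b₁ b₂ :=
    (pullback.lift_snd _ _ _).trans (Category.comp_id _)
  have sq1 : IsPullback (pullback.fst b₁ b₂) pN p₁ (pullback.fst a₁ b₂) := by
    have right : IsPullback (pullback.snd a₁ b₂) (pullback.fst a₁ b₂) b₂ a₁ :=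
      (IsPullback.of_hasPullback a₁ b₂).flip
    have big : IsPullback (pN ≫ pullback.snd a₁ b₂) (pullback.fst b₁ b₂) b₂ (p₁ ≫ a₁) := by
      rw [hpN₂, hab₁]
      exact (IsPullback.of_hasPullback b₁ b₂).flip
    exact (IsPullback.of_right big hpN₁ right).flip
  -- stage 2 : `Z₁ ×_Y P₂ ⟶ Z₁ ×_Y Z₂`
  let r : pullback a₁ b₂ ⟶ pullback a₁ a₂ :=
    pullback.map a₁ b₂ a₁ a₂ (𝟙 Z₁) p₂ (𝟙 Y) (by simp) (by rw [hab₂, Category.comp_id])
  have hr₁ : r ≫ pullback.fst a₁ a₂ = pullback.fst a₁ b₂ :=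
    (pullback.lift_fst _ _ _).trans (Category.comp_id _)
  have hr₂ : r ≫ pullback.snd a₁ a₂ = pullback.snd a₁ b₂ ≫ p₂ := pullback.lift_snd _ _ _
  have sq2 : IsPullback (pullback.snd a₁ b₂) r p₂ (pullback.snd a₁ a₂) := by
    have right : IsPullback (pullback.fst a₁ a₂) (pullback.snd a₁ a₂) a₁ a₂ :=
      IsPullback.of_hasPullback a₁ a₂
    have big : IsPullback (r ≫ pullback.fst a₁ a₂) (pullback.snd a₁ b₂) a₁ (p₂ ≫ a₂) := by
      rw [hr₁, hab₂]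
      exact IsPullback.of_hasPullback a₁ b₂
    exact (IsPullback.of_right big hr₂ right).flip
  have hP : P = pN ≫ r := by
    apply pullback.hom_ext
    · rw [hP₁, Category.assoc, hr₁, hpN₁]
    · rw [hP₂, Category.assoc, hr₂, reassoc_of% hpN₂]
  have hb₂ : ∀ g, (ρ₂ g).hom ≫ b₂ = b₂ := fun g => by
    rw [← hab₂, reassoc_of% h₂.inv g]
  let θbar : G₂ →* Aut (pullback a₁ b₂) :=
    pbAct a₁ b₂ (trivAct Z₁ G₂) ρ₂ (fun g => by simp) hb₂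
  have hN : SGA1.IsQuot (θ.comp (MonoidHom.inl G₁ G₂)) pN := by
    refine Rey.isQuot_baseChange_of_isUnit_card ρ₁ p₁ h₁ (pullback.fst a₁ b₂) hc₁
      (pullback.fst b₁ b₂) pN sq1 _ (fun g => ?_) (fun g => ?_)
    · exact hθ₁ (g, 1)
    · apply pullback.hom_ext
      · rw [Category.assoc, hpN₁]
        change (θ (g, 1)).hom ≫ _ = _
        rw [reassoc_of% hθ₁ (g, 1), h₁.inv]
      · rw [Category.assoc, hpN₂]
        change (θ (g, 1)).hom ≫ _ = _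
        rw [hθ₂ (g, 1)]
        simp only [map_one]
        exact Category.comp_id _
  have hR : SGA1.IsQuot θbar r := by
    refine Rey.isQuot_baseChange_of_isUnit_card ρ₂ p₂ h₂ (pullback.snd a₁ a₂) hc₂
      (pullback.snd a₁ b₂) r sq2 _ (fun g => ?_) (fun g => ?_)
    · simp [θbar]
    · apply pullback.hom_ext
      · rw [Category.assoc, hr₁]
        simp [θbar]
      · rw [Category.assoc, hr₂]
        simp only [θbar, pbAct_hom, pbHom_snd_assoc]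
        rw [h₂.inv]
  rw [hP]
  refine Groth.Agent.H37.isQuot_comp_stages (MonoidHom.inl G₁ G₂) (MonoidHom.snd G₁ G₂)
    (fun g => ⟨(1, g), rfl⟩) θ pN hN θbar (fun g => ?_) r hR
  apply pullback.hom_ext
  · simp only [Category.assoc, θbar, pbAct_hom, pbHom_fst, trivAct_hom, Category.comp_id]
    rw [hpN₁, reassoc_of% hθ₁ g, h₁.inv]
  · simp only [Category.assoc, θbar, pbAct_hom, pbHom_snd]
    rw [reassoc_of% hpN₂, hpN₂, hθ₂ g]
    rfl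

end Prod

end Groth.Agent.H68.PbA
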