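import Groth.Agent.H68.PolLawGen
import Mathlib

/-!
# The derivative of a polynomial law `B → A`, via dual numbers

For a law `F : B →ₚₗ[A] A`, an `A`-algebra `R` and `x y : R ⊗ B`, `dLaw R F x y : R` is the coefficient
of `ε` in `F(x + ε y)` over the dual numbers `R[ε]`.  It is additive and `R`-homogeneous in `y`,
natural in `R`, and is the derivative of `μ ↦ F(x + μ y)` (Taylor).
-/

set_option autoImplicit false
universe u
open scoped TensorProduct

namespace Groth.Agent.H68.PL

open TrivSqZeroExt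

variable {A : Type u} [CommRing A] {B : Type u} [CommRing B] [Algebra A B]

/-- Naturality of `rid`. -/
lemma rid_map {R₀ R : Type u} [CommSemiring R₀] [Algebra A R₀] [CommSemiring R] [Algebra A R]
    (j : R₀ →ₐ[A] R) (z : R₀ ⊗[A] A) :
    Algebra.TensorProduct.rid A A R (Algebra.TensorProduct.map j (AlgHom.id A A) z) =
      j (Algebra.TensorProduct.rid A A R₀ z) := by
  induction z using TensorProduct.induction_on with
  | zero => simp
  | tmul r a => simp
  | add x y hx hy => simp only [map_add, hx, hy]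

section Dual

variable (R : Type u) [CommRing R] [Algebra A R]

/-- Constants into the dual numbers. -/
noncomputable def ιD : R →ₐ[A] DualNumber R := TrivSqZeroExt.inlAlgHom A R R

/-- The element `x + ε y`. -/
noncomputable def dArg (x y : R ⊗[A] B) : DualNumber R ⊗[A] B :=
  Algebra.TensorProduct.map (ιD (A := A) R) (AlgHom.id A B) x +
    ((DualNumber.eps : DualNumber R) ⊗ₜ[A] (1 : B)) *
      Algebra.TensorProduct.map (ιD (A := A) R) (AlgHom.id A B) y

/-- The derivative of the law `F` at `x` in the direction `y`. -/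
noncomputable def dLaw (F : B →ₚₗ[A] A) (x y : R ⊗[A] B) : R :=
  TrivSqZeroExt.snd (Algebra.TensorProduct.rid A A (DualNumber R)
    (F.toFun' (DualNumber R) (dArg R x y)))

variable {R}

/-- Computing `dLaw` through any algebra map into the dual numbers. -/
lemma dLaw_eq_of (F : B →ₚₗ[A] A) {S : Type u} [CommRing S] [Algebra A S]
    (θ : S →ₐ[A] DualNumber R) (z : S ⊗[A] B) (x y : R ⊗[A] B)
    (hz : Algebra.TensorProduct.map θ (AlgHom.id A B) z = dArg R x y) :
    dLaw R F x y = TrivSqZeroExt.snd (θ (Algebra.TensorProduct.rid A A S (F.toFun' S z))) := by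
  rw [dLaw, ← hz, ← compat, rid_map]

end Dual

section Properties

variable {R : Type u} [CommRing R] [Algebra A R] (F : B →ₚₗ[A] A)

/-- `dLaw` is `R`-homogeneous in the direction. -/
lemma dLaw_smul (r : R) (x y : R ⊗[A] B) :
    dLaw R F x ((r ⊗ₜ[A] (1 : B)) * y) = r * dLaw R F x y := by
  let σ : DualNumber R →ₐ[A] DualNumber R :=
    (TrivSqZeroExt.map (LinearMap.lsmul R R r)).restrictScalars A
  have hσι : σ.comp (ιD (A := A) R) = ιD R := by
    refine AlgHom.ext (fun a => ?_)
    show TrivSqZeroExt.map (LinearMap.lsmul R R r) (TrivSqZeroExt.inl a) = TrivSqZeroExt.inl a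
    rw [TrivSqZeroExt.map_inl]
  have hσε : σ (DualNumber.eps : DualNumber R) = ιD (A := A) R r * DualNumber.eps := by
    show TrivSqZeroExt.map (LinearMap.lsmul R R r) (TrivSqZeroExt.inr 1) =
      TrivSqZeroExt.inl r * TrivSqZeroExt.inr 1
    rw [TrivSqZeroExt.map_inr, TrivSqZeroExt.inl_mul_inr]
    simp
  have hz : Algebra.TensorProduct.map σ (AlgHom.id A B) (dArg R x y) =
      dArg R x ((r ⊗ₜ[A] (1 : B)) * y) := by
    simp only [dArg, map_add, map_mul, PL.map_map, hσι, Algebra.TensorProduct.map_tmul, hσε,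
      map_one, AlgHom.id_apply]
    rw [← mul_one (1 : B), ← Algebra.TensorProduct.tmul_mul_tmul, mul_one]
    ring
  rw [dLaw_eq_of F σ _ _ _ hz, dLaw]
  simp [σ]

/-- `dLaw` is additive in the direction. -/
lemma dLaw_add (x y₁ y₂ : R ⊗[A] B) :
    dLaw R F x (y₁ + y₂) = dLaw R F x y₁ + dLaw R F x y₂ := by
  let T := TrivSqZeroExt R (R × R)
  let ιT : R →ₐ[A] T := TrivSqZeroExt.inlAlgHom A R (R × R)
  let ε₁ : T := TrivSqZeroExt.inr (1, 0)
  let ε₂ : T := TrivSqZeroExt.inr (0, 1)
  let z : T ⊗[A] B := Algebra.TensorProduct.map ιT (AlgHom.id A B) x +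
    (ε₁ ⊗ₜ[A] (1 : B)) * Algebra.TensorProduct.map ιT (AlgHom.id A B) y₁ +
    (ε₂ ⊗ₜ[A] (1 : B)) * Algebra.TensorProduct.map ιT (AlgHom.id A B) y₂
  let p₁ : T →ₐ[A] DualNumber R :=
    (TrivSqZeroExt.map (LinearMap.fst R R R)).restrictScalars A
  let p₂ : T →ₐ[A] DualNumber R :=
    (TrivSqZeroExt.map (LinearMap.snd R R R)).restrictScalars A
  let p₃ : T →ₐ[A] DualNumber R :=
    (TrivSqZeroExt.map (LinearMap.fst R R R + LinearMap.snd R R R)).restrictScalars A
  have h1ι : p₁.comp ιT = ιD R := by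
    refine AlgHom.ext (fun a => ?_)
    show TrivSqZeroExt.map (LinearMap.fst R R R) (TrivSqZeroExt.inl a) = TrivSqZeroExt.inl a
    rw [TrivSqZeroExt.map_inl]
  have h2ι : p₂.comp ιT = ιD R := by
    refine AlgHom.ext (fun a => ?_)
    show TrivSqZeroExt.map (LinearMap.snd R R R) (TrivSqZeroExt.inl a) = TrivSqZeroExt.inl a
    rw [TrivSqZeroExt.map_inl]
  have h3ι : p₃.comp ιT = ιD R := by
    refine AlgHom.ext (fun a => ?_)
    show TrivSqZeroExt.map (LinearMap.fst R R R + LinearMap.snd R R R) (TrivSqZeroExt.inl a) =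
      TrivSqZeroExt.inl a
    rw [TrivSqZeroExt.map_inl]
  have hz₁ : Algebra.TensorProduct.map p₁ (AlgHom.id A B) z = dArg R x y₁ := by
    have e1 : p₁ ε₁ = DualNumber.eps := by
      show TrivSqZeroExt.map (LinearMap.fst R R R) (TrivSqZeroExt.inr (1, 0)) = TrivSqZeroExt.inr 1
      rw [TrivSqZeroExt.map_inr]; rfl
    have e2 : p₁ ε₂ = 0 := by
      show TrivSqZeroExt.map (LinearMap.fst R R R) (TrivSqZeroExt.inr (0, 1)) = 0
      rw [TrivSqZeroExt.map_inr]; simp
    simp only [z, dArg, map_add, map_mul, PL.map_map, h1ι, Algebra.TensorProduct.map_tmul, e1, e2,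
      map_one, TensorProduct.zero_tmul, zero_mul, add_zero]
  have hz₂ : Algebra.TensorProduct.map p₂ (AlgHom.id A B) z = dArg R x y₂ := by
    have e1 : p₂ ε₁ = 0 := by
      show TrivSqZeroExt.map (LinearMap.snd R R R) (TrivSqZeroExt.inr (1, 0)) = 0
      rw [TrivSqZeroExt.map_inr]; simp
    have e2 : p₂ ε₂ = DualNumber.eps := by
      show TrivSqZeroExt.map (LinearMap.snd R R R) (TrivSqZeroExt.inr (0, 1)) = TrivSqZeroExt.inr 1
      rw [TrivSqZeroExt.map_inr]; rfl
    simp only [z, dArg, map_add, map_mul, PL.map_map, h2ι, Algebra.TensorProduct.map_tmul, e1, e2,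
      map_one, TensorProduct.zero_tmul, zero_mul, add_zero]
  have hz₃ : Algebra.TensorProduct.map p₃ (AlgHom.id A B) z = dArg R x (y₁ + y₂) := by
    have e1 : p₃ ε₁ = DualNumber.eps := by
      show TrivSqZeroExt.map (LinearMap.fst R R R + LinearMap.snd R R R)
        (TrivSqZeroExt.inr (1, 0)) = TrivSqZeroExt.inr 1
      rw [TrivSqZeroExt.map_inr]; simp
    have e2 : p₃ ε₂ = DualNumber.eps := by
      show TrivSqZeroExt.map (LinearMap.fst R R R + LinearMap.snd R R R)
        (TrivSqZeroExt.inr (0, 1)) = TrivSqZeroExt.inr 1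
      rw [TrivSqZeroExt.map_inr]; simp
    simp only [z, dArg, map_add, map_mul, PL.map_map, h3ι, Algebra.TensorProduct.map_tmul, e1, e2,
      map_one]
    ring
  rw [dLaw_eq_of F p₁ z _ _ hz₁, dLaw_eq_of F p₂ z _ _ hz₂, dLaw_eq_of F p₃ z _ _ hz₃]
  simp only [p₁, p₂, p₃, AlgHom.coe_restrictScalars']
  erw [TrivSqZeroExt.snd_map, TrivSqZeroExt.snd_map, TrivSqZeroExt.snd_map]
  rfl

/-- The map on dual numbers induced by an algebra map. -/
noncomputable def dualMap {R' : Type u} [CommRing R'] [Algebra A R'] (φ : R →ₐ[A] R') :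
    DualNumber R →ₐ[A] DualNumber R' :=
  TrivSqZeroExt.lift ((ιD (A := A) R').comp φ)
    ((TrivSqZeroExt.inrHom R' R').restrictScalars A ∘ₗ φ.toLinearMap)
    (fun x y => by simp)
    (fun r x => by
      show TrivSqZeroExt.inr (φ (r • x)) = TrivSqZeroExt.inl (φ r) * TrivSqZeroExt.inr (φ x)
      rw [TrivSqZeroExt.inl_mul_inr, smul_eq_mul, map_mul, smul_eq_mul])
    (fun r x => by
      show TrivSqZeroExt.inr (φ (MulOpposite.op r • x)) =
        TrivSqZeroExt.inr (φ x) * TrivSqZeroExt.inl (φ r)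
      rw [TrivSqZeroExt.inr_mul_inl, MulOpposite.smul_eq_mul_unop, MulOpposite.unop_op, map_mul,
        MulOpposite.smul_eq_mul_unop, MulOpposite.unop_op])

lemma dualMap_ι {R' : Type u} [CommRing R'] [Algebra A R'] (φ : R →ₐ[A] R') :
    (dualMap φ).comp (ιD (A := A) R) = (ιD R').comp φ := by
  refine AlgHom.ext (fun a => ?_)
  show dualMap φ (TrivSqZeroExt.inl a) = _
  rw [dualMap, TrivSqZeroExt.lift_apply_inl]

lemma dualMap_eps {R' : Type u} [CommRing R'] [Algebra A R'] (φ : R →ₐ[A] R') :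
    dualMap φ (DualNumber.eps : DualNumber R) = DualNumber.eps := by
  show dualMap φ (TrivSqZeroExt.inr 1) = TrivSqZeroExt.inr 1
  rw [dualMap, TrivSqZeroExt.lift_apply_inr]
  show TrivSqZeroExt.inr (φ 1) = TrivSqZeroExt.inr 1
  rw [map_one]

lemma snd_dualMap {R' : Type u} [CommRing R'] [Algebra A R'] (φ : R →ₐ[A] R')
    (z : DualNumber R) : TrivSqZeroExt.snd (dualMap φ z) = φ (TrivSqZeroExt.snd z) := by
  rw [dualMap, TrivSqZeroExt.lift_def]
  show TrivSqZeroExt.snd (TrivSqZeroExt.inl (φ z.fst) + TrivSqZeroExt.inr (φ z.snd)) = _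
  rw [TrivSqZeroExt.snd_add, TrivSqZeroExt.snd_inl, TrivSqZeroExt.snd_inr, zero_add]

/-- `dLaw` is natural in the test ring. -/
lemma dLaw_nat {R' : Type u} [CommRing R'] [Algebra A R'] (φ : R →ₐ[A] R') (x y : R ⊗[A] B) :
    dLaw R' F (Algebra.TensorProduct.map φ (AlgHom.id A B) x)
      (Algebra.TensorProduct.map φ (AlgHom.id A B) y) = φ (dLaw R F x y) := by
  have hz : Algebra.TensorProduct.map (dualMap φ) (AlgHom.id A B) (dArg R x y) =
      dArg R' (Algebra.TensorProduct.map φ (AlgHom.id A B) x)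
        (Algebra.TensorProduct.map φ (AlgHom.id A B) y) := by
    simp only [dArg, map_add, map_mul, PL.map_map, dualMap_ι, Algebra.TensorProduct.map_tmul,
      dualMap_eps, map_one]
  rw [dLaw_eq_of F (dualMap φ) _ _ _ hz, snd_dualMap, dLaw]

end Properties

section Taylor

variable {R : Type u} [CommRing R] [Algebra A R] (F : B →ₚₗ[A] A)

/-- Constants into the polynomial ring. -/
noncomputable def Cₐ (R : Type u) [CommRing R] [Algebra A R] : R →ₐ[A] Polynomial R :=
  IsScalarTower.toAlgHom A R (Polynomial R)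

/-- The path `x + μ y` over `R[μ]`. -/
noncomputable def path (x y : R ⊗[A] B) : Polynomial R ⊗[A] B :=
  Algebra.TensorProduct.map (Cₐ (A := A) R) (AlgHom.id A B) x +
    ((Polynomial.X : Polynomial R) ⊗ₜ[A] (1 : B)) *
      Algebra.TensorProduct.map (Cₐ (A := A) R) (AlgHom.id A B) y

/-- The polynomial `μ ↦ F(x + μ y)`. -/
noncomputable def pathPoly (x y : R ⊗[A] B) : Polynomial R :=
  Algebra.TensorProduct.rid A A (Polynomial R) (F.toFun' (Polynomial R) (path x y))

lemma pathPoly_eval (x y : R ⊗[A] B) (s : R) :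
    (pathPoly F x y).eval s =
      Algebra.TensorProduct.rid A A R (F.toFun' R (x + (s ⊗ₜ[A] (1 : B)) * y)) := by
  let ev : Polynomial R →ₐ[A] R := (Polynomial.aeval s).restrictScalars A
  have hev : ev.comp (Cₐ (A := A) R) = AlgHom.id A R := by
    refine AlgHom.ext (fun r => ?_)
    show Polynomial.aeval s (Polynomial.C r) = r
    simp
  have hX : ev Polynomial.X = s := by
    show Polynomial.aeval s Polynomial.X = s
    simp
  have h1 : Algebra.TensorProduct.map ev (AlgHom.id A B) (path x y) =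
      x + (s ⊗ₜ[A] (1 : B)) * y := by
    simp only [path, map_add, map_mul, PL.map_map, hev, Algebra.TensorProduct.map_tmul, hX,
      map_one, Algebra.TensorProduct.map_id, AlgHom.coe_id, id_eq]
  rw [← h1, ← compat, rid_map, pathPoly]
  show _ = Polynomial.aeval s _
  rw [Polynomial.coe_aeval_eq_eval]

lemma pathPoly_derivative (x y : R ⊗[A] B) :
    Polynomial.derivative (pathPoly F x y) =
      dLaw (Polynomial R) F (path x y)
        (Algebra.TensorProduct.map (Cₐ (A := A) R) (AlgHom.id A B) y) := by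
  let D := DualNumber (Polynomial R)
  let pt : D := TrivSqZeroExt.inl (Polynomial.X : Polynomial R) + DualNumber.eps
  let θ : Polynomial R →ₐ[A] D := (Polynomial.aeval pt).restrictScalars A
  have hθC : θ.comp (Cₐ (A := A) R) = (ιD (Polynomial R)).comp (Cₐ (A := A) R) := by
    refine AlgHom.ext (fun r => ?_)
    show Polynomial.aeval pt (Polynomial.C r) = TrivSqZeroExt.inl (Polynomial.C r)
    rw [Polynomial.aeval_C, TrivSqZeroExt.algebraMap_eq_inl']
    rfl
  have hθX : θ Polynomial.X = pt := by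
    show Polynomial.aeval pt Polynomial.X = pt
    simp
  have hz : Algebra.TensorProduct.map θ (AlgHom.id A B) (path x y) =
      dArg (Polynomial R) (path x y)
        (Algebra.TensorProduct.map (Cₐ (A := A) R) (AlgHom.id A B) y) := by
    simp only [path, dArg, map_add, map_mul, PL.map_map, hθC, Algebra.TensorProduct.map_tmul, hθX,
      map_one, pt, TensorProduct.add_tmul]
    have : (ιD (A := A) (Polynomial R)) Polynomial.X =
        TrivSqZeroExt.inl (Polynomial.X : Polynomial R) := rfl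
    rw [this]
    ring
  rw [dLaw_eq_of F θ _ _ _ hz]
  show _ = TrivSqZeroExt.snd (Polynomial.aeval pt (pathPoly F x y))
  have hsq : (DualNumber.eps : D) ^ 2 = 0 := by
    rw [pow_two, DualNumber.eps_mul_eps]
  rw [Polynomial.aeval_add_of_sq_eq_zero _ _ _ hsq]
  have h2 : ∀ Q : Polynomial R, Polynomial.aeval
      (TrivSqZeroExt.inl (Polynomial.X : Polynomial R) : D) Q = TrivSqZeroExt.inl Q := by
    intro Q
    have := Polynomial.aeval_algHom_apply
      (TrivSqZeroExt.inlAlgHom R (Polynomial R) (Polynomial R)) (Polynomial.X : Polynomial R) Q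
    rw [Polynomial.aeval_X_left_apply] at this
    exact this
  rw [h2, h2]
  show _ = TrivSqZeroExt.snd (TrivSqZeroExt.inl (pathPoly F x y) +
    TrivSqZeroExt.inl (Polynomial.derivative (pathPoly F x y)) * TrivSqZeroExt.inr 1)
  rw [TrivSqZeroExt.inl_mul_inr, TrivSqZeroExt.snd_add, TrivSqZeroExt.snd_inl,
    TrivSqZeroExt.snd_inr, zero_add, smul_eq_mul, mul_one]

/-- In characteristic zero: if the derivative along the path vanishes, the law does not change. -/
lemma eq_of_dLaw_path_eq_zero [IsAddTorsionFree R] (x y : R ⊗[A] B)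
    (h : dLaw (Polynomial R) F (path x y)
      (Algebra.TensorProduct.map (Cₐ (A := A) R) (AlgHom.id A B) y) = 0) :
    F.toFun' R (x + y) = F.toFun' R x := by
  have h1 : Polynomial.derivative (pathPoly F x y) = 0 := by rw [pathPoly_derivative, h]
  have h2 := Polynomial.eq_C_of_derivative_eq_zero h1
  have h3 : (pathPoly F x y).eval 1 = (pathPoly F x y).eval 0 := by
    rw [h2, Polynomial.eval_C, Polynomial.eval_C]
  rw [pathPoly_eval, pathPoly_eval] at h3
  have h4 := (Algebra.TensorProduct.rid A A R).injective h3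
  rw [TensorProduct.zero_tmul, zero_mul, add_zero,
    show ((1 : R) ⊗ₜ[A] (1 : B)) = 1 from rfl, one_mul] at h4
  exact h4

end Taylor

end Groth.Agent.H68.PL
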