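import Groth.Agent.H68.PolLawBase
import Mathlib

/-!
# Generic elements for polynomial laws on a finite algebra

If `B` is spanned over `A` by `e : Fin n → B`, then every pair of elements `x, w` of `R ⊗ B` is the
image of the pair of generic elements `xGen e, wGen e` over `MvPolynomial (Fin n ⊕ Fin n) A`.
This gives one-equation criteria for membership in `PolLaw.ker` and `PolLaw.kerBC`.
-/

set_option autoImplicit false
universe u
open scoped TensorProduct

namespace Groth.Agent.H68.PL

variable {A : Type u} [CommRing A] {B : Type u} [CommRing B] [Algebra A B]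
  {K : Type u} [CommRing K] [Algebra A K]

/-- The generic test ring. -/
abbrev GenRing (A : Type u) [CommRing A] (n : ℕ) : Type u := MvPolynomial (Fin n ⊕ Fin n) A

/-- The first generic element. -/
noncomputable def xGen {n : ℕ} (e : Fin n → B) : GenRing A n ⊗[A] B :=
  ∑ i, (MvPolynomial.X (Sum.inl i) : GenRing A n) ⊗ₜ[A] e i

/-- The second generic element. -/
noncomputable def wGen {n : ℕ} (e : Fin n → B) : GenRing A n ⊗[A] B :=
  ∑ i, (MvPolynomial.X (Sum.inr i) : GenRing A n) ⊗ₜ[A] e i

lemma exists_coeffs {n : ℕ} (e : Fin n → B) (he : Submodule.span A (Set.range e) = ⊤)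
    {R : Type u} [CommSemiring R] [Algebra A R] (x : R ⊗[A] B) :
    ∃ r : Fin n → R, x = ∑ i, r i ⊗ₜ[A] e i := by
  induction x using TensorProduct.induction_on with
  | zero => exact ⟨fun _ => 0, by simp⟩
  | tmul r b =>
    have hb : b ∈ Submodule.span A (Set.range e) := by rw [he]; trivial
    obtain ⟨a, rfl⟩ := (Submodule.mem_span_range_iff_exists_fun A).mp hb
    refine ⟨fun i => a i • r, ?_⟩
    rw [TensorProduct.tmul_sum]
    refine Finset.sum_congr rfl (fun i _ => ?_)
    rw [TensorProduct.tmul_smul, TensorProduct.smul_tmul']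
  | add x y hx hy =>
    obtain ⟨r, rfl⟩ := hx
    obtain ⟨s, rfl⟩ := hy
    refine ⟨fun i => r i + s i, ?_⟩
    rw [← Finset.sum_add_distrib]
    refine Finset.sum_congr rfl (fun i _ => ?_)
    rw [TensorProduct.add_tmul]

lemma exists_specialization {n : ℕ} (e : Fin n → B) (he : Submodule.span A (Set.range e) = ⊤)
    {R : Type u} [CommSemiring R] [Algebra A R] (x w : R ⊗[A] B) :
    ∃ ψ : GenRing A n →ₐ[A] R,
      Algebra.TensorProduct.map ψ (AlgHom.id A B) (xGen e) = x ∧
      Algebra.TensorProduct.map ψ (AlgHom.id A B) (wGen e) = w := by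
  obtain ⟨r, rfl⟩ := exists_coeffs e he x
  obtain ⟨s, rfl⟩ := exists_coeffs e he w
  refine ⟨MvPolynomial.aeval (Sum.elim r s), ?_, ?_⟩
  · simp [xGen]
  · simp [wGen]

/-- One-equation criterion for membership in the kernel. -/
lemma mem_ker_iff_gen (F : B →ₚₗ[A] K) {n : ℕ} (e : Fin n → B)
    (he : Submodule.span A (Set.range e) = ⊤) (b : B) :
    b ∈ PolLaw.ker F ↔
      F.toFun' (GenRing A n) (xGen e + wGen e * (1 ⊗ₜ[A] b)) = F.toFun' (GenRing A n) (xGen e) := by
  constructor
  · intro h
    exact h _ _ _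
  · intro h R _ _ x w
    obtain ⟨ψ, rfl, rfl⟩ := exists_specialization e he x w
    have h1 : Algebra.TensorProduct.map ψ (AlgHom.id A B) (xGen e) +
        Algebra.TensorProduct.map ψ (AlgHom.id A B) (wGen e) * (1 ⊗ₜ[A] b) =
        Algebra.TensorProduct.map ψ (AlgHom.id A B) (xGen e + wGen e * (1 ⊗ₜ[A] b)) := by
      rw [map_add, map_mul]
      simp
    rw [h1, ← compat, ← compat, h]

/-- One-equation criterion for membership in the kernel of a base change. -/
lemma mem_kerBC_iff_gen (F : B →ₚₗ[A] K) {n : ℕ} (e : Fin n → B)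
    (he : Submodule.span A (Set.range e) = ⊤) (A' : Type u) [CommRing A'] [Algebra A A']
    (c : A' ⊗[A] B) :
    c ∈ PolLaw.kerBC F A' ↔
      F.toFun' (A' ⊗[A] GenRing A n)
        (Algebra.TensorProduct.map
            (Algebra.TensorProduct.includeRight : GenRing A n →ₐ[A] A' ⊗[A] GenRing A n)
            (AlgHom.id A B) (xGen e) +
          Algebra.TensorProduct.map
            (Algebra.TensorProduct.includeRight : GenRing A n →ₐ[A] A' ⊗[A] GenRing A n)
            (AlgHom.id A B) (wGen e) *
          Algebra.TensorProduct.map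
            (Algebra.TensorProduct.includeLeft : A' →ₐ[A] A' ⊗[A] GenRing A n)
            (AlgHom.id A B) c) =
      F.toFun' (A' ⊗[A] GenRing A n)
        (Algebra.TensorProduct.map
            (Algebra.TensorProduct.includeRight : GenRing A n →ₐ[A] A' ⊗[A] GenRing A n)
            (AlgHom.id A B) (xGen e)) := by
  rw [mem_kerBC_iff]
  constructor
  · intro h
    exact h _ _ _ _
  · intro h R _ _ φ x w
    obtain ⟨ψ, rfl, rfl⟩ := exists_specialization e he x w
    let Ψ : A' ⊗[A] GenRing A n →ₐ[A] R := Algebra.TensorProduct.productMap φ ψ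
    have hΨr : Ψ.comp (Algebra.TensorProduct.includeRight :
        GenRing A n →ₐ[A] A' ⊗[A] GenRing A n) = ψ := by
      ext z
      simp [Ψ]
    have hΨl : Ψ.comp (Algebra.TensorProduct.includeLeft :
        A' →ₐ[A] A' ⊗[A] GenRing A n) = φ := by
      ext z
      simp [Ψ]
    have := congrArg (Algebra.TensorProduct.map Ψ (AlgHom.id A K)) h
    rw [compat, compat, map_add, map_mul, map_map, map_map, map_map, hΨr, hΨl] at this
    exact this

end Groth.Agent.H68.PL
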