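import Mathlib

/-!
# Multiplicative polynomials over a ring with connected spectrum are monomials

If `P : A[X]` satisfies `P(XY) = P(X) P(Y)` in `A[X][Y]` and `P(1) = 1`, and `Spec A` is connected,
then `P = X ^ k` for some `k`.
-/

namespace Groth.Agent.H68

open Polynomial

/-- An idempotent of a ring with connected spectrum is `0` or `1`. -/
lemma eq_zero_or_one_of_isIdempotentElem {A : Type*} [CommRing A]
    [ConnectedSpace (PrimeSpectrum A)] {e : A} (he : IsIdempotentElem e) : e = 0 ∨ e = 1 := by
  have hmul : e * (1 - e) = 0 := by rw [mul_sub, mul_one, he.eq, sub_self]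
  have hadd : e + (1 - e) = 1 := by ring
  have hclopen := PrimeSpectrum.isClopen_basicOpen_of_mul_add e (1 - e) hmul hadd
  rcases isClopen_iff.mp hclopen with h | h
  · left
    apply PrimeSpectrum.basicOpen_injOn_isIdempotentElem he IsIdempotentElem.zero
    apply TopologicalSpace.Opens.ext
    rw [h]
    simp
  · right
    apply PrimeSpectrum.basicOpen_injOn_isIdempotentElem he IsIdempotentElem.one
    apply TopologicalSpace.Opens.ext
    rw [h]
    simp

lemma coeff_aeval_C_X_mul_X {A : Type*} [CommRing A] (P : A[X]) (j : ℕ) :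
    (Polynomial.aeval ((C (X : A[X]) : A[X][X]) * X) P).coeff j = C (P.coeff j) * X ^ j := by
  rw [Polynomial.aeval_def, Polynomial.eval₂_eq_sum_range, Polynomial.finsetSum_coeff]
  have : ∀ i, ((algebraMap A A[X][X]) (P.coeff i) * ((C (X : A[X]) : A[X][X]) * X) ^ i).coeff j =
      if j = i then C (P.coeff i) * X ^ i else 0 := by
    intro i
    rw [mul_pow, ← mul_assoc, show (algebraMap A A[X][X]) (P.coeff i) = C (C (P.coeff i)) from rfl,
      ← C_pow, ← C_mul, Polynomial.coeff_C_mul_X_pow]
  simp only [this]
  rw [Finset.sum_ite_eq]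
  split_ifs with h
  · rfl
  · rw [Finset.mem_range, not_lt] at h
    have : P.coeff j = 0 := Polynomial.coeff_eq_zero_of_natDegree_lt (by omega)
    rw [this, map_zero, zero_mul]

/-- Multiplicative polynomials over a ring with connected spectrum are monomials. -/
lemma eq_X_pow_of_multiplicative {A : Type*} [CommRing A] [ConnectedSpace (PrimeSpectrum A)]
    (P : A[X]) (h1 : P.eval 1 = 1)
    (hmul : Polynomial.aeval ((C (X : A[X]) : A[X][X]) * X) P =
      Polynomial.aeval (C (X : A[X]) : A[X][X]) P * Polynomial.aeval (X : A[X][X]) P) :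
    ∃ k : ℕ, P = X ^ k := by
  have hnt : Nontrivial A := by
    obtain ⟨p⟩ := (inferInstance : Nonempty (PrimeSpectrum A))
    exact ⟨0, 1, fun h => p.2.ne_top ((Ideal.eq_top_iff_one _).mpr (h ▸ p.asIdeal.zero_mem))⟩
  -- orthogonality
  have horth : ∀ i j, P.coeff j * P.coeff i = if i = j then P.coeff j else 0 := by
    intro i j
    have h2 : Polynomial.aeval (C (X : A[X]) : A[X][X]) P = C P := by
      have := Polynomial.aeval_algHom_apply (Polynomial.CAlgHom (R := A) (A := A[X])) (X : A[X]) P
      rw [Polynomial.aeval_X_left_apply] at this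
      simpa using this
    have h3 : Polynomial.aeval (X : A[X][X]) P = P.map C := by
      rw [Polynomial.aeval_X_left_eq_map]
      rfl
    have h4 := congrArg (fun Q => (Polynomial.coeff Q j).coeff i) hmul
    simp only [coeff_aeval_C_X_mul_X, h2, h3, Polynomial.coeff_C_mul, Polynomial.coeff_map,
      Polynomial.coeff_X_pow, Polynomial.coeff_mul_C] at h4
    rw [mul_comm, ← h4]
    simp
  have hidem : ∀ i, IsIdempotentElem (P.coeff i) := by
    intro i
    have := horth i i
    rwa [if_pos rfl] at this
  have h01 : ∀ i, P.coeff i = 0 ∨ P.coeff i = 1 :=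
    fun i => eq_zero_or_one_of_isIdempotentElem (hidem i)
  have hex : ∃ k, P.coeff k = 1 := by
    by_contra hcon
    simp only [not_exists] at hcon
    have hz : P = 0 := by
      ext i
      rcases h01 i with h | h
      · simpa using h
      · exact absurd h (hcon i)
    rw [hz, eval_zero] at h1
    exact zero_ne_one h1
  obtain ⟨k, hk⟩ := hex
  refine ⟨k, ?_⟩
  ext i
  rw [Polynomial.coeff_X_pow]
  split_ifs with h
  · rw [h, hk]
  · have := horth i k
    rw [if_neg h, hk, one_mul] at this
    exact this

end Groth.Agent.H68
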