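import Mathlib

/-!
# A polynomial whose product with its reflection is a constant square

If `D` is a reduced commutative ring and `P : D[X]` satisfies `P * P(-X) = C (c * c)` with `P(0) = c`, then
`P = C c`.
-/

namespace Groth.Agent.H68

open Polynomial

lemma comp_neg_X_comp_neg_X {D : Type*} [CommRing D] (P : D[X]) :
    (P.comp (-X)).comp (-X) = P := by
  rw [Polynomial.comp_assoc]
  simp

/-- Domain case. -/
lemma eq_C_of_mul_comp_neg_X_of_isDomain {D : Type*} [CommRing D] [IsDomain D] (P : D[X]) (c : D)
    (h : P * P.comp (-X) = C (c * c)) (h0 : P.coeff 0 = c) : P = C c := by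
  by_cases hc : c = 0
  · subst hc
    rw [mul_zero, map_zero] at h
    rcases mul_eq_zero.mp h with h1 | h1
    · rw [h1, map_zero]
    · have := comp_neg_X_comp_neg_X P
      rw [h1, zero_comp] at this
      rw [← this, map_zero]
  · have hne : C (c * c) ≠ 0 := by
      rw [Ne, C_eq_zero]
      exact mul_ne_zero hc hc
    have hP : P ≠ 0 := fun h1 => hne (by rw [← h, h1, zero_mul])
    have hP' : P.comp (-X) ≠ 0 := fun h1 => hne (by rw [← h, h1, mul_zero])
    have hdeg := congrArg natDegree h
    rw [natDegree_mul hP hP', natDegree_C] at hdeg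
    have hd0 : P.natDegree = 0 := by omega
    rw [eq_C_of_natDegree_eq_zero hd0, h0]

/-- If `D` is reduced and `P * P(-X) = C (c * c)` with `P(0) = c`, then `P = C c`. -/
lemma eq_C_of_mul_comp_neg_X {D : Type*} [CommRing D] [IsReduced D] (P : D[X]) (c : D)
    (h : P * P.comp (-X) = C (c * c)) (h0 : P.coeff 0 = c) : P = C c := by
  ext i
  rw [coeff_C]
  split_ifs with hi
  · rw [hi, h0]
  · apply IsNilpotent.eq_zero
    rw [nilpotent_iff_mem_prime]
    intro J hJ
    have hq : (P.map (Ideal.Quotient.mk J)) = C (Ideal.Quotient.mk J c) := by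
      apply eq_C_of_mul_comp_neg_X_of_isDomain
      · have := congrArg (Polynomial.map (Ideal.Quotient.mk J)) h
        rw [Polynomial.map_mul, Polynomial.map_comp, Polynomial.map_neg, Polynomial.map_X,
          Polynomial.map_C, map_mul] at this
        exact this
      · rw [coeff_map, h0]
    have := congrArg (fun Q => Q.coeff i) hq
    simp only [coeff_map, coeff_C, if_neg hi] at this
    exact Ideal.Quotient.eq_zero_iff_mem.mp this

end Groth.Agent.H68
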