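import Groth.Agent.H68.QuotLocal
import Mathlib

/-!
# The projective spectrum of a ring of invariants is a quotient
-/

set_option autoImplicit false
set_option linter.style.haveILetI false
universe u
open CategoryTheory CategoryTheory.Limits AlgebraicGeometry TopologicalSpace

namespace Groth.Agent.H68.PQ

section Nat

variable {X Y : Scheme.{u}} (h : X ⟶ Y) {U' : Y.Opens} {W' : X.Opens}
  (hU' : IsAffineOpen U') (hW' : IsAffineOpen W') (e : W' ≤ h ⁻¹ᵁ U')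

lemma isoSpec_inv_resLE' :
    hW'.isoSpec.inv ≫ h.resLE U' W' e = Spec.map (h.appLE U' W' e) ≫ hU'.isoSpec.inv := by
  rw [← cancel_mono U'.ι, Category.assoc, Category.assoc, Scheme.Hom.resLE_comp_ι,
    IsAffineOpen.isoSpec_inv_ι, IsAffineOpen.isoSpec_inv_ι_assoc,
    IsAffineOpen.SpecMap_appLE_fromSpec]

include hU' hW' in
lemma resLE_toSpecΓ :
    h.resLE U' W' e ≫ U'.toSpecΓ = W'.toSpecΓ ≫ Spec.map (h.appLE U' W' e) := by
  rw [← hU'.isoSpec_hom, ← hW'.isoSpec_hom, ← cancel_epi hW'.isoSpec.inv, ← Category.assoc,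
    isoSpec_inv_resLE' h hU' hW' e, Category.assoc, Iso.inv_hom_id, Iso.inv_hom_id_assoc,
    Category.comp_id]

end Nat

section CH

variable {A B σ τ : Type u} [CommRing A] [SetLike σ A] [AddSubgroupClass σ A]
  [CommRing B] [SetLike τ B] [AddSubgroupClass τ B]
  (𝒜 : ℕ → σ) (ℬ : ℕ → τ) [GradedRing 𝒜] [GradedRing ℬ]
  (ψ : Proj ℬ ⟶ Proj 𝒜) {m m' : ℕ} {f : A} (hf : f ∈ 𝒜 m) (hm : 0 < m)
  {g : B} (hg : g ∈ ℬ m') (hm' : 0 < m')
  (θ : HomogeneousLocalization.Away 𝒜 f →+* HomogeneousLocalization.Away ℬ g)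
  (hE : Proj.awayι ℬ g hg hm' ≫ ψ = Spec.map (CommRingCat.ofHom θ) ≫ Proj.awayι 𝒜 f hf hm)

include hE in
lemma basicOpen_le_preimage : Proj.basicOpen ℬ g ≤ ψ ⁻¹ᵁ Proj.basicOpen 𝒜 f := by
  rw [← Proj.opensRange_awayι ℬ g hg hm']
  rintro _ ⟨z, rfl⟩
  change ψ.base ((Proj.awayι ℬ g hg hm').base z) ∈ Proj.basicOpen 𝒜 f
  rw [← Scheme.Hom.comp_apply, hE, Scheme.Hom.comp_apply, ← Proj.opensRange_awayι 𝒜 f hf hm]
  exact ⟨_, rfl⟩

lemma awayToSection_comp_appLE :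
    Proj.awayToSection 𝒜 f ≫ ψ.appLE (Proj.basicOpen 𝒜 f) (Proj.basicOpen ℬ g)
        (basicOpen_le_preimage 𝒜 ℬ ψ hf hm hg hm' θ hE) =
      CommRingCat.ofHom θ ≫ Proj.awayToSection ℬ g := by
  have hU := Proj.isAffineOpen_basicOpen 𝒜 f hf hm
  have hW := Proj.isAffineOpen_basicOpen ℬ g hg hm'
  have hle := basicOpen_le_preimage 𝒜 ℬ ψ hf hm hg hm' θ hE
  have h1 : (Proj.basicOpenIsoSpec ℬ g hg hm').inv ≫ ψ.resLE _ _ hle =
      Spec.map (CommRingCat.ofHom θ) ≫ (Proj.basicOpenIsoSpec 𝒜 f hf hm).inv := by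
    rw [← cancel_mono (Proj.basicOpen 𝒜 f).ι, Category.assoc, Category.assoc,
      Scheme.Hom.resLE_comp_ι, Proj.basicOpenIsoSpec_inv_ι, ← Category.assoc,
      Proj.basicOpenIsoSpec_inv_ι, hE]
  have h2 : ψ.resLE _ _ hle ≫ Proj.basicOpenToSpec 𝒜 f =
      Proj.basicOpenToSpec ℬ g ≫ Spec.map (CommRingCat.ofHom θ) := by
    rw [← Proj.basicOpenIsoSpec_hom 𝒜 f hf hm, ← Proj.basicOpenIsoSpec_hom ℬ g hg hm',
      ← Iso.inv_comp_eq, ← Category.assoc, h1, Category.assoc, Iso.inv_hom_id, Category.comp_id]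
  rw [Proj.basicOpenToSpec, Proj.basicOpenToSpec, ← Category.assoc,
    resLE_toSpecΓ ψ hU hW hle, Category.assoc, Category.assoc, ← Spec.map_comp,
    ← Spec.map_comp] at h2
  haveI : IsIso (Proj.basicOpen ℬ g).toSpecΓ := by
    rw [← hW.isoSpec_hom]
    infer_instance
  exact Spec.map_injective ((cancel_epi _).mp h2)

end CH

section Coeff

variable {A σ : Type u} [CommRing A] [SetLike σ A] [AddSubgroupClass σ A]
  (𝒜 : ℕ → σ) [GradedRing 𝒜]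

/-- The coefficients of a product of `X - r i` with the `r i` homogeneous of the same degree are
homogeneous. -/
lemma coeff_prod_X_sub_C_mem {κ : Type*} (s : Finset κ) (r : κ → A) {m : ℕ}
    (hr : ∀ i ∈ s, r i ∈ 𝒜 m) :
    ∀ j k : ℕ, j + k = s.card →
      (∏ i ∈ s, (Polynomial.X - Polynomial.C (r i))).coeff j ∈ 𝒜 (k • m) := by
  classical
  induction s using Finset.induction_on with
  | empty =>
    intro j k hjk
    rw [Finset.card_empty] at hjk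
    obtain ⟨rfl, rfl⟩ : j = 0 ∧ k = 0 := by omega
    rw [Finset.prod_empty, Polynomial.coeff_one_zero, zero_smul]
    exact SetLike.one_mem_graded 𝒜
  | insert a s ha ih =>
    intro j k hjk
    rw [Finset.card_insert_of_notMem ha] at hjk
    have hr' : ∀ i ∈ s, r i ∈ 𝒜 m := fun i hi => hr i (Finset.mem_insert_of_mem hi)
    have hra : r a ∈ 𝒜 m := hr a (Finset.mem_insert_self a s)
    have ih' := ih hr'
    rw [Finset.prod_insert ha, sub_mul, Polynomial.coeff_sub, Polynomial.coeff_C_mul]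
    have hdeg : (∏ i ∈ s, (Polynomial.X - Polynomial.C (r i))).natDegree ≤ s.card := by
      refine (Polynomial.natDegree_prod_le s _).trans ?_
      refine (Finset.sum_le_card_nsmul s _ 1 fun i _ => Polynomial.natDegree_X_sub_C_le _).trans ?_
      simp
    -- the second term
    have h2 : r a * (∏ i ∈ s, (Polynomial.X - Polynomial.C (r i))).coeff j ∈ 𝒜 (k • m) := by
      rcases k with _ | k'
      · rw [Polynomial.coeff_eq_zero_of_natDegree_lt (by omega), mul_zero]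
        exact zero_mem _
      · have h3 := ih' j k' (by omega)
        have h4 := SetLike.mul_mem_graded hra h3
        rwa [show m + k' • m = (k' + 1) • m by rw [succ_nsmul']] at h4
    refine sub_mem ?_ h2
    rcases j with _ | j'
    · rw [Polynomial.coeff_X_mul_zero]
      exact zero_mem _
    · rw [Polynomial.coeff_X_mul]
      exact ih' j' k (by omega)

end Coeff

section Main

variable {R A : Type u} [CommRing R] [CommRing A] [Algebra R A] (𝒜 : ℕ → Submodule R A)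
  [GradedAlgebra 𝒜] {G : Type u} [Group G] [Finite G] [MulSemiringAction G A]
  (hGdeg : ∀ (σ : G) (i : ℕ) (a : A), a ∈ 𝒜 i → σ • a ∈ 𝒜 i)
  {C : Type u} [CommRing C] [Algebra R C] (𝒞 : ℕ → Submodule R C) [GradedAlgebra 𝒞]
  (ι : C →ₐ[R] A) (hι : Function.Injective ι)
  (hιdeg : ∀ (i : ℕ) (a : A), a ∈ (𝒞 i).map ι.toLinearMap ↔ (a ∈ 𝒜 i ∧ ∀ σ : G, σ • a = a))

omit [GradedAlgebra 𝒜] [Finite G] [GradedAlgebra 𝒞] in
include hιdeg in
lemma ι_mem {i : ℕ} {c : C} (hc : c ∈ 𝒞 i) : ι c ∈ 𝒜 i :=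
  ((hιdeg i (ι c)).mp ⟨c, hc, rfl⟩).1

omit [GradedAlgebra 𝒜] [Finite G] [GradedAlgebra 𝒞] in
include hιdeg in
lemma smul_ι {i : ℕ} {c : C} (hc : c ∈ 𝒞 i) (σ : G) : σ • ι c = ι c :=
  ((hιdeg i (ι c)).mp ⟨c, hc, rfl⟩).2 σ

/-- The inclusion of the invariants as a graded ring homomorphism. -/
def ιg : 𝒞 →+*ᵍ 𝒜 where
  toRingHom := ι.toRingHom
  map_mem := fun hx => ι_mem 𝒜 𝒞 ι hιdeg hx

/-- The action of a group element as a graded ring homomorphism. -/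
def σg (σ : G) : 𝒜 →+*ᵍ 𝒜 where
  toRingHom := MulSemiringAction.toRingHom G A σ
  map_mem := fun hx => hGdeg σ _ _ hx

include hGdeg hιdeg in
/-- Every point of `Proj 𝒜` lies in `D₊(ι c)` for some invariant `c` of positive degree. -/
lemma exists_invariant_basicOpen (x : Proj 𝒜) :
    ∃ (n : ℕ) (_ : 0 < n) (c : C) (_ : c ∈ 𝒞 n), x ∈ Proj.basicOpen 𝒜 (ι c) := by
  classical
  cases nonempty_fintype G
  obtain ⟨m, hm, a, ha, hax⟩ : ∃ m, 0 < m ∧ ∃ a ∈ 𝒜 m, a ∉ x.asHomogeneousIdeal := by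
    by_contra h
    push Not at h
    exact x.not_irrelevant_le ((HomogeneousIdeal.irrelevant_le 𝒜).mpr fun i hi a ha => h i hi a ha)
  haveI : Nontrivial A := ⟨⟨1, 0, fun h => x.isPrime.ne_top
    ((Ideal.eq_top_iff_one _).mpr (h ▸ zero_mem _))⟩⟩
  set P := MulSemiringAction.charpoly G a with hP
  set N := Fintype.card G with hN
  have hdeg : P.natDegree = N := by
    rw [hP, MulSemiringAction.charpoly_eq, Polynomial.natDegree_finsetProd_X_sub_C_eq_card]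
    rfl
  have hcoeffN : P.coeff N = 1 := by
    rw [← hdeg]
    exact (MulSemiringAction.monic_charpoly G a).coeff_natDegree
  have hmem : ∀ j k : ℕ, j + k = N → P.coeff j ∈ 𝒜 (k • m) := by
    intro j k hjk
    rw [hP, MulSemiringAction.charpoly_eq]
    exact coeff_prod_X_sub_C_mem 𝒜 Finset.univ (fun σ : G => σ • a)
      (fun σ _ => hGdeg σ m a ha) j k (by rw [hjk]; rfl)
  obtain ⟨j, hjN, hj⟩ : ∃ j, j < N ∧ P.coeff j ∉ x.asHomogeneousIdeal := by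
    by_contra h
    push Not at h
    apply hax
    have h0 := MulSemiringAction.eval_charpoly G a
    rw [← hP, Polynomial.eval_eq_sum_range' (n := N + 1) (by omega), Finset.sum_range_succ,
      hcoeffN, one_mul] at h0
    have h1 : a ^ N ∈ x.asHomogeneousIdeal.toIdeal := by
      rw [eq_neg_of_add_eq_zero_right h0]
      refine neg_mem (Ideal.sum_mem _ fun i hi => ?_)
      exact Ideal.mul_mem_right _ _ (h i (Finset.mem_range.mp hi))
    exact x.isPrime.mem_of_pow_mem N h1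
  have hinvj : ∀ σ : G, σ • P.coeff j = P.coeff j :=
    fun σ => MulSemiringAction.smul_coeff_charpoly a j σ
  obtain ⟨c, hc, hcj⟩ := (hιdeg ((N - j) • m) (P.coeff j)).mpr
    ⟨hmem j (N - j) (by omega), hinvj⟩
  refine ⟨(N - j) • m, ?_, c, hc, ?_⟩
  · exact Nat.mul_pos (by omega) hm
  · rw [Proj.mem_basicOpen]
    change ι c ∉ _
    have : ι c = P.coeff j := hcj
    rw [this]
    exact hj

end Main

section Compat

variable {A B σ τ : Type u} [CommRing A] [SetLike σ A] [AddSubgroupClass σ A]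
  [CommRing B] [SetLike τ B] [AddSubgroupClass τ B]
  {𝒜 : ℕ → σ} {ℬ : ℕ → τ} [GradedRing 𝒜] [GradedRing ℬ]

/-- `Away.map` is compatible with the map on the full localisations. -/
lemma algebraMap_comp_awayMap (φ : 𝒜 →+*ᵍ ℬ) {n : ℕ} {f : A} (hf : f ∈ 𝒜 n) :
    (algebraMap (HomogeneousLocalization.Away ℬ (φ f)) (Localization.Away (φ f))).comp
        (HomogeneousLocalization.Away.map φ f) =
      (Localization.awayMap φ.toRingHom f).comp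
        (algebraMap (HomogeneousLocalization.Away 𝒜 f) (Localization.Away f)) := by
  ext x
  obtain ⟨k, y, hy, rfl⟩ := HomogeneousLocalization.Away.mk_surjective 𝒜 hf x
  simp only [RingHom.comp_apply, HomogeneousLocalization.Away.map_mk,
    HomogeneousLocalization.algebraMap_apply, HomogeneousLocalization.Away.val_mk]
  rw [Localization.awayMap, IsLocalization.Away.map, Localization.mk_eq_mk',
    Localization.mk_eq_mk', IsLocalization.map_mk']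
  congr 1
  ext
  simp

end Compat

section Main2

variable {R A : Type u} [CommRing R] [CommRing A] [Algebra R A] (𝒜 : ℕ → Submodule R A)
  [GradedAlgebra 𝒜] {G : Type u} [Group G] [Finite G] [MulSemiringAction G A]
  (hGdeg : ∀ (σ : G) (i : ℕ) (a : A), a ∈ 𝒜 i → σ • a ∈ 𝒜 i)
  {C : Type u} [CommRing C] [Algebra R C] (𝒞 : ℕ → Submodule R C) [GradedAlgebra 𝒞]
  (ι : C →ₐ[R] A) (hι : Function.Injective ι)
  (hιdeg : ∀ (i : ℕ) (a : A), a ∈ (𝒞 i).map ι.toLinearMap ↔ (a ∈ 𝒜 i ∧ ∀ σ : G, σ • a = a))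
  (ρ : G →* Aut (Proj 𝒜))
  (hρ : ∀ (σ : G) (n : ℕ) (f : A) (hn : 0 < n) (hf : f ∈ 𝒜 n)
    (θ : CommRingCat.of (HomogeneousLocalization.Away 𝒜 f) ⟶
      CommRingCat.of (HomogeneousLocalization.Away 𝒜 (σ • f))),
    (algebraMap (HomogeneousLocalization.Away 𝒜 (σ • f)) (Localization.Away (σ • f))).comp θ.hom =
      (Localization.awayMap (MulSemiringAction.toRingHom G A σ) f).comp
        (algebraMap (HomogeneousLocalization.Away 𝒜 f) (Localization.Away f)) →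
    Proj.awayι 𝒜 (σ • f) (hGdeg σ n f hf) hn ≫ (ρ σ).inv = Spec.map θ ≫ Proj.awayι 𝒜 f hf hn)
  (π : Proj 𝒜 ⟶ Proj 𝒞)
  (hπ : ∀ (n : ℕ) (c : C) (hn : 0 < n) (hc : c ∈ 𝒞 n)
    (θ : CommRingCat.of (HomogeneousLocalization.Away 𝒞 c) ⟶
      CommRingCat.of (HomogeneousLocalization.Away 𝒜 (ι c))),
    (algebraMap (HomogeneousLocalization.Away 𝒜 (ι c)) (Localization.Away (ι c))).comp θ.hom =
      (Localization.awayMap ι.toRingHom c).comp
        (algebraMap (HomogeneousLocalization.Away 𝒞 c) (Localization.Away c)) →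
    Proj.awayι 𝒜 (ι c) ((hιdeg n (ι c)).mp (Submodule.mem_map_of_mem hc)).1 hn ≫ π =
      Spec.map θ ≫ Proj.awayι 𝒞 c hc hn)

/-- The chart map of `π`. -/
def thetaC (c : C) :
    HomogeneousLocalization.Away 𝒞 c →+* HomogeneousLocalization.Away 𝒜 (ι c) :=
  HomogeneousLocalization.Away.map (ιg 𝒜 𝒞 ι hιdeg) c

lemma thetaC_mk {n : ℕ} {c : C} (hc : c ∈ 𝒞 n) (k : ℕ) (y : C) (hy : y ∈ 𝒞 (k • n)) :
    thetaC 𝒜 𝒞 ι hιdeg c (HomogeneousLocalization.Away.mk 𝒞 hc k y hy) =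
      HomogeneousLocalization.Away.mk 𝒜 (ι_mem 𝒜 𝒞 ι hιdeg hc) k (ι y)
        (ι_mem 𝒜 𝒞 ι hιdeg hy) :=
  HomogeneousLocalization.Away.map_mk (ιg 𝒜 𝒞 ι hιdeg) c hc k y hy

/-- The chart map of `ρ σ`. -/
def thetaS (σ : G) (f : A) :
    HomogeneousLocalization.Away 𝒜 f →+* HomogeneousLocalization.Away 𝒜 (σ • f) :=
  HomogeneousLocalization.Away.map (σg 𝒜 hGdeg σ) f

lemma thetaS_mk (σ : G) {n : ℕ} {f : A} (hf : f ∈ 𝒜 n) (k : ℕ) (y : A) (hy : y ∈ 𝒜 (k • n)) :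
    thetaS 𝒜 hGdeg σ f (HomogeneousLocalization.Away.mk 𝒜 hf k y hy) =
      HomogeneousLocalization.Away.mk 𝒜 (hGdeg σ n f hf) k (σ • y) (hGdeg σ _ y hy) :=
  HomogeneousLocalization.Away.map_mk (σg 𝒜 hGdeg σ) f hf k y hy

include hπ in
/-- The chart equation for `π`. -/
lemma awayι_π {n : ℕ} (hn : 0 < n) {c : C} (hc : c ∈ 𝒞 n) :
    Proj.awayι 𝒜 (ι c) (ι_mem 𝒜 𝒞 ι hιdeg hc) hn ≫ π =
      Spec.map (CommRingCat.ofHom (thetaC 𝒜 𝒞 ι hιdeg c)) ≫ Proj.awayι 𝒞 c hc hn :=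
  hπ n c hn hc (CommRingCat.ofHom (thetaC 𝒜 𝒞 ι hιdeg c))
    (algebraMap_comp_awayMap (ιg 𝒜 𝒞 ι hιdeg) hc)

include hρ in
/-- The chart equation for `ρ`. -/
lemma awayι_ρ (σ : G) {n : ℕ} (hn : 0 < n) {f : A} (hf : f ∈ 𝒜 n) :
    Proj.awayι 𝒜 (σ • f) (hGdeg σ n f hf) hn ≫ (ρ σ).inv =
      Spec.map (CommRingCat.ofHom (thetaS 𝒜 hGdeg σ f)) ≫ Proj.awayι 𝒜 f hf hn :=
  hρ σ n f hn hf (CommRingCat.ofHom (thetaS 𝒜 hGdeg σ f))
    (algebraMap_comp_awayMap (σg 𝒜 hGdeg σ) hf)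

include hGdeg hπ in
/-- The preimage of `D₊(c)` is `D₊(ι c)`. -/
lemma preimage_basicOpen {n : ℕ} (hn : 0 < n) {c : C} (hc : c ∈ 𝒞 n) :
    π ⁻¹ᵁ Proj.basicOpen 𝒞 c = Proj.basicOpen 𝒜 (ι c) := by
  apply le_antisymm
  · intro x hx
    obtain ⟨n', hn', c', hc', hx'⟩ := exists_invariant_basicOpen 𝒜 hGdeg 𝒞 ι hιdeg x
    rw [← Proj.opensRange_awayι 𝒜 (ι c') (ι_mem 𝒜 𝒞 ι hιdeg hc') hn'] at hx'
    obtain ⟨z, rfl⟩ := hx'
    have e := awayι_π 𝒜 𝒞 ι hιdeg π hπ hn' hc'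
    have h0 : (Spec.map (CommRingCat.ofHom (thetaC 𝒜 𝒞 ι hιdeg c')) ≫
        Proj.awayι 𝒞 c' hc' hn').base z ∈ Proj.basicOpen 𝒞 c := by
      rw [← e]
      exact hx
    have h1 : (Spec.map (CommRingCat.ofHom (thetaC 𝒜 𝒞 ι hιdeg c'))).base z ∈
        (Proj.awayι 𝒞 c' hc' hn') ⁻¹ᵁ Proj.basicOpen 𝒞 c := h0
    rw [Proj.awayι_preimage_basicOpen 𝒞 hc' hn' hc hn] at h1
    have h2 : z ∈ PrimeSpectrum.basicOpen (thetaC 𝒜 𝒞 ι hιdeg c'
        (HomogeneousLocalization.Away.isLocalizationElem hc' hc)) := h1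
    rw [thetaC_mk] at h2
    have h3 : z ∈ (Proj.awayι 𝒜 (ι c') (ι_mem 𝒜 𝒞 ι hιdeg hc') hn') ⁻¹ᵁ
        Proj.basicOpen 𝒜 (ι c) := by
      rw [Proj.awayι_preimage_basicOpen 𝒜 (ι_mem 𝒜 𝒞 ι hιdeg hc') hn' (ι_mem 𝒜 𝒞 ι hιdeg hc) hn]
      convert h2 using 2
      apply HomogeneousLocalization.val_injective
      rw [HomogeneousLocalization.Away.val_mk, HomogeneousLocalization.Away.val_mk, map_pow]
    exact h3
  · exact basicOpen_le_preimage 𝒞 𝒜 π hc hn (ι_mem 𝒜 𝒞 ι hιdeg hc) hn _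
      (awayι_π 𝒜 𝒞 ι hιdeg π hπ hn hc)

include hι in
/-- The chart map of `π` is injective. -/
lemma thetaC_injective {n : ℕ} {c : C} (hc : c ∈ 𝒞 n) :
    Function.Injective (thetaC 𝒜 𝒞 ι hιdeg c) := by
  rw [injective_iff_map_eq_zero]
  intro x hx
  obtain ⟨k, y, hy, rfl⟩ := HomogeneousLocalization.Away.mk_surjective 𝒞 hc x
  rw [thetaC_mk] at hx
  have h1 := congrArg HomogeneousLocalization.val hx
  rw [HomogeneousLocalization.Away.val_mk, HomogeneousLocalization.val_zero,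
    Localization.mk_eq_mk', IsLocalization.mk'_eq_zero_iff] at h1
  obtain ⟨⟨_, N, rfl⟩, hN⟩ := h1
  apply HomogeneousLocalization.val_injective
  rw [HomogeneousLocalization.Away.val_mk, HomogeneousLocalization.val_zero,
    Localization.mk_eq_mk', IsLocalization.mk'_eq_zero_iff]
  refine ⟨⟨c ^ N, N, rfl⟩, ?_⟩
  apply hι
  simpa using hN

include hιdeg in
/-- An element of the degree zero localisation fixed by the group comes from the invariants. -/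
lemma exists_thetaC_eq {n : ℕ} {c : C} (hc : c ∈ 𝒞 n)
    (y : HomogeneousLocalization.Away 𝒜 (ι c))
    (hy : ∀ (σ : G) (θ : HomogeneousLocalization.Away 𝒜 (ι c) →+*
        HomogeneousLocalization.Away 𝒜 (ι c)),
      (∀ (k : ℕ) (a : A) (ha : a ∈ 𝒜 (k • n)),
        θ (HomogeneousLocalization.Away.mk 𝒜 (ι_mem 𝒜 𝒞 ι hιdeg hc) k a ha) =
          HomogeneousLocalization.Away.mk 𝒜 (ι_mem 𝒜 𝒞 ι hιdeg hc) k (σ • a)
            (hGdeg σ _ a ha)) → θ y = y)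
    (hθ : ∀ σ : G, ∃ θ : HomogeneousLocalization.Away 𝒜 (ι c) →+*
        HomogeneousLocalization.Away 𝒜 (ι c),
      ∀ (k : ℕ) (a : A) (ha : a ∈ 𝒜 (k • n)),
        θ (HomogeneousLocalization.Away.mk 𝒜 (ι_mem 𝒜 𝒞 ι hιdeg hc) k a ha) =
          HomogeneousLocalization.Away.mk 𝒜 (ι_mem 𝒜 𝒞 ι hιdeg hc) k (σ • a)
            (hGdeg σ _ a ha)) :
    ∃ y' : HomogeneousLocalization.Away 𝒞 c, thetaC 𝒜 𝒞 ι hιdeg c y' = y := by
  classical
  cases nonempty_fintype G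
  have hf := ι_mem 𝒜 𝒞 ι hιdeg hc
  obtain ⟨k, a, ha, rfl⟩ := HomogeneousLocalization.Away.mk_surjective 𝒜 hf y
  -- a uniform exponent
  have hN : ∀ σ : G, ∃ N : ℕ, ι c ^ N * (σ • a) = ι c ^ N * a := by
    intro σ
    obtain ⟨θ, hθσ⟩ := hθ σ
    have h1 := hy σ θ hθσ
    rw [hθσ] at h1
    have h2 := congrArg HomogeneousLocalization.val h1
    rw [HomogeneousLocalization.Away.val_mk, HomogeneousLocalization.Away.val_mk,
      Localization.mk_eq_mk_iff, Localization.r_iff_exists] at h2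
    obtain ⟨⟨_, N, rfl⟩, hN⟩ := h2
    refine ⟨N + k, ?_⟩
    simp only at hN
    rw [pow_add, mul_assoc, mul_assoc]
    exact hN.symm ▸ rfl
  choose Nf hNf using hN
  obtain ⟨N, hNle⟩ : ∃ N, ∀ σ, Nf σ ≤ N := ⟨Finset.univ.sup Nf, fun σ => Finset.le_sup (Finset.mem_univ σ)⟩
  have hN' : ∀ σ : G, ι c ^ N * (σ • a) = ι c ^ N * a := by
    intro σ
    obtain ⟨d, hd⟩ := Nat.exists_eq_add_of_le (hNle σ)
    rw [hd, add_comm, pow_add, mul_assoc, mul_assoc, hNf σ]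
  have hbinv : ∀ σ : G, σ • (ι c ^ N * a) = ι c ^ N * a := by
    intro σ
    rw [smul_mul', smul_pow', smul_ι 𝒜 𝒞 ι hιdeg hc σ, hN' σ]
  have hbmem : ι c ^ N * a ∈ 𝒜 ((N + k) • n) := by
    rw [add_smul]
    exact SetLike.mul_mem_graded (SetLike.pow_mem_graded N hf) ha
  obtain ⟨c'', hc'', hcb⟩ := (hιdeg ((N + k) • n) (ι c ^ N * a)).mpr ⟨hbmem, hbinv⟩
  refine ⟨HomogeneousLocalization.Away.mk 𝒞 hc (N + k) c'' hc'', ?_⟩
  rw [thetaC_mk]
  apply HomogeneousLocalization.val_injective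
  rw [HomogeneousLocalization.Away.val_mk, HomogeneousLocalization.Away.val_mk,
    Localization.mk_eq_mk_iff, Localization.r_iff_exists]
  refine ⟨1, ?_⟩
  have : ι c'' = ι c ^ N * a := hcb
  simp only [this, OneMemClass.coe_one, one_mul]
  ring

omit [Finite G] in
/-- Every point of `Proj` lies in `D₊(c)` for some homogeneous `c` of positive degree. -/
lemma exists_pos_basicOpen (y : Proj 𝒞) :
    ∃ (n : ℕ) (_ : 0 < n) (c : C) (_ : c ∈ 𝒞 n), y ∈ Proj.basicOpen 𝒞 c := by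
  by_contra h
  push Not at h
  refine y.not_irrelevant_le ((HomogeneousIdeal.irrelevant_le 𝒞).mpr fun i hi a ha => ?_)
  by_contra hay
  exact h i hi a ha hay

include hGdeg hπ in
theorem isAffineHom_π : IsAffineHom π := by
  apply isAffineHom_of_forall_exists_isAffineOpen
  intro y
  obtain ⟨n, hn, c, hc, hy⟩ := exists_pos_basicOpen 𝒞 y
  refine ⟨Proj.basicOpen 𝒞 c, hy, Proj.isAffineOpen_basicOpen 𝒞 c hc hn, ?_⟩
  rw [preimage_basicOpen 𝒜 hGdeg 𝒞 ι hιdeg π hπ hn hc]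
  exact Proj.isAffineOpen_basicOpen 𝒜 (ι c) (ι_mem 𝒜 𝒞 ι hιdeg hc) hn

include hρ in
/-- The chart equation for `ρ` on an open `D₊(f')` with `f' = σ • f`. -/
lemma awayι_ρ' (σ : G) {n : ℕ} (hn : 0 < n) {f f' : A} (hf : f ∈ 𝒜 n) (hf' : f' ∈ 𝒜 n)
    (e : σ • f = f') :
    ∃ θ : HomogeneousLocalization.Away 𝒜 f →+* HomogeneousLocalization.Away 𝒜 f',
      (∀ (k : ℕ) (a : A) (ha : a ∈ 𝒜 (k • n)),
        θ (HomogeneousLocalization.Away.mk 𝒜 hf k a ha) =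
          HomogeneousLocalization.Away.mk 𝒜 hf' k (σ • a) (hGdeg σ _ a ha)) ∧
      Proj.awayι 𝒜 f' hf' hn ≫ (ρ σ).inv =
        Spec.map (CommRingCat.ofHom θ) ≫ Proj.awayι 𝒜 f hf hn := by
  subst e
  exact ⟨thetaS 𝒜 hGdeg σ f, fun k a ha => thetaS_mk 𝒜 hGdeg σ hf k a ha,
    awayι_ρ 𝒜 hGdeg ρ hρ σ hn hf⟩

include hρ hπ in
/-- `π` is invariant. -/
theorem inv_π (σ : G) : (ρ σ).hom ≫ π = π := by
  have key : (ρ σ).inv ≫ π = π := by
    apply Scheme.hom_ext_of_forall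
    intro x
    obtain ⟨n, hn, c, hc, hx⟩ := exists_invariant_basicOpen 𝒜 hGdeg 𝒞 ι hιdeg x
    refine ⟨Proj.basicOpen 𝒜 (ι c), hx, ?_⟩
    have hf := ι_mem 𝒜 𝒞 ι hιdeg hc
    obtain ⟨θ, hθ, hθe⟩ := awayι_ρ' 𝒜 hGdeg ρ hρ σ hn hf hf (smul_ι 𝒜 𝒞 ι hιdeg hc σ)
    have h1 : Proj.awayι 𝒜 (ι c) hf hn ≫ (ρ σ).inv ≫ π = Proj.awayι 𝒜 (ι c) hf hn ≫ π := by
      rw [← Category.assoc, hθe, Category.assoc, awayι_π 𝒜 𝒞 ι hιdeg π hπ hn hc,
        ← Category.assoc, ← Spec.map_comp]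
      congr 2
      ext y
      obtain ⟨k, a, ha, rfl⟩ := HomogeneousLocalization.Away.mk_surjective 𝒞 hc y
      simp only [CommRingCat.hom_comp, CommRingCat.hom_ofHom, RingHom.comp_apply]
      rw [thetaC_mk, hθ]
      rw [HomogeneousLocalization.Away.val_mk, HomogeneousLocalization.Away.val_mk,
        smul_ι 𝒜 𝒞 ι hιdeg ha σ]
    rw [← Proj.basicOpenIsoSpec_inv_ι 𝒜 (ι c) hf hn, Category.assoc, Category.assoc] at h1
    exact (cancel_epi _).mp h1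
  calc (ρ σ).hom ≫ π = (ρ σ).hom ≫ (ρ σ).inv ≫ π := by rw [key]
    _ = π := by rw [Iso.hom_inv_id_assoc]

omit [GradedAlgebra 𝒜] [Finite G] [MulSemiringAction G A] [Algebra R A] [CommRing R] in
lemma appLE_congr_hom' {X Y : Scheme.{u}} {U' : Y.Opens} {W' : X.Opens} {h₁ h₂ : X ⟶ Y}
    (e12 : h₁ = h₂) (e₁ : W' ≤ h₁ ⁻¹ᵁ U') :
    h₁.appLE U' W' e₁ = h₂.appLE U' W' (e12 ▸ e₁) := by
  subst e12
  rfl

include hι hρ hπ in
/-- The quotient property over the chart `D₊(c)`. -/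
theorem chart_quot {n : ℕ} (hn : 0 < n) {c : C} (hc : c ∈ 𝒞 n)
    (hle : Proj.basicOpen 𝒜 (ι c) ≤ π ⁻¹ᵁ Proj.basicOpen 𝒞 c) :
    Function.Injective (π.appLE (Proj.basicOpen 𝒞 c) (Proj.basicOpen 𝒜 (ι c)) hle).hom ∧
    ∀ (hst : ∀ σ : G, Proj.basicOpen 𝒜 (ι c) ≤ (ρ σ).hom ⁻¹ᵁ Proj.basicOpen 𝒜 (ι c))
      (s : Γ(Proj 𝒜, Proj.basicOpen 𝒜 (ι c))),
      (∀ σ : G, ((ρ σ).hom.appLE (Proj.basicOpen 𝒜 (ι c)) (Proj.basicOpen 𝒜 (ι c))
        (hst σ)).hom s = s) →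
      s ∈ Set.range (π.appLE (Proj.basicOpen 𝒞 c) (Proj.basicOpen 𝒜 (ι c)) hle).hom := by
  have hf := ι_mem 𝒜 𝒞 ι hιdeg hc
  have hC : Proj.awayToSection 𝒞 c ≫ π.appLE (Proj.basicOpen 𝒞 c) (Proj.basicOpen 𝒜 (ι c)) hle =
      CommRingCat.ofHom (thetaC 𝒜 𝒞 ι hιdeg c) ≫ Proj.awayToSection 𝒜 (ι c) :=
    awayToSection_comp_appLE 𝒞 𝒜 π hc hn hf hn _ (awayι_π 𝒜 𝒞 ι hιdeg π hπ hn hc)
  have hC' : ∀ y, (π.appLE (Proj.basicOpen 𝒞 c) (Proj.basicOpen 𝒜 (ι c)) hle).hom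
      ((Proj.awayToSection 𝒞 c).hom y) =
      (Proj.awayToSection 𝒜 (ι c)).hom (thetaC 𝒜 𝒞 ι hιdeg c y) := fun y =>
    congrArg (fun φ : CommRingCat.of (HomogeneousLocalization.Away 𝒞 c) ⟶
      Γ(Proj 𝒜, Proj.basicOpen 𝒜 (ι c)) => φ.hom y) hC
  haveI : IsIso (Proj.awayToSection 𝒞 c) := by
    rw [← Proj.basicOpenIsoAway_hom 𝒞 c hc hn]
    infer_instance
  haveI : IsIso (Proj.awayToSection 𝒜 (ι c)) := by
    rw [← Proj.basicOpenIsoAway_hom 𝒜 (ι c) hf hn]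
    infer_instance
  have hbC := ConcreteCategory.bijective_of_isIso (Proj.awayToSection 𝒞 c)
  have hbA := ConcreteCategory.bijective_of_isIso (Proj.awayToSection 𝒜 (ι c))
  refine ⟨?_, fun hst s hs => ?_⟩
  · intro t₁ t₂ ht
    obtain ⟨y₁, rfl⟩ := hbC.2 t₁
    obtain ⟨y₂, rfl⟩ := hbC.2 t₂
    have h1 := (hC' y₁).symm.trans (ht.trans (hC' y₂))
    rw [thetaC_injective 𝒜 𝒞 ι hι hιdeg hc (hbA.1 h1)]
  · obtain ⟨y, rfl⟩ := hbA.2 s
    -- the chart maps of the group elements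
    have hθ := fun σ : G => awayι_ρ' 𝒜 hGdeg ρ hρ σ hn hf hf (smul_ι 𝒜 𝒞 ι hιdeg hc σ)
    have hfix : ∀ (σ : G) (θ : HomogeneousLocalization.Away 𝒜 (ι c) →+*
        HomogeneousLocalization.Away 𝒜 (ι c)),
        (∀ (k : ℕ) (a : A) (ha : a ∈ 𝒜 (k • n)),
          θ (HomogeneousLocalization.Away.mk 𝒜 hf k a ha) =
            HomogeneousLocalization.Away.mk 𝒜 hf k (σ • a) (hGdeg σ _ a ha)) → θ y = y := by
      intro σ θ hθσ
      obtain ⟨θ₀, hθ₀, hθ₀e⟩ := hθ σ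
      have h0 : θ y = θ₀ y := by
        obtain ⟨k, a, ha, rfl⟩ := HomogeneousLocalization.Away.mk_surjective 𝒜 hf y
        rw [hθσ, hθ₀]
      rw [h0]
      have hle0 := basicOpen_le_preimage 𝒜 𝒜 (ρ σ).inv hf hn hf hn θ₀ hθ₀e
      have h1 : Proj.awayToSection 𝒜 (ι c) ≫ (ρ σ).inv.appLE (Proj.basicOpen 𝒜 (ι c))
          (Proj.basicOpen 𝒜 (ι c)) hle0 =
          CommRingCat.ofHom θ₀ ≫ Proj.awayToSection 𝒜 (ι c) :=
        awayToSection_comp_appLE 𝒜 𝒜 (ρ σ).inv hf hn hf hn θ₀ hθ₀e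
      have h2 := congrArg (fun φ : CommRingCat.of (HomogeneousLocalization.Away 𝒜 (ι c)) ⟶
        Γ(Proj 𝒜, Proj.basicOpen 𝒜 (ι c)) => φ.hom y) h1
      simp only [CommRingCat.hom_comp, RingHom.comp_apply, CommRingCat.hom_ofHom] at h2
      apply hbA.1
      refine h2.symm.trans ?_
      have h3 : (ρ σ).inv = (ρ σ⁻¹).hom := by
        rw [map_inv]
        rfl
      rw [appLE_congr_hom' h3 hle0]
      exact hs σ⁻¹
    obtain ⟨y', hy'⟩ := exists_thetaC_eq 𝒜 hGdeg 𝒞 ι hιdeg hc y hfix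
      (fun σ => let ⟨θ₀, hθ₀, _⟩ := hθ σ; ⟨θ₀, hθ₀⟩)
    exact ⟨(Proj.awayToSection 𝒞 c).hom y', by rw [hC' y', hy']⟩

omit [Finite G] in
/-- The opens `D₊(c)` with `c` homogeneous of positive degree form a basis. -/
lemma basis_pos (U : (Proj 𝒞).Opens) (y : Proj 𝒞) (hy : y ∈ U) :
    ∃ B ∈ {B : (Proj 𝒞).Opens | ∃ (n : ℕ) (_ : 0 < n) (c : C) (_ : c ∈ 𝒞 n),
      B = Proj.basicOpen 𝒞 c}, y ∈ B ∧ B ≤ U := by
  obtain ⟨_, ⟨f, rfl⟩, hyf, hfU⟩ := Opens.isBasis_iff_nbhd.mp (Proj.isBasis_basicOpen 𝒞) hy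
  rw [Proj.basicOpen_eq_iSup_proj, Opens.mem_iSup] at hyf
  obtain ⟨i, hyi⟩ := hyf
  obtain ⟨n', hn', c', hc', hy'⟩ := exists_pos_basicOpen 𝒞 y
  have hfi : GradedRing.proj 𝒞 i f ∈ 𝒞 i := by
    rw [GradedRing.proj_apply]
    exact SetLike.coe_mem _
  refine ⟨Proj.basicOpen 𝒞 (GradedRing.proj 𝒞 i f * c'),
    ⟨i + n', by omega, _, SetLike.mul_mem_graded hfi hc', rfl⟩, ?_, ?_⟩
  · rw [Proj.basicOpen_mul]
    exact ⟨hyi, hy'⟩
  · rw [Proj.basicOpen_mul]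
    refine inf_le_left.trans (le_trans ?_ hfU)
    rw [Proj.basicOpen_eq_iSup_proj 𝒞 f]
    exact le_iSup (fun i => Proj.basicOpen 𝒞 (GradedRing.proj 𝒞 i f)) i

include hι hρ hπ in
/-- The projective spectrum of the invariants is the quotient. -/
theorem isQuot_proj : SGA1.IsQuot ρ π := by
  haveI := isAffineHom_π 𝒜 hGdeg 𝒞 ι hιdeg π hπ
  refine Groth.Agent.H68.QL.isQuot_of_basis' ρ π (inv_π 𝒜 hGdeg 𝒞 ι hιdeg ρ hρ π hπ)
    {B : (Proj 𝒞).Opens | ∃ (n : ℕ) (_ : 0 < n) (c : C) (_ : c ∈ 𝒞 n),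
      B = Proj.basicOpen 𝒞 c} (basis_pos 𝒞) ?_
  rintro _ ⟨n, hn, c, hc, rfl⟩
  have h := preimage_basicOpen 𝒜 hGdeg 𝒞 ι hιdeg π hπ hn hc
  refine ⟨Proj.basicOpen 𝒜 (ι c), h, ?_⟩
  exact chart_quot 𝒜 hGdeg 𝒞 ι hι hιdeg ρ hρ π hπ hn hc h.ge

end Main2

end Groth.Agent.H68.PQ
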