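import Groth.Agent.H68.PruferMain
import Groth.Prelude.Def_Found

/-!
# Finite type algebras over finite-dimensional Prüfer domains are catenary of finite dimension
-/

set_option autoImplicit false

namespace Groth.Agent.H68.Pruf

universe u

section abstract

variable {α : Type*} [PartialOrder α] (δ : α → ℤ)

theorem delta_le_of_strictAnti (hδ : ∀ x y : α, x < y → δ y < δ x) (s : LTSeries α)
    (i : Fin (s.length + 1)) : δ (s i) ≤ δ s.head - (i : ℕ) := by
  induction i using Fin.induction with
  | zero => simp [RelSeries.head]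
  | succ i ih =>
    have h := hδ _ _ (s.step i)
    simp only [Fin.val_succ, Nat.cast_add, Nat.cast_one]
    simp only [Fin.val_castSucc] at ih
    omega

theorem length_le_of_strictAnti (hδ : ∀ x y : α, x < y → δ y < δ x) (s : LTSeries α) :
    (s.length : ℤ) ≤ δ s.head - δ s.last := by
  have := delta_le_of_strictAnti δ hδ s (Fin.last _)
  simp only [Fin.val_last] at this
  change δ s.last ≤ _ at this
  omega

theorem delta_eq_of_covBy (hcov : ∀ x y : α, x ⋖ y → δ x = δ y + 1) (s : LTSeries α)
    (hs : ∀ i : Fin s.length, s i.castSucc ⋖ s i.succ)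
    (i : Fin (s.length + 1)) : δ (s i) = δ s.head - (i : ℕ) := by
  induction i using Fin.induction with
  | zero => simp [RelSeries.head]
  | succ i ih =>
    have h := hcov _ _ (hs i)
    simp only [Fin.val_succ, Nat.cast_add, Nat.cast_one]
    simp only [Fin.val_castSucc] at ih
    omega

theorem length_eq_of_covBy (hcov : ∀ x y : α, x ⋖ y → δ x = δ y + 1) (s : LTSeries α)
    (hs : ∀ i : Fin s.length, s i.castSucc ⋖ s i.succ) :
    (s.length : ℤ) = δ s.head - δ s.last := by
  have := delta_eq_of_covBy δ hcov s hs (Fin.last _)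
  simp only [Fin.val_last] at this
  change δ s.last = _ at this
  omega

end abstract

/-- A ring whose spectrum carries a bounded strictly antitone function dropping by exactly one along
covers is catenary of finite dimension. -/
theorem isCatenary_and_finite_of_delta (A : Type u) [CommRing A] (δ : PrimeSpectrum A → ℤ)
    (hδ : ∀ x y : PrimeSpectrum A, x < y → δ y < δ x)
    (hcov : ∀ x y : PrimeSpectrum A, x ⋖ y → δ x = δ y + 1)
    (lo hi : ℤ) (hlo : ∀ x, lo ≤ δ x) (hhi : ∀ x, δ x ≤ hi) :
    CAlg.IsCatenary A ∧ ringKrullDim A < ⊤ := by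
  refine ⟨⟨?_, ?_⟩, ?_⟩
  · intro p q _
    refine ⟨(δ p - δ q).toNat, fun s hs ht => ?_⟩
    have := length_le_of_strictAnti δ hδ s
    rw [hs, ht] at this
    omega
  · intro s t hh hl hs ht
    have h1 := length_eq_of_covBy δ hcov s hs
    have h2 := length_eq_of_covBy δ hcov t ht
    rw [hh, hl] at h1
    omega
  · have h : ringKrullDim A < (((hi - lo).toNat + 1 : ℕ) : WithBot ℕ∞) := by
      rw [ringKrullDim, Order.krullDim_lt_coe_iff]
      intro l
      have h1 := length_le_of_strictAnti δ hδ l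
      have h2 := hlo l.last
      have h3 := hhi l.head
      omega
    refine lt_of_lt_of_le h ?_
    exact le_top


/-- Uniform bound on the transcendence degrees of the residue extensions of a finite type algebra. -/
theorem trdeg_quotient_le {R S : Type u} [CommRing R] [CommRing S] [Algebra R S] (n : ℕ)
    (f : MvPolynomial (Fin n) R →ₐ[R] S) (hf : Function.Surjective f) (P : Ideal S) [P.IsPrime] :
    Algebra.trdeg (R ⧸ P.under R) (S ⧸ P) ≤ n := by
  have hdom : IsDomain (R ⧸ P.under R) := Ideal.Quotient.isDomain _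
  let g : MvPolynomial (Fin n) (R ⧸ P.under R) →ₐ[R ⧸ P.under R] (S ⧸ P) :=
    MvPolynomial.aeval (fun i => Ideal.Quotient.mk P (f (MvPolynomial.X i)))
  have hcomp : (g : MvPolynomial (Fin n) (R ⧸ P.under R) →+* (S ⧸ P)).comp
      (MvPolynomial.map (Ideal.Quotient.mk (P.under R))) =
      (Ideal.Quotient.mk P).comp (f : MvPolynomial (Fin n) R →+* S) := by
    apply MvPolynomial.ringHom_ext
    · intro r
      simp only [RingHom.comp_apply, MvPolynomial.map_C, RingHom.coe_coe, g]
      rw [MvPolynomial.aeval_C]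
      have h := f.commutes r
      rw [MvPolynomial.algebraMap_eq] at h
      rw [h]
      rfl
    · intro i
      simp only [RingHom.comp_apply, MvPolynomial.map_X, RingHom.coe_coe, g]
      rw [MvPolynomial.aeval_X]
  have hg : Function.Surjective g := by
    intro x
    obtain ⟨y, rfl⟩ := Ideal.Quotient.mk_surjective x
    obtain ⟨g₀, rfl⟩ := hf y
    refine ⟨MvPolynomial.map (Ideal.Quotient.mk (P.under R)) g₀, ?_⟩
    exact congrArg (fun φ => φ g₀) hcomp
  have h1 := trdeg_le_of_surjective g hg
  rw [MvPolynomial.trdeg_of_isDomain] at h1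
  simpa using h1


/-- The dimension function on the spectrum of a finite type algebra over a finite-dimensional
Prüfer domain. -/
theorem exists_delta {R : Type u} [CommRing R] [IsDomain R]
    (hR : ∀ (p : Ideal R) [p.IsPrime], ValuationRing (Localization.AtPrime p))
    (hdim : ringKrullDim R < ⊤) (S : Type u) [CommRing S] [Algebra R S] [Algebra.FiniteType R S] :
    ∃ (δ : PrimeSpectrum S → ℤ) (lo hi : ℤ), (∀ x y, x < y → δ y < δ x) ∧
      (∀ x y, x ⋖ y → δ x = δ y + 1) ∧ (∀ x, lo ≤ δ x) ∧ (∀ x, δ x ≤ hi) := by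
  classical
  obtain ⟨n, f, hf⟩ := Algebra.FiniteType.iff_quotient_mvPolynomial''.mp
    (inferInstance : Algebra.FiniteType R S)
  -- bound on heights
  obtain ⟨d, hd⟩ : ∃ d : ℕ, ∀ (I : Ideal R) [I.IsPrime], I.height ≤ d := by
    have hne : ringKrullDim R ≠ ⊥ := by
      rw [ringKrullDim, Ne, Order.krullDim_eq_bot_iff, not_isEmpty_iff]
      exact ⟨⟨⊥, Ideal.isPrime_bot⟩⟩
    obtain ⟨e, he⟩ := WithBot.ne_bot_iff_exists.mp hne
    have he' : e ≠ ⊤ := by
      intro h
      rw [← he, h] at hdim
      exact lt_irrefl _ hdim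
    obtain ⟨d, hd⟩ := ENat.ne_top_iff_exists.mp he'
    refine ⟨d, fun I _ => ?_⟩
    have h1 : (I.height : WithBot ℕ∞) ≤ ringKrullDim R := Ideal.height_le_ringKrullDim_of_isPrime
    rw [← he, ← hd] at h1
    exact WithBot.coe_le_coe.mp h1
  let δ : PrimeSpectrum S → ℤ := fun P =>
    (Cardinal.toNat (Algebra.trdeg (R ⧸ P.asIdeal.under R) (S ⧸ P.asIdeal)) : ℤ) -
      ((P.asIdeal.under R).height.toNat : ℤ)
  have key : ∀ x y : PrimeSpectrum S, x < y → δ y < δ x ∧
      (δ y + 2 ≤ δ x → ∃ Q' : Ideal S, Q'.IsPrime ∧ x.asIdeal < Q' ∧ Q' < y.asIdeal) := by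
    intro x y hxy
    obtain ⟨n, t, a, b, hn, ht, ha, hb, hlt, hbetween⟩ := main hR hdim x.asIdeal y.asIdeal hxy
    simp only [δ]
    rw [hn, ht, ha, hb]
    simp only [Cardinal.toNat_natCast, ENat.toNat_natCast]
    exact ⟨by omega, fun h => hbetween (by omega)⟩
  refine ⟨δ, -(d : ℤ), n, fun x y hxy => (key x y hxy).1, ?_, ?_, ?_⟩
  · intro x y hcov
    obtain ⟨h1, h2⟩ := key x y hcov.1
    by_contra hne
    obtain ⟨Q', hQ'prime, hxQ', hQ'y⟩ := h2 (by omega)
    exact hcov.2 (c := ⟨Q', hQ'prime⟩) hxQ' hQ'y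
  · intro x
    have h1 := hd (x.asIdeal.under R)
    have h2 : (x.asIdeal.under R).height.toNat ≤ d := by
      have hne : (x.asIdeal.under R).height ≠ ⊤ :=
        ne_top_of_le_ne_top (ENat.natCast_ne_top d) h1
      obtain ⟨a, ha⟩ := ENat.ne_top_iff_exists.mp hne
      rw [← ha] at h1 ⊢
      rw [ENat.toNat_natCast]
      exact_mod_cast h1
    simp only [δ]
    omega
  · intro x
    have h1 := trdeg_quotient_le n f hf x.asIdeal
    have h2 : Cardinal.toNat (Algebra.trdeg (R ⧸ x.asIdeal.under R) (S ⧸ x.asIdeal)) ≤ n := by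
      have := Cardinal.toNat_le_toNat h1 (Cardinal.natCast_lt_aleph0 (n := n))
      rwa [Cardinal.toNat_natCast] at this
    simp only [δ]
    omega

/-- Finite type algebras over finite-dimensional Prüfer domains, and their localizations, are
catenary of finite Krull dimension. -/
theorem catenary_main {R : Type u} [CommRing R] [IsDomain R]
    (hR : ∀ (p : Ideal R) [p.IsPrime], ValuationRing (Localization.AtPrime p))
    (hdim : ringKrullDim R < ⊤) (S : Type u) [CommRing S] [Algebra R S] [Algebra.FiniteType R S]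
    (M : Submonoid S) (T : Type u) [CommRing T] [Algebra S T] [IsLocalization M T] :
    CAlg.IsCatenary S ∧ ringKrullDim S < ⊤ ∧ CAlg.IsCatenary T ∧ ringKrullDim T < ⊤ := by
  obtain ⟨δ, lo, hi, hδ, hcov, hlo, hhi⟩ := exists_delta hR hdim S
  have hS := isCatenary_and_finite_of_delta S δ hδ hcov lo hi hlo hhi
  refine ⟨hS.1, hS.2, ?_⟩
  have hlt : ∀ x y : PrimeSpectrum T, x < y →
      PrimeSpectrum.comap (algebraMap S T) x < PrimeSpectrum.comap (algebraMap S T) y := by
    intro x y hxy
    exact (IsLocalization.orderEmbedding M T).lt_iff_lt.mpr hxy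
  have hlt' : ∀ x y : PrimeSpectrum T,
      PrimeSpectrum.comap (algebraMap S T) x < PrimeSpectrum.comap (algebraMap S T) y → x < y := by
    intro x y hxy
    exact (IsLocalization.orderEmbedding M T).lt_iff_lt.mp hxy
  refine isCatenary_and_finite_of_delta T (fun x => δ (PrimeSpectrum.comap (algebraMap S T) x))
    (fun x y hxy => hδ _ _ (hlt x y hxy)) ?_ lo hi (fun x => hlo _) (fun x => hhi _)
  intro x y hxy
  refine hcov _ _ ⟨hlt x y hxy.1, ?_⟩
  intro c hxc hcy
  have hdisjy : Disjoint (M : Set S) ((y.asIdeal.comap (algebraMap S T) : Ideal S) : Set S) :=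
    ((IsLocalization.isPrime_iff_isPrime_disjoint M T y.asIdeal).mp y.2).2
  have hdisjc : Disjoint (M : Set S) (c.asIdeal : Set S) :=
    hdisjy.mono_right (show (c.asIdeal : Set S) ⊆ _ from hcy.le)
  have hc'prime : (c.asIdeal.map (algebraMap S T)).IsPrime :=
    IsLocalization.isPrime_of_isPrime_disjoint M T c.asIdeal c.2 hdisjc
  let c' : PrimeSpectrum T := ⟨c.asIdeal.map (algebraMap S T), hc'prime⟩
  have hc' : PrimeSpectrum.comap (algebraMap S T) c' = c :=
    PrimeSpectrum.ext (IsLocalization.under_map_of_isPrime_disjoint M T c.2 hdisjc)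
  exact hxy.2 (c := c') (hlt' _ _ (by rw [hc']; exact hxc)) (hlt' _ _ (by rw [hc']; exact hcy))

end Groth.Agent.H68.Pruf
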