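import Groth.Agent.H68.SpecFibGenMain

/-!
# The dimension function `δ(P) = trdeg κ(P)/κ(p) - ht p` over a valuation ring (local core)
-/

set_option autoImplicit false

open IsLocalRing

namespace Groth.Agent.H68.Pruf

universe u

/-- The transcendence degree of the fraction field of a domain over a field. -/
theorem trdeg_fractionRing (k S : Type u) [Field k] [CommRing S] [IsDomain S] [Algebra k S] :
    Algebra.trdeg k (FractionRing S) = Algebra.trdeg k S := by
  have f1 : FaithfulSMul k S :=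
    (faithfulSMul_iff_algebraMap_injective k S).mpr (RingHom.injective _)
  have hSF : Algebra.IsAlgebraic S (FractionRing S) :=
    IsLocalization.isAlgebraic _ (nonZeroDivisors S)
  have e := trdeg_add_eq k S (A := FractionRing S)
  rw [trdeg_eq_zero (R := S) (A := FractionRing S), add_zero] at e
  exact e.symm

/-- Dimension equals transcendence degree for finite type domains over a field. -/
theorem exists_dim_eq_trdeg (k S : Type u) [Field k] [CommRing S] [IsDomain S] [Algebra k S]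
    [Algebra.FiniteType k S] : ∃ n : ℕ, Algebra.trdeg k S = n ∧ ringKrullDim S = n := by
  obtain ⟨n, h1, h2, -⟩ := Groth.Agent.H14.ringKrullDim_eq_trdeg_of_finiteType_domain k S
  exact ⟨n, by rw [← trdeg_fractionRing, h1], h2⟩

/-- In a finite type domain over a field, if `dim D/Q + 2 ≤ dim D` there is a nonzero prime
strictly inside `Q`. -/
theorem exists_prime_lt_of_dim (k D : Type u) [Field k] [CommRing D] [IsDomain D] [Algebra k D]
    [Algebra.FiniteType k D] (Q : Ideal D) [Q.IsPrime] {n t : ℕ} (hn : ringKrullDim D = n)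
    (ht : ringKrullDim (D ⧸ Q) = t) (h : t + 2 ≤ n) :
    ∃ Q' : Ideal D, Q'.IsPrime ∧ Q' ≠ ⊥ ∧ Q' < Q := by
  let Qs : PrimeSpectrum D := ⟨Q, inferInstance⟩
  have h1 := Groth.Agent.H11.FtDim.height_add_coheight_eq k D Qs
  have h2 := Groth.Agent.H24.coheight_eq_ringKrullDim_quotient Qs
  have hco : Order.coheight Qs = (t : ℕ∞) := by
    have : ((Order.coheight Qs : ℕ∞) : WithBot ℕ∞) = ((t : ℕ∞) : WithBot ℕ∞) := by
      rw [h2, ht]; rfl
    exact WithBot.coe_injective this
  rw [hco, hn] at h1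
  have h3 : Order.height Qs + (t : ℕ∞) = (n : ℕ∞) := by
    have : ((Order.height Qs + (t : ℕ∞) : ℕ∞) : WithBot ℕ∞) = ((n : ℕ∞) : WithBot ℕ∞) := by
      rw [h1]; rfl
    exact WithBot.coe_injective this
  have hfin : Order.height Qs < ⊤ := by
    refine lt_of_le_of_lt (le_self_add.trans h3.le) ?_
    exact ENat.natCast_lt_top n
  obtain ⟨m, hm⟩ := ENat.ne_top_iff_exists.mp hfin.ne
  rw [← hm] at h3
  have h3' : m + t = n := by exact_mod_cast h3
  have h4 : ((1 : ℕ) : ℕ∞) < Order.height Qs := by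
    rw [← hm]
    have : 1 < m := by omega
    exact_mod_cast this
  obtain ⟨y, hy, hy1⟩ := (Order.coe_lt_height_iff hfin).mp h4
  refine ⟨y.asIdeal, y.2, ?_, hy⟩
  intro hbot
  have hmin : IsMin y := by
    intro z _
    change y.asIdeal ≤ z.asIdeal
    rw [hbot]
    exact bot_le
  rw [← Order.height_eq_zero] at hmin
  rw [hmin] at hy1
  exact absurd hy1 (by norm_num)


section local_core

variable {V B : Type u} [CommRing V] [IsDomain V] [ValuationRing V]
  [CommRing B] [Algebra V B] [Algebra.FiniteType V B]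

/-- Variant of `SF.exists_trdeg_quotient_eq_dim` where `Q` is only assumed minimal among the
primes containing `q` and the special fibre ideal. -/
theorem exists_trdeg_quotient_eq_dim'
    (p' : Ideal V) [p'.IsPrime] (q : Ideal B) [q.IsPrime] [q.LiesOver p'] (Q : Ideal B) [Q.IsPrime]
    (hqQ : q ≤ Q) (hIQ : (maximalIdeal V).map (algebraMap V B) ≤ Q)
    (hmin : ∀ Q' : Ideal B, Q'.IsPrime → q ≤ Q' → (maximalIdeal V).map (algebraMap V B) ≤ Q' →
      Q' ≤ Q → Q' = Q) :
    ∃ n : ℕ, Algebra.trdeg (V ⧸ p') (B ⧸ q) = n ∧ ringKrullDim (B ⧸ Q) = n := by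
  classical
  have hdomV : IsDomain (V ⧸ p') := Ideal.Quotient.isDomain p'
  have hdomB : IsDomain (B ⧸ q) := Ideal.Quotient.isDomain q
  have hval : ValuationRing (V ⧸ p') :=
    Function.Surjective.valuationRing (Ideal.Quotient.mk p') Ideal.Quotient.mk_surjective
  have hFT1 : Algebra.FiniteType V (B ⧸ q) :=
    Algebra.FiniteType.of_surjective (Ideal.Quotient.mkₐ V q) (Ideal.Quotient.mkₐ_surjective V q)
  have hFT : Algebra.FiniteType (V ⧸ p') (B ⧸ q) :=
    Algebra.FiniteType.of_restrictScalars_finiteType V (V ⧸ p') (B ⧸ q)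
  have hinj : Function.Injective (algebraMap (V ⧸ p') (B ⧸ q)) :=
    FaithfulSMul.algebraMap_injective _ _
  have hmkA : ∀ a : V, algebraMap (V ⧸ p') (B ⧸ q) (Ideal.Quotient.mk p' a) =
      Ideal.Quotient.mk q (algebraMap V B a) := fun _ => rfl
  have hsurj : Function.Surjective (Ideal.Quotient.mk q) := Ideal.Quotient.mk_surjective
  have hQ₁mem : ∀ b : B, Ideal.Quotient.mk q b ∈ Q.map (Ideal.Quotient.mk q) ↔ b ∈ Q :=
    fun b => Ideal.mem_quotient_iff_mem hqQ
  have hQ₁prime : (Q.map (Ideal.Quotient.mk q)).IsPrime :=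
    Ideal.map_isPrime_of_surjective hsurj (by rw [Ideal.mk_ker]; exact hqQ)
  have hmax_mem : ∀ a : V, Ideal.Quotient.mk p' a ∈ maximalIdeal (V ⧸ p') → a ∈ maximalIdeal V := by
    intro a ha
    rw [mem_maximalIdeal, mem_nonunits_iff] at ha ⊢
    exact fun hu => ha (hu.map _)
  have hI₁ : ∀ Q₁' : Ideal (B ⧸ q), (maximalIdeal (V ⧸ p')).map (algebraMap (V ⧸ p') (B ⧸ q)) ≤ Q₁' →
      (maximalIdeal V).map (algebraMap V B) ≤ Q₁'.comap (Ideal.Quotient.mk q) := by
    intro Q₁' h
    rw [Ideal.map_le_iff_le_comap]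
    intro a ha
    rw [Ideal.mem_comap, Ideal.mem_comap, ← hmkA]
    refine h (Ideal.mem_map_of_mem _ ?_)
    rw [mem_maximalIdeal, mem_nonunits_iff] at ha ⊢
    intro hu
    apply ha
    obtain ⟨b, hb⟩ := Ideal.Quotient.mk_surjective (hu.unit⁻¹ : (V ⧸ p')ˣ).1
    have h1 : Ideal.Quotient.mk p' (a * b) = 1 := by
      rw [map_mul, hb]; exact hu.mul_val_inv
    have h2 : a * b - 1 ∈ p' := by
      rw [← Ideal.Quotient.eq_zero_iff_mem, map_sub, h1, map_one, sub_self]
    have h3 : a * b - 1 ∈ maximalIdeal V := le_maximalIdeal (Ideal.IsPrime.ne_top ‹_›) h2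
    by_contra hna
    have h4 : a * b ∈ maximalIdeal V := Ideal.mul_mem_right _ _ ((mem_maximalIdeal a).mpr hna)
    have h5 : (1 : V) ∈ maximalIdeal V := by
      have := (maximalIdeal V).sub_mem h4 h3
      rwa [sub_sub_cancel] at this
    exact (Ideal.IsPrime.ne_top inferInstance) ((Ideal.eq_top_iff_one _).mpr h5)
  have hIQ₁ : (maximalIdeal (V ⧸ p')).map (algebraMap (V ⧸ p') (B ⧸ q)) ≤
      Q.map (Ideal.Quotient.mk q) := by
    rw [Ideal.map_le_iff_le_comap]
    intro x hx
    obtain ⟨a, rfl⟩ := Ideal.Quotient.mk_surjective x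
    rw [Ideal.mem_comap, hmkA, hQ₁mem]
    exact hIQ (Ideal.mem_map_of_mem _ (hmax_mem a hx))
  have hmin₁ : ∀ Q₁' : Ideal (B ⧸ q), Q₁'.IsPrime →
      (maximalIdeal (V ⧸ p')).map (algebraMap (V ⧸ p') (B ⧸ q)) ≤ Q₁' →
      Q₁' ≤ Q.map (Ideal.Quotient.mk q) → Q₁' = Q.map (Ideal.Quotient.mk q) := by
    intro Q₁' hprime hI hle
    have h1 : Q₁'.comap (Ideal.Quotient.mk q) = Q := by
      refine hmin _ (Ideal.comap_isPrime _ _) ?_ (hI₁ Q₁' hI) ?_
      · intro b hb
        rw [Ideal.mem_comap, Ideal.Quotient.eq_zero_iff_mem.mpr hb]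
        exact Q₁'.zero_mem
      · intro b hb
        exact (hQ₁mem b).mp (hle hb)
    rw [← Ideal.map_comap_of_surjective _ hsurj Q₁', h1]
  obtain ⟨n, hn1, hn2⟩ := SF.exists_trdeg_eq_dim_of_fibreMinimal hinj (Q.map (Ideal.Quotient.mk q))
    hIQ₁ hmin₁
  refine ⟨n, hn1, ?_⟩
  rw [← hn2]
  exact (ringKrullDim_eq_of_ringEquiv (DoubleQuot.quotQuotEquivQuotOfLE hqQ)).symm

omit [IsDomain V] [ValuationRing V] [Algebra.FiniteType V B] in
/-- A prime between `P` and `Q` minimal over `P ⊔ I`. -/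
theorem exists_fibreMinimal_between (I : Ideal B) (P Q : Ideal B) [P.IsPrime] [Q.IsPrime]
    (hPQ : P ≤ Q) (hIQ : I ≤ Q) :
    ∃ Q₀ : Ideal B, Q₀.IsPrime ∧ P ≤ Q₀ ∧ I ≤ Q₀ ∧ Q₀ ≤ Q ∧
      ∀ Q' : Ideal B, Q'.IsPrime → P ≤ Q' → I ≤ Q' → Q' ≤ Q₀ → Q' = Q₀ := by
  obtain ⟨Q₀, hQ₀, hle⟩ := Ideal.exists_minimalPrimes_le (I := P ⊔ I) (J := Q) (sup_le hPQ hIQ)
  refine ⟨Q₀, hQ₀.1.1, le_sup_left.trans hQ₀.1.2, le_sup_right.trans hQ₀.1.2, hle, ?_⟩
  intro Q' hQ' hP hI hle'
  exact le_antisymm hle' (hQ₀.2 ⟨hQ', sup_le hP hI⟩ hle')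

omit [Algebra.FiniteType V B] in
/-- Going down for primes between `P` and `Q` over a valuation ring. -/
theorem exists_between_liesOver (p p' : Ideal V) [p.IsPrime] [p'.IsPrime] (P Q : Ideal B)
    [P.IsPrime] [Q.IsPrime] [P.LiesOver p] (hPQ : P ≤ Q) (hpp' : p ≤ p')
    (hp'Q : p' ≤ Q.under V) :
    ∃ Q' : Ideal B, Q'.IsPrime ∧ P ≤ Q' ∧ Q' ≤ Q ∧ Q'.under V = p' := by
  classical
  have hdomV : IsDomain (V ⧸ p) := Ideal.Quotient.isDomain p
  have hdomB : IsDomain (B ⧸ P) := Ideal.Quotient.isDomain P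
  have hval : ValuationRing (V ⧸ p) :=
    Function.Surjective.valuationRing (Ideal.Quotient.mk p) Ideal.Quotient.mk_surjective
  have hinj : Function.Injective (algebraMap (V ⧸ p) (B ⧸ P)) :=
    FaithfulSMul.algebraMap_injective _ _
  have hflat : Module.Flat (V ⧸ p) (B ⧸ P) := by
    rw [Module.Flat.flat_iff_torsion_eq_bot_of_isBezout, eq_bot_iff]
    intro m hm
    rw [Submodule.mem_torsion_iff] at hm
    obtain ⟨⟨a, ha⟩, ham⟩ := hm
    have ha0 : a ≠ 0 := nonZeroDivisors.ne_zero ha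
    have h1 : algebraMap (V ⧸ p) (B ⧸ P) a * m = 0 := by
      rw [← Algebra.smul_def]; exact ham
    rcases mul_eq_zero.mp h1 with h | h
    · exact absurd (hinj (h.trans (map_zero _).symm)) ha0
    · exact h
  have hsurj : Function.Surjective (Ideal.Quotient.mk P) := Ideal.Quotient.mk_surjective
  have hQ₁prime : (Q.map (Ideal.Quotient.mk P)).IsPrime :=
    Ideal.map_isPrime_of_surjective hsurj (by rw [Ideal.mk_ker]; exact hPQ)
  have hp'₁prime : (p'.map (Ideal.Quotient.mk p)).IsPrime :=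
    Ideal.map_isPrime_of_surjective Ideal.Quotient.mk_surjective (by rw [Ideal.mk_ker]; exact hpp')
  have hle : p'.map (Ideal.Quotient.mk p) ≤ (Q.map (Ideal.Quotient.mk P)).under (V ⧸ p) := by
    rw [Ideal.map_le_iff_le_comap]
    intro a ha
    rw [Ideal.mem_comap, Ideal.mem_comap]
    change Ideal.Quotient.mk P (algebraMap V B a) ∈ _
    exact Ideal.mem_map_of_mem _ (hp'Q ha)
  obtain ⟨Q'₁, hQ'₁le, hQ'₁prime, hQ'₁over⟩ :=
    Ideal.exists_ideal_le_liesOver_of_le (p := p'.map (Ideal.Quotient.mk p))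
      (q := (Q.map (Ideal.Quotient.mk P)).under (V ⧸ p)) (Q.map (Ideal.Quotient.mk P)) hle
  refine ⟨Q'₁.comap (Ideal.Quotient.mk P), Ideal.comap_isPrime _ _, ?_, ?_, ?_⟩
  · intro b hb
    rw [Ideal.mem_comap, Ideal.Quotient.eq_zero_iff_mem.mpr hb]
    exact Q'₁.zero_mem
  · intro b hb
    exact (Ideal.mem_quotient_iff_mem hPQ).mp (hQ'₁le hb)
  · ext a
    rw [Ideal.mem_comap, Ideal.mem_comap]
    have h1 : Ideal.Quotient.mk P (algebraMap V B a) ∈ Q'₁ ↔
        Ideal.Quotient.mk p a ∈ p'.map (Ideal.Quotient.mk p) := by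
      rw [hQ'₁over.over, Ideal.mem_comap]
      rfl
    rw [h1]
    exact Ideal.mem_quotient_iff_mem hpp'

omit [Algebra.FiniteType V B] in
/-- In a valuation ring, if `ht p + 2 ≤ ht q` there is a prime strictly between `p` and `q`. -/
theorem exists_prime_between_of_height (p q : Ideal V) [p.IsPrime] [q.IsPrime] {a b : ℕ}
    (hp : p.height = a) (hq : q.height = b) (h : a + 2 ≤ b) :
    ∃ p' : Ideal V, p'.IsPrime ∧ p < p' ∧ p' < q := by
  let ps : PrimeSpectrum V := ⟨p, inferInstance⟩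
  let qs : PrimeSpectrum V := ⟨q, inferInstance⟩
  have hqs : Order.height qs = b := by
    rw [← PrimeSpectrum.height_eq_orderHeight]; exact hq
  have hps : Order.height ps = a := by
    rw [← PrimeSpectrum.height_eq_orderHeight]; exact hp
  have hfin : Order.height qs < ⊤ := by rw [hqs]; exact ENat.natCast_lt_top b
  have h1 : ((a + 1 : ℕ) : ℕ∞) < Order.height qs := by
    rw [hqs]; exact_mod_cast (by omega : a + 1 < b)
  obtain ⟨y, hy, hy1⟩ := (Order.coe_lt_height_iff hfin).mp h1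
  refine ⟨y.asIdeal, y.2, ?_, hy⟩
  rcases (ValuationRing.le_total_ideal (A := V)).total y.asIdeal p with hle | hle
  · exfalso
    have : Order.height y ≤ Order.height ps := Order.height_mono (show y ≤ ps from hle)
    rw [hy1, hps] at this
    have : a + 1 ≤ a := by exact_mod_cast this
    omega
  · refine lt_of_le_of_ne hle ?_
    intro heq
    have : ps = y := PrimeSpectrum.ext heq
    rw [← this, hps] at hy1
    have : a = a + 1 := by exact_mod_cast hy1
    omega



/-- Local core: `V` a valuation ring, `B` of finite type, `P < Q` primes of `B` with `Q` over the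
maximal ideal. Then `δ(Q) < δ(P)`, and if `δ(Q) + 2 ≤ δ(P)` there is a prime strictly between. -/
theorem local_main (p q : Ideal V) [p.IsPrime] [q.IsPrime] (hq : q = maximalIdeal V)
    (P Q : Ideal B) [P.IsPrime] [Q.IsPrime] [P.LiesOver p] [Q.LiesOver q] (hPQ : P < Q)
    {a b : ℕ} (ha : p.height = a) (hb : q.height = b) :
    ∃ n t : ℕ, Algebra.trdeg (V ⧸ p) (B ⧸ P) = n ∧ Algebra.trdeg (V ⧸ q) (B ⧸ Q) = t ∧
      t + a < n + b ∧
      (t + a + 2 ≤ n + b → ∃ Q' : Ideal B, Q'.IsPrime ∧ P < Q' ∧ Q' < Q) := by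
  classical
  subst hq
  have hIQ : (maximalIdeal V).map (algebraMap V B) ≤ Q :=
    Ideal.map_le_iff_le_comap.mpr (le_of_eq (Q.over_def (maximalIdeal V)))
  obtain ⟨Q₀, hQ₀prime, hPQ₀, hIQ₀, hQ₀Q, hmin⟩ :=
    exists_fibreMinimal_between ((maximalIdeal V).map (algebraMap V B)) P Q hPQ.le hIQ
  have hQ₀over : Q₀.LiesOver (maximalIdeal V) :=
    ⟨(IsLocalRing.maximalIdeal.isMaximal V).eq_of_le
      (Ideal.comap_ne_top _ hQ₀prime.ne_top) (Ideal.map_le_iff_le_comap.mp hIQ₀)⟩
  obtain ⟨n, hn1, hn2⟩ := exists_trdeg_quotient_eq_dim' p P Q₀ hPQ₀ hIQ₀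
    (fun Q' hQ' h1 h2 h3 => hmin Q' hQ' h1 h2 h3)
  let _ : Field (V ⧸ maximalIdeal V) := Ideal.Quotient.field _
  have hdom₀ : IsDomain (B ⧸ Q₀) := Ideal.Quotient.isDomain Q₀
  have hdomQ : IsDomain (B ⧸ Q) := Ideal.Quotient.isDomain Q
  have hFT₀' : Algebra.FiniteType V (B ⧸ Q₀) :=
    Algebra.FiniteType.of_surjective (Ideal.Quotient.mkₐ V Q₀) (Ideal.Quotient.mkₐ_surjective V Q₀)
  have hFT₀ : Algebra.FiniteType (V ⧸ maximalIdeal V) (B ⧸ Q₀) :=
    Algebra.FiniteType.of_restrictScalars_finiteType V _ _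
  have hFTQ' : Algebra.FiniteType V (B ⧸ Q) :=
    Algebra.FiniteType.of_surjective (Ideal.Quotient.mkₐ V Q) (Ideal.Quotient.mkₐ_surjective V Q)
  have hFTQ : Algebra.FiniteType (V ⧸ maximalIdeal V) (B ⧸ Q) :=
    Algebra.FiniteType.of_restrictScalars_finiteType V _ _
  obtain ⟨n', hn'1, hn'2⟩ := exists_dim_eq_trdeg (V ⧸ maximalIdeal V) (B ⧸ Q₀)
  have hnn' : n' = n := by
    have : ((n' : ℕ∞) : WithBot ℕ∞) = ((n : ℕ∞) : WithBot ℕ∞) := hn'2.symm.trans hn2
    exact_mod_cast this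
  subst hnn'
  obtain ⟨t, ht1, ht2⟩ := exists_dim_eq_trdeg (V ⧸ maximalIdeal V) (B ⧸ Q)
  let π : (B ⧸ Q₀) →ₐ[V ⧸ maximalIdeal V] (B ⧸ Q) :=
    { toRingHom := Ideal.Quotient.factor hQ₀Q
      commutes' := fun x => by
        obtain ⟨a, rfl⟩ := Ideal.Quotient.mk_surjective x
        rfl }
  have hπsurj : Function.Surjective π := Ideal.Quotient.factor_surjective hQ₀Q
  have htn : t ≤ n' := by
    have h := trdeg_le_of_surjective π hπsurj
    rw [ht1, hn'1] at h
    exact_mod_cast h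
  have hEq : t = n' → Q₀ = Q := by
    intro h
    subst h
    have hinjT : Function.Injective (algebraMap (V ⧸ maximalIdeal V) (B ⧸ Q)) :=
      FaithfulSMul.algebraMap_injective _ _
    have hπinj := SF.injective_of_trdeg_eq hinjT π hπsurj t hn'1 ht1
    refine le_antisymm hQ₀Q (fun x hx => ?_)
    have h1 : π (Ideal.Quotient.mk Q₀ x) = 0 := by
      change Ideal.Quotient.factor hQ₀Q (Ideal.Quotient.mk Q₀ x) = 0
      rw [Ideal.Quotient.factor_mk, Ideal.Quotient.eq_zero_iff_mem]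
      exact hx
    exact Ideal.Quotient.eq_zero_iff_mem.mp (hπinj (h1.trans (map_zero π).symm))
  have hpm : p ≤ maximalIdeal V := le_maximalIdeal (Ideal.IsPrime.ne_top ‹_›)
  have hab : a ≤ b := by
    have := Ideal.height_mono hpm
    rw [ha, hb] at this
    exact_mod_cast this
  have hpne : P ≠ Q₀ → p ≠ maximalIdeal V := by
    intro hne heq
    apply hne
    refine hmin P inferInstance le_rfl ?_ hPQ₀
    rw [Ideal.map_le_iff_le_comap, ← heq]
    exact le_of_eq (P.over_def p)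
  have hablt : p ≠ maximalIdeal V → a < b := by
    intro hne
    have hlt : p < maximalIdeal V := lt_of_le_of_ne hpm hne
    have hfin : (maximalIdeal V).FiniteHeight :=
      (maximalIdeal V).finiteHeight_iff.mpr (Or.inr (by rw [hb]; exact ENat.natCast_ne_top b))
    have := Ideal.height_strict_mono_of_isPrime_of_isPrime hlt
    rw [ha, hb] at this
    exact_mod_cast this
  refine ⟨n', t, hn1, ht1, ?_, ?_⟩
  · by_cases hQ₀ : Q₀ = Q
    · have : a < b := hablt (hpne (by rw [hQ₀]; exact hPQ.ne))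
      omega
    · have : t ≠ n' := fun h => hQ₀ (hEq h)
      omega
  · intro hge
    by_cases h2 : t + 2 ≤ n'
    · -- a prime strictly between `Q₀` and `Q`
      have hdim : ringKrullDim ((B ⧸ Q₀) ⧸ Q.map (Ideal.Quotient.mk Q₀)) = t := by
        rw [← ht2]
        exact ringKrullDim_eq_of_ringEquiv (DoubleQuot.quotQuotEquivQuotOfLE hQ₀Q)
      have hQ₁prime : (Q.map (Ideal.Quotient.mk Q₀)).IsPrime :=
        Ideal.map_isPrime_of_surjective Ideal.Quotient.mk_surjective
          (by rw [Ideal.mk_ker]; exact hQ₀Q)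
      obtain ⟨Q'₁, hQ'₁prime, hne, hlt⟩ := exists_prime_lt_of_dim (V ⧸ maximalIdeal V) (B ⧸ Q₀)
        (Q.map (Ideal.Quotient.mk Q₀)) hn'2 hdim h2
      have hQ₀le : Q₀ ≤ Q'₁.comap (Ideal.Quotient.mk Q₀) := by
        intro x hx
        rw [Ideal.mem_comap, Ideal.Quotient.eq_zero_iff_mem.mpr hx]
        exact Q'₁.zero_mem
      refine ⟨Q'₁.comap (Ideal.Quotient.mk Q₀), Ideal.comap_isPrime _ _, ?_, ?_⟩
      · refine lt_of_le_of_lt hPQ₀ (lt_of_le_of_ne hQ₀le ?_)
        intro heq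
        apply hne
        rw [← Ideal.map_comap_of_surjective _ Ideal.Quotient.mk_surjective Q'₁, ← heq,
          Ideal.map_quotient_self]
      · have hle : Q'₁.comap (Ideal.Quotient.mk Q₀) ≤ Q := by
          intro x hx
          exact (Ideal.mem_quotient_iff_mem hQ₀Q).mp (hlt.le hx)
        refine lt_of_le_of_ne hle ?_
        intro heq
        apply hlt.ne
        rw [← Ideal.map_comap_of_surjective _ Ideal.Quotient.mk_surjective Q'₁, heq]
    · by_cases h1 : t + 1 = n'
      · -- `Q₀` itself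
        have hab' : a < b := by omega
        have hQ₀Q' : Q₀ ≠ Q := by
          intro h
          subst h
          have : (t : Cardinal) = n' := ht1.symm.trans hn'1
          have : t = n' := by exact_mod_cast this
          omega
        have hPQ₀' : P ≠ Q₀ := by
          intro h
          subst h
          have h3 : p = maximalIdeal V := (P.over_def p).trans (P.over_def (maximalIdeal V)).symm
          rw [h3, hb] at ha
          have : b = a := by exact_mod_cast ha
          omega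
        exact ⟨Q₀, hQ₀prime, lt_of_le_of_ne hPQ₀ hPQ₀', lt_of_le_of_ne hQ₀Q hQ₀Q'⟩
      · -- going down
        have htn' : t = n' := by omega
        have hab' : a + 2 ≤ b := by omega
        obtain ⟨p', hp'prime, hpp', hp'm⟩ :=
          exists_prime_between_of_height p (maximalIdeal V) ha hb hab'
        obtain ⟨Q', hQ'prime, hPQ', hQ'Q, hQ'under⟩ :=
          exists_between_liesOver p p' P Q hPQ.le hpp'.le
            (hp'm.le.trans (le_of_eq (Q.over_def (maximalIdeal V))))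
        refine ⟨Q', hQ'prime, lt_of_le_of_ne hPQ' ?_, lt_of_le_of_ne hQ'Q ?_⟩
        · intro h
          subst h
          exact hpp'.ne ((P.over_def p).trans hQ'under)
        · intro h
          subst h
          exact hp'm.ne (hQ'under.symm.trans (Q'.over_def (maximalIdeal V)).symm)

end local_core

end Groth.Agent.H68.Pruf
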