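import Mathlib

/-!
# Sections of a fibre product over products of affine opens

For a pullback square of schemes `Y = X ×_S T` and affine opens `US ⊆ S`, `UT ⊆ T`, `UX ⊆ X` with
`UT`, `UX` lying over `US`, the open `UY = g⁻¹ UX ⊓ iY⁻¹ UT` of `Y` is affine and its ring of
sections is the pushout (tensor product) of the rings of sections.
-/

set_option autoImplicit false
universe u
open CategoryTheory CategoryTheory.Limits AlgebraicGeometry

namespace Groth.Agent.H68.PBO

variable {X Y S T : Scheme.{u}} {f : T ⟶ S} {g : Y ⟶ X} {iX : X ⟶ S} {iY : Y ⟶ T}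

/-- The product of affine opens in a fibre product is affine. -/
theorem isAffineOpen_of_isPullback (H : IsPullback g iY iX f) {US : S.Opens} {UT : T.Opens}
    {UX : X.Opens} (hS : IsAffineOpen US) (hT : IsAffineOpen UT) (hX : IsAffineOpen UX)
    (hUST : UT ≤ f ⁻¹ᵁ US) (hUSX : UX ≤ iX ⁻¹ᵁ US) {UY : Y.Opens}
    (hUY : UY = g ⁻¹ᵁ UX ⊓ iY ⁻¹ᵁ UT) : IsAffineOpen UY := by
  have hp := Scheme.Hom.isPullback_resLE H hUST hUSX hUY
  have : IsAffine US.toScheme := hS
  have : IsAffine UT.toScheme := hT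
  have : IsAffine UX.toScheme := hX
  exact IsAffine.of_isPullback hp

/-- The ring of sections over a product of affine opens in a fibre product is the pushout of the
rings of sections. -/
theorem isPushout_appLE (H : IsPullback g iY iX f) {US : S.Opens} {UT : T.Opens}
    {UX : X.Opens} (hS : IsAffineOpen US) (hT : IsAffineOpen UT) (hX : IsAffineOpen UX)
    (hUST : UT ≤ f ⁻¹ᵁ US) (hUSX : UX ≤ iX ⁻¹ᵁ US) {UY : Y.Opens}
    (hUY : UY = g ⁻¹ᵁ UX ⊓ iY ⁻¹ᵁ UT) :
    IsPushout (iX.appLE US UX hUSX) (f.appLE US UT hUST)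
      (g.appLE UX UY (hUY.le.trans inf_le_left)) (iY.appLE UT UY (hUY.le.trans inf_le_right)) := by
  have hp := Scheme.Hom.isPullback_resLE H hUST hUSX hUY
  have : IsAffine US.toScheme := hS
  have : IsAffine UT.toScheme := hT
  have : IsAffine UX.toScheme := hX
  have h1 := isPushout_appTop_of_isPullback hp
  refine h1.of_iso US.topIso UX.topIso UT.topIso UY.topIso ?_ ?_ ?_ ?_
  · exact ((arrowResLEAppIso iX US UX hUSX).hom.w).symm
  · exact ((arrowResLEAppIso f US UT hUST).hom.w).symm
  · exact ((arrowResLEAppIso g UX UY _).hom.w).symm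
  · exact ((arrowResLEAppIso iY UT UY _).hom.w).symm

end Groth.Agent.H68.PBO
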