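import Groth.Prelude.Def_SGA1
import Mathlib.AlgebraicGeometry.Morphisms.Integral
import Mathlib.RingTheory.Invariant.Basic

set_option autoImplicit false
universe u
open CategoryTheory AlgebraicGeometry

namespace Groth.Agent.H68.QuotAct

variable {X Y : Scheme.{u}} {G : Type u} [Group G] (ρ : G →* Aut X) (p : X ⟶ Y)
  (hinv : ∀ g : G, (ρ g).hom ≫ p = p) (U : Y.Opens)

/-- pullback of sections over `p⁻¹U` along `ρ g`. -/
noncomputable def σ (g : G) : Γ(X, p ⁻¹ᵁ U) →+* Γ(X, p ⁻¹ᵁ U) :=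
  ((ρ g).hom.appLE (p ⁻¹ᵁ U) (p ⁻¹ᵁ U) (SGA1.preimage_le_of_inv ρ p hinv g U)).hom

lemma σ_one : σ ρ p hinv U 1 = RingHom.id _ := by
  unfold σ
  have h : (ρ 1).hom = 𝟙 X := by rw [map_one]; rfl
  have : (ρ 1).hom.appLE (p ⁻¹ᵁ U) (p ⁻¹ᵁ U) (SGA1.preimage_le_of_inv ρ p hinv 1 U) =
      𝟙 _ := by
    have e : ∀ (φ : X ⟶ X) (hφ : φ = 𝟙 X) (V : X.Opens) (hV : V ≤ φ ⁻¹ᵁ V),
        φ.appLE V V hV = 𝟙 _ := by
      intro φ hφ V hV
      subst hφ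
      simp only [Scheme.Hom.appLE, Scheme.Hom.id_app, Category.id_comp]
      exact X.presheaf.map_id _
    exact e _ h _ _
  rw [this]; rfl

lemma σ_mul (g h : G) : σ ρ p hinv U (g * h) = (σ ρ p hinv U h).comp (σ ρ p hinv U g) := by
  unfold σ
  have hgh : (ρ (g * h)).hom = (ρ h).hom ≫ (ρ g).hom := by rw [map_mul]; rfl
  have e : ∀ (φ ψ : X ⟶ X) (hφ : φ = ψ) (V : X.Opens) (hV : V ≤ φ ⁻¹ᵁ V) (hV' : V ≤ ψ ⁻¹ᵁ V),
      φ.appLE V V hV = ψ.appLE V V hV' := by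
    intro φ ψ hφ V hV hV'
    subst hφ
    rfl
  rw [e _ _ hgh (p ⁻¹ᵁ U) _ (by
    rw [← hgh]; exact SGA1.preimage_le_of_inv ρ p hinv (g * h) U)]
  rw [← Scheme.Hom.appLE_comp_appLE (ρ h).hom (ρ g).hom (p ⁻¹ᵁ U) (p ⁻¹ᵁ U) (p ⁻¹ᵁ U)
    (SGA1.preimage_le_of_inv ρ p hinv g U) (SGA1.preimage_le_of_inv ρ p hinv h U)]
  rfl

/-- The left action of `G` on sections over `p⁻¹U`, as a monoid hom to ring endomorphisms. -/
noncomputable def act : G →* (Γ(X, p ⁻¹ᵁ U) →+* Γ(X, p ⁻¹ᵁ U)) where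
  toFun g := σ ρ p hinv U g⁻¹
  map_one' := by rw [inv_one, σ_one]; rfl
  map_mul' g h := by rw [mul_inv_rev, σ_mul]; rfl

/-- Sections over `p⁻¹U` are integral over sections over `U` for a quotient by a finite group. -/
theorem isIntegral_app [Finite G] (hp : SGA1.IsQuot ρ p) (U : Y.Opens) :
    (p.app U).hom.IsIntegral := by
  letI : Algebra Γ(Y, U) Γ(X, p ⁻¹ᵁ U) := (p.app U).hom.toAlgebra
  letI : MulSemiringAction G Γ(X, p ⁻¹ᵁ U) := MulSemiringAction.compHom _ (act ρ p hp.inv U)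
  haveI : Algebra.IsInvariant Γ(Y, U) Γ(X, p ⁻¹ᵁ U) G := ⟨fun b hb => by
    have h1 : b ∈ Set.range (p.app U).hom := by
      rw [hp.range_iff U b]
      intro g
      have := hb g⁻¹
      change σ ρ p hp.inv U (g⁻¹)⁻¹ b = b at this
      rwa [inv_inv] at this
    obtain ⟨a, ha⟩ := h1
    exact ⟨a, ha⟩⟩
  exact algebraMap_isIntegral_iff.2 (Algebra.IsInvariant.isIntegral Γ(Y, U) Γ(X, p ⁻¹ᵁ U) G)

/-- A quotient by a finite group is an integral morphism. -/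
theorem isIntegralHom [Finite G] (hp : SGA1.IsQuot ρ p) : IsIntegralHom p :=
  { hp.affine with isIntegral_app := fun U _ => isIntegral_app ρ p hp U }

end Groth.Agent.H68.QuotAct
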