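import Groth.Agent.H68.TSPure
import Mathlib

/-!
# Base change of the symmetric tensors of a flat algebra

For a flat `A`-algebra `B` and any `A`-module `Q`, the symmetric elements of `Q ⊗ T^d_A(B)` are
exactly the image of `Q ⊗ TS^d_A(B)` (`QBC.mem_range_lTensor_val`); together with the purity of
`TS ⊆ T^d` this gives an abstract base change statement for quotient charts (`QBC.main`).
-/

set_option autoImplicit false
universe u
open scoped TensorProduct

namespace Groth.Agent.H68.QBC

open Groth.Agent.H68 Groth.Agent.H68.LC Groth.Agent.H68.CR Groth.Agent.H68.FV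
  Groth.Agent.H68.TSG Groth.Agent.H68.TSP

section TS

variable {A : Type u} [CommRing A] {B : Type u} [CommRing B] [Algebra A B] [Module.Flat A B]
  (d : ℕ)

/-- The symmetric elements of `Q ⊗ T^d(B)` come from `Q ⊗ TS^d(B)` (`B` flat). -/
theorem mem_range_lTensor_val (Q : Type u) [AddCommGroup Q] [Module A Q]
    (z : Q ⊗[A] (⨂[A] _ : Fin d, B))
    (hsym : ∀ σ : Equiv.Perm (Fin d),
      (PiTensorProduct.reindex A (fun _ : Fin d => B) σ).toLinearMap.lTensor Q z = z) :
    z ∈ Set.range ((SymTen.TS A B d).val.toLinearMap.lTensor Q) := by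
  classical
  obtain ⟨l, y, W, hW, -, hz⟩ := exists_sym_rep (0 : Q →ₗ[A] Q) d z hsym (by simp)
  obtain ⟨Wbar, hbar⟩ := exists_bar W hW
  rw [sum_tmul_eq_sum_orbitSum d y W Wbar hbar] at hz
  refine ⟨∑ κ ∈ Finset.univ.image (fun c : Fin d → Fin l => kk c),
    Wbar κ ⊗ₜ[A] coeffE (tau A B d).law y Finset.univ κ, ?_⟩
  rw [hz, map_sum]
  refine Finset.sum_congr rfl fun κ _ => ?_
  rw [LinearMap.lTensor_tmul, orbitSum_eq_coeffE]
  congr 1
  exact val_coeffE_tau A B d y Finset.univ κ

end TS

section General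

variable {A : Type u} [CommRing A] {A' : Type u} [CommRing A'] [Algebra A A']
  {C T : Type u} [AddCommGroup C] [Module A C] [AddCommGroup T] [Module A T]
  {C' T' : Type u} [AddCommGroup C'] [Module A C'] [Module A' C'] [IsScalarTower A A' C']
  [AddCommGroup T'] [Module A T'] [Module A' T'] [IsScalarTower A A' T']
  (κ : C →ₗ[A] T) (ιC : C →ₗ[A] C') (ιT : T →ₗ[A] T')
  (hC : IsBaseChange A' ιC) (hT : IsBaseChange A' ιT)

include hC hT in
/-- A map between base changes which is induced by `κ` is `id ⊗ κ` up to the canonical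
identifications. -/
theorem equiv_lTensor (φ' : C' →ₗ[A'] T') (hφ : ∀ c, φ' (ιC c) = ιT (κ c))
    (w : A' ⊗[A] C) : φ' (hC.equiv w) = hT.equiv (κ.lTensor A' w) := by
  induction w using TensorProduct.induction_on with
  | zero => simp
  | tmul a c =>
    rw [LinearMap.lTensor_tmul, IsBaseChange.equiv_tmul, IsBaseChange.equiv_tmul, map_smul, hφ]
  | add x y hx hy => rw [map_add, map_add, map_add, map_add, hx, hy]

include hC hT in
theorem injective_of_isBaseChange (φ' : C' →ₗ[A'] T') (hφ : ∀ c, φ' (ιC c) = ιT (κ c))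
    (hinj : Function.Injective (κ.lTensor A')) : Function.Injective φ' := by
  intro x y hxy
  obtain ⟨x', rfl⟩ := hC.equiv.surjective x
  obtain ⟨y', rfl⟩ := hC.equiv.surjective y
  rw [equiv_lTensor κ ιC ιT hC hT φ' hφ, equiv_lTensor κ ιC ιT hC hT φ' hφ] at hxy
  rw [hinj (hT.equiv.injective hxy)]

include hC hT in
theorem mem_range_of_isBaseChange (φ' : C' →ₗ[A'] T') (hφ : ∀ c, φ' (ιC c) = ιT (κ c))
    {ι : Type*} (σT : ι → T →ₗ[A] T) (σT' : ι → T' →ₗ[A'] T')
    (hσ : ∀ i t, σT' i (ιT t) = ιT (σT i t))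
    (hran : ∀ z : A' ⊗[A] T, (∀ i, (σT i).lTensor A' z = z) → z ∈ Set.range (κ.lTensor A'))
    (y : T') (hy : ∀ i, σT' i y = y) : y ∈ Set.range φ' := by
  obtain ⟨z, rfl⟩ := hT.equiv.surjective y
  have hz : ∀ i, (σT i).lTensor A' z = z := by
    intro i
    apply hT.equiv.injective
    rw [← equiv_lTensor (σT i) ιT ιT hT hT (σT' i) (hσ i), hy i]
  obtain ⟨w, rfl⟩ := hran z hz
  exact ⟨hC.equiv w, equiv_lTensor κ ιC ιT hC hT φ' hφ w⟩

end General

section Main

variable {A : Type u} [CommRing A] {B : Type u} [CommRing B] [Algebra A B] [Module.Flat A B]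
  (n : ℕ) {A' : Type u} [CommRing A'] [Algebra A A']
  {C T : Type u} [AddCommGroup C] [Module A C] [AddCommGroup T] [Module A T]
  {C' T' : Type u} [AddCommGroup C'] [Module A C'] [Module A' C'] [IsScalarTower A A' C']
  [AddCommGroup T'] [Module A T'] [Module A' T'] [IsScalarTower A A' T']

/-- **Base change of a symmetric-tensor chart**: if `κ : C → T` identifies `C` with the symmetric
tensors in `T ≅ T^n_A(B)` (`B` flat), then after any base change `A → A'` the induced map
`C' = A' ⊗ C → T' = A' ⊗ T` is injective with image the invariants. -/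
theorem main (αe : (⨂[A] _ : Fin n, B) ≃ₗ[A] T) (κ : C →ₗ[A] T) (hκ : Function.Injective κ)
    (hrange : ∀ t, t ∈ Set.range κ ↔ ∃ s ∈ SymTen.TS A B n, αe s = t)
    (ιC : C →ₗ[A] C') (ιT : T →ₗ[A] T')
    (hC : IsBaseChange A' ιC) (hT : IsBaseChange A' ιT)
    (φ' : C' →ₗ[A'] T') (hφ : ∀ c, φ' (ιC c) = ιT (κ c))
    (σT' : Equiv.Perm (Fin n) → T' →ₗ[A'] T')
    (hσ : ∀ σ s, σT' σ (ιT (αe s)) =
      ιT (αe (PiTensorProduct.reindex A (fun _ : Fin n => B) σ s))) :
    Function.Injective φ' ∧ ∀ y, (∀ σ, σT' σ y = y) → y ∈ Set.range φ' := by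
  -- the composite `TS → T`
  set v : SymTen.TS A B n →ₗ[A] (⨂[A] _ : Fin n, B) := (SymTen.TS A B n).val.toLinearMap with hv
  set μ : SymTen.TS A B n →ₗ[A] T := αe.toLinearMap ∘ₗ v with hμ
  have hμinj : Function.Injective μ := αe.injective.comp Subtype.val_injective
  have hrg : LinearMap.range μ = LinearMap.range κ := by
    ext t
    rw [LinearMap.mem_range, LinearMap.mem_range]
    constructor
    · rintro ⟨m, rfl⟩
      exact (hrange _).mpr ⟨m.1, m.2, rfl⟩
    · intro ht
      obtain ⟨s, hs, rfl⟩ := (hrange t).mp ht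
      exact ⟨⟨s, hs⟩, rfl⟩
  let ε : SymTen.TS A B n ≃ₗ[A] C :=
    (LinearEquiv.ofInjective μ hμinj).trans
      ((LinearEquiv.ofEq _ _ hrg).trans (LinearEquiv.ofInjective κ hκ).symm)
  have hε : ∀ m, κ (ε m) = μ m := by
    intro m
    have h1 := (LinearEquiv.ofInjective κ hκ).apply_symm_apply
      ((LinearEquiv.ofEq _ _ hrg) (LinearEquiv.ofInjective μ hμinj m))
    have h2 := congrArg Subtype.val h1
    rw [LinearEquiv.ofInjective_apply] at h2
    exact h2
  have hκε : κ ∘ₗ ε.toLinearMap = μ := LinearMap.ext hε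
  have hlt : ∀ w : A' ⊗[A] SymTen.TS A B n,
      κ.lTensor A' ((ε.toLinearMap).lTensor A' w) = αe.toLinearMap.lTensor A' (v.lTensor A' w) := by
    intro w
    rw [← LinearMap.comp_apply, ← LinearMap.lTensor_comp, hκε, hμ, LinearMap.lTensor_comp,
      LinearMap.comp_apply]
  have hεsurj : Function.Surjective ((ε.toLinearMap).lTensor A') :=
    (LinearEquiv.lTensor A' ε).surjective
  have hαinj : Function.Injective (αe.toLinearMap.lTensor A') :=
    (LinearEquiv.lTensor A' αe).injective
  have hκinj : Function.Injective (κ.lTensor A') := by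
    intro x y hxy
    obtain ⟨x', rfl⟩ := hεsurj x
    obtain ⟨y', rfl⟩ := hεsurj y
    rw [hlt, hlt] at hxy
    rw [lTensor_val_injective n A' (hαinj hxy)]
  refine ⟨injective_of_isBaseChange κ ιC ιT hC hT φ' hφ hκinj, ?_⟩
  -- the action on `T`
  let σT : Equiv.Perm (Fin n) → T →ₗ[A] T := fun σ =>
    αe.toLinearMap ∘ₗ (PiTensorProduct.reindex A (fun _ : Fin n => B) σ).toLinearMap ∘ₗ
      αe.symm.toLinearMap
  refine mem_range_of_isBaseChange κ ιC ιT hC hT φ' hφ σT σT' ?_ ?_
  · intro σ t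
    have := hσ σ (αe.symm t)
    rw [LinearEquiv.apply_symm_apply] at this
    exact this
  · intro z hz
    -- pull back to the tensor power
    have hz0 : ∀ σ : Equiv.Perm (Fin n),
        (PiTensorProduct.reindex A (fun _ : Fin n => B) σ).toLinearMap.lTensor A'
          (αe.symm.toLinearMap.lTensor A' z) = αe.symm.toLinearMap.lTensor A' z := by
      intro σ
      apply hαinj
      have h1 := hz σ
      simp only [σT, LinearMap.lTensor_comp, LinearMap.comp_apply] at h1
      rw [h1, ← LinearMap.comp_apply, ← LinearMap.lTensor_comp]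
      have : αe.toLinearMap ∘ₗ αe.symm.toLinearMap = LinearMap.id := by
        ext t; simp
      rw [this, LinearMap.lTensor_id, LinearMap.id_apply]
    obtain ⟨w, hw⟩ := mem_range_lTensor_val n A' _ hz0
    refine ⟨(ε.toLinearMap).lTensor A' w, ?_⟩
    rw [hlt, hw, ← LinearMap.comp_apply, ← LinearMap.lTensor_comp]
    have : αe.toLinearMap ∘ₗ αe.symm.toLinearMap = LinearMap.id := by
      ext t; simp
    rw [this, LinearMap.lTensor_id, LinearMap.id_apply]

end Main

end Groth.Agent.H68.QBC
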