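import Groth.Agent.H68.QuotBC
import Mathlib

/-!
# Base change of a symmetric-tensor chart, in terms of pushouts of commutative rings
-/

set_option autoImplicit false
set_option linter.style.haveILetI false
universe u
open scoped TensorProduct
open CategoryTheory CategoryTheory.Limits

namespace Groth.Agent.H68.QBC

/-- The algebraic core of the base change of symmetric products: all rings are objects of
`CommRingCat` and the base changes are expressed by pushout squares. -/
theorem core {A A' B C T C' T' : CommRingCat.{u}} (n : ℕ)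
    (a : A ⟶ A') (aC : A ⟶ C) (aT : A ⟶ T) (κ : C ⟶ T)
    (ιC : C ⟶ C') (a'C : A' ⟶ C') (ιT : T ⟶ T') (a'T : A' ⟶ T') (φ' : C' ⟶ T')
    (hκ : aC ≫ κ = aT)
    (pushC : IsPushout aC a ιC a'C) (pushT : IsPushout aT a ιT a'T)
    (hφ1 : ιC ≫ φ' = κ ≫ ιT) (hφ2 : a'C ≫ φ' = a'T)
    [Algebra A B] [Module.Flat A B]
    (alpha : (⨂[A] _ : Fin n, B) →+* T) (hbij : Function.Bijective alpha)
    (halpha : ∀ x : A, alpha (algebraMap A (⨂[A] _ : Fin n, B) x) = aT.hom x)
    (σT : Equiv.Perm (Fin n) → (T ⟶ T)) (σT' : Equiv.Perm (Fin n) → (T' ⟶ T'))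
    (hperm : ∀ σ t, alpha (SymTen.perm A B n σ t) = (σT σ⁻¹).hom (alpha t))
    (hσ1 : ∀ σ, ιT ≫ σT' σ = σT σ ≫ ιT) (hσ2 : ∀ σ, a'T ≫ σT' σ = a'T)
    (hκinj : Function.Injective κ.hom)
    (hκran : ∀ t : T, t ∈ Set.range κ.hom ↔ ∀ σ, (σT σ).hom t = t) :
    Function.Injective φ'.hom ∧
      ∀ y : T', (∀ σ, (σT' σ).hom y = y) → y ∈ Set.range φ'.hom := by
  letI iAA' : Algebra A A' := a.hom.toAlgebra
  letI iAC : Algebra A C := aC.hom.toAlgebra
  letI iAT : Algebra A T := aT.hom.toAlgebra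
  letI iCC' : Algebra C C' := ιC.hom.toAlgebra
  letI iA'C' : Algebra A' C' := a'C.hom.toAlgebra
  letI iAC' : Algebra A C' := (aC ≫ ιC).hom.toAlgebra
  letI iTT' : Algebra T T' := ιT.hom.toAlgebra
  letI iA'T' : Algebra A' T' := a'T.hom.toAlgebra
  letI iAT' : Algebra A T' := (aT ≫ ιT).hom.toAlgebra
  haveI : IsScalarTower A C C' := .of_algebraMap_eq' rfl
  haveI : IsScalarTower A T T' := .of_algebraMap_eq' rfl
  haveI : IsScalarTower A A' C' := .of_algebraMap_eq' (by
    change (aC ≫ ιC).hom = a'C.hom.comp a.hom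
    rw [pushC.w]
    rfl)
  haveI : IsScalarTower A A' T' := .of_algebraMap_eq' (by
    change (aT ≫ ιT).hom = a'T.hom.comp a.hom
    rw [pushT.w]
    rfl)
  have hC : Algebra.IsPushout A A' C C' := CommRingCat.isPushout_iff_isPushout.mp pushC.flip
  have hT : Algebra.IsPushout A A' T T' := CommRingCat.isPushout_iff_isPushout.mp pushT.flip
  -- the linear maps
  let αl : (⨂[A] _ : Fin n, B) →ₗ[A] T :=
    { toFun := alpha
      map_add' := map_add alpha
      map_smul' := fun x t => by
        rw [Algebra.smul_def, map_mul, halpha, RingHom.id_apply, Algebra.smul_def]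
        rfl }
  let αe : (⨂[A] _ : Fin n, B) ≃ₗ[A] T := LinearEquiv.ofBijective αl hbij
  let κl : C →ₗ[A] T :=
    { toFun := κ.hom
      map_add' := map_add κ.hom
      map_smul' := fun x c => by
        rw [Algebra.smul_def, map_mul, RingHom.id_apply, Algebra.smul_def]
        congr 1
        exact congrArg (fun ψ : A ⟶ T => ψ.hom x) hκ }
  let φl : C' →ₗ[A'] T' :=
    { toFun := φ'.hom
      map_add' := map_add φ'.hom
      map_smul' := fun x c => by
        rw [Algebra.smul_def, map_mul, RingHom.id_apply, Algebra.smul_def]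
        congr 1
        exact congrArg (fun ψ : A' ⟶ T' => ψ.hom x) hφ2 }
  let σl : Equiv.Perm (Fin n) → T' →ₗ[A'] T' := fun σ =>
    { toFun := (σT' σ⁻¹).hom
      map_add' := map_add (σT' σ⁻¹).hom
      map_smul' := fun x c => by
        rw [Algebra.smul_def, map_mul, RingHom.id_apply, Algebra.smul_def]
        congr 1
        exact congrArg (fun ψ : A' ⟶ T' => ψ.hom x) (hσ2 σ⁻¹) }
  have hαe : ∀ s, αe s = alpha s := fun s => rfl
  have hmain := main (A := A) (B := B) n (A' := A') αe κl hκinj ?_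
    (IsScalarTower.toAlgHom A C C').toLinearMap (IsScalarTower.toAlgHom A T T').toLinearMap
    hC.out hT.out φl ?_ σl ?_
  · refine ⟨hmain.1, fun y hy => hmain.2 y fun σ => hy σ⁻¹⟩
  · -- the range of `κ`
    intro t
    constructor
    · intro ht
      have hinvt := (hκran t).mp ht
      refine ⟨αe.symm t, ?_, αe.apply_symm_apply t⟩
      rw [SymTen.mem_TS_iff]
      intro σ
      apply hbij.1
      rw [← SymTen.perm_apply, hperm, ← hαe, αe.apply_symm_apply]
      exact hinvt σ⁻¹
    · rintro ⟨s, hs, rfl⟩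
      refine (hκran _).mpr ?_
      intro σ
      have h1 := hperm σ⁻¹ s
      rw [inv_inv] at h1
      rw [hαe, ← h1, SymTen.perm_apply, (SymTen.mem_TS_iff _ _ _ s).mp hs σ⁻¹]
  · intro c
    exact congrArg (fun ψ : C ⟶ T' => ψ.hom c) hφ1
  · intro σ s
    change (σT' σ⁻¹).hom (ιT.hom (alpha s)) =
      ιT.hom (alpha (PiTensorProduct.reindex A (fun _ : Fin n => B) σ s))
    rw [← SymTen.perm_apply, hperm]
    exact congrArg (fun ψ : T ⟶ T' => ψ.hom (alpha s)) (hσ1 σ⁻¹)

end Groth.Agent.H68.QBC
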