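import Groth.Agent.H37.QuotLoc4
import Mathlib

/-!
# Checking the quotient condition on a chart

If `p : X ⟶ Y` restricts, over an open `Y₀ ⊆ Y` with preimage `X₀`, to a quotient `p₀ : X₀ ⟶ Y₀`,
then `p` satisfies the quotient condition at every open `V ⊆ Y₀`.
-/

set_option autoImplicit false
universe u

open CategoryTheory Limits AlgebraicGeometry

namespace Groth.Agent.H68.QC

open Groth.Agent.H37

variable {X Y X₀ Y₀ : Scheme.{u}} {G : Type u} [Group G]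

theorem quotAt_of_chart (ρ : G →* Aut X) (p : X ⟶ Y) (hinv : ∀ g : G, (ρ g).hom ≫ p = p)
    (a : X₀ ⟶ X) [IsOpenImmersion a] (b : Y₀ ⟶ Y) [IsOpenImmersion b] (p₀ : X₀ ⟶ Y₀)
    (hsq : p₀ ≫ b = a ≫ p) (ρ₀ : G →* Aut X₀)
    (hρ₀ : ∀ g : G, (ρ₀ g).hom ≫ a = a ≫ (ρ g).hom) (hp₀ : SGA1.IsQuot ρ₀ p₀)
    (hpre : ∀ x : X, p x ∈ Set.range b → x ∈ Set.range a)
    (V : Y.Opens) (hV : V ≤ b.opensRange) : QuotAt ρ p V (p ⁻¹ᵁ V) := by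
  have hle : ∀ g, p ⁻¹ᵁ V ≤ (ρ g).hom ⁻¹ᵁ (p ⁻¹ᵁ V) :=
    fun g => SGA1.preimage_le_of_inv ρ p hinv g V
  -- opens
  obtain ⟨V₀, hV₀⟩ : ∃ V₀ : Y₀.Opens, V₀ = b ⁻¹ᵁ V := ⟨_, rfl⟩
  obtain ⟨T, hT⟩ : ∃ T : X₀.Opens, T = p₀ ⁻¹ᵁ V₀ := ⟨_, rfl⟩
  have hT' : T = a ⁻¹ᵁ (p ⁻¹ᵁ V) := by
    rw [hT, hV₀, ← Scheme.Hom.comp_preimage, hsq, Scheme.Hom.comp_preimage]
  have hV'a : p ⁻¹ᵁ V ≤ a.opensRange := fun x hx => hpre x (hV hx)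
  have hq := QuotAt.of_isQuot hp₀ V₀
  have hq' : QuotAt ρ₀ p₀ V₀ T := QuotAt.of_eq hT hq
  -- the two vertical bijections
  have hβ : Function.Bijective (b.appLE V V₀ hV₀.le).hom := by
    subst hV₀
    rw [Scheme.Hom.appLE_eq_app]
    haveI := b.isIso_app V hV
    exact ConcreteCategory.bijective_of_isIso (b.app V)
  have hα : Function.Bijective (a.appLE (p ⁻¹ᵁ V) T hT'.le).hom := by
    subst hT'
    rw [Scheme.Hom.appLE_eq_app]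
    haveI := a.isIso_app (p ⁻¹ᵁ V) hV'a
    exact ConcreteCategory.bijective_of_isIso (a.app (p ⁻¹ᵁ V))
  -- the square on sections
  have hleT : T ≤ (a ≫ p) ⁻¹ᵁ V := by rw [Scheme.Hom.comp_preimage]; exact hT'.le
  have hsqΓ : p.appLE V (p ⁻¹ᵁ V) le_rfl ≫ a.appLE (p ⁻¹ᵁ V) T hT'.le =
      b.appLE V V₀ hV₀.le ≫ p₀.appLE V₀ T hT.le := by
    rw [Scheme.Hom.appLE_comp_appLE, Scheme.Hom.appLE_comp_appLE]
    exact (appLE_congr_hom hsq V T (by rw [hsq]; exact hleT)).symm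
  -- equivariance of `a` on sections
  have hequi : ∀ (g : G) (t : Γ(X, p ⁻¹ᵁ V)),
      ((ρ₀ g).hom.appLE T T (hq'.le g)).hom ((a.appLE (p ⁻¹ᵁ V) T hT'.le).hom t) =
      (a.appLE (p ⁻¹ᵁ V) T hT'.le).hom
        (((ρ g).hom.appLE (p ⁻¹ᵁ V) (p ⁻¹ᵁ V) (hle g)).hom t) := by
    intro g t
    have h1 := Scheme.Hom.appLE_comp_appLE a (ρ g).hom
      (p ⁻¹ᵁ V) (p ⁻¹ᵁ V) T (hle g) hT'.le
    have h2 := Scheme.Hom.appLE_comp_appLE (ρ₀ g).hom a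
      (p ⁻¹ᵁ V) T T hT'.le (hq'.le g)
    have h3 := appLE_congr_hom (hρ₀ g) (p ⁻¹ᵁ V) T
      (by rw [Scheme.Hom.comp_preimage]; exact (hq'.le g).trans (by rw [hT']))
    have h4 := h2.trans (h3.trans h1.symm)
    exact congrArg (fun φ => CommRingCat.Hom.hom φ t) h4
  have hfun : ∀ t : Γ(Y, V), (a.appLE (p ⁻¹ᵁ V) T hT'.le).hom
      ((p.appLE V (p ⁻¹ᵁ V) le_rfl).hom t) =
      (p₀.appLE V₀ T hT.le).hom ((b.appLE V V₀ hV₀.le).hom t) := fun t =>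
    congrArg (fun φ => CommRingCat.Hom.hom φ t) hsqΓ
  refine ⟨rfl, hle, ?_, fun s => ⟨?_, fun hs => ?_⟩⟩
  · intro t₁ t₂ h
    apply hβ.1
    apply hq'.injective
    rw [← hfun, ← hfun, h]
  · rintro ⟨t, rfl⟩ g
    exact appLE_appLE_of_inv hinv V _ le_rfl g (hle g) t
  · have hinv₀ : ∀ g : G, ((ρ₀ g).hom.appLE T T (hq'.le g)).hom
        ((a.appLE (p ⁻¹ᵁ V) T hT'.le).hom s) = (a.appLE (p ⁻¹ᵁ V) T hT'.le).hom s := by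
      intro g
      rw [hequi g s, hs g]
    obtain ⟨t₀, ht₀⟩ := (hq'.range_iff _).mpr hinv₀
    obtain ⟨t, rfl⟩ := hβ.2 t₀
    refine ⟨t, ?_⟩
    apply hα.1
    rw [hfun, ht₀]

end Groth.Agent.H68.QC
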