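import Groth.Agent.H68.QuotGlue
import Groth.Agent.H68.QuotChart
import Mathlib

/-!
# Existence of quotients by finite groups: every orbit in an affine open
-/

set_option autoImplicit false
set_option linter.style.haveILetI false
universe u

open CategoryTheory Limits AlgebraicGeometry

namespace Groth.Agent.H68.QG

open Groth.Agent.H37 Groth.Agent.H68.QT Groth.Agent.H68.QE Groth.Agent.H68.QC

variable {X : Scheme.{u}} {G : Type u} [Group G] [Finite G] {ρ : G →* Aut X}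

variable (ρ) in
/-- The glued scheme, with the properties we need. -/
theorem exists_glue : ∃ (Yc : Scheme.{u}) (ι : ∀ j : J ρ, Q j ⟶ Yc),
    (∀ j, IsOpenImmersion (ι j)) ∧
    (∀ (i j : J ρ) (h : i.1 ≤ j.1), d h ≫ ι j = ι i) ∧
    (∀ (i j : J ρ) (xi : Q i) (xj : Q j), ι i xi = ι j xj →
      ∃ (k : J ρ) (hki : k.1 ≤ i.1) (hkj : k.1 ≤ j.1) (z : Q k), d hki z = xi ∧ d hkj z = xj) ∧
    (∀ y : Yc, ∃ (j : J ρ) (yj : Q j), ι j yj = y) := by
  refine ⟨colimit (F ρ), fun j => colimit.ι (F ρ) j, fun j => inferInstanceAs (IsOpenImmersion (colimit.ι (F ρ) j)),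
    fun i j h => colimit.w (F ρ) (homOfLE h), ?_, ?_⟩
  · intro i j xi xj h
    obtain ⟨k, fi, fj, z, hzi, hzj⟩ := (Scheme.IsLocallyDirected.ι_eq_ι_iff (F ρ)).mp h
    exact ⟨k, leOfHom fi, leOfHom fj, z, hzi, hzj⟩
  · intro y
    exact Scheme.IsLocallyDirected.ι_jointly_surjective (F ρ) y

/-- If the stable opens admitting a quotient cover `X`, then `X` admits a quotient. -/
theorem exists_isQuot_of_cover (hcov : ∀ x : X, ∃ W : X.Opens, IsGood ρ W ∧ x ∈ W) :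
    ∃ (Y : Scheme.{u}) (p : X ⟶ Y), SGA1.IsQuot ρ p := by
  classical
  obtain ⟨Yc, ι, hιimm, hdι', hιeq, hιsurj⟩ := exists_glue ρ
  have hdι : ∀ {i j : J ρ} (h : i.1 ≤ j.1), d h ≫ ι j = ι i := fun {i j} h => hdι' i j h
  -- the cover of `X`
  have hU : TopologicalSpace.IsOpenCover (fun j : J ρ => j.1) := by
    rw [TopologicalSpace.IsOpenCover, eq_top_iff]
    intro x _
    obtain ⟨W, hW, hxW⟩ := hcov x
    exact TopologicalSpace.Opens.mem_iSup.mpr ⟨⟨W, hW⟩, hxW⟩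
  let 𝒰 : X.OpenCover := X.openCoverOfIsOpenCover (fun j : J ρ => j.1) hU
  -- compatibility
  have hcompat : ∀ i j : J ρ, pullback.fst (𝒰.f i) (𝒰.f j) ≫ q i ≫ ι i =
      pullback.snd (𝒰.f i) (𝒰.f j) ≫ q j ≫ ι j := by
    intro i j
    change pullback.fst i.1.ι j.1.ι ≫ q i ≫ ι i = pullback.snd i.1.ι j.1.ι ≫ q j ≫ ι j
    let l : J ρ := ⟨i.1 ⊓ j.1, isGood_inf i j⟩
    have hli : l.1 ≤ i.1 := inf_le_left
    have hlj : l.1 ≤ j.1 := inf_le_right
    have hr : Set.range (pullback.fst i.1.ι j.1.ι ≫ i.1.ι) ⊆ Set.range l.1.ι := by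
      rintro _ ⟨y, rfl⟩
      rw [Scheme.Opens.range_ι]
      refine ⟨?_, ?_⟩
      · rw [Scheme.Hom.comp_apply]
        exact (pullback.fst i.1.ι j.1.ι y).2
      · rw [pullback.condition, Scheme.Hom.comp_apply]
        exact (pullback.snd i.1.ι j.1.ι y).2
    let t := IsOpenImmersion.lift l.1.ι (pullback.fst i.1.ι j.1.ι ≫ i.1.ι) hr
    have ht : t ≫ l.1.ι = pullback.fst i.1.ι j.1.ι ≫ i.1.ι := IsOpenImmersion.lift_fac _ _ _
    have ht1 : t ≫ X.homOfLE hli = pullback.fst i.1.ι j.1.ι := by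
      rw [← cancel_mono i.1.ι, Category.assoc, Scheme.homOfLE_ι, ht]
    have ht2 : t ≫ X.homOfLE hlj = pullback.snd i.1.ι j.1.ι := by
      rw [← cancel_mono j.1.ι, Category.assoc, Scheme.homOfLE_ι, ht, pullback.condition]
    rw [← ht1, ← ht2, Category.assoc, Category.assoc, ← q_d_assoc hli, ← q_d_assoc hlj,
      hdι hli, hdι hlj]
  let p : X ⟶ Yc := 𝒰.glueMorphisms (fun j => q j ≫ ι j) hcompat
  have hp1 : ∀ j : J ρ, j.1.ι ≫ p = q j ≫ ι j := fun j =>
    𝒰.ι_glueMorphisms (fun j => q j ≫ ι j) hcompat j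
  -- invariance
  have hinv : ∀ g : G, (ρ g).hom ≫ p = p := by
    intro g
    refine 𝒰.hom_ext _ _ fun j => ?_
    change j.1.ι ≫ (ρ g).hom ≫ p = j.1.ι ≫ p
    rw [← reassoc_of% resAct_ι ρ j.1 (stab j) g, hp1, reassoc_of% (hq j).inv g]
  -- preimage of a chart
  have hpre : ∀ (j : J ρ) (x : X), p x ∈ Set.range (ι j) → x ∈ Set.range j.1.ι := by
    rintro j x ⟨yj, hyj⟩
    obtain ⟨W, hW, hxW⟩ := hcov x
    let i : J ρ := ⟨W, hW⟩
    let xi : i.1.toScheme := ⟨x, hxW⟩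
    have h1 : p (i.1.ι xi) = ι i (q i xi) := by
      have := congrArg (fun φ : i.1.toScheme ⟶ Yc => φ xi) (hp1 i)
      simpa only [Scheme.Hom.comp_apply] using this
    have h1' : p x = ι i (q i xi) := h1
    rw [h1'] at hyj
    obtain ⟨k, hkj, hki, z, hzj, hzi⟩ := hιeq j i yj (q i xi) hyj
    have h2 : q i xi ∈ Set.range (d hki) := ⟨z, hzi⟩
    rw [range_d] at h2
    obtain ⟨xk, hxk⟩ := h2
    have h3 : x ∈ k.1 := by
      have := congrArg Subtype.val hxk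
      rw [homOfLE_apply_val] at this
      rw [show x = xi.1 from rfl, ← this]
      exact xk.2
    rw [Scheme.Opens.range_ι]
    exact hkj h3
  -- charts
  have hchart : ∀ (j : J ρ) (V : (Yc).Opens), V ≤ (ι j).opensRange →
      QuotAt ρ p V (p ⁻¹ᵁ V) := fun j V hV =>
    quotAt_of_chart ρ p hinv j.1.ι (ι j) (q j) (hp1 j).symm (resAct ρ j.1 (stab j))
      (resAct_ι ρ j.1 (stab j)) (hq j) (hpre j) V hV
  have hYcov : ∀ y : Yc, ∃ j : J ρ, y ∈ (ι j).opensRange := by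
    intro y
    obtain ⟨j, yj, rfl⟩ := hιsurj y
    exact ⟨j, yj, rfl⟩
  -- affineness
  have haff : IsAffineHom p := by
    apply isAffineHom_of_forall_exists_isAffineOpen
    intro y
    obtain ⟨j, yj, rfl⟩ := hιsurj y
    obtain ⟨_, ⟨V₀, hV₀ : IsAffineOpen V₀, rfl⟩, hyV₀, -⟩ :=
      (Q j).isBasis_affineOpens.exists_subset_of_mem_open (Set.mem_univ yj) isOpen_univ
    refine ⟨ι j ''ᵁ V₀, ⟨yj, hyV₀, rfl⟩, hV₀.image_of_isOpenImmersion (ι j), ?_⟩
    haveI := (hq j).affine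
    have h1 : IsAffineOpen (j.1.ι ''ᵁ (q j ⁻¹ᵁ V₀)) :=
      (hV₀.preimage (q j)).image_of_isOpenImmersion j.1.ι
    have h2 : p ⁻¹ᵁ (ι j ''ᵁ V₀) = j.1.ι ''ᵁ (q j ⁻¹ᵁ V₀) := by
      ext x
      constructor
      · rintro ⟨y₀, hy₀, hy₀x⟩
        have hx : x ∈ Set.range j.1.ι := hpre j x ⟨y₀, hy₀x⟩
        obtain ⟨xj, rfl⟩ := hx
        refine ⟨xj, ?_, rfl⟩
        have h3 : p (j.1.ι xj) = ι j (q j xj) := by
          have := congrArg (fun φ : j.1.toScheme ⟶ Yc => φ xj) (hp1 j)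
          simpa only [Scheme.Hom.comp_apply] using this
        rw [h3] at hy₀x
        have := (ι j).isOpenEmbedding.injective hy₀x
        change q j xj ∈ V₀
        rw [← this]
        exact hy₀
      · rintro ⟨xj, hxj, rfl⟩
        refine ⟨q j xj, hxj, ?_⟩
        have h3 : p (j.1.ι xj) = ι j (q j xj) := by
          have := congrArg (fun φ : j.1.toScheme ⟶ Yc => φ xj) (hp1 j)
          simpa only [Scheme.Hom.comp_apply] using this
        exact h3.symm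
    rw [h2]
    exact h1
  refine ⟨Yc, p, isQuot_of_quotAt haff hinv (quotAt_of_basis hinv
    {V | ∃ j : J ρ, V ≤ (ι j).opensRange} ?_ ?_)⟩
  · intro U y hy
    obtain ⟨j, hj⟩ := hYcov y
    exact ⟨U ⊓ (ι j).opensRange, ⟨j, inf_le_right⟩, ⟨hy, hj⟩, inf_le_left⟩
  · rintro V ⟨j, hV⟩
    exact hchart j V hV

/-- **Existence of the quotient** when every orbit is contained in an affine open. -/
theorem exists_isQuot (h : ∀ x : X, ∃ U : X.Opens, IsAffineOpen U ∧ ∀ g : G, (ρ g).hom.base x ∈ U) :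
    ∃ (Y : Scheme.{u}) (p : X ⟶ Y), SGA1.IsQuot ρ p := by
  apply exists_isQuot_of_cover
  intro x
  obtain ⟨U, hU, hx⟩ := h x
  obtain ⟨W, hW, hst, hxW⟩ := exists_stable_affine ρ x U hU hx
  exact ⟨W, isGood_of_isAffineOpen hW hst, hxW⟩

end Groth.Agent.H68.QG
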