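import Groth.Agent.H68.QuotTransport
import Groth.Agent.H37.QuotLoc3
import Mathlib

/-!
# Existence of the quotient of an affine scheme by a finite group
-/

set_option autoImplicit false
universe u

open CategoryTheory Limits AlgebraicGeometry

namespace Groth.Agent.H68.QE

open Groth.Agent.H37 Groth.Agent.H68.QT

variable {Z : Scheme.{u}} {G : Type u} [Group G] (ρ : G →* Aut Z)

/-- The action on global sections: `g` acts by pulling back along `ρ g⁻¹`. -/
noncomputable def ringAut : G →* RingAut Γ(Z, ⊤) where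
  toFun g := RingEquiv.ofRingHom ((ρ g⁻¹).hom.appTop).hom ((ρ g).hom.appTop).hom
    (by
      ext a
      change ((ρ g⁻¹).hom.appTop).hom (((ρ g).hom.appTop).hom a) = a
      rw [← CommRingCat.comp_apply, ← Scheme.Hom.comp_appTop, ← rho_mul, mul_inv_cancel, rho_one]
      simp)
    (by
      ext a
      change ((ρ g).hom.appTop).hom (((ρ g⁻¹).hom.appTop).hom a) = a
      rw [← CommRingCat.comp_apply, ← Scheme.Hom.comp_appTop, ← rho_mul, inv_mul_cancel, rho_one]
      simp)
  map_one' := by
    ext a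
    change ((ρ (1 : G)⁻¹).hom.appTop).hom a = a
    rw [inv_one, rho_one]
    simp
  map_mul' g h := by
    ext a
    change ((ρ (g * h)⁻¹).hom.appTop).hom a =
      ((ρ g⁻¹).hom.appTop).hom (((ρ h⁻¹).hom.appTop).hom a)
    rw [mul_inv_rev, rho_mul, Scheme.Hom.comp_appTop]
    rfl

/-- The induced action on global sections. -/
@[instance_reducible]
noncomputable def actΓ : MulSemiringAction G Γ(Z, ⊤) :=
  MulSemiringAction.compHom Γ(Z, ⊤) (ringAut ρ)

lemma actΓ_smul (g : G) (a : Γ(Z, ⊤)) :
    letI := actΓ ρ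
    g • a = ((ρ g⁻¹).hom.appTop).hom a := rfl

variable [Finite G] [IsAffine Z]

/-- **Existence of quotients of affine schemes by finite groups.** -/
theorem exists_isQuot_of_isAffine : ∃ (Q : Scheme.{u}) (q : Z ⟶ Q), SGA1.IsQuot ρ q := by
  letI := actΓ ρ
  let A : Type u := Γ(Z, ⊤)
  let B : Subring A := FixedPoints.subring A G
  haveI : Algebra.IsInvariant B A G := ⟨fun a ha => ⟨⟨a, ha⟩, rfl⟩⟩
  let e : Z ≅ Spec (CommRingCat.of A) := Z.isoSpec
  let ρS : G →* Aut (Spec (CommRingCat.of A)) := (e.conjAut.toMonoidHom).comp ρ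
  have hρS : ∀ g : G, (ρS g).hom =
      Spec.map (CommRingCat.ofHom (MulSemiringAction.toRingHom G A g⁻¹)) := by
    intro g
    change (e.conjAut (ρ g)).hom = _
    rw [Iso.conjAut_hom, Iso.conj_apply]
    have h1 := Scheme.isoSpec_inv_naturality (ρ g).hom
    have h2 : Spec.map (CommRingCat.ofHom (MulSemiringAction.toRingHom G A g⁻¹)) =
        Spec.map ((ρ g).hom.appTop) := by
      congr 1
      ext a
      change ((ρ g⁻¹⁻¹).hom.appTop).hom a = _
      rw [inv_inv]
    rw [h2]
    change Z.isoSpec.inv ≫ (ρ g).hom ≫ Z.isoSpec.hom = _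
    rw [← reassoc_of% h1, Iso.inv_hom_id, Category.comp_id]
  have hrange : Set.range (fun g : G => (ρS g).hom) = Set.range
      (fun g : G => Spec.map (CommRingCat.ofHom (MulSemiringAction.toRingHom G A g))) := by
    ext φ
    constructor
    · rintro ⟨g, rfl⟩
      exact ⟨g⁻¹, (hρS g).symm⟩
    · rintro ⟨g, rfl⟩
      refine ⟨g⁻¹, ?_⟩
      change (ρS g⁻¹).hom = _
      rw [hρS, inv_inv]
  have hquot := isQuot_Spec_map_of_isInvariant G A B ρS hrange
  refine ⟨_, e.hom ≫ Spec.map (CommRingCat.ofHom (algebraMap B A)), ?_⟩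
  refine isQuot_of_iso hquot e (MonoidHom.id G) Function.surjective_id ρ ?_
  intro h
  change (ρ h).hom ≫ e.hom = e.hom ≫ (e.conjAut (ρ h)).hom
  rw [Iso.conjAut_hom, Iso.conj_apply, Iso.hom_inv_id_assoc]

end Groth.Agent.H68.QE
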