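import Groth.Agent.H37.QuotLoc5
import Groth.Agent.H22.AffNhd
import Mathlib

/-!
# Stable affine neighbourhoods of orbits

If the orbit of `x` under a finite group of automorphisms lies in an affine open, then `x` has a
stable affine open neighbourhood.
-/

set_option autoImplicit false
universe u

open CategoryTheory Limits AlgebraicGeometry

namespace Groth.Agent.H68.QE

open Groth.Agent.H37

variable {X : Scheme.{u}} {G : Type u} [Group G] [Finite G] (ρ : G →* Aut X)

omit [Finite G] in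
lemma rho_apply_apply (g h : G) (z : X) : (ρ g).hom ((ρ h).hom z) = (ρ (g * h)).hom z := by
  rw [rho_mul, Scheme.Hom.comp_apply]

theorem exists_stable_affine (x : X) (U : X.Opens) (hU : IsAffineOpen U)
    (hx : ∀ g : G, (ρ g).hom x ∈ U) :
    ∃ W : X.Opens, IsAffineOpen W ∧ (∀ g : G, W ≤ (ρ g).hom ⁻¹ᵁ W) ∧ x ∈ W := by
  classical
  have : Fintype G := Fintype.ofFinite G
  -- the stable open `U'`
  let U' : X.Opens := ⟨⋂ g : G, (ρ g).hom ⁻¹' (U : Set X),
    isOpen_iInter_of_finite fun g => ((ρ g).hom ⁻¹ᵁ U).2⟩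
  have hmemU' : ∀ z : X, z ∈ U' ↔ ∀ g : G, (ρ g).hom z ∈ U := fun z => by
    change z ∈ ⋂ g : G, (ρ g).hom ⁻¹' (U : Set X) ↔ _
    simp only [Set.mem_iInter, Set.mem_preimage, SetLike.mem_coe]
  let S : Set X := Set.range fun g : G => (ρ g).hom x
  have hSfin : S.Finite := Set.finite_range _
  have hSU : S ⊆ U := by rintro _ ⟨g, rfl⟩; exact hx g
  have hSU' : S ⊆ U' := by
    rintro _ ⟨h, rfl⟩
    rw [SetLike.mem_coe, hmemU']
    intro g
    rw [rho_apply_apply]
    exact hx _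
  obtain ⟨a, hSa, haU'⟩ :=
    Groth.Agent.H22.AffNhd.exists_basicOpen_of_finite hU U' S hSfin hSU hSU'
  set D : X.Opens := X.basicOpen a with hD
  have hDaff : IsAffineOpen D := hU.basicOpen a
  have hle : ∀ g : G, D ≤ (ρ g).hom ⁻¹ᵁ U := fun g z hz => (hmemU' z).mp (haU' hz) g
  let c : G → Γ(X, D) := fun g => ((ρ g).hom.appLE U D (hle g)).hom a
  have hc : ∀ g : G, X.basicOpen (c g) = D ⊓ (ρ g).hom ⁻¹ᵁ D := fun g =>
    Scheme.basicOpen_appLE (ρ g).hom D U (hle g) a
  have hprod : ∀ s : Finset G, ∀ z : X,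
      z ∈ X.basicOpen (∏ g ∈ s, c g) ↔ z ∈ D ∧ ∀ g ∈ s, (ρ g).hom z ∈ D := by
    intro s
    induction s using Finset.induction_on with
    | empty =>
      intro z
      rw [Finset.prod_empty, Scheme.basicOpen_one]
      simp
    | insert g s hg ih =>
      intro z
      rw [Finset.prod_insert hg, Scheme.basicOpen_mul]
      change (z ∈ X.basicOpen (c g) ∧ z ∈ X.basicOpen (∏ g ∈ s, c g)) ↔ _
      rw [ih z, hc g]
      change ((z ∈ D ∧ (ρ g).hom z ∈ D) ∧ _) ↔ _
      simp only [Finset.mem_insert, forall_eq_or_imp]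
      tauto
  refine ⟨X.basicOpen (∏ g ∈ Finset.univ, c g), hDaff.basicOpen _, ?_, ?_⟩
  · intro h z hz
    rw [hprod] at hz
    change (ρ h).hom z ∈ X.basicOpen (∏ g ∈ Finset.univ, c g)
    rw [hprod]
    refine ⟨hz.2 h (Finset.mem_univ _), fun g _ => ?_⟩
    rw [rho_apply_apply]
    exact hz.2 _ (Finset.mem_univ _)
  · rw [hprod]
    refine ⟨?_, fun g _ => hSa ⟨g, rfl⟩⟩
    have h1 : (ρ (1 : G)).hom x ∈ X.basicOpen a := hSa ⟨1, rfl⟩
    rw [rho_one] at h1
    exact h1

end Groth.Agent.H68.QE
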