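import Groth.Agent.H68.QuotOpenImm
import Groth.Agent.H68.QuotExistAff
import Groth.Agent.H68.QuotStableAff
import Groth.Agent.H15.QuotTop
import Mathlib

/-!
# Gluing quotients by a finite group
-/

set_option autoImplicit false
set_option linter.style.haveILetI false
universe u

open CategoryTheory Limits AlgebraicGeometry

namespace Groth.Agent.H68.QG

open Groth.Agent.H37 Groth.Agent.H68.QT Groth.Agent.H68.QE

section OpenImm

variable {X Y P₀ : Scheme.{u}} {G : Type u} [Group G] [Finite G] {ρ : G →* Aut X} {p : X ⟶ Y}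

/-- The quotient of an equivariant open immersion is an open of the quotient. -/
theorem exists_quot_of_openImmersion (hp : SGA1.IsQuot ρ p) (j : P₀ ⟶ X) [IsOpenImmersion j]
    (ρ' : G →* Aut P₀) (hρ' : ∀ g, (ρ' g).hom ≫ j = j ≫ (ρ g).hom) :
    ∃ (U : Y.Opens) (P : P₀ ⟶ U.toScheme), P ≫ U.ι = j ≫ p ∧ SGA1.IsQuot ρ' P ∧
      ∀ x : X, p x ∈ U ↔ x ∈ Set.range j := by
  have hstab : ∀ (g : G) (x : X), x ∈ Set.range j → (ρ g).hom x ∈ Set.range j := by
    rintro g _ ⟨y, rfl⟩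
    refine ⟨(ρ' g).hom y, ?_⟩
    rw [← Scheme.Hom.comp_apply, hρ', Scheme.Hom.comp_apply]
  have hpre : p.base ⁻¹' (p.base '' Set.range j) = Set.range j := by
    ext z
    simp only [Set.mem_preimage, Set.mem_image]
    constructor
    · rintro ⟨w, hw, hwz⟩
      obtain ⟨g, hg⟩ := (Groth.Agent.H15.Quot.base_eq_iff hp w z).mp hwz
      rw [← hg]
      exact hstab g w hw
    · intro hz
      exact ⟨z, hz, rfl⟩
  have hopen : IsOpen (p.base '' Set.range j) := by
    rw [← (Groth.Agent.H15.Quot.isQuotientMap hp).isOpen_preimage, hpre]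
    exact j.isOpenEmbedding.isOpen_range
  let U : Y.Opens := ⟨p.base '' Set.range j, hopen⟩
  have hU : ∀ x : X, p x ∈ U ↔ x ∈ Set.range j := by
    intro x
    change x ∈ p.base ⁻¹' (p.base '' Set.range j) ↔ _
    rw [hpre]
  have hU' : ∀ x : X, p x ∈ U ↔ ∃ g : G, x ∈ (ρ g).hom '' Set.range j := by
    intro x
    rw [hU]
    constructor
    · intro hx
      exact ⟨1, x, hx, by rw [rho_one]; rfl⟩
    · rintro ⟨g, w, hw, rfl⟩
      exact hstab g w hw
  obtain ⟨P, hPι, hP⟩ := isQuot_of_openImmersion ρ p hp j (MonoidHom.id G) ρ' hρ'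
    (fun g hg => absurd ⟨g, rfl⟩ hg) U hU'
  exact ⟨U, P, hPι, hP, hU⟩

end OpenImm

variable {X : Scheme.{u}} {G : Type u} [Group G] [Finite G] (ρ : G →* Aut X)

/-- A stable open admitting a quotient. -/
def IsGood (W : X.Opens) : Prop :=
  ∃ (h : ∀ g, W ≤ (ρ g).hom ⁻¹ᵁ W) (Q : Scheme.{u}) (q : W.toScheme ⟶ Q),
    SGA1.IsQuot (resAct ρ W h) q

/-- The index category: stable opens admitting a quotient. -/
abbrev J := {W : X.Opens // IsGood ρ W}

variable {ρ}

lemma stab (j : J ρ) : ∀ g, j.1 ≤ (ρ g).hom ⁻¹ᵁ j.1 := j.2.choose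

/-- The chosen quotient. -/
noncomputable def Q (j : J ρ) : Scheme.{u} := j.2.choose_spec.choose

/-- The chosen quotient map. -/
noncomputable def q (j : J ρ) : j.1.toScheme ⟶ Q j := j.2.choose_spec.choose_spec.choose

lemma hq (j : J ρ) : SGA1.IsQuot (resAct ρ j.1 (stab j)) (q j) :=
  j.2.choose_spec.choose_spec.choose_spec

lemma resAct_homOfLE {i j : J ρ} (h : i.1 ≤ j.1) (g : G) :
    (resAct ρ i.1 (stab i) g).hom ≫ X.homOfLE h = X.homOfLE h ≫ (resAct ρ j.1 (stab j) g).hom := by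
  rw [← cancel_mono j.1.ι]
  simp only [Category.assoc, Scheme.homOfLE_ι, resAct_ι]
  rw [Scheme.homOfLE_ι_assoc]

lemma inv_homOfLE {i j : J ρ} (h : i.1 ≤ j.1) (g : G) :
    (resAct ρ i.1 (stab i) g).hom ≫ X.homOfLE h ≫ q j = X.homOfLE h ≫ q j := by
  rw [reassoc_of% resAct_homOfLE h g, (hq j).inv g]

/-- The transition maps. -/
noncomputable def d {i j : J ρ} (h : i.1 ≤ j.1) : Q i ⟶ Q j :=
  (Groth.Agent.H15.Quot.existsUnique_desc (hq i) (X.homOfLE h ≫ q j) (inv_homOfLE h)).exists.choose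

@[reassoc]
lemma q_d {i j : J ρ} (h : i.1 ≤ j.1) : q i ≫ d h = X.homOfLE h ≫ q j :=
  (Groth.Agent.H15.Quot.existsUnique_desc (hq i) (X.homOfLE h ≫ q j)
    (inv_homOfLE h)).exists.choose_spec

lemma d_refl (i : J ρ) : d (le_refl i.1) = 𝟙 (Q i) := by
  apply Groth.Agent.H15.Quot.eq_of_comp_eq (hq i)
  rw [q_d, Category.comp_id]
  simp

lemma d_trans {i j k : J ρ} (h₁ : i.1 ≤ j.1) (h₂ : j.1 ≤ k.1) :
    d (h₁.trans h₂) = d h₁ ≫ d h₂ := by
  apply Groth.Agent.H15.Quot.eq_of_comp_eq (hq i)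
  rw [q_d, reassoc_of% q_d h₁, q_d h₂, ← Category.assoc, Scheme.homOfLE_homOfLE]

/-- The transition maps are open immersions onto the image of the smaller open. -/
lemma exists_d_eq {i j : J ρ} (h : i.1 ≤ j.1) :
    ∃ (U : (Q j).Opens) (e : Q i ≅ U.toScheme), d h = e.hom ≫ U.ι ∧
      ∀ x : j.1.toScheme, q j x ∈ U ↔ x ∈ Set.range (X.homOfLE h) := by
  obtain ⟨U, P, hPι, hP, hU⟩ := exists_quot_of_openImmersion (hq j) (X.homOfLE h)
    (resAct ρ i.1 (stab i)) (resAct_homOfLE h)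
  obtain ⟨e, he⟩ := exists_iso_of_isQuot (hq i) hP
  refine ⟨U, e, ?_, hU⟩
  apply Groth.Agent.H15.Quot.eq_of_comp_eq (hq i)
  rw [q_d, reassoc_of% he, hPι]

instance isOpenImmersion_d {i j : J ρ} (h : i.1 ≤ j.1) : IsOpenImmersion (d h) := by
  obtain ⟨U, e, he, -⟩ := exists_d_eq h
  rw [he]
  infer_instance

lemma range_d {i j : J ρ} (h : i.1 ≤ j.1) (x : j.1.toScheme) :
    q j x ∈ Set.range (d h) ↔ x ∈ Set.range (X.homOfLE h) := by
  obtain ⟨U, e, he, hU⟩ := exists_d_eq h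
  rw [← hU, he]
  have : Set.range (e.hom ≫ U.ι) = (U : Set (Q j)) := by
    rw [Scheme.Hom.comp_base, TopCat.coe_comp, Set.range_comp]
    have : Set.range e.hom = Set.univ := Set.range_eq_univ.mpr e.hom.homeomorph.surjective
    rw [this, Set.image_univ, Scheme.Opens.range_ι]
  rw [this]
  rfl

variable (ρ) in
/-- The diagram of quotients. -/
noncomputable def F : J ρ ⥤ Scheme.{u} where
  obj j := Q j
  map {i j} f := d (leOfHom f)
  map_id i := d_refl i
  map_comp {i j k} f g := d_trans (leOfHom f) (leOfHom g)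

instance {i j : J ρ} (f : i ⟶ j) : IsOpenImmersion ((F ρ).map f) :=
  isOpenImmersion_d (leOfHom f)


lemma q_surjective (j : J ρ) : Function.Surjective (q j) :=
  Groth.Agent.H15.Quot.surjective (hq j)

/-- Good opens are closed under finite intersections with stable opens. -/
lemma isGood_of_le {W W' : X.Opens} (hW' : IsGood ρ W') (h : W ≤ W')
    (hW : ∀ g, W ≤ (ρ g).hom ⁻¹ᵁ W) : IsGood ρ W := by
  obtain ⟨hst, Q', q', hq'⟩ := hW'
  have hequi : ∀ g, (resAct ρ W hW g).hom ≫ X.homOfLE h =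
      X.homOfLE h ≫ (resAct ρ W' hst g).hom := by
    intro g
    rw [← cancel_mono W'.ι]
    simp only [Category.assoc, Scheme.homOfLE_ι, resAct_ι]
    rw [Scheme.homOfLE_ι_assoc]
  obtain ⟨U, P, -, hP, -⟩ := exists_quot_of_openImmersion hq' (X.homOfLE h)
    (resAct ρ W hW) hequi
  exact ⟨hW, _, P, hP⟩

lemma isGood_inf (i j : J ρ) : IsGood ρ (i.1 ⊓ j.1) :=
  isGood_of_le i.2 inf_le_left fun g z hz => ⟨stab i g hz.1, stab j g hz.2⟩

lemma isGood_of_isAffineOpen {W : X.Opens} (hW : IsAffineOpen W)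
    (hst : ∀ g, W ≤ (ρ g).hom ⁻¹ᵁ W) : IsGood ρ W := by
  haveI : IsAffine W.toScheme := hW
  obtain ⟨Q', q', hq'⟩ := exists_isQuot_of_isAffine (resAct ρ W hst)
  exact ⟨hst, Q', q', hq'⟩

lemma homOfLE_apply_val {U V : X.Opens} (h : U ≤ V) (x : U.toScheme) :
    ((X.homOfLE h) x).1 = x.1 := Scheme.homOfLE_apply h x

/-- `q` is invariant under the group on points. -/
lemma q_apply_eq_iff (j : J ρ) (x y : j.1.toScheme) :
    q j x = q j y ↔ ∃ g : G, (ρ g).hom x.1 = y.1 := by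
  rw [Groth.Agent.H15.Quot.base_eq_iff (hq j)]
  constructor
  · rintro ⟨g, hg⟩
    refine ⟨g, ?_⟩
    rw [← hg]
    have := congrArg (fun φ : j.1.toScheme ⟶ X => φ x) (resAct_ι ρ j.1 (stab j) g)
    simp only [Scheme.Hom.comp_apply] at this
    exact this.symm
  · rintro ⟨g, hg⟩
    refine ⟨g, ?_⟩
    apply Subtype.ext
    rw [← hg]
    have := congrArg (fun φ : j.1.toScheme ⟶ X => φ x) (resAct_ι ρ j.1 (stab j) g)
    simp only [Scheme.Hom.comp_apply] at this
    exact this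

instance : ((F ρ) ⋙ Scheme.forget).IsLocallyDirected where
  cond {i j k} fi fj yi yj hyy := by
    obtain ⟨xi, rfl⟩ := q_surjective i yi
    obtain ⟨xj, rfl⟩ := q_surjective j yj
    have hik : i.1 ≤ k.1 := leOfHom fi
    have hjk : j.1 ≤ k.1 := leOfHom fj
    have h1 : d hik (q i xi) = d hjk (q j xj) := hyy
    rw [← Scheme.Hom.comp_apply, ← Scheme.Hom.comp_apply, q_d, q_d, Scheme.Hom.comp_apply,
      Scheme.Hom.comp_apply, q_apply_eq_iff] at h1
    obtain ⟨g, hg⟩ := h1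
    rw [homOfLE_apply_val, homOfLE_apply_val] at hg
    -- `xj` lies in `W_i ∩ W_j`
    have hxji : xj.1 ∈ i.1 := by
      rw [← hg]
      exact stab i g xi.2
    let l : J ρ := ⟨i.1 ⊓ j.1, isGood_inf i j⟩
    have hli : l.1 ≤ i.1 := inf_le_left
    have hlj : l.1 ≤ j.1 := inf_le_right
    let xl : l.1.toScheme := ⟨xj.1, hxji, xj.2⟩
    refine ⟨l, homOfLE hli, homOfLE hlj, q l xl, ?_, ?_⟩
    · change d hli (q l xl) = q i xi
      rw [← Scheme.Hom.comp_apply, q_d, Scheme.Hom.comp_apply, q_apply_eq_iff]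
      refine ⟨g⁻¹, ?_⟩
      rw [homOfLE_apply_val]
      change (ρ g⁻¹).hom xj.1 = xi.1
      rw [← hg, rho_inv_apply]
    · change d hlj (q l xl) = q j xj
      rw [← Scheme.Hom.comp_apply, q_d, Scheme.Hom.comp_apply]
      congr 1
      apply Subtype.ext
      rw [homOfLE_apply_val]

end Groth.Agent.H68.QG
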