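import Groth.Agent.H15.QuotTop
import Mathlib

/-!
# Level sets of invariant locally constant functions on a quotient
-/

set_option autoImplicit false
universe u

open CategoryTheory AlgebraicGeometry

namespace Groth.Agent.H68.QLv

variable {X XG : Scheme.{u}} {G : Type u} [Group G] [Finite G] {ρ : G →* Aut X} {p : X ⟶ XG}
  (hp : SGA1.IsQuot ρ p) (N : X → ℕ) (hN : ∀ S : Set ℕ, IsOpen (N ⁻¹' S))
  (hNinv : ∀ g x, N ((ρ g).hom x) = N x)

/-- The image in the quotient of a level set. -/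
def levelSet (p : X ⟶ XG) (N : X → ℕ) (m : ℕ) : Set XG := {t | ∃ x, p x = t ∧ N x = m}

include hp hNinv in
theorem preimage_levelSet (m : ℕ) : p ⁻¹' levelSet p N m = N ⁻¹' {m} := by
  ext x
  constructor
  · rintro ⟨x', hx', hm⟩
    obtain ⟨g, rfl⟩ := (Groth.Agent.H15.Quot.base_eq_iff hp x' x).mp hx'
    rw [Set.mem_preimage, Set.mem_singleton_iff, hNinv]
    exact hm
  · intro hx
    exact ⟨x, rfl, hx⟩

include hp hN hNinv in
theorem isOpen_levelSet (m : ℕ) : IsOpen (levelSet p N m) := by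
  rw [← (Groth.Agent.H15.Quot.isQuotientMap hp).isOpen_preimage]
  rw [preimage_levelSet hp N hNinv]
  exact hN _

include hp hN hNinv in
theorem isClosed_levelSet (m : ℕ) : IsClosed (levelSet p N m) := by
  rw [← (Groth.Agent.H15.Quot.isQuotientMap hp).isClosed_preimage]
  rw [preimage_levelSet hp N hNinv, ← isOpen_compl_iff, ← Set.preimage_compl]
  exact hN _

/-- The level set as an open of the quotient. -/
def levelOpen (m : ℕ) : XG.Opens := ⟨levelSet p N m, isOpen_levelSet hp N hN hNinv m⟩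

theorem mem_levelOpen_iff (m : ℕ) (x : X) : p x ∈ levelOpen hp N hN hNinv m ↔ N x = m := by
  have := Set.ext_iff.mp (preimage_levelSet hp N hNinv m) x
  exact this

theorem isClosed_levelOpen (m : ℕ) : IsClosed (levelOpen hp N hN hNinv m : Set XG) :=
  isClosed_levelSet hp N hN hNinv m

theorem levelOpen_disjoint {m m' : ℕ} (h : m ≠ m') :
    levelOpen hp N hN hNinv m ⊓ levelOpen hp N hN hNinv m' = ⊥ := by
  rw [eq_bot_iff]
  rintro t ⟨h1, h2⟩
  obtain ⟨x, rfl⟩ := Groth.Agent.H15.Quot.surjective hp t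
  exact h (((mem_levelOpen_iff hp N hN hNinv m x).mp h1).symm.trans
    ((mem_levelOpen_iff hp N hN hNinv m' x).mp h2))

theorem exists_mem_levelOpen (t : XG) : ∃ x, p x = t ∧ t ∈ levelOpen hp N hN hNinv (N x) := by
  obtain ⟨x, rfl⟩ := Groth.Agent.H15.Quot.surjective hp t
  exact ⟨x, rfl, (mem_levelOpen_iff hp N hN hNinv _ x).mpr rfl⟩

end Groth.Agent.H68.QLv
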