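import Groth.Prelude.Def_SGA1
import Mathlib

/-!
# Quotients by a group can be recognised on a basis of opens of the target
-/

set_option autoImplicit false
set_option linter.style.haveILetI false
universe u
open CategoryTheory CategoryTheory.Limits AlgebraicGeometry TopologicalSpace

namespace Groth.Agent.H68.QL

variable {X Y : Scheme.{u}} {G : Type u} [Group G]

section Res

variable (p : X ⟶ Y)

/-- Restriction of sections commutes with pullback of sections. -/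
lemma app_res {U B : Y.Opens} (h : B ≤ U) (t : Γ(Y, U)) :
    (p.app B).hom ((Y.presheaf.map (homOfLE h).op).hom t) =
      (X.presheaf.map (homOfLE (show p ⁻¹ᵁ B ≤ p ⁻¹ᵁ U from fun _ hx => h hx)).op).hom
        ((p.app U).hom t) := by
  have h1 : Y.presheaf.map (homOfLE h).op ≫ p.app B =
      p.app U ≫ X.presheaf.map (homOfLE (show p ⁻¹ᵁ B ≤ p ⁻¹ᵁ U from fun _ hx => h hx)).op := by
    rw [Scheme.Hom.app_eq_appLE, Scheme.Hom.app_eq_appLE, Scheme.Hom.map_appLE,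
      Scheme.Hom.appLE_map]
  exact congrArg (fun φ : Γ(Y, U) ⟶ Γ(X, p ⁻¹ᵁ B) => φ.hom t) h1

end Res

section Act

variable (ρ : G →* Aut X) (p : X ⟶ Y) (hinv : ∀ g : G, (ρ g).hom ≫ p = p)

/-- The action on sections commutes with restriction. -/
lemma act_res (g : G) {U B : Y.Opens} (h : B ≤ U) (s : Γ(X, p ⁻¹ᵁ U)) :
    ((ρ g).hom.appLE (p ⁻¹ᵁ B) (p ⁻¹ᵁ B) (SGA1.preimage_le_of_inv ρ p hinv g B)).hom
        ((X.presheaf.map (homOfLE (show p ⁻¹ᵁ B ≤ p ⁻¹ᵁ U from fun _ hx => h hx)).op).hom s) =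
      (X.presheaf.map (homOfLE (show p ⁻¹ᵁ B ≤ p ⁻¹ᵁ U from fun _ hx => h hx)).op).hom
        (((ρ g).hom.appLE (p ⁻¹ᵁ U) (p ⁻¹ᵁ U) (SGA1.preimage_le_of_inv ρ p hinv g U)).hom s) := by
  have h1 : X.presheaf.map (homOfLE (show p ⁻¹ᵁ B ≤ p ⁻¹ᵁ U from fun _ hx => h hx)).op ≫
      (ρ g).hom.appLE (p ⁻¹ᵁ B) (p ⁻¹ᵁ B) (SGA1.preimage_le_of_inv ρ p hinv g B) =
      (ρ g).hom.appLE (p ⁻¹ᵁ U) (p ⁻¹ᵁ U) (SGA1.preimage_le_of_inv ρ p hinv g U) ≫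
        X.presheaf.map (homOfLE (show p ⁻¹ᵁ B ≤ p ⁻¹ᵁ U from fun _ hx => h hx)).op := by
    rw [Scheme.Hom.map_appLE, Scheme.Hom.appLE_map]
  exact congrArg (fun φ : Γ(X, p ⁻¹ᵁ U) ⟶ Γ(X, p ⁻¹ᵁ B) => φ.hom s) h1

/-- Pulled back sections are invariant. -/
lemma act_app (g : G) (U : Y.Opens) (t : Γ(Y, U)) :
    ((ρ g).hom.appLE (p ⁻¹ᵁ U) (p ⁻¹ᵁ U) (SGA1.preimage_le_of_inv ρ p hinv g U)).hom
        ((p.app U).hom t) = (p.app U).hom t := by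
  have h1 : p.app U ≫ (ρ g).hom.appLE (p ⁻¹ᵁ U) (p ⁻¹ᵁ U)
      (SGA1.preimage_le_of_inv ρ p hinv g U) = p.app U := by
    rw [Scheme.Hom.app_eq_appLE, Scheme.Hom.appLE_comp_appLE]
    have : ∀ (q : X ⟶ Y) (e : q = p) (e₁ : p ⁻¹ᵁ U ≤ q ⁻¹ᵁ U),
        q.appLE U (p ⁻¹ᵁ U) e₁ = p.appLE U (p ⁻¹ᵁ U) le_rfl := by
      rintro _ rfl _
      rfl
    exact this _ (hinv g) _
  exact congrArg (fun φ : Γ(Y, U) ⟶ Γ(X, p ⁻¹ᵁ U) => φ.hom t) h1

end Act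

section Main

variable (ρ : G →* Aut X) (p : X ⟶ Y) (hinv : ∀ g : G, (ρ g).hom ≫ p = p)

/-- A morphism which is affine, invariant, and a quotient over every member of a basis of opens of
the target, is a quotient. -/
theorem isQuot_of_basis [IsAffineHom p] (𝓑 : Set Y.Opens)
    (hB : ∀ (U : Y.Opens) (y : Y), y ∈ U → ∃ B ∈ 𝓑, y ∈ B ∧ B ≤ U)
    (hinj : ∀ B ∈ 𝓑, Function.Injective (p.app B).hom)
    (hran : ∀ B ∈ 𝓑, ∀ s : Γ(X, p ⁻¹ᵁ B),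
      (∀ g : G, ((ρ g).hom.appLE (p ⁻¹ᵁ B) (p ⁻¹ᵁ B)
        (SGA1.preimage_le_of_inv ρ p hinv g B)).hom s = s) → s ∈ Set.range (p.app B).hom) :
    SGA1.IsQuot ρ p := by
  -- covers
  have hcover : ∀ U : Y.Opens, U ≤ ⨆ i : {B : Y.Opens // B ∈ 𝓑 ∧ B ≤ U}, i.1 := by
    intro U y hy
    obtain ⟨B, hBm, hyB, hBU⟩ := hB U y hy
    exact Opens.mem_iSup.mpr ⟨⟨B, hBm, hBU⟩, hyB⟩
  have hcover' : ∀ U : Y.Opens, p ⁻¹ᵁ U ≤ ⨆ i : {B : Y.Opens // B ∈ 𝓑 ∧ B ≤ U}, p ⁻¹ᵁ i.1 := by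
    intro U x hx
    obtain ⟨B, hBm, hyB, hBU⟩ := hB U (p.base x) hx
    exact Opens.mem_iSup.mpr ⟨⟨B, hBm, hBU⟩, hyB⟩
  -- injectivity over every open
  have hinjU : ∀ U : Y.Opens, Function.Injective (p.app U).hom := by
    intro U t₁ t₂ ht
    refine Y.sheaf.eq_of_locally_eq' (fun i : {B : Y.Opens // B ∈ 𝓑 ∧ B ≤ U} => i.1) U
      (fun i => homOfLE i.2.2) (hcover U) t₁ t₂ fun i => ?_
    apply hinj i.1 i.2.1
    exact (app_res p i.2.2 t₁).trans ((congrArg _ ht).trans (app_res p i.2.2 t₂).symm)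
  refine ⟨inferInstance, hinv, hinjU, fun U s => ⟨?_, fun hs => ?_⟩⟩
  · rintro ⟨t, rfl⟩ g
    exact act_app ρ p hinv g U t
  · -- local preimages
    have hloc : ∀ i : {B : Y.Opens // B ∈ 𝓑 ∧ B ≤ U}, ∃ t : Γ(Y, i.1), (p.app i.1).hom t =
        (X.presheaf.map (homOfLE (show p ⁻¹ᵁ i.1 ≤ p ⁻¹ᵁ U from fun _ hx => i.2.2 hx)).op).hom s := by
      intro i
      refine hran i.1 i.2.1 _ fun g => ?_
      rw [act_res ρ p hinv g i.2.2 s, hs g]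
    choose tf htf using hloc
    have hcompat : TopCat.Presheaf.IsCompatible Y.sheaf.1
        (fun i : {B : Y.Opens // B ∈ 𝓑 ∧ B ≤ U} => i.1) tf := by
      intro i j
      refine Y.sheaf.eq_of_locally_eq'
        (fun k : {B : Y.Opens // B ∈ 𝓑 ∧ B ≤ i.1 ⊓ j.1} => k.1) (i.1 ⊓ j.1)
        (fun k => homOfLE k.2.2) (hcover (i.1 ⊓ j.1)) _ _ fun k => ?_
      apply hinj k.1 k.2.1
      have hki : k.1 ≤ i.1 := k.2.2.trans inf_le_left
      have hkj : k.1 ≤ j.1 := k.2.2.trans inf_le_right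
      have e1 : ∀ (l : {B : Y.Opens // B ∈ 𝓑 ∧ B ≤ U}) (hkl : k.1 ≤ l.1) (hl : i.1 ⊓ j.1 ≤ l.1),
          (p.app k.1).hom ((Y.presheaf.map (homOfLE k.2.2).op).hom
            ((Y.presheaf.map (homOfLE hl).op).hom (tf l))) =
          (X.presheaf.map (homOfLE (show p ⁻¹ᵁ k.1 ≤ p ⁻¹ᵁ U from
            fun _ hx => l.2.2 (hkl hx))).op).hom s := by
        intro l hkl hl
        have h2 : (Y.presheaf.map (homOfLE k.2.2).op).hom
            ((Y.presheaf.map (homOfLE hl).op).hom (tf l)) =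
            (Y.presheaf.map (homOfLE hkl).op).hom (tf l) := by
          rw [← CommRingCat.comp_apply, ← Functor.map_comp]
          rfl
        rw [h2, app_res p hkl (tf l), htf l, ← CommRingCat.comp_apply, ← Functor.map_comp]
        rfl
      exact (e1 i hki inf_le_left).trans (e1 j hkj inf_le_right).symm
    obtain ⟨t, ht, -⟩ := Y.sheaf.existsUnique_gluing'
      (fun i : {B : Y.Opens // B ∈ 𝓑 ∧ B ≤ U} => i.1) U (fun i => homOfLE i.2.2) (hcover U) tf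
      hcompat
    refine ⟨t, ?_⟩
    refine X.sheaf.eq_of_locally_eq' (fun i : {B : Y.Opens // B ∈ 𝓑 ∧ B ≤ U} => p ⁻¹ᵁ i.1)
      (p ⁻¹ᵁ U) (fun i => homOfLE (fun _ hx => i.2.2 hx)) (hcover' U) _ _ fun i => ?_
    exact ((app_res p i.2.2 t).symm.trans (congrArg _ (ht i))).trans (htf i)

include hinv in
/-- Variant of `isQuot_of_basis` in which the preimages of the members of the basis are given. -/
theorem isQuot_of_basis' [IsAffineHom p] (𝓑 : Set Y.Opens)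
    (hB : ∀ (U : Y.Opens) (y : Y), y ∈ U → ∃ B ∈ 𝓑, y ∈ B ∧ B ≤ U)
    (hchart : ∀ B ∈ 𝓑, ∃ (W : X.Opens) (h : p ⁻¹ᵁ B = W),
      Function.Injective (p.appLE B W h.ge).hom ∧
      ∀ (hst : ∀ g : G, W ≤ (ρ g).hom ⁻¹ᵁ W) (s : Γ(X, W)),
        (∀ g : G, ((ρ g).hom.appLE W W (hst g)).hom s = s) →
          s ∈ Set.range (p.appLE B W h.ge).hom) :
    SGA1.IsQuot ρ p := by
  refine isQuot_of_basis ρ p hinv 𝓑 hB (fun B hBm => ?_) (fun B hBm s hs => ?_)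
  · obtain ⟨W, h, hi, -⟩ := hchart B hBm
    subst h
    rwa [← Scheme.Hom.app_eq_appLE] at hi
  · obtain ⟨W, h, -, hr⟩ := hchart B hBm
    subst h
    have h1 := hr (fun g => SGA1.preimage_le_of_inv ρ p hinv g B) s hs
    rwa [← Scheme.Hom.app_eq_appLE] at h1

end Main

end Groth.Agent.H68.QL
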