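import Groth.Agent.H15.QuotTop
import Groth.Agent.H15.QuotAff
import Mathlib

/-!
# Residue fields of a quotient of a scheme by a finite group
-/

set_option autoImplicit false
set_option linter.style.haveILetI false
universe u

open CategoryTheory AlgebraicGeometry
open scoped Pointwise

namespace Groth.Agent.H68.QR

open Groth.Agent.H15.Quot

section Eval

variable {X : Scheme.{u}} {U : X.Opens} (hU : IsAffineOpen U) (x : X) (hx : x ∈ U)

include hU in
/-- The kernel of the evaluation at a point of an affine open is the prime ideal of the point. -/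
theorem ker_eval : RingHom.ker (X.evaluation U x hx).hom = (hU.primeIdealOf ⟨x, hx⟩).asIdeal := by
  ext b
  rw [RingHom.mem_ker, Scheme.evaluation_eq_zero_iff_notMem_basicOpen, mem_basicOpen_iff hU b x hx,
    not_not]

include hU in
/-- Every element of the residue field at a point of an affine open is a quotient of evaluations
of sections over that open. -/
theorem exists_eval_div (l : X.residueField x) :
    ∃ b s : Γ(X, U), (X.evaluation U x hx).hom s ≠ 0 ∧
      l = (X.evaluation U x hx).hom b / (X.evaluation U x hx).hom s := by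
  obtain ⟨t, rfl⟩ := X.residue_surjective x l
  let _ := X.presheaf.algebra_section_stalk ⟨x, hx⟩
  have := hU.isLocalization_stalk ⟨x, hx⟩
  obtain ⟨b, s, rfl⟩ :=
    IsLocalization.exists_mk'_eq (hU.primeIdealOf ⟨x, hx⟩).asIdeal.primeCompl t
  have hs : IsUnit (algebraMap Γ(X, U) (X.presheaf.stalk x) s.1) := IsLocalization.map_units _ s
  have hs' : (X.evaluation U x hx).hom s.1 ≠ 0 := (hs.map (X.residue x).hom).ne_zero
  refine ⟨b, s.1, hs', ?_⟩
  rw [eq_div_iff hs']
  have h1 : IsLocalization.mk' (X.presheaf.stalk x) b s *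
      algebraMap Γ(X, U) (X.presheaf.stalk x) s.1 = algebraMap Γ(X, U) (X.presheaf.stalk x) b :=
    IsLocalization.mk'_spec _ b s
  have h2 := congrArg (X.residue x).hom h1
  rw [map_mul] at h2
  exact h2

/-- The map from the residue ring of the prime of a point to the residue field of the point. -/
noncomputable def evalQuot :
    Γ(X, U) ⧸ (hU.primeIdealOf ⟨x, hx⟩).asIdeal →+* X.residueField x :=
  Ideal.Quotient.lift _ (X.evaluation U x hx).hom (fun b hb => by
    rw [← ker_eval hU x hx] at hb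
    exact hb)

@[simp] lemma evalQuot_mk (b : Γ(X, U)) :
    evalQuot hU x hx (Ideal.Quotient.mk _ b) = (X.evaluation U x hx).hom b := rfl

lemma evalQuot_injective : Function.Injective (evalQuot hU x hx) := by
  rw [injective_iff_map_eq_zero]
  intro b hb
  obtain ⟨b, rfl⟩ := Ideal.Quotient.mk_surjective b
  rw [evalQuot_mk, ← RingHom.mem_ker, ker_eval hU x hx] at hb
  exact Ideal.Quotient.eq_zero_iff_mem.mpr hb

/-- The residue field of the point is the fraction field of the residue ring of its prime. -/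
theorem isFractionRing :
    letI := (evalQuot hU x hx).toAlgebra
    IsFractionRing (Γ(X, U) ⧸ (hU.primeIdealOf ⟨x, hx⟩).asIdeal) (X.residueField x) := by
  let _ := (evalQuot hU x hx).toAlgebra
  have : FaithfulSMul (Γ(X, U) ⧸ (hU.primeIdealOf ⟨x, hx⟩).asIdeal) (X.residueField x) :=
    (faithfulSMul_iff_algebraMap_injective _ _).mpr (evalQuot_injective hU x hx)
  refine IsFractionRing.of_field _ _ fun l => ?_
  obtain ⟨b, s, -, hl⟩ := exists_eval_div hU x hx l
  exact ⟨Ideal.Quotient.mk _ b, Ideal.Quotient.mk _ s, hl⟩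

include hU in
/-- Two ring homomorphisms out of the residue field agreeing on evaluations of sections are
equal. -/
theorem ringHom_ext_eval {R : Type*} [Field R] (f g : X.residueField x →+* R)
    (h : ∀ b : Γ(X, U), f ((X.evaluation U x hx).hom b) = g ((X.evaluation U x hx).hom b)) :
    f = g := by
  ext l
  obtain ⟨b, s, hs, rfl⟩ := exists_eval_div hU x hx l
  rw [map_div₀, map_div₀, h b, h s]

end Eval


lemma evaluation_congr {X : Scheme.{u}} (U : X.Opens) {x₁ x₂ : X} (h : x₁ = x₂) (hx₁ : x₁ ∈ U)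
    (hx₂ : x₂ ∈ U) :
    X.evaluation U x₁ hx₁ ≫ (X.residueFieldCongr h).hom = X.evaluation U x₂ hx₂ := by
  subst h
  simp [Scheme.residueFieldCongr_refl]

lemma evaluation_congr_inv {X : Scheme.{u}} (U : X.Opens) {x₁ x₂ : X} (h : x₁ = x₂) (hx₁ : x₁ ∈ U)
    (hx₂ : x₂ ∈ U) :
    X.evaluation U x₂ hx₂ ≫ (X.residueFieldCongr h).inv = X.evaluation U x₁ hx₁ := by
  rw [← evaluation_congr U h hx₁ hx₂, Category.assoc, Iso.hom_inv_id, Category.comp_id]

lemma evaluation_res {X : Scheme.{u}} {U W : X.Opens} (i : W ≤ U) (x : X) (hx : x ∈ W) :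
    X.presheaf.map (homOfLE i).op ≫ X.evaluation W x hx = X.evaluation U x (i hx) := by
  rw [← Scheme.germ_residue, ← Scheme.germ_residue, ← Category.assoc, TopCat.Presheaf.germ_res]

lemma evaluation_appLE {X Y : Scheme.{u}} (f : X ⟶ Y) (V : Y.Opens) (W : X.Opens) (i : W ≤ f ⁻¹ᵁ V)
    (x : X) (hx : x ∈ W) :
    f.appLE V W i ≫ X.evaluation W x hx =
      Y.evaluation V (f.base x) (i hx) ≫ f.residueFieldMap x := by
  rw [Scheme.Hom.appLE, Category.assoc, evaluation_res i x hx]
  exact (Scheme.evaluation_naturality f x (i hx)).symm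


theorem main {X Y : Scheme.{u}} {G : Type u} [Group G] [Finite G] (ρ : G →* Aut X) (p : X ⟶ Y)
    (hp : SGA1.IsQuot ρ p) (x : X) :
    (letI := (p.residueFieldMap x).hom.toAlgebra
     Normal (Y.residueField (p.base x)) (X.residueField x)) ∧
    ∀ τ : X.residueField x ≅ X.residueField x,
      p.residueFieldMap x ≫ τ.hom = p.residueFieldMap x →
      ∃ (g : G) (e : (ρ g).hom.base x = x),
        τ.hom = (X.residueFieldCongr e).inv ≫ (ρ g).hom.residueFieldMap x := by
  haveI := hp.affine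
  obtain ⟨_, ⟨V, hV : IsAffineOpen V, rfl⟩, hyV, -⟩ :=
    Y.isBasis_affineOpens.exists_subset_of_mem_open (Set.mem_univ (p.base x)) isOpen_univ
  have hU : IsAffineOpen (p ⁻¹ᵁ V) := hV.preimage p
  have hx : x ∈ p ⁻¹ᵁ V := hyV
  letI := action hp V
  letI := alg p V
  haveI := isInvariant hp V
  haveI := smulCommClass hp V
  let Qs := hU.primeIdealOf ⟨x, hx⟩
  let Ps := hV.primeIdealOf ⟨p.base x, hyV⟩
  haveI : Qs.asIdeal.IsPrime := Qs.isPrime
  haveI : Ps.asIdeal.IsPrime := Ps.isPrime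
  haveI : Qs.asIdeal.LiesOver Ps.asIdeal :=
    ⟨congrArg PrimeSpectrum.asIdeal (primeIdealOf_map V hV hU x hx)⟩
  letI : Algebra (Y.residueField (p.base x)) (X.residueField x) :=
    (p.residueFieldMap x).hom.toAlgebra
  letI : Algebra (Γ(Y, V) ⧸ Ps.asIdeal) (Y.residueField (p.base x)) :=
    (evalQuot hV (p.base x) hyV).toAlgebra
  letI : Algebra (Γ(X, p ⁻¹ᵁ V) ⧸ Qs.asIdeal) (X.residueField x) := (evalQuot hU x hx).toAlgebra
  letI : Algebra (Γ(Y, V) ⧸ Ps.asIdeal) (X.residueField x) :=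
    ((algebraMap (Y.residueField (p.base x)) (X.residueField x)).comp
      (algebraMap (Γ(Y, V) ⧸ Ps.asIdeal) (Y.residueField (p.base x)))).toAlgebra
  haveI : IsScalarTower (Γ(Y, V) ⧸ Ps.asIdeal) (Y.residueField (p.base x)) (X.residueField x) :=
    IsScalarTower.of_algebraMap_eq fun _ => rfl
  have hnat : ∀ a : Γ(Y, V), (p.residueFieldMap x).hom ((Y.evaluation V (p.base x) hyV).hom a) =
      (X.evaluation (p ⁻¹ᵁ V) x hx).hom ((p.app V).hom a) := by
    intro a
    exact Scheme.evaluation_naturality_apply p x hyV a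
  haveI : IsScalarTower (Γ(Y, V) ⧸ Ps.asIdeal) (Γ(X, p ⁻¹ᵁ V) ⧸ Qs.asIdeal) (X.residueField x) :=
    IsScalarTower.of_algebraMap_eq (by
      intro a
      obtain ⟨a, rfl⟩ := Ideal.Quotient.mk_surjective a
      exact hnat a)
  haveI : IsFractionRing (Γ(Y, V) ⧸ Ps.asIdeal) (Y.residueField (p.base x)) :=
    isFractionRing hV (p.base x) hyV
  haveI : IsFractionRing (Γ(X, p ⁻¹ᵁ V) ⧸ Qs.asIdeal) (X.residueField x) := isFractionRing hU x hx
  refine ⟨Ideal.IsFractionRing.normal G Ps.asIdeal Qs.asIdeal _ _, ?_⟩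
  intro τ hτ
  let τ' : X.residueField x ≃ₐ[Y.residueField (p.base x)] X.residueField x :=
    AlgEquiv.ofRingEquiv (f := τ.commRingCatIsoToRingEquiv) (fun k => congr($(hτ).hom k))
  obtain ⟨σ, hσ⟩ := IsFractionRing.stabilizerHom_surjective G Ps.asIdeal Qs.asIdeal
    (Y.residueField (p.base x)) (X.residueField x) τ'
  -- elements of the stabilizer fix the point
  have hfix : ∀ g : G, g • Qs.asIdeal = Qs.asIdeal → (ρ g).hom.base x = x := by
    intro g h1
    rw [Ideal.pointwise_smul_eq_comap] at h1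
    have h2 : Qs.asIdeal.comap (sig hp V g) = Qs.asIdeal := by
      refine Eq.trans ?_ h1
      ext b
      simp only [Ideal.mem_comap]
      have : (MulSemiringAction.toRingAut G Γ(X, p ⁻¹ᵁ V) g).symm b = sig hp V g b := by
        change g⁻¹ • b = _
        rw [smul_def, inv_inv]
      rw [← this]
    have h3 := primeIdealOf_smul hp V hU g x hx
    have h4 : hU.primeIdealOf ⟨(ρ g).hom x, SGA1.preimage_le_of_inv ρ p hp.inv g V hx⟩ =
        hU.primeIdealOf ⟨x, hx⟩ := by
      rw [h3]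
      exact PrimeSpectrum.ext h2
    exact congrArg Subtype.val (primeIdealOf_injective hU h4)
  have hσinv : σ.1⁻¹ • Qs.asIdeal = Qs.asIdeal := (σ⁻¹).2
  refine ⟨σ.1⁻¹, hfix σ.1⁻¹ hσinv, ?_⟩
  apply CommRingCat.hom_ext
  refine ringHom_ext_eval hU x hx _ _ fun b => ?_
  have hL : τ.hom.hom ((X.evaluation (p ⁻¹ᵁ V) x hx).hom b) =
      (X.evaluation (p ⁻¹ᵁ V) x hx).hom (sig hp V σ.1⁻¹ b) := by
    have h5 := IsFractionRing.stabilizerHom_apply_apply_mk G Ps.asIdeal Qs.asIdeal
      (Y.residueField (p.base x)) (X.residueField x) σ b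
    rw [hσ] at h5
    exact h5
  rw [hL]
  have hle := SGA1.preimage_le_of_inv ρ p hp.inv σ.1⁻¹ V
  have key : X.evaluation (p ⁻¹ᵁ V) x hx ≫ ((X.residueFieldCongr (hfix σ.1⁻¹ hσinv)).inv ≫
      (ρ σ.1⁻¹).hom.residueFieldMap x) =
      (ρ σ.1⁻¹).hom.appLE (p ⁻¹ᵁ V) (p ⁻¹ᵁ V) hle ≫ X.evaluation (p ⁻¹ᵁ V) x hx := by
    rw [← Category.assoc, evaluation_congr_inv (p ⁻¹ᵁ V) (hfix σ.1⁻¹ hσinv) (hle hx) hx,
      evaluation_appLE]
  exact congr($(key).hom b).symm


end Groth.Agent.H68.QR
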