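import Groth.Agent.H68.Reynolds
import Groth.Agent.H37.QuotFlat2
import Groth.Agent.H15.Quot
import Mathlib

/-!
# Quotients by finite groups of invertible order commute with arbitrary base change
-/

set_option autoImplicit false
universe u

open CategoryTheory Limits AlgebraicGeometry

namespace Groth.Agent.H68.Rey

open Groth.Agent.H37

theorem isQuot_baseChange_of_isUnit_card {X Y X' Y' : Scheme.{u}} {G : Type u} [Group G]
    [Finite G] (ρ : G →* Aut X) (p : X ⟶ Y) (hp : SGA1.IsQuot ρ p) (qY : Y' ⟶ Y)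
    (hcard : ∀ V : Y.Opens, IsUnit ((Nat.card G : ℕ) : Γ(Y, V)))
    (pX : X' ⟶ X) (p' : X' ⟶ Y') (hX : IsPullback pX p' p qY)
    (ρ' : G →* Aut X') (hρ₁ : ∀ g : G, (ρ' g).hom ≫ pX = pX ≫ (ρ g).hom)
    (hρ₂ : ∀ g : G, (ρ' g).hom ≫ p' = p') :
    SGA1.IsQuot ρ' p' := by
  have := hp.affine
  have haff : IsAffineHom p' := MorphismProperty.of_isPullback (P := @IsAffineHom) hX hp.affine
  refine isQuot_of_affine_cover haff hρ₂
    {V' | IsAffineOpen V' ∧ ∃ V : Y.Opens, IsAffineOpen V ∧ V' ≤ qY ⁻¹ᵁ V} (fun V' h => h.1) ?_ ?_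
  · intro y'
    obtain ⟨V, hV, hyV⟩ : ∃ V : Y.Opens, IsAffineOpen V ∧ qY y' ∈ V := by
      obtain ⟨_, ⟨V, hV : IsAffineOpen V, rfl⟩, hy, -⟩ :=
        Y.isBasis_affineOpens.exists_subset_of_mem_open (Set.mem_univ (qY y')) isOpen_univ
      exact ⟨V, hV, hy⟩
    obtain ⟨_, ⟨V', hV' : IsAffineOpen V', rfl⟩, hy', hle⟩ :=
      Y'.isBasis_affineOpens.exists_subset_of_mem_open (show y' ∈ (qY ⁻¹ᵁ V : Set Y') from hyV)
        (qY ⁻¹ᵁ V).2
    exact ⟨V', ⟨hV', V, hV, hle⟩, hy'⟩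
  · rintro V' ⟨hV', V, hV, hle⟩
    have hU : IsAffineOpen (p ⁻¹ᵁ V) := hV.preimage p
    have hle' : p' ⁻¹ᵁ V' ≤ pX ⁻¹ᵁ (p ⁻¹ᵁ V) := by
      rw [← Scheme.Hom.comp_preimage, hX.w, Scheme.Hom.comp_preimage]
      exact fun x hx => hle hx
    have hUY : p' ⁻¹ᵁ V' = pX ⁻¹ᵁ (p ⁻¹ᵁ V) ⊓ p' ⁻¹ᵁ V' := (inf_eq_right.mpr hle').symm
    have hiso := isIso_pushoutSection_of_isAffineOpen hX hle (le_refl (p ⁻¹ᵁ V)) hUY hV hV' hU
    have hpo := (isIso_pushoutSection_iff hX hle (le_refl (p ⁻¹ᵁ V)) hUY).mp hiso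
    have hq := QuotAt.of_isQuot hp V
    have hleρ : ∀ g, p ⁻¹ᵁ V ≤ (ρ g).hom ⁻¹ᵁ (p ⁻¹ᵁ V) := hq.le
    have hleρ' : ∀ g, p' ⁻¹ᵁ V' ≤ (ρ' g).hom ⁻¹ᵁ (p' ⁻¹ᵁ V') :=
      fun g => SGA1.preimage_le_of_inv ρ' p' hρ₂ g V'
    have key := invariants_of_isPushout_of_isUnit_card hpo (hcard V)
      (fun g => ((ρ g).hom.appLE _ _ (hleρ g)).hom)
      (fun g => ((ρ' g).hom.appLE _ _ (hleρ' g)).hom)
      (fun g h => Groth.Agent.H15.Quot.sig_mul hp V g h)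
      (fun g => by
        ext a
        exact appLE_appLE_of_inv hp.inv V _ _ g (hleρ g) a)
      (fun g => by
        rw [← CommRingCat.hom_comp, ← CommRingCat.hom_comp, Scheme.Hom.appLE_comp_appLE,
          Scheme.Hom.appLE_comp_appLE]
        congr 1
        exact appLE_congr_hom (hρ₁ g) _ _ _)
      (fun g => by
        ext a
        exact appLE_appLE_of_inv hρ₂ V' _ _ g (hleρ' g) a)
      hq.injective
      (fun a ha => (hq.range_iff a).mpr ha)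
    refine ⟨rfl, hleρ', key.1, fun s => ⟨?_, fun hs => key.2 s hs⟩⟩
    rintro ⟨a, rfl⟩ g
    exact appLE_appLE_of_inv hρ₂ V' _ _ g (hleρ' g) a

/-- On a scheme over a field of characteristic zero every nonzero natural number is invertible
in every ring of sections. -/
theorem isUnit_natCast_of_charZero {k : Type u} [Field k] [CharZero k] {A : Scheme.{u}}
    (a : A ⟶ Spec (CommRingCat.of k)) (U : A.Opens) (m : ℕ) (hm : m ≠ 0) :
    IsUnit ((m : ℕ) : Γ(A, U)) := by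
  let φ : k →+* Γ(A, U) :=
    ((Scheme.ΓSpecIso (CommRingCat.of k)).inv ≫ a.appLE ⊤ U le_top).hom
  have : IsUnit ((m : ℕ) : k) := (Nat.cast_ne_zero.mpr hm).isUnit
  simpa using this.map φ

end Groth.Agent.H68.Rey
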