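import Groth.Agent.H37.QuotLoc5
import Groth.Agent.H15.QuotDesc
import Mathlib

/-!
# Transport of quotients: isomorphisms, uniqueness, restricted actions,
and the quotient of an open immersion by its stabilizer
-/

set_option autoImplicit false
universe u

open CategoryTheory Limits AlgebraicGeometry

namespace Groth.Agent.H68.QT

open Groth.Agent.H37

variable {X Y : Scheme.{u}} {G : Type u} [Group G]

section ResAct

variable (ρ : G →* Aut X) (U : X.Opens) (hU : ∀ g, U ≤ (ρ g).hom ⁻¹ᵁ U)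

/-- The restriction of `ρ g` to a stable open. -/
noncomputable def resHom (g : G) : U.toScheme ⟶ U.toScheme :=
  IsOpenImmersion.lift U.ι (U.ι ≫ (ρ g).hom) (by
    rintro _ ⟨x, rfl⟩
    rw [Scheme.Opens.range_ι]
    exact hU g x.2)

@[reassoc (attr := simp)]
theorem resHom_ι (g : G) : resHom ρ U hU g ≫ U.ι = U.ι ≫ (ρ g).hom :=
  IsOpenImmersion.lift_fac _ _ _

theorem resHom_mul (g h : G) : resHom ρ U hU (g * h) = resHom ρ U hU h ≫ resHom ρ U hU g := by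
  rw [← cancel_mono U.ι]
  simp only [resHom_ι, Category.assoc, resHom_ι_assoc, map_mul]
  rfl

theorem resHom_one : resHom ρ U hU 1 = 𝟙 _ := by
  rw [← cancel_mono U.ι]
  simp only [resHom_ι, map_one, Category.id_comp]
  exact Category.comp_id _

/-- The restriction of an action to a stable open subscheme. -/
noncomputable def resAct : G →* Aut U.toScheme :=
  MonoidHom.mk' (fun g =>
    { hom := resHom ρ U hU g
      inv := resHom ρ U hU g⁻¹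
      hom_inv_id := by rw [← resHom_mul, inv_mul_cancel, resHom_one]
      inv_hom_id := by rw [← resHom_mul, mul_inv_cancel, resHom_one] })
    (fun g h => Iso.ext (resHom_mul ρ U hU g h))

@[simp]
theorem resAct_hom (g : G) : (resAct ρ U hU g).hom = resHom ρ U hU g := rfl

theorem resAct_ι (g : G) : (resAct ρ U hU g).hom ≫ U.ι = U.ι ≫ (ρ g).hom := resHom_ι ρ U hU g

end ResAct

section Unique

variable [Finite G] {ρ : G →* Aut X} {Y₁ Y₂ : Scheme.{u}} {p₁ : X ⟶ Y₁} {p₂ : X ⟶ Y₂}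

/-- Two quotients of the same action are canonically isomorphic. -/
theorem exists_iso_of_isQuot (h₁ : SGA1.IsQuot ρ p₁) (h₂ : SGA1.IsQuot ρ p₂) :
    ∃ e : Y₁ ≅ Y₂, p₁ ≫ e.hom = p₂ := by
  obtain ⟨a, ha, -⟩ := Groth.Agent.H15.Quot.existsUnique_desc h₁ p₂ h₂.inv
  obtain ⟨b, hb, -⟩ := Groth.Agent.H15.Quot.existsUnique_desc h₂ p₁ h₁.inv
  refine ⟨⟨a, b, ?_, ?_⟩, ha⟩
  · apply Groth.Agent.H15.Quot.eq_of_comp_eq h₁
    rw [reassoc_of% ha, hb, Category.comp_id]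
  · apply Groth.Agent.H15.Quot.eq_of_comp_eq h₂
    rw [reassoc_of% hb, ha, Category.comp_id]

end Unique

section Transport

/-- Transport of a quotient along an isomorphism of schemes and a surjection of groups. -/
theorem isQuot_of_iso {X' : Scheme.{u}} {G' : Type u} [Group G'] {ρ : G →* Aut X} {p : X ⟶ Y}
    (hp : SGA1.IsQuot ρ p) (e : X' ≅ X) (ψ : G' →* G) (hψ : Function.Surjective ψ)
    (ρ' : G' →* Aut X') (hρ' : ∀ h, (ρ' h).hom ≫ e.hom = e.hom ≫ (ρ (ψ h)).hom) :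
    SGA1.IsQuot ρ' (e.hom ≫ p) := by
  have := hp.affine
  have haff : IsAffineHom (e.hom ≫ p) := inferInstance
  have hinv : ∀ h, (ρ' h).hom ≫ e.hom ≫ p = e.hom ≫ p := fun h => by
    rw [reassoc_of% hρ' h, hp.inv]
  refine isQuot_of_quotAt haff hinv fun V => ?_
  have hq := QuotAt.of_isQuot hp V
  have hV' : (e.hom ≫ p) ⁻¹ᵁ V = e.hom ⁻¹ᵁ (p ⁻¹ᵁ V) := rfl
  have hle' : ∀ h, (e.hom ≫ p) ⁻¹ᵁ V ≤ (ρ' h).hom ⁻¹ᵁ ((e.hom ≫ p) ⁻¹ᵁ V) :=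
    fun h => SGA1.preimage_le_of_inv ρ' _ hinv h V
  have hεbij : Function.Bijective
      (e.hom.appLE (p ⁻¹ᵁ V) ((e.hom ≫ p) ⁻¹ᵁ V) hV'.le).hom := by
    have h1 : e.hom.appLE (p ⁻¹ᵁ V) ((e.hom ≫ p) ⁻¹ᵁ V) hV'.le = e.hom.app (p ⁻¹ᵁ V) :=
      Scheme.Hom.appLE_eq_app _
    rw [h1]
    exact ConcreteCategory.bijective_of_isIso (e.hom.app (p ⁻¹ᵁ V))
  have hfac : p.appLE V (p ⁻¹ᵁ V) le_rfl ≫
      e.hom.appLE (p ⁻¹ᵁ V) ((e.hom ≫ p) ⁻¹ᵁ V) hV'.le =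
      (e.hom ≫ p).appLE V ((e.hom ≫ p) ⁻¹ᵁ V) le_rfl := by
    rw [Scheme.Hom.appLE_comp_appLE]
  have hequi : ∀ (h : G') (t : Γ(X, p ⁻¹ᵁ V)),
      ((ρ' h).hom.appLE ((e.hom ≫ p) ⁻¹ᵁ V) ((e.hom ≫ p) ⁻¹ᵁ V) (hle' h)).hom
        ((e.hom.appLE (p ⁻¹ᵁ V) ((e.hom ≫ p) ⁻¹ᵁ V) hV'.le).hom t) =
      (e.hom.appLE (p ⁻¹ᵁ V) ((e.hom ≫ p) ⁻¹ᵁ V) hV'.le).hom
        (((ρ (ψ h)).hom.appLE (p ⁻¹ᵁ V) (p ⁻¹ᵁ V) (hq.le _)).hom t) := by
    intro h t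
    have h1 := Scheme.Hom.appLE_comp_appLE e.hom (ρ (ψ h)).hom
      (p ⁻¹ᵁ V) (p ⁻¹ᵁ V) ((e.hom ≫ p) ⁻¹ᵁ V) (hq.le _) hV'.le
    have h2 := Scheme.Hom.appLE_comp_appLE (ρ' h).hom e.hom
      (p ⁻¹ᵁ V) ((e.hom ≫ p) ⁻¹ᵁ V) ((e.hom ≫ p) ⁻¹ᵁ V) hV'.le (hle' h)
    have h3 := appLE_congr_hom (hρ' h) (p ⁻¹ᵁ V) ((e.hom ≫ p) ⁻¹ᵁ V) (hle' h)
    have h4 := h2.trans (h3.trans h1.symm)
    exact congrArg (fun φ => CommRingCat.Hom.hom φ t) h4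
  refine ⟨rfl, hle', ?_, fun s => ⟨?_, fun hs => ?_⟩⟩
  · rw [← hfac, CommRingCat.hom_comp, RingHom.coe_comp]
    exact hεbij.1.comp hq.injective
  · rintro ⟨a, rfl⟩ h
    exact appLE_appLE_of_inv hinv V _ le_rfl h (hle' h) a
  · obtain ⟨t, rfl⟩ := hεbij.2 s
    have htinv : ∀ g : G, ((ρ g).hom.appLE (p ⁻¹ᵁ V) (p ⁻¹ᵁ V) (hq.le g)).hom t = t := by
      intro g
      obtain ⟨h, rfl⟩ := hψ g
      apply hεbij.1
      rw [← hequi h t]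
      exact hs h
    obtain ⟨a, ha⟩ := (hq.range_iff t).mpr htinv
    refine ⟨a, ?_⟩
    rw [← hfac, CommRingCat.hom_comp, RingHom.coe_comp, Function.comp_apply, ha]

end Transport

end Groth.Agent.H68.QT
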