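import Groth.Agent.H37.QuotFlat
import Mathlib

/-!
# Invariants commute with arbitrary base change when the group order is invertible (algebra)
-/

set_option autoImplicit false

open TensorProduct

namespace Groth.Agent.H68.Rey

open Groth.Agent.H37

section CL

variable {B A B' : Type*} [CommRing B] [CommRing A] [CommRing B'] [Algebra B A] [Algebra B B']
  {G : Type*} [Group G] [Fintype G]
  (σ : G → (A →ₐ[B] A))

/-- The sum of the translates, as a `B`-linear endomorphism of `A`. -/
noncomputable def trA : A →ₗ[B] A := ∑ g, (σ g).toLinearMap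

omit [Group G] in
theorem trA_apply (a : A) : trA σ a = ∑ g, σ g a := by
  simp [trA, LinearMap.sum_apply]

variable (hmul : ∀ g h a, σ (g * h) a = σ h (σ g a))
  (hinj : Function.Injective (algebraMap B A))
  (hrange : ∀ a : A, (∀ g, σ g a = a) → a ∈ Set.range (algebraMap B A))

include hmul in
theorem sigma_trA (h : G) (a : A) : σ h (trA σ a) = trA σ a := by
  rw [trA_apply, map_sum]
  simp only [← hmul]
  exact Fintype.sum_equiv (Equiv.mulRight h) _ _ (fun g => rfl)

include hmul hrange in
theorem trA_mem (a : A) : trA σ a ∈ LinearMap.range (Algebra.linearMap B A) := by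
  obtain ⟨b, hb⟩ := hrange (trA σ a) (fun g => sigma_trA σ hmul g a)
  exact ⟨b, hb⟩

/-- The trace `A → B`. -/
noncomputable def tr : A →ₗ[B] B :=
  (LinearEquiv.ofInjective (Algebra.linearMap B A) hinj).symm.toLinearMap ∘ₗ
    (trA σ).codRestrict (LinearMap.range (Algebra.linearMap B A)) (trA_mem σ hmul hrange)

theorem linearMap_comp_tr :
    (Algebra.linearMap B A) ∘ₗ tr σ hmul hinj hrange = trA σ := by
  ext a
  simp only [tr, LinearMap.coe_comp, LinearEquiv.coe_coe, Function.comp_apply]
  have := (LinearEquiv.ofInjective (Algebra.linearMap B A) hinj).apply_symm_apply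
    ((trA σ).codRestrict (LinearMap.range (Algebra.linearMap B A)) (trA_mem σ hmul hrange) a)
  exact congrArg Subtype.val this

theorem tr_one : tr σ hmul hinj hrange 1 = (Fintype.card G : B) := by
  apply hinj
  have := LinearMap.congr_fun (linearMap_comp_tr σ hmul hinj hrange) 1
  simp only [LinearMap.coe_comp, Function.comp_apply, Algebra.linearMap_apply] at this
  rw [this, trA_apply]
  simp

variable (hcard : IsUnit (Fintype.card G : B))

include hmul hinj hrange hcard in
theorem includeRight_injective :
    Function.Injective (Algebra.TensorProduct.includeRight (R := B) (A := A) (B := B')) := by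
  obtain ⟨u, hu⟩ := hcard.exists_left_inv
  let r : A ⊗[B] B' →ₗ[B] B' :=
    (TensorProduct.lid B B').toLinearMap ∘ₗ (tr σ hmul hinj hrange).rTensor B'
  have hr : ∀ b' : B', r (Algebra.TensorProduct.includeRight (R := B) (A := A) b') =
      (Fintype.card G : B) • b' := by
    intro b'
    simp [r, tr_one]
  intro x y hxy
  have h1 := congrArg r hxy
  rw [hr, hr] at h1
  have h2 := congrArg (fun z => u • z) h1
  simpa [smul_smul, hu] using h2

include hmul hinj hrange hcard in
theorem mem_range_includeRight
    (t : A ⊗[B] B')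
    (ht : ∀ g, Algebra.TensorProduct.map (σ g) (AlgHom.id B B') t = t) :
    t ∈ Set.range (Algebra.TensorProduct.includeRight (R := B) (A := A) (B := B')) := by
  obtain ⟨u, hu⟩ := hcard.exists_left_inv
  have h1 : (trA σ).rTensor B' t = (Fintype.card G : B) • t := by
    rw [trA, ← LinearMap.coe_rTensorHom, map_sum, LinearMap.sum_apply]
    simp only [LinearMap.coe_rTensorHom, rTensor_toLinearMap_eq, ht]
    rw [Finset.sum_const, Finset.card_univ, ← Nat.cast_smul_eq_nsmul B]
  have h2 : (trA σ).rTensor B' t =
      Algebra.TensorProduct.includeRight (R := B) (A := A)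
        (TensorProduct.lid B B' ((tr σ hmul hinj hrange).rTensor B' t)) := by
    rw [includeRight_eq_rTensor, LinearEquiv.symm_apply_apply, ← LinearMap.comp_apply,
      ← LinearMap.rTensor_comp, linearMap_comp_tr]
  refine ⟨u • TensorProduct.lid B B' ((tr σ hmul hinj hrange).rTensor B' t), ?_⟩
  rw [map_smul, ← h2, h1, smul_smul, hu, one_smul]

end CL

section Cat

open CategoryTheory CategoryTheory.Limits

universe u

/-- **Invariants commute with arbitrary base change when `|G|` is invertible**, in the form of a
pushout square of commutative rings. -/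
theorem invariants_of_isPushout_of_isUnit_card {B A B' A' : CommRingCat.{u}} {φ : B ⟶ A}
    {ψ : B ⟶ B'} {α : A ⟶ A'} {β : B' ⟶ A'} (H : IsPushout φ ψ α β)
    {G : Type*} [Group G] [Finite G] (hcard : IsUnit ((Nat.card G : ℕ) : B))
    (σ : G → (A →+* A)) (σ' : G → (A' →+* A'))
    (hmul : ∀ g h, σ (g * h) = (σ h).comp (σ g))
    (hσ : ∀ g, (σ g).comp φ.hom = φ.hom)
    (hσα : ∀ g, (σ' g).comp α.hom = α.hom.comp (σ g))
    (hσβ : ∀ g, (σ' g).comp β.hom = β.hom)
    (hinj : Function.Injective φ.hom)
    (hrange : ∀ a : A, (∀ g, σ g a = a) → a ∈ Set.range φ.hom) :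
    Function.Injective β.hom ∧
      ∀ a' : A', (∀ g, σ' g a' = a') → a' ∈ Set.range β.hom := by
  classical
  have := Fintype.ofFinite G
  algebraize [φ.hom, ψ.hom]
  let e : A ⊗[B] B' ≃+* A' :=
    ((CommRingCat.isPushout_tensorProduct B A B').isoIsPushout A B' H).commRingCatIsoToRingEquiv
  have he1 : ∀ a : A, e (a ⊗ₜ 1) = α.hom a := by
    intro a
    have := congr($((CommRingCat.isPushout_tensorProduct B A B').inl_isoIsPushout_hom A B' H).hom a)
    exact this
  have he2 : ∀ b : B', e (1 ⊗ₜ b) = β.hom b := by
    intro b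
    have := congr($((CommRingCat.isPushout_tensorProduct B A B').inr_isoIsPushout_hom A B' H).hom b)
    exact this
  have hβ : ∀ b : B', β.hom b = e (Algebra.TensorProduct.includeRight (R := B) (A := A) b) := by
    intro b
    rw [Algebra.TensorProduct.includeRight_apply, he2]
  let τ : G → (A →ₐ[B] A) := fun g =>
    { σ g with commutes' := fun b => congr($(hσ g) b) }
  have hτmul : ∀ g h a, τ (g * h) a = τ h (τ g a) := by
    intro g h a
    exact congr($(hmul g h) a)
  have hτ : ∀ g (t : A ⊗[B] B'),
      e (Algebra.TensorProduct.map (τ g) (AlgHom.id B B') t) = σ' g (e t) := by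
    intro g t
    induction t using TensorProduct.induction_on with
    | zero => simp
    | tmul a b =>
      have h1 : a ⊗ₜ[B] b = (a ⊗ₜ 1) * (1 ⊗ₜ b) := by simp
      have h2 : (τ g a) ⊗ₜ[B] b = ((τ g a) ⊗ₜ 1) * (1 ⊗ₜ b) := by simp
      rw [Algebra.TensorProduct.map_tmul, AlgHom.id_apply, h2, h1, map_mul, map_mul, map_mul,
        he1, he1, he2]
      congr 1
      · exact congr($(hσα g) a).symm
      · exact congr($(hσβ g) b).symm
    | add x y hx hy => simp only [map_add, hx, hy]
  have hcard' : IsUnit ((Fintype.card G : ℕ) : B) := by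
    rwa [← Nat.card_eq_fintype_card]
  have hinj' : Function.Injective (algebraMap B A) := hinj
  have hrange' : ∀ a : A, (∀ g, τ g a = a) → a ∈ Set.range (algebraMap B A) := hrange
  constructor
  · intro x y hxy
    rw [hβ, hβ] at hxy
    exact includeRight_injective τ hτmul hinj' hrange' hcard' (e.injective hxy)
  · intro a' ha'
    have := mem_range_includeRight (B' := B') τ hτmul hinj' hrange' hcard' (e.symm a') (by
      intro g
      apply e.injective
      rw [hτ, e.apply_symm_apply]
      exact ha' g)
    obtain ⟨b, hb⟩ := this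
    refine ⟨b, ?_⟩
    rw [hβ, hb, e.apply_symm_apply]

end Cat

end Groth.Agent.H68.Rey
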