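import Groth.Agent.H68.LawCorestrict
import Groth.Agent.H68.LawGammaGen
import Mathlib

/-!
# Descent of multiplicative laws along surjections, and the kernel of a tensor power of a surjection

* `RL.law_ext_of_injective`: two polynomial laws with values in a submodule agree when they agree
  after the inclusion.
* `RL.ker_tmap_le`: the kernel of `T^d(π)`, `π` surjective, is spanned by the pure tensors with a
  slot in `ker π`.
* `RL.mem_closure_of_lTensor_eq_zero`: the same after base change.
* `RL.descend`: a multiplicative law which is insensitive to the kernel of a surjection descends.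
-/

set_option autoImplicit false
universe u
open scoped TensorProduct

namespace Groth.Agent.H68.RL

open Groth.Agent.H68 Groth.Agent.H68.LC Groth.Agent.H68.CR

section Ext

variable {A : Type u} [CommRing A] {M N N' : Type u} [AddCommGroup M] [Module A M]
  [AddCommGroup N] [Module A N] [AddCommGroup N'] [Module A N']

/-- Two laws with values in a submodule agree when they agree after the inclusion. -/
theorem law_ext_of_injective (ι : N' →ₗ[A] N) (hι : Function.Injective ι) (F F' : M →ₚₗ[A] N')
    (h : ∀ (σ : Type u) (z : MvPolynomial σ A ⊗[A] M),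
      ι.lTensor _ (F.toFun' _ z) = ι.lTensor _ (F'.toFun' _ z)) : F = F' := by
  ext S _ _ z
  obtain ⟨z', rfl⟩ := rTensor_pr_surjective (A := A) S z
  rw [← F.isCompat_apply', ← F'.isCompat_apply']
  congr 1
  exact Module.Flat.lTensor_preserves_injective_linearMap ι hι (h S z')

end Ext

section Ker

variable {A : Type u} [CommRing A] {P B : Type u} [CommRing P] [Algebra A P] [CommRing B]
  [Algebra A B] (d : ℕ) (π : P →ₐ[A] B)

/-- The pure tensors with a slot in the kernel of `π`. -/
def kerGen : Set (⨂[A] _ : Fin d, P) :=
  {t | ∃ (x : Fin d → P) (k : Fin d), π (x k) = 0 ∧ t = PiTensorProduct.tprod A x}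

/-- The span of the pure tensors with a slot in the kernel of `π`. -/
def Ksub : Submodule A (⨂[A] _ : Fin d, P) := Submodule.span A (kerGen d π)

lemma tprod_sub_mem (x : Fin d → P) (k : Fin d) (v : P) (hv : π v = π (x k)) :
    PiTensorProduct.tprod A (Function.update x k v) - PiTensorProduct.tprod A x ∈ Ksub d π := by
  have h1 : PiTensorProduct.tprod A (Function.update x k v) - PiTensorProduct.tprod A x =
      PiTensorProduct.tprod A (Function.update x k (v - x k)) := by
    have := (PiTensorProduct.tprod A).map_update_sub x k v (x k)
    rw [this, Function.update_eq_self]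
  rw [h1]
  apply Submodule.subset_span
  exact ⟨_, k, by simp [hv], rfl⟩

lemma tprod_congr_mod (x x' : Fin d → P) (h : ∀ k, π (x k) = π (x' k)) :
    (Ksub d π).mkQ (PiTensorProduct.tprod A x) = (Ksub d π).mkQ (PiTensorProduct.tprod A x') := by
  classical
  have key : ∀ T : Finset (Fin d),
      (Ksub d π).mkQ (PiTensorProduct.tprod A (fun k => if k ∈ T then x' k else x k)) =
        (Ksub d π).mkQ (PiTensorProduct.tprod A x) := by
    intro T
    induction T using Finset.induction_on with
    | empty => simp
    | insert k T hk ih =>
      rw [← ih]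
      have e : (fun j => if j ∈ insert k T then x' j else x j) =
          Function.update (fun j => if j ∈ T then x' j else x j) k (x' k) := by
        funext j
        by_cases hj : j = k
        · subst hj
          simp
        · simp [hj, Finset.mem_insert]
      rw [e, ← sub_eq_zero, ← map_sub, Submodule.mkQ_apply, Submodule.Quotient.mk_eq_zero]
      apply tprod_sub_mem
      simp [hk, h]
  have := key Finset.univ
  simpa using this.symm

variable (hπ : Function.Surjective π)

/-- The multilinear map `(b_i) ↦ [⊗ σ(b_i)]` for a set-theoretic section `σ` of `π`. -/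
noncomputable def backML :
    MultilinearMap A (fun _ : Fin d => B) ((⨂[A] _ : Fin d, P) ⧸ Ksub d π) where
  toFun b := (Ksub d π).mkQ (PiTensorProduct.tprod A (fun k => Function.surjInv hπ (b k)))
  map_update_add' := by
    intro inst b k u v
    have hinst : inst = instDecidableEqFin d := Subsingleton.elim _ _
    subst hinst
    have e : ∀ w : B, (fun j => Function.surjInv hπ (Function.update b k w j)) =
        Function.update (fun j => Function.surjInv hπ (b j)) k (Function.surjInv hπ w) := by
      intro w
      funext j
      by_cases hj : j = k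
      · subst hj; simp
      · simp [Function.update_of_ne hj]
    have h1 : (Ksub d π).mkQ (PiTensorProduct.tprod A
        (fun j => Function.surjInv hπ (Function.update b k (u + v) j))) =
        (Ksub d π).mkQ (PiTensorProduct.tprod A
          (Function.update (fun j => Function.surjInv hπ (b j)) k
            (Function.surjInv hπ u + Function.surjInv hπ v))) := by
      apply tprod_congr_mod
      intro j
      by_cases hj : j = k
      · subst hj
        simp [Function.surjInv_eq hπ]
      · simp [Function.update_of_ne hj]
    show (Ksub d π).mkQ (PiTensorProduct.tprod A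
        (fun j => Function.surjInv hπ (Function.update b k (u + v) j))) =
        (Ksub d π).mkQ (PiTensorProduct.tprod A
          (fun j => Function.surjInv hπ (Function.update b k u j))) +
        (Ksub d π).mkQ (PiTensorProduct.tprod A
          (fun j => Function.surjInv hπ (Function.update b k v j)))
    rw [h1, MultilinearMap.map_update_add, map_add, e u, e v]
  map_update_smul' := by
    intro inst b k c u
    have hinst : inst = instDecidableEqFin d := Subsingleton.elim _ _
    subst hinst
    have e : ∀ w : B, (fun j => Function.surjInv hπ (Function.update b k w j)) =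
        Function.update (fun j => Function.surjInv hπ (b j)) k (Function.surjInv hπ w) := by
      intro w
      funext j
      by_cases hj : j = k
      · subst hj; simp
      · simp [Function.update_of_ne hj]
    have h1 : (Ksub d π).mkQ (PiTensorProduct.tprod A
        (fun j => Function.surjInv hπ (Function.update b k (c • u) j))) =
        (Ksub d π).mkQ (PiTensorProduct.tprod A
          (Function.update (fun j => Function.surjInv hπ (b j)) k
            (c • Function.surjInv hπ u))) := by
      apply tprod_congr_mod
      intro j
      by_cases hj : j = k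
      · subst hj
        simp [Function.surjInv_eq hπ]
      · simp [Function.update_of_ne hj]
    show (Ksub d π).mkQ (PiTensorProduct.tprod A
        (fun j => Function.surjInv hπ (Function.update b k (c • u) j))) =
        c • (Ksub d π).mkQ (PiTensorProduct.tprod A
          (fun j => Function.surjInv hπ (Function.update b k u j)))
    rw [h1, MultilinearMap.map_update_smul, map_smul, e u]

/-- The linear map `T^d(B) → T^d(P) / K`. -/
noncomputable def backLin : (⨂[A] _ : Fin d, B) →ₗ[A] ((⨂[A] _ : Fin d, P) ⧸ Ksub d π) :=
  PiTensorProduct.lift (backML d π hπ)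

lemma backLin_tmap (t : ⨂[A] _ : Fin d, P) :
    backLin d π hπ (SymTen.tmap A d π t) = (Ksub d π).mkQ t := by
  induction t using PiTensorProduct.induction_on with
  | smul_tprod r x =>
    rw [map_smul, map_smul, map_smul, SymTen.tmap_tprod, backLin, PiTensorProduct.lift.tprod]
    congr 1
    show (Ksub d π).mkQ (PiTensorProduct.tprod A (fun k => Function.surjInv hπ (π (x k)))) = _
    apply tprod_congr_mod
    intro k
    exact Function.surjInv_eq hπ _
  | add x y hx hy => rw [map_add, map_add, map_add, hx, hy]

include hπ in
/-- The kernel of `T^d(π)` is spanned by the pure tensors with a slot in `ker π`. -/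
theorem ker_tmap_le : LinearMap.ker (SymTen.tmap A d π).toLinearMap ≤ Ksub d π := by
  intro t ht
  have h1 : (Ksub d π).mkQ t = 0 := by
    rw [← backLin_tmap d π hπ t]
    have : SymTen.tmap A d π t = 0 := ht
    rw [this, map_zero]
  rwa [Submodule.mkQ_apply, Submodule.Quotient.mk_eq_zero] at h1

end Ker

section KerBC

variable {A : Type u} [CommRing A] {M₁ M₂ : Type u} [AddCommGroup M₁] [Module A M₁]
  [AddCommGroup M₂] [Module A M₂]

/-- The kernel of a base change of a surjection is additively generated by the `s ⊗ g`, `g` running
through generators of the kernel. -/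
theorem mem_closure_of_lTensor_eq_zero (ρ : M₁ →ₗ[A] M₂) (hρ : Function.Surjective ρ)
    (Gs : Set M₁) (hGs : LinearMap.ker ρ ≤ Submodule.span A Gs)
    (S : Type u) [CommSemiring S] [Algebra A S] (w : S ⊗[A] M₁) (hw : ρ.lTensor S w = 0) :
    w ∈ AddSubmonoid.closure {x : S ⊗[A] M₁ | ∃ (s : S) (g : M₁), g ∈ Gs ∧ x = s ⊗ₜ[A] g} := by
  let _ : Ring S := Algebra.semiringToRing A
  have hex : Function.Exact (LinearMap.ker ρ).subtype ρ := by
    intro x
    constructor
    · intro hx
      exact ⟨⟨x, hx⟩, rfl⟩
    · rintro ⟨y, rfl⟩
      exact y.2
  have h2 := lTensor_exact S hex hρ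
  obtain ⟨v, rfl⟩ := (h2 w).mp hw
  clear hw
  induction v using TensorProduct.induction_on with
  | zero => rw [map_zero]; exact zero_mem _
  | tmul s k =>
    rw [LinearMap.lTensor_tmul]
    have hk : (k : M₁) ∈ Submodule.span A Gs := hGs k.2
    show s ⊗ₜ[A] (k : M₁) ∈ _
    generalize (k : M₁) = m at hk
    revert s
    induction hk using Submodule.span_induction with
    | mem g hg => intro s; exact AddSubmonoid.subset_closure ⟨s, g, hg, rfl⟩
    | zero => intro s; rw [TensorProduct.tmul_zero]; exact zero_mem _
    | add a b _ _ ha hb => intro s; rw [TensorProduct.tmul_add]; exact add_mem (ha s) (hb s)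
    | smul c a _ ha => intro s; rw [TensorProduct.tmul_smul, TensorProduct.smul_tmul']; exact ha _
  | add v₁ v₂ h₁ h₂ => rw [map_add]; exact add_mem h₁ h₂

end KerBC

section Descend

variable {A : Type u} [CommRing A] {B₁ B₂ C : Type u} [CommRing B₁] [Algebra A B₁] [CommRing B₂]
  [Algebra A B₂] [CommRing C] [Algebra A C] {n : ℕ}
  (ρ : B₁ →ₐ[A] B₂) (hρ : Function.Surjective ρ) (G : PolLaw.MulLaw A B₁ C n)
  (hG : ∀ (S : Type u) [CommSemiring S] [Algebra A S] (z w : S ⊗[A] B₁),
    ρ.toLinearMap.lTensor S w = 0 → G.law.toFun' S (z + w) = G.law.toFun' S z)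

include hρ in
lemma lTensor_surj (S : Type u) [CommSemiring S] [Algebra A S] :
    Function.Surjective (ρ.toLinearMap.lTensor S) :=
  LinearMap.lTensor_surjective S hρ

/-- A lift along the base change of the surjection. -/
noncomputable def sec (S : Type u) [CommSemiring S] [Algebra A S] (y : S ⊗[A] B₂) : S ⊗[A] B₁ :=
  (lTensor_surj ρ hρ S y).choose

lemma sec_spec (S : Type u) [CommSemiring S] [Algebra A S] (y : S ⊗[A] B₂) :
    ρ.toLinearMap.lTensor S (sec ρ hρ S y) = y :=
  (lTensor_surj ρ hρ S y).choose_spec

include hG in
lemma descend_wd (S : Type u) [CommSemiring S] [Algebra A S] (z z' : S ⊗[A] B₁)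
    (h : ρ.toLinearMap.lTensor S z = ρ.toLinearMap.lTensor S z') :
    G.law.toFun' S z = G.law.toFun' S z' := by
  have hneg : ∀ {L : Type u} [AddCommMonoid L] [Module A L] (y : L), y + (-1 : A) • y = 0 := by
    intro L _ _ y
    calc y + (-1 : A) • y = (1 : A) • y + (-1 : A) • y := by rw [one_smul]
      _ = ((1 : A) + -1) • y := (add_smul _ _ _).symm
      _ = 0 := by rw [add_neg_cancel, zero_smul]
  have hw : ρ.toLinearMap.lTensor S (z' + (-1 : A) • z) = 0 := by
    rw [map_add, map_smul, h]
    exact hneg _
  have e : z' = z + (z' + (-1 : A) • z) := by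
    rw [add_comm z', ← add_assoc, hneg z, zero_add]
  rw [e]
  exact (hG S z _ hw).symm

/-- The descended law. -/
noncomputable def descend : PolLaw.MulLaw A B₂ C n where
  law :=
  { toFun' := fun S _ _ y => G.law.toFun' S (sec ρ hρ S y)
    isCompat' := fun {S _ _ S' _ _} φ => by
      funext y
      simp only [Function.comp_apply]
      rw [G.law.isCompat_apply']
      apply descend_wd ρ G hG
      rw [sec_spec, ← LinearMap.comp_apply, LinearMap.lTensor_comp_rTensor,
        ← LinearMap.rTensor_comp_lTensor, LinearMap.comp_apply, sec_spec] }
  homog := by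
    intro S _ _ s y
    show G.law.toFun' S (sec ρ hρ S (s • y)) = s ^ n • G.law.toFun' S (sec ρ hρ S y)
    rw [← G.homog S s]
    apply descend_wd ρ G hG
    rw [sec_spec, PolLaw.lTensor_algHom_apply, map_smul, ← PolLaw.lTensor_algHom_apply, sec_spec]
  mult := by
    intro S _ _
    constructor
    · show G.law.toFun' S (sec ρ hρ S 1) = 1
      rw [← (G.mult S).1]
      apply descend_wd ρ G hG
      rw [sec_spec, PolLaw.lTensor_algHom_apply, map_one]
    · intro x y
      show G.law.toFun' S (sec ρ hρ S (x * y)) =
        G.law.toFun' S (sec ρ hρ S x) * G.law.toFun' S (sec ρ hρ S y)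
      rw [← (G.mult S).2]
      apply descend_wd ρ G hG
      rw [sec_spec, PolLaw.lTensor_algHom_apply, map_mul, ← PolLaw.lTensor_algHom_apply,
        ← PolLaw.lTensor_algHom_apply, sec_spec, sec_spec]

theorem descend_apply (S : Type u) [CommSemiring S] [Algebra A S] (z : S ⊗[A] B₁) :
    (descend ρ hρ G hG).law.toFun' S (ρ.toLinearMap.lTensor S z) = G.law.toFun' S z := by
  show G.law.toFun' S (sec ρ hρ S _) = _
  apply descend_wd ρ G hG
  rw [sec_spec]

end Descend

end Groth.Agent.H68.RL
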