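import Groth.Agent.H68.RydhNorm
import Groth.Agent.S13717
import Mathlib

/-!
# Rydh's multiplicative law `T^d_A(B) → Γ^d_A(B)` of degree `d!`

For an arbitrary `A`-algebra `B` with divided power algebra `(C, γ)`, we construct a multiplicative
law `FLaw γ : T^d_A(B) → C`, homogeneous of degree `d!`, such that `φ ∘ FLaw = (z ↦ ∏_σ σ(z))` for the
canonical map `φ : C → TS^d_A(B)` (`val_phi_FLaw`). The construction presents `B` as a quotient of a
polynomial algebra `P₀`, for which `Γ^d(P₀) = TS^d(P₀)`, and descends `Γ^d(π) ∘ N` along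
`T^d(P₀) → T^d(B)`; the descent condition is checked with a one-variable homotopy.
-/

set_option autoImplicit false
universe u
open scoped TensorProduct

namespace Groth.Agent.H68.RL

open Groth.Agent.H68 Groth.Agent.H68.LC Groth.Agent.H68.CR Groth.Agent.H68.TSG

section Tmap

variable {A : Type u} [CommRing A] {P Q R : Type u} [CommRing P] [Algebra A P] [CommRing Q]
  [Algebra A Q] [CommRing R] [Algebra A R] (d : ℕ)

lemma tmap_comp' (g : Q →ₐ[A] R) (f : P →ₐ[A] Q) :
    SymTen.tmap A d (g.comp f) = (SymTen.tmap A d g).comp (SymTen.tmap A d f) := by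
  apply AlgHom.ext
  intro t
  induction t using PiTensorProduct.induction_on with
  | smul_tprod r x => simp
  | add x y hx hy => simp only [map_add, hx, hy]

lemma tmap_id' : SymTen.tmap A d (AlgHom.id A P) = AlgHom.id A _ := by
  apply AlgHom.ext
  intro t
  induction t using PiTensorProduct.induction_on with
  | smul_tprod r x => simp
  | add x y hx hy => simp only [map_add, hx, hy]

lemma tmap_surjective (π : P →ₐ[A] Q) (hπ : Function.Surjective π) :
    Function.Surjective (SymTen.tmap A d π) := by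
  intro t
  induction t using PiTensorProduct.induction_on with
  | smul_tprod r x =>
    refine ⟨r • PiTensorProduct.tprod A (fun i => Function.surjInv hπ (x i)), ?_⟩
    rw [map_smul, SymTen.tmap_tprod]
    congr 2
    funext i
    exact Function.surjInv_eq hπ _
  | add x y hx hy =>
    obtain ⟨x', rfl⟩ := hx
    obtain ⟨y', rfl⟩ := hy
    exact ⟨x' + y', map_add _ _ _⟩

end Tmap

section Theta

variable {A : Type u} [CommRing A] {B C : Type u} [CommRing B] [Algebra A B] [CommRing C]
  [Algebra A C] {d : ℕ} (γ : PolLaw.MulLaw A B C d)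
  (Q : Type u) [CommRing Q] [Algebra A Q] [Module.Flat A Q] (q : Q →ₐ[A] B)

/-- `Γ^d(q)` for a flat algebra `Q` over `B`: the homomorphism `TS^d(Q) → C` attached to the law
`γ ∘ q`. -/
noncomputable def Theta : SymTen.TS A Q d →ₐ[A] C :=
  ((isGammaD_of_flat (A := A) (B := Q) (d := d)) C (γ.precomp q)).choose

lemma Theta_spec :
    PolLaw.postcomp (Theta γ Q q).toLinearMap (tau A Q d).law = (γ.precomp q).law :=
  ((isGammaD_of_flat (A := A) (B := Q) (d := d)) C (γ.precomp q)).choose_spec.1

lemma Theta_unique (g : SymTen.TS A Q d →ₐ[A] C)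
    (hg : PolLaw.postcomp g.toLinearMap (tau A Q d).law = (γ.precomp q).law) :
    g = Theta γ Q q :=
  ((isGammaD_of_flat (A := A) (B := Q) (d := d)) C (γ.precomp q)).choose_spec.2 g hg

lemma Theta_apply (S : Type u) [CommSemiring S] [Algebra A S] (y : S ⊗[A] Q) :
    (Theta γ Q q).toLinearMap.lTensor S ((tau A Q d).law.toFun' S y) =
      γ.law.toFun' S (q.toLinearMap.lTensor S y) :=
  congrArg (fun F : Q →ₚₗ[A] C => F.toFun' S y) (Theta_spec γ Q q)

variable (Q' : Type u) [CommRing Q'] [Algebra A Q'] [Module.Flat A Q'] (e : Q' →ₐ[A] Q)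

lemma Theta_nat : (Theta γ Q q).comp (SymTen.TSmap A d e) = Theta γ Q' (q.comp e) := by
  apply Theta_unique
  rw [postcomp_comp, tau_nat]
  ext S _ _ z
  show (Theta γ Q q).toLinearMap.lTensor S ((tau A Q d).law.toFun' S (e.toLinearMap.lTensor S z)) =
    γ.law.toFun' S ((q.comp e).toLinearMap.lTensor S z)
  rw [Theta_apply, AlgHom.comp_toLinearMap, LinearMap.lTensor_comp, LinearMap.comp_apply]

lemma Theta_NL_tmap (S : Type u) [CommSemiring S] [Algebra A S]
    (u : S ⊗[A] (⨂[A] _ : Fin d, Q')) :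
    (Theta γ Q q).toLinearMap.lTensor S ((NL A Q d).law.toFun' S
      ((SymTen.tmap A d e).toLinearMap.lTensor S u)) =
    (Theta γ Q' (q.comp e)).toLinearMap.lTensor S ((NL A Q' d).law.toFun' S u) := by
  have h1 : (SymTen.TSmap A d e).toLinearMap.lTensor S ((NL A Q' d).law.toFun' S u) =
      (NL A Q d).law.toFun' S ((SymTen.tmap A d e).toLinearMap.lTensor S u) :=
    congrArg (fun F : (⨂[A] _ : Fin d, Q') →ₚₗ[A] SymTen.TS A Q d => F.toFun' S u) (NL_nat A d e)
  rw [← h1, ← LinearMap.comp_apply, ← LinearMap.lTensor_comp, ← AlgHom.comp_toLinearMap, Theta_nat]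

lemma Theta_NL_homotopy (e₁ e₂ : Q' →ₐ[A] Q) (h : q.comp e₁ = q.comp e₂)
    (S : Type u) [CommSemiring S] [Algebra A S] (u : S ⊗[A] (⨂[A] _ : Fin d, Q')) :
    (Theta γ Q q).toLinearMap.lTensor S ((NL A Q d).law.toFun' S
      ((SymTen.tmap A d e₁).toLinearMap.lTensor S u)) =
    (Theta γ Q q).toLinearMap.lTensor S ((NL A Q d).law.toFun' S
      ((SymTen.tmap A d e₂).toLinearMap.lTensor S u)) := by
  rw [Theta_NL_tmap, Theta_NL_tmap, h]

end Theta

section Main

variable {A : Type u} [CommRing A] {B C : Type u} [CommRing B] [Algebra A B] [CommRing C]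
  [Algebra A C] {d : ℕ} (γ : PolLaw.MulLaw A B C d)

/-- The canonical presentation of `B` by a polynomial algebra. -/
noncomputable def pi0 (A : Type u) [CommRing A] (B : Type u) [CommRing B] [Algebra A B] :
    MvPolynomial B A →ₐ[A] B := MvPolynomial.aeval id

lemma pi0_surjective : Function.Surjective (pi0 A B) := fun b =>
  ⟨MvPolynomial.X b, by simp [pi0]⟩

/-- The law `Γ^d(π₀) ∘ N` on `T^d(P₀)`. -/
noncomputable def GLaw : PolLaw.MulLaw A (⨂[A] _ : Fin d, MvPolynomial B A) C d.factorial :=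
  PolLaw.MulLaw.postcomp (Theta γ (MvPolynomial B A) (pi0 A B)) (NL A (MvPolynomial B A) d)

lemma GLaw_apply (S : Type u) [CommSemiring S] [Algebra A S]
    (z : S ⊗[A] (⨂[A] _ : Fin d, MvPolynomial B A)) :
    (GLaw γ).law.toFun' S z = (Theta γ (MvPolynomial B A) (pi0 A B)).toLinearMap.lTensor S
      ((NL A (MvPolynomial B A) d).law.toFun' S z) := rfl

lemma GLaw_step (S : Type u) [CommSemiring S] [Algebra A S]
    (z : S ⊗[A] (⨂[A] _ : Fin d, MvPolynomial B A)) (s : S) (x : Fin d → MvPolynomial B A)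
    (k : Fin d) (hk : pi0 A B (x k) = 0) :
    (GLaw γ).law.toFun' S (z + s ⊗ₜ[A] PiTensorProduct.tprod A x) = (GLaw γ).law.toFun' S z := by
  classical
  let ιo : MvPolynomial B A →ₐ[A] MvPolynomial (Option B) A := MvPolynomial.rename some
  let ei : MvPolynomial (Option B) A →ₐ[A] MvPolynomial B A :=
    MvPolynomial.aeval (fun o : Option B => o.elim (x k) MvPolynomial.X)
  let e0 : MvPolynomial (Option B) A →ₐ[A] MvPolynomial B A :=
    MvPolynomial.aeval (fun o : Option B => o.elim 0 MvPolynomial.X)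
  have hei : ei.comp ιo = AlgHom.id A _ := by
    apply MvPolynomial.algHom_ext
    intro b
    simp [ei, ιo]
  have he0 : e0.comp ιo = AlgHom.id A _ := by
    apply MvPolynomial.algHom_ext
    intro b
    simp [e0, ιo]
  have hpi : (pi0 A B).comp ei = (pi0 A B).comp e0 := by
    apply MvPolynomial.algHom_ext
    intro o
    cases o with
    | none => simp [ei, e0, hk]
    | some b => simp [ei, e0]
  let xt : Fin d → MvPolynomial (Option B) A :=
    Function.update (fun j => ιo (x j)) k (MvPolynomial.X none)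
  let u : S ⊗[A] (⨂[A] _ : Fin d, MvPolynomial (Option B) A) :=
    (SymTen.tmap A d ιo).toLinearMap.lTensor S z + s ⊗ₜ[A] PiTensorProduct.tprod A xt
  have hcomp : ∀ e : MvPolynomial (Option B) A →ₐ[A] MvPolynomial B A, e.comp ιo = AlgHom.id A _ →
      (SymTen.tmap A d e).toLinearMap.lTensor S ((SymTen.tmap A d ιo).toLinearMap.lTensor S z) =
        z := by
    intro e he
    rw [← LinearMap.comp_apply, ← LinearMap.lTensor_comp, ← AlgHom.comp_toLinearMap, ← tmap_comp',
      he, tmap_id']
    have : (AlgHom.id A (⨂[A] _ : Fin d, MvPolynomial B A)).toLinearMap = LinearMap.id := rfl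
    rw [this, LinearMap.lTensor_id, LinearMap.id_apply]
  have hui : (SymTen.tmap A d ei).toLinearMap.lTensor S u =
      z + s ⊗ₜ[A] PiTensorProduct.tprod A x := by
    show (SymTen.tmap A d ei).toLinearMap.lTensor S
      ((SymTen.tmap A d ιo).toLinearMap.lTensor S z + s ⊗ₜ[A] PiTensorProduct.tprod A xt) = _
    rw [map_add, hcomp ei hei, LinearMap.lTensor_tmul, AlgHom.toLinearMap_apply, SymTen.tmap_tprod]
    congr 3
    funext j
    by_cases hj : j = k
    · subst hj
      simp [xt, ei]
    · have := DFunLike.congr_fun hei (x j)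
      simp only [AlgHom.comp_apply, AlgHom.id_apply] at this
      simp [xt, Function.update_of_ne hj, this]
  have hu0 : (SymTen.tmap A d e0).toLinearMap.lTensor S u = z := by
    show (SymTen.tmap A d e0).toLinearMap.lTensor S
      ((SymTen.tmap A d ιo).toLinearMap.lTensor S z + s ⊗ₜ[A] PiTensorProduct.tprod A xt) = _
    rw [map_add, hcomp e0 he0, LinearMap.lTensor_tmul, AlgHom.toLinearMap_apply, SymTen.tmap_tprod]
    have h0 : PiTensorProduct.tprod A (fun i => e0 (xt i)) = 0 := by
      apply (PiTensorProduct.tprod A).map_coord_zero k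
      simp [xt, e0]
    rw [h0, TensorProduct.tmul_zero, add_zero]
  rw [GLaw_apply, GLaw_apply, ← hui,
    Theta_NL_homotopy γ (MvPolynomial B A) (pi0 A B) (MvPolynomial (Option B) A) ei e0 hpi S u, hu0]

/-- The law `Γ^d(π₀) ∘ N` does not see the kernel of `T^d(P₀) → T^d(B)`. -/
theorem GLaw_insensitive (S : Type u) [CommSemiring S] [Algebra A S]
    (z w : S ⊗[A] (⨂[A] _ : Fin d, MvPolynomial B A))
    (hw : (SymTen.tmap A d (pi0 A B)).toLinearMap.lTensor S w = 0) :
    (GLaw γ).law.toFun' S (z + w) = (GLaw γ).law.toFun' S z := by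
  have hmem := mem_closure_of_lTensor_eq_zero (SymTen.tmap A d (pi0 A B)).toLinearMap
    (tmap_surjective d (pi0 A B) pi0_surjective) (kerGen d (pi0 A B))
    (ker_tmap_le d (pi0 A B) pi0_surjective) S w hw
  clear hw
  revert z
  induction hmem using AddSubmonoid.closure_induction with
  | mem w hw =>
    obtain ⟨s, g, ⟨x, k, hxk, rfl⟩, rfl⟩ := hw
    intro z
    exact GLaw_step γ S z s x k hxk
  | zero => intro z; rw [add_zero]
  | add a b _ _ ha hb => intro z; rw [← add_assoc, hb, ha]

/-- Rydh's multiplicative law `T^d_A(B) → Γ^d_A(B)` of degree `d!`. -/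
noncomputable def FLaw : PolLaw.MulLaw A (⨂[A] _ : Fin d, B) C d.factorial :=
  descend (SymTen.tmap A d (pi0 A B)) (tmap_surjective d (pi0 A B) pi0_surjective) (GLaw γ)
    (GLaw_insensitive γ)

lemma FLaw_apply (S : Type u) [CommSemiring S] [Algebra A S]
    (z : S ⊗[A] (⨂[A] _ : Fin d, MvPolynomial B A)) :
    (FLaw γ).law.toFun' S ((SymTen.tmap A d (pi0 A B)).toLinearMap.lTensor S z) =
      (GLaw γ).law.toFun' S z :=
  descend_apply _ _ _ _ S z

variable (φ : C →ₐ[A] SymTen.TS A B d)
  (hφ : ∀ (S : Type u) [CommSemiring S] [Algebra A S] (n : ℕ) (s : Fin n → S) (b : Fin n → B),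
    ((SymTen.TS A B d).val.comp φ).toLinearMap.lTensor S (γ.law.toFun' S (∑ j, s j ⊗ₜ[A] b j)) =
      ∑ c : Fin d → Fin n, (∏ i, s (c i)) ⊗ₜ[A] PiTensorProduct.tprod A (fun i => b (c i)))

include hφ in
lemma phi_gamma : PolLaw.postcomp φ.toLinearMap γ.law = (tau A B d).law := by
  apply law_ext_of_injective (SymTen.TS A B d).val.toLinearMap Subtype.val_injective
  intro σ z
  obtain ⟨n, s, b, rfl⟩ := Groth.Agent.S13872.exists_fin_sum' (A := A) z
  show (SymTen.TS A B d).val.toLinearMap.lTensor _ (φ.toLinearMap.lTensor _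
    (γ.law.toFun' _ (∑ j, s j ⊗ₜ[A] b j))) = _
  rw [tau_formula, ← hφ, AlgHom.comp_toLinearMap, LinearMap.lTensor_comp, LinearMap.comp_apply]

include hφ in
lemma phi_gamma_apply (S : Type u) [CommSemiring S] [Algebra A S] (z : S ⊗[A] B) :
    φ.toLinearMap.lTensor S (γ.law.toFun' S z) = (tau A B d).law.toFun' S z :=
  congrArg (fun F : B →ₚₗ[A] SymTen.TS A B d => F.toFun' S z) (phi_gamma γ φ hφ)

include hφ in
lemma phi_Theta : φ.comp (Theta γ (MvPolynomial B A) (pi0 A B)) = SymTen.TSmap A d (pi0 A B) := by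
  obtain ⟨g, -, huniq⟩ := isGammaD_of_flat (A := A) (B := MvPolynomial B A) (d := d)
    (SymTen.TS A B d) ((tau A B d).precomp (pi0 A B))
  have h1 : φ.comp (Theta γ (MvPolynomial B A) (pi0 A B)) = g := by
    apply huniq
    rw [postcomp_comp, Theta_spec]
    ext S _ _ z
    exact phi_gamma_apply γ φ hφ S _
  have h2 : SymTen.TSmap A d (pi0 A B) = g := by
    apply huniq
    exact tau_nat A d (pi0 A B)
  rw [h1, h2]

include hφ in
/-- `φ ∘ FLaw` is the symmetrisation law `z ↦ ∏_σ σ(z)`. -/
theorem val_phi_FLaw (S : Type u) [CommSemiring S] [Algebra A S] (z : S ⊗[A] (⨂[A] _ : Fin d, B)) :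
    (SymTen.TS A B d).val.toLinearMap.lTensor S (φ.toLinearMap.lTensor S
      ((FLaw γ).law.toFun' S z)) = (SymTen.symmLaw A B d).law.toFun' S z := by
  have hs : Function.Surjective ((SymTen.tmap A d (pi0 A B)).toLinearMap.lTensor S) :=
    LinearMap.lTensor_surjective S (tmap_surjective d (pi0 A B) pi0_surjective)
  obtain ⟨z', rfl⟩ := hs z
  rw [FLaw_apply, GLaw_apply, ← LinearMap.comp_apply (φ.toLinearMap.lTensor S),
    ← LinearMap.lTensor_comp, ← AlgHom.comp_toLinearMap, phi_Theta γ φ hφ, lTensor_val_TSmap,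
    val_NL, symm_nat]

end Main

end Groth.Agent.H68.RL
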