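import Groth.Agent.H68.RydhLaw
import Mathlib

/-!
# Rydh's law restricted to the symmetric tensors

`RL.FTS γ : TS^d_A(B) → Γ^d_A(B)` is the restriction of `RL.FLaw γ` to the symmetric tensors; both
composites with the canonical map `φ : Γ^d_A(B) → TS^d_A(B)` are the `d!`-th power laws.
-/

set_option autoImplicit false
universe u
open scoped TensorProduct

namespace Groth.Agent.H68.RL

open Groth.Agent.H68 Groth.Agent.H68.LC Groth.Agent.H68.CR Groth.Agent.H68.TSG

variable {A : Type u} [CommRing A] {B C : Type u} [CommRing B] [Algebra A B] [CommRing C]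
  [Algebra A C] {d : ℕ} (γ : PolLaw.MulLaw A B C d)

/-- Rydh's law restricted to the symmetric tensors. -/
noncomputable def FTS : PolLaw.MulLaw A (SymTen.TS A B d) C d.factorial :=
  (FLaw γ).precomp (SymTen.TS A B d).val

lemma FTS_apply (S : Type u) [CommSemiring S] [Algebra A S] (y : S ⊗[A] SymTen.TS A B d) :
    (FTS γ).law.toFun' S y =
      (FLaw γ).law.toFun' S ((SymTen.TS A B d).val.toLinearMap.lTensor S y) := rfl

lemma NL_val_apply (P : Type u) [CommRing P] [Algebra A P] (S : Type u) [CommSemiring S]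
    [Algebra A S] (y : S ⊗[A] SymTen.TS A P d) :
    (NL A P d).law.toFun' S ((SymTen.TS A P d).val.toLinearMap.lTensor S y) = y ^ d.factorial :=
  congrArg (fun F : SymTen.TS A P d →ₚₗ[A] SymTen.TS A P d => F.toFun' S y) (NL_val A P d)

variable (φ : C →ₐ[A] SymTen.TS A B d)
  (hφ : ∀ (S : Type u) [CommSemiring S] [Algebra A S] (n : ℕ) (s : Fin n → S) (b : Fin n → B),
    ((SymTen.TS A B d).val.comp φ).toLinearMap.lTensor S (γ.law.toFun' S (∑ j, s j ⊗ₜ[A] b j)) =
      ∑ c : Fin d → Fin n, (∏ i, s (c i)) ⊗ₜ[A] PiTensorProduct.tprod A (fun i => b (c i)))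

include hφ in
/-- `φ ∘ F` is the `d!`-th power law of `TS^d_A(B)`. -/
theorem postcomp_FTS :
    PolLaw.MulLaw.postcomp φ (FTS γ) = PolLaw.MulLaw.pow A (SymTen.TS A B d) d.factorial := by
  apply PolLaw.MulLaw.ext
  apply law_ext_of_injective (SymTen.TS A B d).val.toLinearMap Subtype.val_injective
  intro σ y
  show (SymTen.TS A B d).val.toLinearMap.lTensor _ (φ.toLinearMap.lTensor _
    ((FLaw γ).law.toFun' _ ((SymTen.TS A B d).val.toLinearMap.lTensor _ y))) =
    (SymTen.TS A B d).val.toLinearMap.lTensor _ (y ^ d.factorial)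
  rw [val_phi_FLaw γ φ hφ, ← val_NL, NL_val_apply]

include hφ in
/-- `F ∘ φ` is the `d!`-th power law of `Γ^d_A(B)`. -/
theorem precomp_FTS (hγ : PolLaw.IsGammaD γ) :
    PolLaw.MulLaw.precomp (FTS γ) φ = PolLaw.MulLaw.pow A C d.factorial := by
  apply PolLaw.MulLaw.ext
  ext S _ _ c
  show (FLaw γ).law.toFun' S ((SymTen.TS A B d).val.toLinearMap.lTensor S
    (φ.toLinearMap.lTensor S c)) = c ^ d.factorial
  have hΘ : Function.Surjective (Theta γ (MvPolynomial B A) (pi0 A B)) :=
    Groth.Agent.S13717.result (tau A (MvPolynomial B A) d) isGammaD_of_flat γ hγ (pi0 A B)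
      pi0_surjective (Theta γ (MvPolynomial B A) (pi0 A B))
      (Theta_spec γ (MvPolynomial B A) (pi0 A B))
  have hs : Function.Surjective
      ((Theta γ (MvPolynomial B A) (pi0 A B)).toLinearMap.lTensor S) :=
    LinearMap.lTensor_surjective S hΘ
  obtain ⟨n, rfl⟩ := hs c
  rw [← LinearMap.comp_apply (φ.toLinearMap.lTensor S), ← LinearMap.lTensor_comp,
    ← AlgHom.comp_toLinearMap, phi_Theta γ φ hφ, lTensor_val_TSmap, FLaw_apply, GLaw_apply,
    NL_val_apply, PolLaw.lTensor_algHom_apply, PolLaw.lTensor_algHom_apply, map_pow]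

end Groth.Agent.H68.RL
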