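import Groth.Agent.H68.TSGamma
import Mathlib

/-!
# `TS^d_A(B)` is the divided power algebra when `B` is flat
-/

set_option autoImplicit false
universe u
open scoped TensorProduct

namespace Groth.Agent.H68.TSG

open Groth.Agent.H68 Groth.Agent.H68.LC Groth.Agent.H68.CR Groth.Agent.H68.FV

variable {A : Type u} [CommRing A] {B : Type u} [CommRing B] [Algebra A B] {d : ℕ}

/-- The orbit sums are the coefficients of the tensor power law. -/
lemma orbitSum_eq_coeffE {l : ℕ} (y : Fin l → B) (κ : Fin l →₀ ℕ) :
    orbitSum (R := A) (n := d) y κ = coeffE (GT A B d).law y Finset.univ κ := by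
  classical
  rw [coeffE_GT', Fintype.piFinset_univ, orbitSum]

variable [Module.Flat A B]

/-- Every symmetric tensor of a flat algebra is a combination of coefficients of `τ` with respect
to a finite family. -/
theorem exists_comb_of_flat (z : SymTen.TS A B d) :
    ∃ (l : ℕ) (y : Fin l → B) (K : Finset (Fin l →₀ ℕ)) (Wbar : (Fin l →₀ ℕ) → A),
      z = ∑ κ ∈ K, Wbar κ • coeffE (tau A B d).law y Finset.univ κ := by
  classical
  obtain ⟨l, y, W, hW, -, hz⟩ := exists_sym_rep (R := A) (Q := A) (Q₂ := A) (0 : A →ₗ[A] A) d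
    ((1 : A) ⊗ₜ[A] z.1) (fun σ => by rw [LinearMap.lTensor_tmul, LinearEquiv.coe_coe, z.2 σ])
    (by simp)
  have hz' : z.1 = ∑ c', W c' • PiTensorProduct.tprod A (fun i => y (c' i)) := by
    have := congrArg (TensorProduct.lid A (TP A B d)) hz
    rw [TensorProduct.lid_tmul, one_smul, map_sum] at this
    rw [this]
    refine Finset.sum_congr rfl fun c' _ => ?_
    rw [TensorProduct.lid_tmul]
  obtain ⟨Wbar, hbar⟩ := exists_bar W hW
  refine ⟨l, y, Finset.univ.image (fun c : Fin d → Fin l => kk c), Wbar, Subtype.ext ?_⟩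
  rw [AddSubmonoidClass.coe_finsetSum]
  simp only [Subalgebra.coe_smul, val_coeffE_tau]
  rw [hz', sum_eq_sum_orbitSum y W Wbar hbar]
  refine Finset.sum_congr rfl fun κ _ => ?_
  rw [orbitSum_eq_coeffE]

/-- The coefficients of `τ` span the symmetric tensors of a flat algebra. -/
theorem span_of_flat : LC.TS (tau A B d).law = ⊤ := by
  rw [eq_top_iff]
  intro z _
  obtain ⟨l, y, K, Wbar, rfl⟩ := exists_comb_of_flat z
  exact Submodule.sum_mem _ fun κ _ => Submodule.smul_mem _ _ (coeffE_mem_TS _ _ _ _)

section KC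

variable {C' : Type u} [CommRing C'] [Algebra A C'] (F : PolLaw.MulLaw A B C' d)

/-- A relation between coefficients of the tensor power law of a flat algebra, with respect to
finitely many finite families, holds for the coefficients of every multiplicative law. -/
theorem kc_multi (r : ℕ) (l : Fin r → ℕ) (y : ∀ t, Fin (l t) → B) (κ : ∀ t, Fin (l t) →₀ ℕ)
    (v : Fin r → A)
    (h : ∑ t, v t • coeffE (GT A B d).law (y t) Finset.univ (κ t) = 0) :
    ∑ t, v t • coeffE F.law (y t) Finset.univ (κ t) = 0 := by
  classical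
  let J := Σ t : Fin r, Fin (l t)
  let m : J → B := fun p => y p.1 p.2
  let w : (Fin d → J) → A := fun c =>
    ∑ t, ∑ ct : Fin d → Fin (l t),
      if c = (fun i => (⟨t, ct i⟩ : J)) then (if kk ct = κ t then v t else 0) else 0
  -- the block decomposition
  have hblock : ∀ {X : Type u} [AddCommGroup X] [Module A X] (g : (Fin d → J) → X),
      ∑ c, w c • g c = ∑ t, v t •
        ∑ ct ∈ Finset.univ.filter (fun ct : Fin d → Fin (l t) => kk ct = κ t),
          g (fun i => (⟨t, ct i⟩ : J)) := by
    intro X _ _ g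
    simp only [w, Finset.sum_smul]
    rw [Finset.sum_comm]
    refine Finset.sum_congr rfl fun t _ => ?_
    rw [Finset.sum_comm, Finset.smul_sum, Finset.sum_filter]
    refine Finset.sum_congr rfl fun ct _ => ?_
    simp only [ite_smul, zero_smul]
    rw [Finset.sum_ite_eq' Finset.univ (fun i => (⟨t, ct i⟩ : J))
      (fun c => if kk ct = κ t then v t • g c else 0)]
    simp
  -- the relation in the tensor power of `B`
  have h1 : ∑ c, w c ⊗ₜ[A] PiTensorProduct.tprod A (fun i => m (c i)) =
      (0 : A ⊗[A] (⨂[A] _ : Fin d, B)) := by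
    have e1 : ∀ c : Fin d → J, w c ⊗ₜ[A] PiTensorProduct.tprod A (fun i => m (c i)) =
        (1 : A) ⊗ₜ[A] (w c • PiTensorProduct.tprod A (fun i => m (c i))) := by
      intro c
      rw [TensorProduct.tmul_smul, TensorProduct.smul_tmul', smul_eq_mul, mul_one]
    rw [Finset.sum_congr rfl fun c _ => e1 c, ← TensorProduct.tmul_sum,
      hblock (fun c => PiTensorProduct.tprod A (fun i => m (c i)))]
    have e2 : ∀ t, ∑ ct ∈ Finset.univ.filter (fun ct : Fin d → Fin (l t) => kk ct = κ t),
        PiTensorProduct.tprod A (fun i => m (⟨t, ct i⟩ : J)) =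
        coeffE (GT A B d).law (y t) Finset.univ (κ t) := by
      intro t
      rw [coeffE_GT', Fintype.piFinset_univ]
    rw [Finset.sum_congr rfl fun t _ => by rw [e2 t], h, TensorProduct.tmul_zero]
  obtain ⟨l', a, y', hy', hc⟩ := MVu d A m w h1
  obtain ⟨f₀, hf₀⟩ := transfer F y'
  let P := MvPolynomial (Fin l') A
  let x : J → P := fun p => ∑ j', a p j' • (MvPolynomial.X j' : P)
  have hx : ∀ p : J, MvPolynomial.aeval y' (x p) = m p := by
    intro p
    simp only [x, map_sum, map_smul, MvPolynomial.aeval_X]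
    exact (hy' p).symm
  have e3 : ∀ t, coeffE F.law (y t) Finset.univ (κ t) =
      f₀ (∑ ct ∈ Finset.univ.filter (fun ct : Fin d → Fin (l t) => kk ct = κ t),
        PiTensorProduct.tprod A (fun i => x (⟨t, ct i⟩ : J))) := by
    intro t
    have := hf₀ (fun j : Fin (l t) => x (⟨t, j⟩ : J)) Finset.univ (κ t)
    simp only [hx] at this
    rw [coeffE_GT', Fintype.piFinset_univ] at this
    exact this
  rw [Finset.sum_congr rfl fun t _ => by rw [e3 t], ← Finset.sum_congr rfl fun t _ => map_smul f₀ _ _,
    ← map_sum, ← hblock (fun c => PiTensorProduct.tprod A (fun i => x (c i)))]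
  have e4 : ∀ c : Fin d → J, PiTensorProduct.tprod A (fun i => x (c i)) =
      ∑ c' : Fin d → Fin l', (∏ i, a (c i) (c' i)) •
        PiTensorProduct.tprod A (fun i => (MvPolynomial.X (c' i) : P)) := by
    intro c
    exact tprod_expand (fun i => a (c i)) (fun j' => (MvPolynomial.X j' : P))
  rw [Finset.sum_congr rfl fun c _ => by rw [e4 c, Finset.smul_sum], Finset.sum_comm]
  have e5 : ∀ c' : Fin d → Fin l', ∑ c, w c • (∏ i, a (c i) (c' i)) •
      PiTensorProduct.tprod A (fun i => (MvPolynomial.X (c' i) : P)) = 0 := by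
    intro c'
    have := hc c'
    simp only [smul_eq_mul] at this
    rw [Finset.sum_congr rfl fun c _ => by rw [smul_smul, mul_comm], ← Finset.sum_smul, this,
      zero_smul]
  rw [Finset.sum_congr rfl fun c' _ => e5 c', Finset.sum_const_zero, map_zero]

/-- The index set of the presentation of the symmetric tensors. -/
abbrev Idx (B : Type u) : Type u := Σ l : ℕ, (Fin l → B) × (Fin l →₀ ℕ)

/-- The presentation `A^(Idx) → TS^d_A(B)`. -/
noncomputable def presTS (A : Type u) [CommRing A] (B : Type u) [CommRing B] [Algebra A B] (d : ℕ) :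
    (Idx B →₀ A) →ₗ[A] SymTen.TS A B d :=
  Finsupp.linearCombination A (fun p : Idx B => coeffE (tau A B d).law p.2.1 Finset.univ p.2.2)

/-- The corresponding map to the target of a law. -/
noncomputable def presF : (Idx B →₀ A) →ₗ[A] C' :=
  Finsupp.linearCombination A (fun p : Idx B => coeffE F.law p.2.1 Finset.univ p.2.2)

lemma presTS_surjective : Function.Surjective (presTS A B d) := by
  intro z
  obtain ⟨l, y, K, Wbar, rfl⟩ := exists_comb_of_flat z
  refine ⟨∑ κ ∈ K, Finsupp.single (⟨l, y, κ⟩ : Idx B) (Wbar κ), ?_⟩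
  rw [map_sum]
  refine Finset.sum_congr rfl fun κ _ => ?_
  rw [presTS, Finsupp.linearCombination_single]

lemma ker_presTS_le : LinearMap.ker (presTS A B d) ≤ LinearMap.ker (presF F) := by
  classical
  intro v hv
  rw [LinearMap.mem_ker] at hv ⊢
  let r := v.support.card
  let e : Fin r ≃ v.support := v.support.equivFin.symm
  have hsum : ∀ {X : Type u} [AddCommGroup X] [Module A X] (g : Idx B → X),
      Finsupp.linearCombination A g v = ∑ t : Fin r, v (e t).1 • g (e t).1 := by
    intro X _ _ g
    rw [Finsupp.linearCombination_apply, Finsupp.sum,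
      ← Finset.sum_coe_sort v.support (fun p => v p • g p)]
    exact (e.sum_comp (fun p : v.support => v p.1 • g p.1)).symm
  have h1 : ∑ t : Fin r, v (e t).1 •
      coeffE (GT A B d).law (e t).1.2.1 Finset.univ (e t).1.2.2 = 0 := by
    have := congrArg Subtype.val hv
    rw [presTS, hsum, AddSubmonoidClass.coe_finsetSum] at this
    simp only [Subalgebra.coe_smul, val_coeffE_tau, ZeroMemClass.coe_zero] at this
    exact this
  have h2 := kc_multi F r (fun t => (e t).1.1) (fun t => (e t).1.2.1) (fun t => (e t).1.2.2)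
    (fun t => v (e t).1) h1
  rw [presF, hsum]
  exact h2

/-- Every multiplicative law of degree `d` on a flat algebra factors linearly through `τ`. -/
theorem exists_lin_of_flat :
    ∃ f : SymTen.TS A B d →ₗ[A] C', ∀ (S : Type u) [CommSemiring S] [Algebra A S] (z : S ⊗[A] B),
      F.law.toFun' S z = f.lTensor S ((tau A B d).law.toFun' S z) := by
  classical
  let π := presTS A B d
  have hπ : Function.Surjective π := presTS_surjective
  let f : SymTen.TS A B d →ₗ[A] C' :=
    ((LinearMap.ker π).liftQ (presF F) (ker_presTS_le F)) ∘ₗ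
      (π.quotKerEquivOfSurjective hπ).symm.toLinearMap
  have hf : ∀ v, f (π v) = presF F v := by
    intro v
    simp only [f, LinearMap.comp_apply, LinearEquiv.coe_coe]
    rw [LinearMap.quotKerEquivOfSurjective_symm_apply]
    exact Submodule.liftQ_apply _ _ _
  have hcoef : ∀ {n : ℕ} (b : Fin n → B) (k : Fin n →₀ ℕ),
      f (coeffE (tau A B d).law b Finset.univ k) = coeffE F.law b Finset.univ k := by
    intro n b k
    have := hf (Finsupp.single (⟨n, b, k⟩ : Idx B) 1)
    simp only [π, presTS, presF, Finsupp.linearCombination_single, one_smul] at this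
    exact this
  refine ⟨f, ?_⟩
  intro S _ _ z
  obtain ⟨n, s, b, rfl⟩ := Groth.Agent.S13872.exists_fin_sum' (A := A) z
  rw [toFun'_sum, toFun'_sum, Finsupp.sum, Finsupp.sum, map_sum]
  simp only [LinearMap.lTensor_tmul, hcoef]
  refine Finset.sum_subset ?_ ?_
  · intro k hk
    rw [Finsupp.mem_support_iff] at hk ⊢
    intro h0
    apply hk
    rw [← hcoef, h0, map_zero]
  · intro k _ hk
    rw [Finsupp.notMem_support_iff.mp hk, TensorProduct.tmul_zero]

end KC

/-- `TS^d_A(B)` with `x ↦ x ⊗ ⋯ ⊗ x` is the divided power algebra of a flat algebra `B`. -/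
theorem isGammaD_of_flat : PolLaw.IsGammaD (tau A B d) :=
  isGammaD_of_span (tau A B d) span_of_flat (fun _ _ _ F => exists_lin_of_flat F)

end Groth.Agent.H68.TSG
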