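import Groth.Agent.H68.RydhKer
import Groth.Agent.H68.TSGammaFlat
import Mathlib

/-!
# The symmetrisation law `z ↦ ∏_σ σ(z)` with values in the symmetric tensors

`RL.NL A P d : T^d_A(P) → TS^d_A(P)` is the corestriction of the Prelude's `SymTen.symmLaw`; it is
natural in `P` (`NL_nat`), and restricts to `y ↦ y ^ d!` on the symmetric tensors (`NL_val`).
Also the naturality of `τ : P → TS^d_A(P)` (`tau_nat`).
-/

set_option autoImplicit false
universe u
open scoped TensorProduct

namespace Groth.Agent.H68.RL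

open Groth.Agent.H68 Groth.Agent.H68.LC Groth.Agent.H68.CR Groth.Agent.H68.TSG

section Basic

variable {A : Type u} [CommRing A]

lemma map_map_id {X Y Z : Type u} [CommRing X] [Algebra A X] [CommRing Y] [Algebra A Y]
    [CommRing Z] [Algebra A Z] (g : Y →ₐ[A] Z) (h : X →ₐ[A] Y) (S : Type u) [CommSemiring S]
    [Algebra A S] (z : S ⊗[A] X) :
    Algebra.TensorProduct.map (AlgHom.id S S) g (Algebra.TensorProduct.map (AlgHom.id S S) h z) =
      Algebra.TensorProduct.map (AlgHom.id S S) (g.comp h) z := by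
  induction z using TensorProduct.induction_on with
  | zero => simp
  | tmul s x => simp
  | add x y hx hy => simp only [map_add, hx, hy]

end Basic

section Norm

variable (A : Type u) [CommRing A] (P : Type u) [CommRing P] [Algebra A P] (d : ℕ)

lemma perm_comp_perm (τ σ : Equiv.Perm (Fin d)) :
    (SymTen.perm A P d τ).comp (SymTen.perm A P d σ) = SymTen.perm A P d (τ * σ) := by
  apply AlgHom.ext
  intro t
  induction t using PiTensorProduct.induction_on with
  | smul_tprod r f =>
    simp only [AlgHom.comp_apply, map_smul, SymTen.perm_tprod]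
    congr 2
  | add x y hx hy => simp only [map_add, hx, hy]

lemma perm_symm (τ : Equiv.Perm (Fin d)) (S : Type u) [CommSemiring S] [Algebra A S]
    (z : S ⊗[A] (⨂[A] _ : Fin d, P)) :
    (SymTen.perm A P d τ).toLinearMap.lTensor S ((SymTen.symmLaw A P d).law.toFun' S z) =
      (SymTen.symmLaw A P d).law.toFun' S z := by
  rw [PolLaw.lTensor_algHom_apply, SymTen.symmLaw, PolLaw.MulLaw.prodMap_toFun', map_prod]
  simp only [map_map_id, perm_comp_perm]
  exact Equiv.prod_comp (Equiv.mulLeft τ)
    (fun σ => Algebra.TensorProduct.map (AlgHom.id S S) (SymTen.perm A P d σ) z)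

lemma coeffE_symm_mem {I : Type} (e : I → (⨂[A] _ : Fin d, P)) (E : Finset I) (k : I →₀ ℕ) :
    coeffE (SymTen.symmLaw A P d).law e E k ∈ SymTen.TS A P d := by
  rw [SymTen.mem_TS_iff]
  intro σ
  rw [← SymTen.perm_apply]
  exact (coeffE_postcomp (SymTen.symmLaw A P d).law (SymTen.symmLaw A P d).law
    (SymTen.perm A P d σ).toLinearMap (fun S _ _ z => (perm_symm A P d σ S z).symm) e E k).symm

/-- The symmetrisation law takes its values in the symmetric tensors. -/
lemma symmValued : ValuedIn (SymTen.symmLaw A P d).law (SymTen.TS A P d).val.toLinearMap :=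
  valuedIn_of_coeff (SymTen.symmLaw A P d) (SymTen.TS A P d)
    (fun _ e E k => coeffE_symm_mem A P d e E k)

/-- The symmetrisation law `z ↦ ∏_σ σ(z)`, with values in the symmetric tensors. -/
noncomputable def NL : PolLaw.MulLaw A (⨂[A] _ : Fin d, P) (SymTen.TS A P d) d.factorial :=
  corestrictMul (SymTen.symmLaw A P d) (SymTen.TS A P d) (symmValued A P d)

lemma val_NL (S : Type u) [CommSemiring S] [Algebra A S] (z : S ⊗[A] (⨂[A] _ : Fin d, P)) :
    (SymTen.TS A P d).val.toLinearMap.lTensor S ((NL A P d).law.toFun' S z) =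
      (SymTen.symmLaw A P d).law.toFun' S z :=
  lTensor_corestrict (symmValued A P d) S z

lemma perm_comp_val (σ : Equiv.Perm (Fin d)) :
    (SymTen.perm A P d σ).comp (SymTen.TS A P d).val = (SymTen.TS A P d).val := by
  apply AlgHom.ext
  intro t
  rw [AlgHom.comp_apply, SymTen.perm_apply]
  exact t.2 σ

/-- On symmetric tensors the symmetrisation law is `y ↦ y ^ d!`. -/
theorem NL_val : PolLaw.precomp (NL A P d).law (SymTen.TS A P d).val.toLinearMap =
    (PolLaw.MulLaw.pow A (SymTen.TS A P d) d.factorial).law := by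
  apply law_ext_of_injective (SymTen.TS A P d).val.toLinearMap Subtype.val_injective
  intro σ z
  show (SymTen.TS A P d).val.toLinearMap.lTensor _ ((NL A P d).law.toFun' _
    ((SymTen.TS A P d).val.toLinearMap.lTensor _ z)) =
    (SymTen.TS A P d).val.toLinearMap.lTensor _ (z ^ d.factorial)
  rw [val_NL, SymTen.symmLaw, PolLaw.MulLaw.prodMap_toFun', PolLaw.lTensor_algHom_apply,
    PolLaw.lTensor_algHom_apply, map_pow]
  simp only [map_map_id, perm_comp_val]
  rw [Finset.prod_const, Finset.card_univ, Fintype.card_perm, Fintype.card_fin]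

end Norm

section Nat

variable (A : Type u) [CommRing A] {P : Type u} [CommRing P] [Algebra A P] {Q : Type u}
  [CommRing Q] [Algebra A Q] (d : ℕ) (f : Q →ₐ[A] P)

lemma tmap_comp_perm (σ : Equiv.Perm (Fin d)) :
    (SymTen.tmap A d f).comp (SymTen.perm A Q d σ) =
      (SymTen.perm A P d σ).comp (SymTen.tmap A d f) := by
  apply AlgHom.ext
  intro t
  simp only [AlgHom.comp_apply, SymTen.perm_apply, SymTen.tmap_reindex]

lemma symm_nat (S : Type u) [CommSemiring S] [Algebra A S] (z : S ⊗[A] (⨂[A] _ : Fin d, Q)) :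
    (SymTen.tmap A d f).toLinearMap.lTensor S ((SymTen.symmLaw A Q d).law.toFun' S z) =
      (SymTen.symmLaw A P d).law.toFun' S ((SymTen.tmap A d f).toLinearMap.lTensor S z) := by
  rw [PolLaw.lTensor_algHom_apply, PolLaw.lTensor_algHom_apply, SymTen.symmLaw, SymTen.symmLaw,
    PolLaw.MulLaw.prodMap_toFun', PolLaw.MulLaw.prodMap_toFun', map_prod]
  refine Finset.prod_congr rfl fun σ _ => ?_
  rw [map_map_id, map_map_id, tmap_comp_perm]

lemma val_TSmap : (SymTen.TS A P d).val.toLinearMap ∘ₗ (SymTen.TSmap A d f).toLinearMap =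
    (SymTen.tmap A d f).toLinearMap ∘ₗ (SymTen.TS A Q d).val.toLinearMap := by
  ext t
  rfl

lemma lTensor_val_TSmap (S : Type u) [CommSemiring S] [Algebra A S] (n : S ⊗[A] SymTen.TS A Q d) :
    (SymTen.TS A P d).val.toLinearMap.lTensor S ((SymTen.TSmap A d f).toLinearMap.lTensor S n) =
      (SymTen.tmap A d f).toLinearMap.lTensor S ((SymTen.TS A Q d).val.toLinearMap.lTensor S n) := by
  rw [← LinearMap.comp_apply, ← LinearMap.lTensor_comp, val_TSmap, LinearMap.lTensor_comp,
    LinearMap.comp_apply]

/-- Naturality of the symmetrisation law. -/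
theorem NL_nat : PolLaw.postcomp (SymTen.TSmap A d f).toLinearMap (NL A Q d).law =
    PolLaw.precomp (NL A P d).law (SymTen.tmap A d f).toLinearMap := by
  apply law_ext_of_injective (SymTen.TS A P d).val.toLinearMap Subtype.val_injective
  intro σ z
  show (SymTen.TS A P d).val.toLinearMap.lTensor _ ((SymTen.TSmap A d f).toLinearMap.lTensor _
    ((NL A Q d).law.toFun' _ z)) =
    (SymTen.TS A P d).val.toLinearMap.lTensor _ ((NL A P d).law.toFun' _
      ((SymTen.tmap A d f).toLinearMap.lTensor _ z))
  rw [val_NL, ← symm_nat, ← val_NL, lTensor_val_TSmap]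

lemma tmap_comp_gT (j : Fin d) :
    (SymTen.tmap A d f).comp (gT A Q d j) = (gT A P d j).comp f := by
  classical
  apply AlgHom.ext
  intro b
  simp only [AlgHom.comp_apply, gT, PiTensorProduct.singleAlgHom_apply, MonoidHom.mulSingle_apply,
    SymTen.tmap_tprod]
  congr 1
  funext i
  by_cases h : i = j
  · subst h
    simp
  · simp [Pi.mulSingle_eq_of_ne h]

lemma GT_nat (S : Type u) [CommSemiring S] [Algebra A S] (z : S ⊗[A] Q) :
    (SymTen.tmap A d f).toLinearMap.lTensor S ((GT A Q d).law.toFun' S z) =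
      (GT A P d).law.toFun' S (f.toLinearMap.lTensor S z) := by
  rw [PolLaw.lTensor_algHom_apply, PolLaw.lTensor_algHom_apply, GT, GT,
    PolLaw.MulLaw.prodMap_toFun', PolLaw.MulLaw.prodMap_toFun', map_prod]
  refine Finset.prod_congr rfl fun j _ => ?_
  rw [map_map_id, map_map_id, tmap_comp_gT]

/-- Naturality of the law `x ↦ x ⊗ ⋯ ⊗ x`. -/
theorem tau_nat : PolLaw.postcomp (SymTen.TSmap A d f).toLinearMap (tau A Q d).law =
    PolLaw.precomp (tau A P d).law f.toLinearMap := by
  apply law_ext_of_injective (SymTen.TS A P d).val.toLinearMap Subtype.val_injective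
  intro σ z
  show (SymTen.TS A P d).val.toLinearMap.lTensor _ ((SymTen.TSmap A d f).toLinearMap.lTensor _
    ((tau A Q d).law.toFun' _ z)) =
    (SymTen.TS A P d).val.toLinearMap.lTensor _ ((tau A P d).law.toFun' _
      (f.toLinearMap.lTensor _ z))
  rw [val_tau, ← GT_nat, ← val_tau, lTensor_val_TSmap]

end Nat

end Groth.Agent.H68.RL
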