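import Groth.Agent.H68.LawPolar
import Mathlib

/-!
# Base change of tensor powers

For an `A`-algebra `k`, the canonical `k`-linear map
`Ξ : k ⊗_A T^d_A(B) → T^d_k(k ⊗_A B)` (`BC.xi`), a left inverse (`BC.xi'`, so `Ξ` is injective),
its equivariance, and its values on the coefficients of the tensor power law.
-/

set_option autoImplicit false
universe u
open scoped TensorProduct

namespace Groth.Agent.H68.BC

open Groth.Agent.H68 Groth.Agent.H68.LC Groth.Agent.H68.CR

variable (A : Type u) [CommRing A] (B : Type u) [CommRing B] [Algebra A B]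
  (k : Type u) [CommRing k] [Algebra A k] (d : ℕ)

/-- The `A`-multilinear map `(b_i) ↦ ⊗ (1 ⊗ b_i)`. -/
noncomputable def xiML :
    MultilinearMap A (fun _ : Fin d => B) (⨂[k] _ : Fin d, k ⊗[A] B) :=
  ((PiTensorProduct.tprod k (s := fun _ : Fin d => k ⊗[A] B)).restrictScalars A).compLinearMap
    (fun _ => TensorProduct.mk A k B 1)

lemma xiML_apply (b : Fin d → B) :
    xiML A B k d b = PiTensorProduct.tprod k (fun i => (1 : k) ⊗ₜ[A] b i) := rfl

/-- The canonical map `k ⊗_A T^d_A(B) → T^d_k(k ⊗_A B)`. -/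
noncomputable def xi : k ⊗[A] (⨂[A] _ : Fin d, B) →ₗ[k] (⨂[k] _ : Fin d, k ⊗[A] B) :=
  LinearMap.liftBaseChange k (PiTensorProduct.lift (xiML A B k d))

lemma xi_tmul_tprod (s : k) (b : Fin d → B) :
    xi A B k d (s ⊗ₜ[A] PiTensorProduct.tprod A b) =
      s • PiTensorProduct.tprod k (fun i => (1 : k) ⊗ₜ[A] b i) := by
  rw [xi, LinearMap.liftBaseChange_tmul, PiTensorProduct.lift.tprod, xiML_apply]

/-- The `k`-multilinear map `(x_j) ↦ ∏_j (id ⊗ g_j)(x_j)`. -/
noncomputable def xiML' :
    MultilinearMap k (fun _ : Fin d => k ⊗[A] B) (k ⊗[A] (⨂[A] _ : Fin d, B)) :=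
  (MultilinearMap.mkPiAlgebra k (Fin d) (k ⊗[A] (⨂[A] _ : Fin d, B))).compLinearMap
    (fun j => (Algebra.TensorProduct.map (AlgHom.id k k) (gT A B d j)).toLinearMap)

/-- A left inverse of `xi`. -/
noncomputable def xi' : (⨂[k] _ : Fin d, k ⊗[A] B) →ₗ[k] k ⊗[A] (⨂[A] _ : Fin d, B) :=
  PiTensorProduct.lift (xiML' A B k d)

lemma xi'_tprod (b : Fin d → B) :
    xi' A B k d (PiTensorProduct.tprod k (fun i => (1 : k) ⊗ₜ[A] b i)) =
      (1 : k) ⊗ₜ[A] PiTensorProduct.tprod A b := by
  rw [xi', PiTensorProduct.lift.tprod, xiML']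
  simp only [MultilinearMap.compLinearMap_apply, MultilinearMap.mkPiAlgebra_apply,
    AlgHom.toLinearMap_apply, Algebra.TensorProduct.map_tmul, AlgHom.id_apply]
  rw [finset_prod_tmul, Finset.prod_const_one, prod_gT']

theorem xi'_xi (u : k ⊗[A] (⨂[A] _ : Fin d, B)) : xi' A B k d (xi A B k d u) = u := by
  induction u using TensorProduct.induction_on with
  | zero => simp
  | tmul s t =>
    induction t using PiTensorProduct.induction_on with
    | smul_tprod r b =>
      rw [TensorProduct.tmul_smul, TensorProduct.smul_tmul', xi_tmul_tprod, map_smul, xi'_tprod,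
        TensorProduct.smul_tmul', smul_eq_mul, mul_one]
    | add x y hx hy => rw [TensorProduct.tmul_add, map_add, map_add, hx, hy]
  | add x y hx hy => rw [map_add, map_add, hx, hy]

theorem xi_injective : Function.Injective (xi A B k d) :=
  Function.LeftInverse.injective (xi'_xi A B k d)

/-- `xi` is equivariant for the permutation actions. -/
theorem xi_perm (σ : Equiv.Perm (Fin d)) (u : k ⊗[A] (⨂[A] _ : Fin d, B)) :
    xi A B k d ((SymTen.perm A B d σ).toLinearMap.lTensor k u) =
      SymTen.perm k (k ⊗[A] B) d σ (xi A B k d u) := by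
  induction u using TensorProduct.induction_on with
  | zero => simp
  | tmul s t =>
    induction t using PiTensorProduct.induction_on with
    | smul_tprod r b =>
      rw [TensorProduct.tmul_smul, TensorProduct.smul_tmul', LinearMap.lTensor_tmul,
        AlgHom.toLinearMap_apply, SymTen.perm_tprod, xi_tmul_tprod, xi_tmul_tprod, map_smul,
        SymTen.perm_tprod]
    | add x y hx hy => rw [TensorProduct.tmul_add, map_add, map_add, map_add, map_add, hx, hy]
  | add x y hx hy => rw [map_add, map_add, map_add, map_add, hx, hy]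

/-- `xi` maps the coefficients of the tensor power law to those over `k`. -/
theorem xi_coeffE {I : Type} (b : I → B) (E : Finset I) (κ : I →₀ ℕ) :
    xi A B k d ((1 : k) ⊗ₜ[A] coeffE (GT A B d).law b E κ) =
      coeffE (GT k (k ⊗[A] B) d).law (fun i => (1 : k) ⊗ₜ[A] b i) E κ := by
  classical
  rw [coeffE_GT', coeffE_GT', TensorProduct.tmul_sum, map_sum]
  refine Finset.sum_congr rfl fun c _ => ?_
  rw [xi_tmul_tprod, one_smul]

end Groth.Agent.H68.BC
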