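import Groth.Agent.H68.RydhLaw2
import Groth.Agent.H68.TPowerBC
import Mathlib

/-!
# Symmetric tensors after base change to a field

For a field `k` over `A`, the image of `k ⊗_A TS^d_A(B)` in `k ⊗_A T^d_A(B)` is the image of
`k ⊗_A Γ^d_A(B)` (`RL.star`): over a field, every symmetric tensor of `k ⊗_A B` is a combination
of orbit sums of pure tensors of elements `1 ⊗ b`.
-/

set_option autoImplicit false
universe u
open scoped TensorProduct

namespace Groth.Agent.H68.RL

open Groth.Agent.H68 Groth.Agent.H68.LC Groth.Agent.H68.CR Groth.Agent.H68.TSG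
  Groth.Agent.H68.BC

section Comb

variable {A : Type u} [CommRing A] {B C : Type u} [AddCommGroup B] [Module A B] [AddCommGroup C]
  [Module A C]

/-- If the family `e` consists of combinations of the finite family `m`, every coefficient of `F`
with respect to `e` is a combination of the coefficients with respect to `m`. -/
theorem coeffE_mem_span_of_comb (F : B →ₚₗ[A] C) {J : Type} [Fintype J] (m : J → B) {I : Type}
    (e : I → B) (E : Finset I) (a : I → J → A) (ha : ∀ i ∈ E, ∑ j, a i j • m j = e i)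
    (κ : I →₀ ℕ) :
    coeffE F e E κ ∈ Submodule.span A (Set.range (coeffE F m Finset.univ)) := by
  let p : J → MvPolynomial I A := fun j => ∑ i ∈ E, a i j • (MvPolynomial.X i)
  have hgen : genE (A := A) e E = ∑ j ∈ Finset.univ, p j ⊗ₜ[A] m j := by
    rw [genE]
    simp only [p, TensorProduct.sum_tmul]
    rw [Finset.sum_comm]
    refine Finset.sum_congr rfl fun i hi => ?_
    rw [← ha i hi, TensorProduct.tmul_sum]
    refine Finset.sum_congr rfl fun j _ => ?_
    rw [TensorProduct.tmul_smul, TensorProduct.smul_tmul']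
  have hc : coeffE F e E κ = Φ I A C (F.toFun' (MvPolynomial I A) (genE e E)) κ := rfl
  rw [hc, hgen, toFun'_sum, Finsupp.sum, map_sum, Finsupp.finsetSum_apply]
  refine Submodule.sum_mem _ fun k _ => ?_
  rw [Φ_tmul]
  exact Submodule.smul_mem _ _ (Submodule.subset_span ⟨k, rfl⟩)

end Comb

section Star

variable {A : Type u} [CommRing A] {B C : Type u} [CommRing B] [Algebra A B] [CommRing C]
  [Algebra A C] {d : ℕ} (γ : PolLaw.MulLaw A B C d)
  (φ : C →ₐ[A] SymTen.TS A B d)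
  (hφ : ∀ (S : Type u) [CommSemiring S] [Algebra A S] (n : ℕ) (s : Fin n → S) (b : Fin n → B),
    ((SymTen.TS A B d).val.comp φ).toLinearMap.lTensor S (γ.law.toFun' S (∑ j, s j ⊗ₜ[A] b j)) =
      ∑ c : Fin d → Fin n, (∏ i, s (c i)) ⊗ₜ[A] PiTensorProduct.tprod A (fun i => b (c i)))

include hφ in
lemma coeffE_GT_eq {I : Type} (e : I → B) (E : Finset I) (κ : I →₀ ℕ) :
    coeffE (GT A B d).law e E κ = (SymTen.TS A B d).val (φ (coeffE γ.law e E κ)) := by
  refine coeffE_postcomp γ.law (GT A B d).law ((SymTen.TS A B d).val.comp φ).toLinearMap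
    (fun S _ _ z => ?_) e E κ
  obtain ⟨n, s, b, rfl⟩ := Groth.Agent.S13872.exists_fin_sum' (A := A) z
  rw [GT_toFun'_sum', Fintype.piFinset_univ]
  exact (hφ S n s b).symm

variable (k : Type u) [Field k] [Algebra A k]

include hφ in
/-- Over a field `k`, the image of `k ⊗ TS^d_A(B)` in `k ⊗ T^d_A(B)` is that of `k ⊗ Γ^d_A(B)`. -/
theorem star (b₀ : SymTen.TS A B d) :
    ∃ c' : k ⊗[A] C, (SymTen.TS A B d).val.toLinearMap.lTensor k ((1 : k) ⊗ₜ[A] b₀) =
      ((SymTen.TS A B d).val.comp φ).toLinearMap.lTensor k c' := by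
  classical
  let f : C →ₗ[A] (⨂[A] _ : Fin d, B) := ((SymTen.TS A B d).val.comp φ).toLinearMap
  -- the range of `k ⊗ f`
  let R : Submodule k (k ⊗[A] (⨂[A] _ : Fin d, B)) := LinearMap.range (f.baseChange k)
  suffices h : (1 : k) ⊗ₜ[A] (b₀ : ⨂[A] _ : Fin d, B) ∈ R by
    obtain ⟨c', hc'⟩ := h
    refine ⟨c', ?_⟩
    rw [LinearMap.lTensor_tmul]
    exact hc'.symm
  -- the symmetric tensor over `k`
  let z₀ : ⨂[k] _ : Fin d, k ⊗[A] B := xi A B k d ((1 : k) ⊗ₜ[A] (b₀ : ⨂[A] _ : Fin d, B))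
  have hsym : z₀ ∈ SymTen.TS k (k ⊗[A] B) d := by
    intro σ
    rw [← SymTen.perm_apply]
    show SymTen.perm k (k ⊗[A] B) d σ (xi A B k d _) = xi A B k d _
    rw [← xi_perm, LinearMap.lTensor_tmul, AlgHom.toLinearMap_apply, SymTen.perm_apply, b₀.2 σ]
  obtain ⟨l, y, K, Wbar, hz⟩ := exists_comb_of_flat (A := k) (B := k ⊗[A] B) (d := d) ⟨z₀, hsym⟩
  -- write the `y i` in terms of elements `1 ⊗ b`
  have hy : ∀ i, ∃ (n : ℕ) (s : Fin n → k) (b : Fin n → B), y i = ∑ j, s j ⊗ₜ[A] b j :=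
    fun i => Groth.Agent.S13872.exists_fin_sum' (A := A) (y i)
  choose n s b hyi using hy
  let J : Type := Σ i : Fin l, Fin (n i)
  let b' : J → B := fun p => b p.1 p.2
  let m : J → k ⊗[A] B := fun p => (1 : k) ⊗ₜ[A] b' p
  let a : Fin l → J → k := fun i p => if p.1 = i then s p.1 p.2 else 0
  have ha : ∀ i ∈ (Finset.univ : Finset (Fin l)), ∑ p, a i p • m p = y i := by
    intro i _
    rw [hyi i]
    show ∑ p : (Σ i : Fin l, Fin (n i)), a i p • m p = _
    rw [Fintype.sum_sigma]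
    rw [Finset.sum_eq_single i]
    · refine Finset.sum_congr rfl fun j _ => ?_
      simp only [a, m, b', if_true]
      rw [TensorProduct.smul_tmul', smul_eq_mul, mul_one]
    · intro i' _ hi'
      refine Finset.sum_eq_zero fun j _ => ?_
      simp only [a, if_neg hi', zero_smul]
    · intro h
      exact absurd (Finset.mem_univ i) h
  -- the linear map `xi' ∘ val`
  let Λ : SymTen.TS k (k ⊗[A] B) d →ₗ[k] k ⊗[A] (⨂[A] _ : Fin d, B) :=
    (xi' A B k d).comp (SymTen.TS k (k ⊗[A] B) d).val.toLinearMap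
  have hgen : ∀ κ'' : J →₀ ℕ,
      Λ (coeffE (tau k (k ⊗[A] B) d).law m Finset.univ κ'') ∈ R := by
    intro κ''
    show xi' A B k d ((SymTen.TS k (k ⊗[A] B) d).val (coeffE (tau k (k ⊗[A] B) d).law m
      Finset.univ κ'')) ∈ R
    have h1 : ((SymTen.TS k (k ⊗[A] B) d).val (coeffE (tau k (k ⊗[A] B) d).law m
        Finset.univ κ'') : ⨂[k] _ : Fin d, k ⊗[A] B) =
        coeffE (GT k (k ⊗[A] B) d).law m Finset.univ κ'' :=
      val_coeffE_tau k (k ⊗[A] B) d m Finset.univ κ''
    rw [h1, ← xi_coeffE A B k d b' Finset.univ κ'', xi'_xi, coeffE_GT_eq γ φ hφ]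
    exact ⟨(1 : k) ⊗ₜ[A] coeffE γ.law b' Finset.univ κ'', by
      rw [LinearMap.baseChange_tmul]; rfl⟩
  have hspan : Submodule.span k (Set.range (coeffE (tau k (k ⊗[A] B) d).law m Finset.univ)) ≤
      R.comap Λ := by
    rw [Submodule.span_le]
    rintro _ ⟨κ'', rfl⟩
    exact hgen κ''
  have hzmem : (⟨z₀, hsym⟩ : SymTen.TS k (k ⊗[A] B) d) ∈ R.comap Λ := by
    rw [hz]
    refine Submodule.sum_mem _ fun κ _ => Submodule.smul_mem _ _ (hspan ?_)
    exact coeffE_mem_span_of_comb (tau k (k ⊗[A] B) d).law m y Finset.univ a ha κ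
  have : Λ ⟨z₀, hsym⟩ = (1 : k) ⊗ₜ[A] (b₀ : ⨂[A] _ : Fin d, B) := by
    show xi' A B k d z₀ = _
    exact xi'_xi A B k d _
  rw [← this]
  exact hzmem

end Star

end Groth.Agent.H68.RL
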