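import Groth.Agent.H68.RydhStar
import Groth.Agent.H37.UHAlg
import Groth.Agent.S13398
import Mathlib

/-!
# `Spec TS^d_A(B) → Spec Γ^d_A(B)` is a universal homeomorphism with trivial residue field extensions

Ring-level statements for the canonical map `φ : Γ^d_A(B) → TS^d_A(B)`: it is integral
(`RL.isIntegral_phi`), radicial (`RL.fieldInj_phi`), surjective on spectra
(`RL.comap_surjective_phi`) and induces isomorphisms of residue fields (`RL.resSurj_phi`).
-/

set_option autoImplicit false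
universe u
open scoped TensorProduct

namespace Groth.Agent.H68.RL

open Groth.Agent.H68 Groth.Agent.H68.LC Groth.Agent.H68.CR Groth.Agent.H68.TSG
  Groth.Agent.H68.BC Groth.Agent.H37

variable {A : Type u} [CommRing A] {B C : Type u} [CommRing B] [Algebra A B] [CommRing C]
  [Algebra A C] {d : ℕ} (γ : PolLaw.MulLaw A B C d) (hγ : PolLaw.IsGammaD γ)
  (φ : C →ₐ[A] SymTen.TS A B d)
  (hφ : ∀ (S : Type u) [CommSemiring S] [Algebra A S] (n : ℕ) (s : Fin n → S) (b : Fin n → B),
    ((SymTen.TS A B d).val.comp φ).toLinearMap.lTensor S (γ.law.toFun' S (∑ j, s j ⊗ₜ[A] b j)) =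
      ∑ c : Fin d → Fin n, (∏ i, s (c i)) ⊗ₜ[A] PiTensorProduct.tprod A (fun i => b (c i)))

include hφ in
lemma phi_FTS_apply (S : Type u) [CommSemiring S] [Algebra A S] (y : S ⊗[A] SymTen.TS A B d) :
    φ.toLinearMap.lTensor S ((FTS γ).law.toFun' S y) = y ^ d.factorial :=
  congrArg (fun F : PolLaw.MulLaw A (SymTen.TS A B d) (SymTen.TS A B d) d.factorial =>
    F.law.toFun' S y) (postcomp_FTS γ φ hφ)

include hφ in
/-- The kernel of `S ⊗ TS^d → S ⊗ T^d` consists of nilpotents. -/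
lemma pow_eq_zero_of_val (S : Type u) [CommSemiring S] [Algebra A S]
    (t : S ⊗[A] SymTen.TS A B d) (ht : (SymTen.TS A B d).val.toLinearMap.lTensor S t = 0) :
    t ^ d.factorial = 0 := by
  rw [← phi_FTS_apply γ φ hφ, FTS_apply, ht]
  have h0 : (FLaw γ).law.toFun' S 0 = 0 := by
    have := (FLaw γ).homog S (0 : S) (0 : S ⊗[A] (⨂[A] _ : Fin d, B))
    rw [smul_zero, zero_pow (Nat.factorial_pos d).ne', zero_smul] at this
    exact this
  rw [h0, map_zero]

include hγ hφ in
theorem isIntegral_phi : φ.toRingHom.IsIntegral := by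
  intro y
  obtain ⟨c, hc⟩ := (Groth.Agent.S13398.result d γ hγ φ hφ).2 y
  refine ⟨Polynomial.X ^ d.factorial - Polynomial.C c,
    Polynomial.monic_X_pow_sub_C c (Nat.factorial_ne_zero d), ?_⟩
  rw [Polynomial.eval₂_sub, Polynomial.eval₂_pow, Polynomial.eval₂_X, Polynomial.eval₂_C]
  have : φ.toRingHom c = y ^ d.factorial := hc
  rw [this, sub_self]

include hγ hφ in
theorem comap_surjective_phi : Function.Surjective (PrimeSpectrum.comap φ.toRingHom) := by
  rintro ⟨p, hp⟩
  have hker : RingHom.ker φ.toRingHom ≤ p := by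
    intro x hx
    have h0 : x ^ d.factorial = 0 := (Groth.Agent.S13398.result d γ hγ φ hφ).1 x hx
    exact hp.mem_of_pow_mem _ (by rw [h0]; exact p.zero_mem)
  obtain ⟨q, hq, hqp⟩ := exists_prime_over φ.toRingHom (isIntegral_phi γ hγ φ hφ) p hker
  exact ⟨⟨q, hq⟩, PrimeSpectrum.ext hqp⟩

include hφ in
theorem fieldInj_phi : FieldInj φ.toRingHom := by
  intro K _ σ₁ σ₂ h
  letI : Algebra A K := (σ₁.comp (algebraMap A (SymTen.TS A B d))).toAlgebra
  have hpt : ∀ c : C, σ₁ (φ c) = σ₂ (φ c) := fun c => RingHom.congr_fun h c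
  let σ₁' : SymTen.TS A B d →ₐ[A] K := { σ₁ with commutes' := fun a => rfl }
  have h2 : ∀ a : A, σ₂ (algebraMap A (SymTen.TS A B d) a) = algebraMap A K a := by
    intro a
    have e : algebraMap A (SymTen.TS A B d) a = φ (algebraMap A C a) := (φ.commutes a).symm
    rw [e, ← hpt, ← e]
    rfl
  let σ₂' : SymTen.TS A B d →ₐ[A] K := { σ₂ with commutes' := h2 }
  let L₁ : K ⊗[A] SymTen.TS A B d →ₐ[A] K :=
    Algebra.TensorProduct.lift (AlgHom.id A K) σ₁' (fun _ _ => Commute.all _ _)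
  let L₂ : K ⊗[A] SymTen.TS A B d →ₐ[A] K :=
    Algebra.TensorProduct.lift (AlgHom.id A K) σ₂' (fun _ _ => Commute.all _ _)
  have hL : ∀ u : K ⊗[A] C, L₁ (φ.toLinearMap.lTensor K u) = L₂ (φ.toLinearMap.lTensor K u) := by
    intro u
    induction u using TensorProduct.induction_on with
    | zero => simp
    | tmul s c =>
      rw [LinearMap.lTensor_tmul, AlgHom.toLinearMap_apply, Algebra.TensorProduct.lift_tmul,
        Algebra.TensorProduct.lift_tmul]
      show s * σ₁ (φ c) = s * σ₂ (φ c)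
      rw [hpt]
    | add x y hx hy => rw [map_add, map_add, map_add, hx, hy]
  apply RingHom.ext
  intro y
  let y' : K ⊗[A] SymTen.TS A B d := (1 : K) ⊗ₜ[A] y + (-(σ₁ y)) ⊗ₜ[A] (1 : SymTen.TS A B d)
  have e := phi_FTS_apply γ φ hφ K y'
  have e1 : L₁ y' ^ d.factorial = L₂ y' ^ d.factorial := by
    rw [← map_pow, ← map_pow, ← e, hL]
  have v1 : L₁ y' = 0 := by
    show L₁ ((1 : K) ⊗ₜ[A] y + (-(σ₁ y)) ⊗ₜ[A] (1 : SymTen.TS A B d)) = 0
    rw [map_add, Algebra.TensorProduct.lift_tmul, Algebra.TensorProduct.lift_tmul]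
    show (1 : K) * σ₁ y + -(σ₁ y) * σ₁ 1 = 0
    rw [map_one]
    ring
  have v2 : L₂ y' = σ₂ y - σ₁ y := by
    show L₂ ((1 : K) ⊗ₜ[A] y + (-(σ₁ y)) ⊗ₜ[A] (1 : SymTen.TS A B d)) = _
    rw [map_add, Algebra.TensorProduct.lift_tmul, Algebra.TensorProduct.lift_tmul]
    show (1 : K) * σ₂ y + -(σ₁ y) * σ₂ 1 = _
    rw [map_one]
    ring
  rw [v1, v2, zero_pow (Nat.factorial_pos d).ne'] at e1
  have := pow_eq_zero_iff (Nat.factorial_pos d).ne' |>.mp e1.symm
  exact (sub_eq_zero.mp this).symm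

include hφ in
theorem resSurj_phi : ResSurj φ.toRingHom := by
  intro q hq b₀
  let p : Ideal C := q.comap φ.toRingHom
  haveI hp : p.IsPrime := Ideal.comap_isPrime _ _
  let L := p.ResidueField
  let K := q.ResidueField
  let j : L →ₐ[A] K := Ideal.ResidueField.mapₐ p q φ rfl
  obtain ⟨c', hc'⟩ := star γ φ hφ L b₀
  let σL : L ⊗[A] SymTen.TS A B d →ₐ[A] K :=
    Algebra.TensorProduct.lift j (IsScalarTower.toAlgHom A (SymTen.TS A B d) K)
      (fun _ _ => Commute.all _ _)
  let μ : L ⊗[A] C →ₐ[A] L :=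
    Algebra.TensorProduct.lift (AlgHom.id A L) (IsScalarTower.toAlgHom A C L)
      (fun _ _ => Commute.all _ _)
  have e1 : ∀ c : C, algebraMap (SymTen.TS A B d) K (φ c) = j (algebraMap C L c) := fun c =>
    (Ideal.ResidueField.map_algebraMap p q φ.toRingHom rfl c).symm
  have hσμ : ∀ u : L ⊗[A] C, σL (φ.toLinearMap.lTensor L u) = j (μ u) := by
    intro u
    induction u using TensorProduct.induction_on with
    | zero => simp
    | tmul s c =>
      rw [LinearMap.lTensor_tmul, AlgHom.toLinearMap_apply, Algebra.TensorProduct.lift_tmul,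
        Algebra.TensorProduct.lift_tmul, map_mul]
      show j s * algebraMap (SymTen.TS A B d) K (φ c) = j s * j (algebraMap C L c)
      rw [e1]
    | add x y hx hy => rw [map_add, map_add, map_add, map_add, hx, hy]
  have hnil : σL ((1 : L) ⊗ₜ[A] b₀) = σL (φ.toLinearMap.lTensor L c') := by
    let t : L ⊗[A] SymTen.TS A B d := (1 : L) ⊗ₜ[A] b₀ - φ.toLinearMap.lTensor L c'
    have ht : (SymTen.TS A B d).val.toLinearMap.lTensor L t = 0 := by
      show (SymTen.TS A B d).val.toLinearMap.lTensor L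
        ((1 : L) ⊗ₜ[A] b₀ - φ.toLinearMap.lTensor L c') = 0
      rw [map_sub, hc', AlgHom.comp_toLinearMap, LinearMap.lTensor_comp, LinearMap.comp_apply,
        sub_self]
    have h1 : t ^ d.factorial = 0 := pow_eq_zero_of_val γ φ hφ L t ht
    have h2 : σL t = 0 := by
      apply (pow_eq_zero_iff (Nat.factorial_pos d).ne').mp
      rw [← map_pow, h1, map_zero]
    have h3 : σL ((1 : L) ⊗ₜ[A] b₀) - σL (φ.toLinearMap.lTensor L c') = 0 := by
      rw [← map_sub]
      exact h2
    exact sub_eq_zero.mp h3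
  have hw : algebraMap (SymTen.TS A B d) K b₀ = j (μ c') := by
    rw [← hσμ, ← hnil, Algebra.TensorProduct.lift_tmul, map_one, one_mul]
    rfl
  obtain ⟨⟨x, s⟩, hxs⟩ := IsLocalization.surj (nonZeroDivisors (C ⧸ p)) (μ c')
  obtain ⟨a, rfl⟩ := Ideal.Quotient.mk_surjective x
  obtain ⟨s', hs'⟩ := Ideal.Quotient.mk_surjective (s : C ⧸ p)
  have hs'p : s' ∉ p := by
    intro h
    have h0 : (s : C ⧸ p) = 0 := by
      rw [← hs', Ideal.Quotient.eq_zero_iff_mem]
      exact h
    exact nonZeroDivisors.ne_zero s.2 h0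
  refine ⟨a, s', hs'p, ?_⟩
  have hxs' : μ c' * algebraMap C L s' = algebraMap C L a := by
    have := hxs
    simp only at this
    rw [← hs'] at this
    exact this
  rw [← Ideal.algebraMap_residueField_eq_zero (I := q), map_sub, map_mul]
  show algebraMap (SymTen.TS A B d) K (φ s') * algebraMap (SymTen.TS A B d) K b₀ -
    algebraMap (SymTen.TS A B d) K (φ a) = 0
  rw [hw, e1, e1, ← map_mul, ← map_sub, mul_comm, hxs', sub_self, map_zero]

end Groth.Agent.H68.RL
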