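import Groth.Agent.H68.SpecFibDom

/-!
# Closed points of a fibre between two points: the ring-theoretic statement
-/

set_option autoImplicit false

open IsLocalRing

namespace Groth.Agent.H68.SF

universe u

theorem exists_prime_between {A B : Type u} [CommRing A] [CommRing B] [Algebra A B]
    [Algebra.FiniteType A B] (q q' : Ideal B) [q.IsPrime] [q'.IsPrime] (hqq' : q ≤ q')
    (hne : q.comap (algebraMap A B) ≠ q'.comap (algebraMap A B))
    (hmax : ∀ q'' : Ideal B, q''.IsPrime → q' ≤ q'' →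
      q''.comap (algebraMap A B) = q'.comap (algebraMap A B) → q'' = q')
    (g : B) (hg : g ∉ q) :
    ∃ q₁ : Ideal B, q₁.IsPrime ∧ q ≤ q₁ ∧ q₁ ≤ q' ∧
      q₁.comap (algebraMap A B) = q.comap (algebraMap A B) ∧ g ∉ q₁ ∧
      ∀ q₃ : Ideal B, q₃.IsPrime → q₁ ≤ q₃ →
        q₃.comap (algebraMap A B) = q.comap (algebraMap A B) → q₃ = q₁ := by
  classical
  let p : Ideal A := q.under A
  have hpprime : p.IsPrime := Ideal.comap_isPrime _ _
  let Ab := A ⧸ p
  let Bb := B ⧸ q
  have hdomA : IsDomain Ab := Ideal.Quotient.isDomain p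
  have hdomB : IsDomain Bb := Ideal.Quotient.isDomain q
  have hFT1 : Algebra.FiniteType A Bb :=
    Algebra.FiniteType.of_surjective (Ideal.Quotient.mkₐ A q) (Ideal.Quotient.mkₐ_surjective A q)
  have hFT : Algebra.FiniteType Ab Bb := Algebra.FiniteType.of_restrictScalars_finiteType A Ab Bb
  have hinj : Function.Injective (algebraMap Ab Bb) := FaithfulSMul.algebraMap_injective Ab Bb
  have hmkA : ∀ a : A, algebraMap Ab Bb (Ideal.Quotient.mk p a) =
      Ideal.Quotient.mk q (algebraMap A B a) := fun _ => rfl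
  have hsurj : Function.Surjective (Ideal.Quotient.mk q) := Ideal.Quotient.mk_surjective
  let qb' : Ideal Bb := q'.map (Ideal.Quotient.mk q)
  have hqb'mem : ∀ b : B, Ideal.Quotient.mk q b ∈ qb' ↔ b ∈ q' :=
    fun b => Ideal.mem_quotient_iff_mem hqq'
  have hqb'prime : qb'.IsPrime :=
    Ideal.map_isPrime_of_surjective hsurj (by rw [Ideal.mk_ker]; exact hqq')
  have hple : p ≤ q'.comap (algebraMap A B) := Ideal.comap_mono hqq'
  have hp' : qb'.comap (algebraMap Ab Bb) ≠ ⊥ := by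
    intro hbot
    apply hne
    refine le_antisymm hple (fun a ha => ?_)
    have h1 : Ideal.Quotient.mk p a ∈ qb'.comap (algebraMap Ab Bb) := by
      rw [Ideal.mem_comap, hmkA, hqb'mem]; exact ha
    rw [hbot, Ideal.mem_bot, Ideal.Quotient.eq_zero_iff_mem] at h1
    exact h1
  have hmaxb : ∀ q'' : Ideal Bb, q''.IsPrime → qb' ≤ q'' →
      q''.comap (algebraMap Ab Bb) = qb'.comap (algebraMap Ab Bb) → q'' = qb' := by
    intro qb'' hprime hle hcomap
    have h1 : qb''.comap (Ideal.Quotient.mk q) = q' := by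
      refine hmax _ (Ideal.comap_isPrime _ _) (fun b hb => hle ((hqb'mem b).mpr hb)) ?_
      ext a
      have h2 := Ideal.ext_iff.mp hcomap (Ideal.Quotient.mk p a)
      simp only [Ideal.mem_comap, hmkA, hqb'mem] at h2
      simpa only [Ideal.mem_comap] using h2
    rw [← Ideal.map_comap_of_surjective _ hsurj qb'', h1]
  have hgb : Ideal.Quotient.mk q g ≠ 0 := fun h => hg (Ideal.Quotient.eq_zero_iff_mem.mp h)
  obtain ⟨qb₁, hqb₁prime, hqb₁le, hqb₁bot, hgqb₁, hqb₁alg⟩ :=
    exists_prime_of_domain hinj qb' hp' hmaxb (Ideal.Quotient.mk q g) hgb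
  refine ⟨qb₁.comap (Ideal.Quotient.mk q), Ideal.comap_isPrime _ _, ?_, ?_, ?_, hgqb₁, ?_⟩
  · intro b hb
    rw [Ideal.mem_comap, Ideal.Quotient.eq_zero_iff_mem.mpr hb]
    exact qb₁.zero_mem
  · intro b hb
    exact (hqb'mem b).mp (hqb₁le hb)
  · refine le_antisymm (fun a ha => ?_) (fun a ha => ?_)
    · have h1 : Ideal.Quotient.mk p a ∈ qb₁.comap (algebraMap Ab Bb) := by
        rw [Ideal.mem_comap, hmkA]; exact ha
      rw [hqb₁bot, Ideal.mem_bot, Ideal.Quotient.eq_zero_iff_mem] at h1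
      exact h1
    · have h1 : algebraMap A B a ∈ q := ha
      rw [Ideal.mem_comap, Ideal.mem_comap, Ideal.Quotient.eq_zero_iff_mem.mpr h1]
      exact qb₁.zero_mem
  · intro q₃ hq₃prime hle hq₃comap
    refine le_antisymm (fun x hx => ?_) hle
    by_contra hxq₁
    have hdomD : IsDomain (Bb ⧸ qb₁) := Ideal.Quotient.isDomain qb₁
    have hx0 : Ideal.Quotient.mk qb₁ (Ideal.Quotient.mk q x) ≠ 0 := fun h =>
      hxq₁ (Ideal.mem_comap.mpr (Ideal.Quotient.eq_zero_iff_mem.mp h))
    obtain ⟨ab, hab0, hdvd⟩ := (hqb₁alg.isAlgebraic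
      (Ideal.Quotient.mk qb₁ (Ideal.Quotient.mk q x))).exists_nonzero_dvd
      (mem_nonZeroDivisors_of_ne_zero hx0)
    obtain ⟨a, rfl⟩ := Ideal.Quotient.mk_surjective ab
    obtain ⟨w, hw⟩ := hdvd
    obtain ⟨wb, rfl⟩ := Ideal.Quotient.mk_surjective w
    obtain ⟨y, rfl⟩ := hsurj wb
    have h1 : algebraMap A B a - x * y ∈ qb₁.comap (Ideal.Quotient.mk q) := by
      rw [Ideal.mem_comap, map_sub, map_mul, ← Ideal.Quotient.eq, map_mul]
      rw [← hw]
      rfl
    have h2 : algebraMap A B a ∈ q₃ := by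
      have := q₃.add_mem (hle h1) (q₃.mul_mem_right y hx)
      rwa [sub_add_cancel] at this
    have h3 : a ∈ q.comap (algebraMap A B) := hq₃comap ▸ (Ideal.mem_comap.mpr h2)
    exact hab0 (Ideal.Quotient.eq_zero_iff_mem.mpr h3)

end Groth.Agent.H68.SF
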