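import Groth.Agent.H68.SpecFibVal

/-!
# Heights of closed points of the special fibre via isolating parameter systems
-/

set_option autoImplicit false

open MvPolynomial IsLocalRing

namespace Groth.Agent.H68.SF

universe u

section Height

variable {R B : Type*} [CommRing R] [IsLocalRing R] [CommRing B] [Algebra R B]

/-- Krull: if `Q` is isolated in `V(𝔪B + (t))` then `ht(Q/𝔪B) ≤ m`. -/
theorem height_le_of_iso (Q : Ideal B) [Q.IsPrime] {m : ℕ} (t : Fin m → B)
    (ht : Iso (R := R) Q t)
    (hIQ : (maximalIdeal R).map (algebraMap R B) ≤ Q)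
    [IsNoetherianRing (B ⧸ (maximalIdeal R).map (algebraMap R B))] :
    (Q.map (Ideal.Quotient.mk ((maximalIdeal R).map (algebraMap R B)))).height ≤ m := by
  classical
  set I := (maximalIdeal R).map (algebraMap R B) with hI
  have hsurj : Function.Surjective (Ideal.Quotient.mk I) := Ideal.Quotient.mk_surjective
  obtain ⟨htQ, r, hrQ, hr⟩ := ht
  have hcm : (Q.map (Ideal.Quotient.mk I)).comap (Ideal.Quotient.mk I) = Q := by
    rw [Ideal.comap_map_of_surjective _ hsurj, ← RingHom.ker_eq_comap_bot, Ideal.mk_ker]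
    exact sup_eq_left.mpr hIQ
  have hprime : (Q.map (Ideal.Quotient.mk I)).IsPrime :=
    Ideal.map_isPrime_of_surjective hsurj (by rwa [Ideal.mk_ker])
  let s : Finset (B ⧸ I) := Finset.univ.image (fun i => Ideal.Quotient.mk I (t i))
  have hmin : Q.map (Ideal.Quotient.mk I) ∈ (Ideal.span (s : Set (B ⧸ I))).minimalPrimes := by
    refine ⟨⟨hprime, ?_⟩, ?_⟩
    · rw [Ideal.span_le]
      intro x hx
      simp only [s, Finset.coe_image, Finset.coe_univ, Set.image_univ, Set.mem_range] at hx
      obtain ⟨i, rfl⟩ := hx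
      exact Ideal.mem_map_of_mem _ (htQ i)
    · rintro P' ⟨hP', hsP'⟩ hP'Q
      have hQ' : P'.comap (Ideal.Quotient.mk I) = Q := by
        refine hr _ (Ideal.comap_isPrime _ _) ?_ ?_ ?_
        · intro x hx
          rw [Ideal.mem_comap, Ideal.Quotient.eq_zero_iff_mem.mpr hx]; exact P'.zero_mem
        · intro i
          exact hsP' (Ideal.subset_span (by simp [s]))
        · intro hrP'
          exact hrQ (hcm ▸ Ideal.comap_mono hP'Q hrP')
      rw [← hQ', Ideal.map_comap_of_surjective _ hsurj]
  calc _ ≤ (s.card : ℕ∞) := Ideal.height_le_card_of_mem_minimalPrimes_span_finset hmin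
    _ ≤ m := by
      have := Finset.card_image_le (s := Finset.univ) (f := fun i => Ideal.Quotient.mk I (t i))
      rw [Finset.card_univ, Fintype.card_fin] at this
      exact_mod_cast this

/-- Conversely a maximal ideal `Q ⊇ 𝔪B` of height `h` in the special fibre is isolated in
`V(𝔪B + (t))` for some `h` parameters `t`. -/
theorem exists_iso_of_height (Q : Ideal B) [Q.IsMaximal]
    (hIQ : (maximalIdeal R).map (algebraMap R B) ≤ Q)
    [IsNoetherianRing (B ⧸ (maximalIdeal R).map (algebraMap R B))] {h : ℕ}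
    (hh : (Q.map (Ideal.Quotient.mk ((maximalIdeal R).map (algebraMap R B)))).height = h) :
    ∃ t' : Fin h → B, Iso (R := R) Q t' := by
  classical
  set I := (maximalIdeal R).map (algebraMap R B) with hI
  have hsurj : Function.Surjective (Ideal.Quotient.mk I) := Ideal.Quotient.mk_surjective
  have hcm : ∀ Q' : Ideal B, I ≤ Q' →
      (Q'.map (Ideal.Quotient.mk I)).comap (Ideal.Quotient.mk I) = Q' := by
    intro Q' hQ'
    rw [Ideal.comap_map_of_surjective _ hsurj, ← RingHom.ker_eq_comap_bot, Ideal.mk_ker]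
    exact sup_eq_left.mpr hQ'
  have hprime : ∀ Q' : Ideal B, Q'.IsPrime → I ≤ Q' → (Q'.map (Ideal.Quotient.mk I)).IsPrime :=
    fun Q' _ hQ' => Ideal.map_isPrime_of_surjective hsurj (by rwa [Ideal.mk_ker])
  set Qb := Q.map (Ideal.Quotient.mk I) with hQb
  have hQbprime : Qb.IsPrime := hprime Q inferInstance hIQ
  obtain ⟨s, hsmin, hscard⟩ := Ideal.exists_finset_card_eq_height_of_isNoetherianRing Qb
  have hsh : s.card = h := by
    have : (s.card : ℕ∞) = (h : ℕ∞) := hscard.trans hh
    exact_mod_cast this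
  subst hsh
  -- lift the generators
  let e := s.equivFin
  choose lift hlift using fun x : B ⧸ I => hsurj x
  let t' : Fin s.card → B := fun i => lift (e.symm i).1
  have ht'mk : ∀ i, Ideal.Quotient.mk I (t' i) ∈ (s : Set (B ⧸ I)) := fun i => by
    rw [hlift]; exact (e.symm i).2
  have hs_range : ∀ x ∈ s, ∃ i, Ideal.Quotient.mk I (t' i) = x := fun x hx =>
    ⟨e ⟨x, hx⟩, by simp [t', hlift]⟩
  -- the other minimal primes
  have hfin : (Ideal.span (s : Set (B ⧸ I))).minimalPrimes.Finite :=
    Ideal.finite_minimalPrimes_of_isNoetherianRing _ _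
  let F : Finset (Ideal (B ⧸ I)) := hfin.toFinset.erase Qb
  have hnot : ¬ F.inf id ≤ Qb := by
    rw [Ideal.IsPrime.inf_le' hQbprime]
    rintro ⟨P, hPF, hPQ⟩
    rw [Finset.mem_erase, Set.Finite.mem_toFinset] at hPF
    exact hPF.1 (le_antisymm hPQ (hsmin.2 hPF.2.1 hPQ))
  obtain ⟨rb, hrbF, hrbQ⟩ := SetLike.not_le_iff_exists.mp hnot
  obtain ⟨r, rfl⟩ := hsurj rb
  refine ⟨t', fun i => ?_, r, fun hr => hrbQ (Ideal.mem_map_of_mem _ hr), ?_⟩
  · rw [← hcm Q hIQ]
    exact hsmin.1.2 (Ideal.subset_span (ht'mk i))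
  · intro Q' hQ'prime hIQ' ht'Q' hrQ'
    have hQ'b : (Q'.map (Ideal.Quotient.mk I)).IsPrime := hprime Q' hQ'prime hIQ'
    have hle : Ideal.span (s : Set (B ⧸ I)) ≤ Q'.map (Ideal.Quotient.mk I) := by
      rw [Ideal.span_le]
      intro x hx
      obtain ⟨i, rfl⟩ := hs_range x hx
      exact Ideal.mem_map_of_mem _ (ht'Q' i)
    obtain ⟨P, hPmin, hPle⟩ := Ideal.exists_minimalPrimes_le hle
    by_cases hPQ : P = Qb
    · subst hPQ
      have : Q ≤ Q' := by
        rw [← hcm Q hIQ, ← hcm Q' hIQ']
        exact Ideal.comap_mono hPle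
      exact (Ideal.IsMaximal.eq_of_le inferInstance hQ'prime.ne_top this).symm
    · exfalso
      have hPF : P ∈ F := by
        rw [Finset.mem_erase, Set.Finite.mem_toFinset]
        exact ⟨hPQ, hPmin⟩
      have h1 : Ideal.Quotient.mk I r ∈ P := (Finset.inf_le hPF : F.inf id ≤ id P) hrbF
      have h2 : r ∈ (Q'.map (Ideal.Quotient.mk I)).comap (Ideal.Quotient.mk I) := hPle h1
      rw [hcm Q' hIQ'] at h2
      exact hrQ' h2

end Height

section Trdeg

variable {V B : Type u} [CommRing V] [IsDomain V] [ValuationRing V] [CommRing B] [IsDomain B]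
  [Algebra V B] [Algebra.FiniteType V B]

/-- For a minimal isolating system `t` at a closed point `Q` of the special fibre, `B` is algebraic
over `V[t]` (by Zariski's main theorem), so `trdeg_V B = m`. -/
theorem trdeg_eq_of_minimal (hinj : Function.Injective (algebraMap V B))
    (Q : Ideal B) [Q.IsMaximal] (hQ : Q.comap (algebraMap V B) = maximalIdeal V) {m : ℕ}
    (t : Fin m → B) (ht : Iso (R := V) Q t)
    (hmin : ∀ m' < m, ¬ ∃ t' : Fin m' → B, Iso (R := V) Q t') :
    Algebra.trdeg V B = m := by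
  classical
  have hinjt := injective_of_minimal hinj Q t ht hmin
  obtain ⟨htQ, r₀, hr₀Q, hr₀⟩ := ht
  -- algebra structure over the polynomial ring
  let P := MvPolynomial (Fin m) V
  let algPB : Algebra P B := (MvPolynomial.aeval t : P →ₐ[V] B).toRingHom.toAlgebra
  have halg : ∀ F : P, algebraMap P B F = MvPolynomial.aeval t F := fun _ => rfl
  have : IsScalarTower V P B := IsScalarTower.of_algebraMap_eq
    (fun a => by rw [halg, MvPolynomial.algebraMap_eq, MvPolynomial.aeval_C])
  have : Algebra.FiniteType P B := Algebra.FiniteType.of_restrictScalars_finiteType V P B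
  have hmQ : ∀ a ∈ maximalIdeal V, algebraMap V B a ∈ Q := fun a ha => by
    have : a ∈ Q.comap (algebraMap V B) := hQ ▸ ha
    exact this
  -- quasi-finiteness at `Q`
  let q : PrimeSpectrum B := ⟨Q, inferInstance⟩
  have H : IsOpen (X := PrimeSpectrum.comap (algebraMap P B) ⁻¹' {q.comap (algebraMap P B)})
      {⟨q, rfl⟩} := by
    have hset : ({⟨q, rfl⟩} : Set (PrimeSpectrum.comap (algebraMap P B) ⁻¹'
        {q.comap (algebraMap P B)})) =
        Subtype.val ⁻¹' (PrimeSpectrum.basicOpen r₀ : Set (PrimeSpectrum B)) := by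
      ext ⟨q', hq'⟩
      simp only [Set.mem_singleton_iff, Set.mem_preimage, Subtype.mk.injEq, SetLike.mem_coe,
        PrimeSpectrum.mem_basicOpen]
      constructor
      · rintro rfl; exact hr₀Q
      · intro hrq'
        have hcomap : ∀ F : P, algebraMap P B F ∈ q'.asIdeal ↔ algebraMap P B F ∈ Q := by
          intro F
          have := congrArg PrimeSpectrum.asIdeal hq'
          exact (Ideal.ext_iff.mp this F)
        apply PrimeSpectrum.ext
        refine hr₀ q'.asIdeal q'.2 ?_ (fun i => ?_) hrq'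
        · rw [Ideal.map_le_iff_le_comap]
          intro a ha
          have h1 : algebraMap P B (C a) ∈ Q := by
            rw [halg, MvPolynomial.aeval_C]; exact hmQ a ha
          have h2 := (hcomap (C a)).mpr h1
          rwa [halg, MvPolynomial.aeval_C] at h2
        · have h1 : algebraMap P B (X i) ∈ Q := by
            rw [halg, MvPolynomial.aeval_X]; exact htQ i
          have h2 := (hcomap (X i)).mpr h1
          rwa [halg, MvPolynomial.aeval_X] at h2
    rw [hset]
    exact (PrimeSpectrum.basicOpen r₀).isOpen.preimage continuous_subtype_val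
  have hQF : Algebra.QuasiFiniteAt P Q := Algebra.QuasiFiniteAt.of_isOpen_singleton_fiber q H
  obtain ⟨r, hrQ, hrint, hr⟩ := Algebra.zariskisMainProperty_iff.mp
    (Algebra.ZariskisMainProperty.of_finiteType (R := P) Q)
  have hr0 : r ≠ 0 := fun h => hrQ (h ▸ Q.zero_mem)
  have hrk : ∀ k, IsIntegral P (r ^ k) := fun k => hrint.pow k
  have hfaith : FaithfulSMul P B := (faithfulSMul_iff_algebraMap_injective P B).mpr hinjt
  have halgPB : Algebra.IsAlgebraic P B := by
    refine ⟨fun b => ?_⟩
    obtain ⟨K, hK⟩ := hr b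
    have hK' : IsIntegral P (r ^ K * b) := hK
    exact IsAlgebraic.of_mul (mem_nonZeroDivisors_of_ne_zero (pow_ne_zero _ hr0))
      (hrk K).isAlgebraic hK'.isAlgebraic
  have hfaithVP : FaithfulSMul V P := inferInstance
  have h1 := trdeg_add_eq V P (A := B)
  rw [trdeg_eq_zero (R := P), add_zero, MvPolynomial.trdeg_of_isDomain] at h1
  simpa using h1.symm

end Trdeg

end Groth.Agent.H68.SF
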