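import Groth.Agent.H68.SpecFibDim
import Groth.Agent.H14.DimTrdeg

set_option autoImplicit false

open IsLocalRing TensorProduct

namespace Groth.Agent.H68.SF

universe u

section
variable {V B : Type u} [CommRing V] [IsDomain V] [ValuationRing V] [CommRing B] [IsDomain B]
  [Algebra V B] [Algebra.FiniteType V B]

omit [ValuationRing V] in
attribute [local instance] Algebra.TensorProduct.rightAlgebra in
theorem ringKrullDim_genericFibre (hinj : Function.Injective (algebraMap V B)) {n : ℕ}
    (hn : Algebra.trdeg V B = n) :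
    ringKrullDim (FractionRing V ⊗[V] B) = n := by
  have hloc : IsLocalization (Algebra.algebraMapSubmonoid B (nonZeroDivisors V))
      (FractionRing V ⊗[V] B) := IsLocalization.tensorRight _ (nonZeroDivisors V)
  have hle : Algebra.algebraMapSubmonoid B (nonZeroDivisors V) ≤ nonZeroDivisors B := by
    rintro _ ⟨v, hv, rfl⟩
    exact mem_nonZeroDivisors_of_ne_zero
      (fun h => nonZeroDivisors.ne_zero hv (hinj (h.trans (map_zero _).symm)))
  have hdom : IsDomain (FractionRing V ⊗[V] B) := IsLocalization.isDomain_of_le_nonZeroDivisors _ hle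
  have hinjBD : Function.Injective (algebraMap B (FractionRing V ⊗[V] B)) :=
    IsLocalization.injective _ hle
  have hft : Algebra.FiniteType (FractionRing V) (FractionRing V ⊗[V] B) := inferInstance
  obtain ⟨n', hn'1, hn'2, -⟩ := Groth.Agent.H14.ringKrullDim_eq_trdeg_of_finiteType_domain
    (FractionRing V) (FractionRing V ⊗[V] B)
  have hVK : Algebra.IsAlgebraic V (FractionRing V) :=
    IsLocalization.isAlgebraic _ (nonZeroDivisors V)
  have hBD : Algebra.IsAlgebraic B (FractionRing V ⊗[V] B) :=
    IsLocalization.isAlgebraic _ (Algebra.algebraMapSubmonoid B (nonZeroDivisors V))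
  have hDF : Algebra.IsAlgebraic (FractionRing V ⊗[V] B)
      (FractionRing (FractionRing V ⊗[V] B)) :=
    IsLocalization.isAlgebraic _ (nonZeroDivisors (FractionRing V ⊗[V] B))
  have hBF : Algebra.IsAlgebraic B (FractionRing (FractionRing V ⊗[V] B)) :=
    Algebra.IsAlgebraic.trans B (FractionRing V ⊗[V] B) _
  have f3 : FaithfulSMul V B := (faithfulSMul_iff_algebraMap_injective V B).mpr hinj
  have f4 : FaithfulSMul B (FractionRing (FractionRing V ⊗[V] B)) :=
    (faithfulSMul_iff_algebraMap_injective B _).mpr (by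
      rw [IsScalarTower.algebraMap_eq B (FractionRing V ⊗[V] B)
        (FractionRing (FractionRing V ⊗[V] B))]
      exact (IsFractionRing.injective (FractionRing V ⊗[V] B) _).comp hinjBD)
  have f2 : FaithfulSMul (FractionRing V) (FractionRing (FractionRing V ⊗[V] B)) :=
    (faithfulSMul_iff_algebraMap_injective _ _).mpr (RingHom.injective _)
  have e1 := trdeg_add_eq V (FractionRing V) (A := FractionRing (FractionRing V ⊗[V] B))
  have e2 := trdeg_add_eq V B (A := FractionRing (FractionRing V ⊗[V] B))
  rw [trdeg_eq_zero (R := V) (A := FractionRing V), zero_add] at e1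
  rw [trdeg_eq_zero (R := B) (A := FractionRing (FractionRing V ⊗[V] B)), add_zero] at e2
  have h1 : (n' : Cardinal) = n := by rw [← hn'1, e1, ← e2, hn]
  have h2 : n' = n := by exact_mod_cast h1
  rw [hn'2, h2]

/-- The special fibre of a finite type domain over a valuation ring has the dimension of the
generic fibre (when nonempty). -/
theorem ringKrullDim_specialFibre (hinj : Function.Injective (algebraMap V B))
    [Nontrivial (B ⧸ (maximalIdeal V).map (algebraMap V B))] :
    ringKrullDim (B ⧸ (maximalIdeal V).map (algebraMap V B)) =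
      ringKrullDim (FractionRing V ⊗[V] B) := by
  classical
  set I := (maximalIdeal V).map (algebraMap V B) with hI
  have hsurj : Function.Surjective (Ideal.Quotient.mk I) := Ideal.Quotient.mk_surjective
  have h1 : Algebra.FiniteType V (B ⧸ I) :=
    Algebra.FiniteType.of_surjective (Ideal.Quotient.mkₐ V I) (Ideal.Quotient.mkₐ_surjective V I)
  have h2 : Algebra.FiniteType (V ⧸ maximalIdeal V) (B ⧸ I) :=
    Algebra.FiniteType.of_restrictScalars_finiteType V _ _
  let _ : Field (V ⧸ maximalIdeal V) := Ideal.Quotient.field _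
  have h3 : IsNoetherianRing (B ⧸ I) := Algebra.FiniteType.isNoetherianRing (V ⧸ maximalIdeal V) _
  have key : ∀ M : Ideal (B ⧸ I), M.IsMaximal →
      ∃ m : ℕ, M.height = m ∧ Algebra.trdeg V B = m := by
    intro M hM
    set Q := M.comap (Ideal.Quotient.mk I) with hQdef
    have hQmax : Q.IsMaximal := Ideal.comap_isMaximal_of_surjective _ hsurj
    have hIQ : I ≤ Q := fun x hx => by
      rw [hQdef, Ideal.mem_comap, Ideal.Quotient.eq_zero_iff_mem.mpr hx]; exact M.zero_mem
    have hQ : Q.comap (algebraMap V B) = maximalIdeal V :=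
      ((IsLocalRing.maximalIdeal.isMaximal V).eq_of_le
        (Ideal.comap_ne_top _ hQmax.ne_top) (Ideal.map_le_iff_le_comap.mp hIQ)).symm
    have hQM : Q.map (Ideal.Quotient.mk I) = M := Ideal.map_comap_of_surjective _ hsurj M
    have hex := exists_iso Q hQ
    obtain ⟨t, ht⟩ := Nat.find_spec hex
    have hmin : ∀ m' < Nat.find hex, ¬ ∃ t : Fin m' → B, Iso (R := V) Q t :=
      fun m' h => Nat.find_min hex h
    generalize Nat.find hex = m at t ht hmin
    refine ⟨m, ?_, trdeg_eq_of_minimal hinj Q hQ t ht hmin⟩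
    rw [← hQM]
    have hle := height_le_of_iso Q t ht hIQ
    refine le_antisymm hle ?_
    have hfin : (Q.map (Ideal.Quotient.mk I)).height ≠ ⊤ :=
      ne_top_of_le_ne_top (ENat.natCast_ne_top m) hle
    obtain ⟨h, hh⟩ := ENat.ne_top_iff_exists.mp hfin
    obtain ⟨t', ht'⟩ := exists_iso_of_height Q hIQ hh.symm
    by_contra hlt
    rw [not_le, ← hh] at hlt
    have hlt' : h < m := by exact_mod_cast hlt
    exact hmin h hlt' ⟨t', ht'⟩
  obtain ⟨M₀, hM₀⟩ := Ideal.exists_maximal (B ⧸ I)
  obtain ⟨n, hn1, hn2⟩ := key M₀ hM₀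
  have hall : ∀ M : Ideal (B ⧸ I), M.IsMaximal → M.height = n := by
    intro M hM
    obtain ⟨m, hm1, hm2⟩ := key M hM
    have h4 : (m : Cardinal) = n := hm2.symm.trans hn2
    have h5 : m = n := by exact_mod_cast h4
    rw [hm1, h5]
  rw [ringKrullDim_genericFibre hinj hn2, ← Ideal.sup_isMaximal_height_eq_ringKrullDim]
  have h6 : (⨆ (M : Ideal (B ⧸ I)) (_ : M.IsMaximal), M.height) = (n : ℕ∞) := by
    apply le_antisymm
    · exact iSup₂_le fun M hM => (hall M hM).le
    · exact le_iSup₂_of_le M₀ hM₀ hn1.ge
  rw [h6]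
  rfl

end

end Groth.Agent.H68.SF
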