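import Groth.Agent.H68.SpecFibDimMain
import Groth.Agent.H11.FtDim

/-!
# Generic points of components of the special fibre over a valuation ring

Equidimensionality of the special fibre of a finite type domain over a valuation ring, in the form:
if `Q` is a minimal prime of the special fibre then `dim B/Q = trdeg_V B`.
-/

set_option autoImplicit false

open IsLocalRing

namespace Groth.Agent.H68.SF

universe u

open Groth.Agent.H11.FtDim in
/-- In a finite type algebra over a field all of whose maximal ideals have height `n`, every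
irreducible component has dimension `n`. -/
theorem ringKrullDim_quotient_minimalPrime {k A : Type u} [Field k] [CommRing A] [Algebra k A]
    [Algebra.FiniteType k A] (n : ℕ) (hn : ∀ M : Ideal A, M.IsMaximal → M.height = n)
    (P : Ideal A) (hP : P ∈ minimalPrimes A) :
    ringKrullDim (A ⧸ P) = n := by
  classical
  have : IsNoetherianRing A := Algebra.FiniteType.isNoetherianRing k A
  have hPprime : P.IsPrime := hP.1.1
  have hfin : (minimalPrimes A).Finite := Ideal.finite_minimalPrimes_of_isNoetherianRing A ⊥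
  let F : Finset (Ideal A) := hfin.toFinset.erase P
  have hnot : ¬ F.inf id ≤ P := by
    rw [Ideal.IsPrime.inf_le' hPprime]
    rintro ⟨P', hP'F, hP'P⟩
    rw [Finset.mem_erase, Set.Finite.mem_toFinset] at hP'F
    exact hP'F.1 (le_antisymm hP'P (hP.2 hP'F.2.1 hP'P))
  obtain ⟨f, hfF, hfP⟩ := SetLike.not_le_iff_exists.mp hnot
  obtain ⟨M, hM, hPM, hfM⟩ := exists_maximal_not_mem (k := k) P f hfP
  let M' : PrimeSpectrum A := ⟨M, hM.isPrime⟩
  have hMn : M.height = n := hn M hM
  have : M.IsPrime := hM.isPrime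
  have : M.FiniteHeight := ⟨Or.inr (by rw [hMn]; exact ENat.natCast_ne_top n)⟩
  obtain ⟨c, hlast, hlen⟩ := M.exists_ltSeries_length_eq_height
  have hlast' : c.last = M' := hlast
  obtain ⟨P', hP'min, hP'c⟩ := Ideal.exists_minimalPrimes_le (bot_le : (⊥ : Ideal A) ≤ c.head.asIdeal)
  have hP'M : P' ≤ M := by
    have : c.head ≤ c.last := c.head_le_last
    rw [hlast'] at this
    exact hP'c.trans this
  have hP'P : P' = P := by
    by_contra hne
    have hP'F : P' ∈ F := by
      rw [Finset.mem_erase, Set.Finite.mem_toFinset]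
      exact ⟨hne, hP'min⟩
    exact hfM (hP'M ((Finset.inf_le hP'F : F.inf id ≤ id P') hfF))
  subst hP'P
  have h1 := length_le_height_mapMk P' c hP'c
  have h2 : ∀ (Q : PrimeSpectrum A) (h' : P' ≤ Q.asIdeal), Q = M' →
      Order.height (mapMk P' Q h') = Order.height (mapMk P' M' hPM) := by
    rintro _ _ rfl; rfl
  rw [h2 _ _ hlast', hlen, hMn] at h1
  have h3 := height_mapMk_le P' M' hPM
  rw [← PrimeSpectrum.height_eq_orderHeight M', show M'.asIdeal.height = n from hMn] at h3
  have h4 : Order.height (mapMk P' M' hPM) = (n : ℕ∞) := le_antisymm h3 h1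
  rw [← height_mapMk_maximal (k := k) P' M' hM hPM, h4]
  rfl

section

variable {V B : Type u} [CommRing V] [IsDomain V] [ValuationRing V] [CommRing B] [IsDomain B]
  [Algebra V B] [Algebra.FiniteType V B]

/-- Every closed point of the special fibre has height `trdeg_V B` in the special fibre. -/
theorem height_eq_trdeg_of_isMaximal (hinj : Function.Injective (algebraMap V B))
    (M : Ideal (B ⧸ (maximalIdeal V).map (algebraMap V B))) (hM : M.IsMaximal) :
    ∃ m : ℕ, M.height = m ∧ Algebra.trdeg V B = m := by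
  classical
  revert M
  set I := (maximalIdeal V).map (algebraMap V B) with hI
  intro M hM
  have hsurj : Function.Surjective (Ideal.Quotient.mk I) := Ideal.Quotient.mk_surjective
  have h1 : Algebra.FiniteType V (B ⧸ I) :=
    Algebra.FiniteType.of_surjective (Ideal.Quotient.mkₐ V I) (Ideal.Quotient.mkₐ_surjective V I)
  have h2 : Algebra.FiniteType (V ⧸ maximalIdeal V) (B ⧸ I) :=
    Algebra.FiniteType.of_restrictScalars_finiteType V _ _
  let _ : Field (V ⧸ maximalIdeal V) := Ideal.Quotient.field _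
  have h3 : IsNoetherianRing (B ⧸ I) := Algebra.FiniteType.isNoetherianRing (V ⧸ maximalIdeal V) _
  set Q := M.comap (Ideal.Quotient.mk I) with hQdef
  have hQmax : Q.IsMaximal := Ideal.comap_isMaximal_of_surjective _ hsurj
  have hIQ : I ≤ Q := fun x hx => by
    rw [hQdef, Ideal.mem_comap, Ideal.Quotient.eq_zero_iff_mem.mpr hx]; exact M.zero_mem
  have hQ : Q.comap (algebraMap V B) = maximalIdeal V :=
    ((IsLocalRing.maximalIdeal.isMaximal V).eq_of_le
      (Ideal.comap_ne_top _ hQmax.ne_top) (Ideal.map_le_iff_le_comap.mp hIQ)).symm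
  have hQM : Q.map (Ideal.Quotient.mk I) = M := Ideal.map_comap_of_surjective _ hsurj M
  have hex := exists_iso Q hQ
  obtain ⟨t, ht⟩ := Nat.find_spec hex
  have hmin : ∀ m' < Nat.find hex, ¬ ∃ t : Fin m' → B, Iso (R := V) Q t :=
    fun m' h => Nat.find_min hex h
  generalize Nat.find hex = m at t ht hmin
  refine ⟨m, ?_, trdeg_eq_of_minimal hinj Q hQ t ht hmin⟩
  rw [← hQM]
  have hle := height_le_of_iso Q t ht hIQ
  refine le_antisymm hle ?_
  have hfin : (Q.map (Ideal.Quotient.mk I)).height ≠ ⊤ :=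
    ne_top_of_le_ne_top (ENat.natCast_ne_top m) hle
  obtain ⟨h, hh⟩ := ENat.ne_top_iff_exists.mp hfin
  obtain ⟨t', ht'⟩ := exists_iso_of_height Q hIQ hh.symm
  by_contra hlt
  rw [not_le, ← hh] at hlt
  have hlt' : h < m := by exact_mod_cast hlt
  exact hmin h hlt' ⟨t', ht'⟩

/-- If `Q` is the generic point of an irreducible component of the special fibre of the finite
type `V`-domain `B`, then `dim B/Q = trdeg_V B`. -/
theorem exists_trdeg_eq_dim_of_fibreMinimal (hinj : Function.Injective (algebraMap V B))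
    (Q : Ideal B) [Q.IsPrime] (hIQ : (maximalIdeal V).map (algebraMap V B) ≤ Q)
    (hmin : ∀ Q' : Ideal B, Q'.IsPrime → (maximalIdeal V).map (algebraMap V B) ≤ Q' → Q' ≤ Q →
      Q' = Q) :
    ∃ n : ℕ, Algebra.trdeg V B = n ∧ ringKrullDim (B ⧸ Q) = n := by
  classical
  set I := (maximalIdeal V).map (algebraMap V B) with hI
  have hsurj : Function.Surjective (Ideal.Quotient.mk I) := Ideal.Quotient.mk_surjective
  have hnt : Nontrivial (B ⧸ I) :=
    Ideal.Quotient.nontrivial_iff.mpr (ne_top_of_le_ne_top (Ideal.IsPrime.ne_top ‹_›) hIQ)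
  have h1 : Algebra.FiniteType V (B ⧸ I) :=
    Algebra.FiniteType.of_surjective (Ideal.Quotient.mkₐ V I) (Ideal.Quotient.mkₐ_surjective V I)
  have h2 : Algebra.FiniteType (V ⧸ maximalIdeal V) (B ⧸ I) :=
    Algebra.FiniteType.of_restrictScalars_finiteType V _ _
  let _ : Field (V ⧸ maximalIdeal V) := Ideal.Quotient.field _
  obtain ⟨M₀, hM₀⟩ := Ideal.exists_maximal (B ⧸ I)
  obtain ⟨n, hn1, hn2⟩ := height_eq_trdeg_of_isMaximal hinj M₀ hM₀
  have hall : ∀ M : Ideal (B ⧸ I), M.IsMaximal → M.height = n := by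
    intro M hM
    obtain ⟨m, hm1, hm2⟩ := height_eq_trdeg_of_isMaximal hinj M hM
    have h4 : (m : Cardinal) = n := hm2.symm.trans hn2
    have h5 : m = n := by exact_mod_cast h4
    rw [hm1, h5]
  refine ⟨n, hn2, ?_⟩
  have hcm : (Q.map (Ideal.Quotient.mk I)).comap (Ideal.Quotient.mk I) = Q := by
    rw [Ideal.comap_map_of_surjective _ hsurj, ← RingHom.ker_eq_comap_bot, Ideal.mk_ker]
    exact sup_eq_left.mpr hIQ
  have hQbprime : (Q.map (Ideal.Quotient.mk I)).IsPrime :=
    Ideal.map_isPrime_of_surjective hsurj (by rwa [Ideal.mk_ker])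
  have hQb : Q.map (Ideal.Quotient.mk I) ∈ minimalPrimes (B ⧸ I) := by
    refine ⟨⟨hQbprime, bot_le⟩, ?_⟩
    rintro P' ⟨hP', -⟩ hP'Q
    have hQ' : P'.comap (Ideal.Quotient.mk I) = Q := by
      refine hmin _ (Ideal.comap_isPrime _ _) ?_ ?_
      · intro x hx
        rw [Ideal.mem_comap, Ideal.Quotient.eq_zero_iff_mem.mpr hx]; exact P'.zero_mem
      · rw [← hcm]; exact Ideal.comap_mono hP'Q
    rw [← hQ', Ideal.map_comap_of_surjective _ hsurj]
  have h5 := ringKrullDim_quotient_minimalPrime (k := V ⧸ maximalIdeal V) n hall _ hQb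
  rw [← h5]
  exact (ringKrullDim_eq_of_ringEquiv (DoubleQuot.quotQuotEquivQuotOfLE hIQ)).symm

end

end Groth.Agent.H68.SF
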