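import Groth.Agent.H68.SpecFibGen

/-!
# Generizations of generic points of fibre components over a valuation ring (ring version)
-/

set_option autoImplicit false

open IsLocalRing TensorProduct

namespace Groth.Agent.H68.SF

universe u

/-- Version for an arbitrary finite type algebra `B` over the valuation ring `V`: for primes
`q ≤ Q` of `B` with `Q` the generic point of a component of the special fibre,
`dim B/Q = trdeg_{V/p'} B/q` where `p' = q ∩ V`. -/
theorem exists_trdeg_quotient_eq_dim {V B : Type u} [CommRing V] [IsDomain V] [ValuationRing V]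
    [CommRing B] [Algebra V B] [Algebra.FiniteType V B]
    (p' : Ideal V) [p'.IsPrime] (q : Ideal B) [q.IsPrime] [q.LiesOver p'] (Q : Ideal B) [Q.IsPrime]
    (hqQ : q ≤ Q) (hIQ : (maximalIdeal V).map (algebraMap V B) ≤ Q)
    (hmin : ∀ Q' : Ideal B, Q'.IsPrime → (maximalIdeal V).map (algebraMap V B) ≤ Q' → Q' ≤ Q →
      Q' = Q) :
    ∃ n : ℕ, Algebra.trdeg (V ⧸ p') (B ⧸ q) = n ∧ ringKrullDim (B ⧸ Q) = n := by
  classical
  have hdomV : IsDomain (V ⧸ p') := Ideal.Quotient.isDomain p'
  have hdomB : IsDomain (B ⧸ q) := Ideal.Quotient.isDomain q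
  have hval : ValuationRing (V ⧸ p') :=
    Function.Surjective.valuationRing (Ideal.Quotient.mk p') Ideal.Quotient.mk_surjective
  have hFT1 : Algebra.FiniteType V (B ⧸ q) :=
    Algebra.FiniteType.of_surjective (Ideal.Quotient.mkₐ V q) (Ideal.Quotient.mkₐ_surjective V q)
  have hFT : Algebra.FiniteType (V ⧸ p') (B ⧸ q) :=
    Algebra.FiniteType.of_restrictScalars_finiteType V (V ⧸ p') (B ⧸ q)
  have hinj : Function.Injective (algebraMap (V ⧸ p') (B ⧸ q)) :=
    FaithfulSMul.algebraMap_injective _ _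
  have hmkA : ∀ a : V, algebraMap (V ⧸ p') (B ⧸ q) (Ideal.Quotient.mk p' a) =
      Ideal.Quotient.mk q (algebraMap V B a) := fun _ => rfl
  have hsurj : Function.Surjective (Ideal.Quotient.mk q) := Ideal.Quotient.mk_surjective
  have hQ₁mem : ∀ b : B, Ideal.Quotient.mk q b ∈ Q.map (Ideal.Quotient.mk q) ↔ b ∈ Q :=
    fun b => Ideal.mem_quotient_iff_mem hqQ
  have hQ₁prime : (Q.map (Ideal.Quotient.mk q)).IsPrime :=
    Ideal.map_isPrime_of_surjective hsurj (by rw [Ideal.mk_ker]; exact hqQ)
  have hmax_mem : ∀ a : V, Ideal.Quotient.mk p' a ∈ maximalIdeal (V ⧸ p') → a ∈ maximalIdeal V := by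
    intro a ha
    rw [mem_maximalIdeal, mem_nonunits_iff] at ha ⊢
    exact fun hu => ha (hu.map _)
  have hI₁ : ∀ Q₁' : Ideal (B ⧸ q), (maximalIdeal (V ⧸ p')).map (algebraMap (V ⧸ p') (B ⧸ q)) ≤ Q₁' →
      (maximalIdeal V).map (algebraMap V B) ≤ Q₁'.comap (Ideal.Quotient.mk q) := by
    intro Q₁' h
    rw [Ideal.map_le_iff_le_comap]
    intro a ha
    rw [Ideal.mem_comap, Ideal.mem_comap, ← hmkA]
    refine h (Ideal.mem_map_of_mem _ ?_)
    rw [mem_maximalIdeal, mem_nonunits_iff] at ha ⊢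
    intro hu
    -- a unit modulo p' in a local ring is a unit
    apply ha
    obtain ⟨b, hb⟩ := Ideal.Quotient.mk_surjective (hu.unit⁻¹ : (V ⧸ p')ˣ).1
    have h1 : Ideal.Quotient.mk p' (a * b) = 1 := by
      rw [map_mul, hb]; exact hu.mul_val_inv
    have h2 : a * b - 1 ∈ p' := by
      rw [← Ideal.Quotient.eq_zero_iff_mem, map_sub, h1, map_one, sub_self]
    have h3 : a * b - 1 ∈ maximalIdeal V := le_maximalIdeal (Ideal.IsPrime.ne_top ‹_›) h2
    by_contra hna
    have h4 : a * b ∈ maximalIdeal V := Ideal.mul_mem_right _ _ ((mem_maximalIdeal a).mpr hna)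
    have h5 : (1 : V) ∈ maximalIdeal V := by
      have := (maximalIdeal V).sub_mem h4 h3
      rwa [sub_sub_cancel] at this
    exact (Ideal.IsPrime.ne_top inferInstance) ((Ideal.eq_top_iff_one _).mpr h5)
  have hIQ₁ : (maximalIdeal (V ⧸ p')).map (algebraMap (V ⧸ p') (B ⧸ q)) ≤
      Q.map (Ideal.Quotient.mk q) := by
    rw [Ideal.map_le_iff_le_comap]
    intro x hx
    obtain ⟨a, rfl⟩ := Ideal.Quotient.mk_surjective x
    rw [Ideal.mem_comap, hmkA, hQ₁mem]
    exact hIQ (Ideal.mem_map_of_mem _ (hmax_mem a hx))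
  have hmin₁ : ∀ Q₁' : Ideal (B ⧸ q), Q₁'.IsPrime →
      (maximalIdeal (V ⧸ p')).map (algebraMap (V ⧸ p') (B ⧸ q)) ≤ Q₁' →
      Q₁' ≤ Q.map (Ideal.Quotient.mk q) → Q₁' = Q.map (Ideal.Quotient.mk q) := by
    intro Q₁' hprime hI hle
    have h1 : Q₁'.comap (Ideal.Quotient.mk q) = Q := by
      refine hmin _ (Ideal.comap_isPrime _ _) (hI₁ Q₁' hI) ?_
      intro b hb
      exact (hQ₁mem b).mp (hle hb)
    rw [← Ideal.map_comap_of_surjective _ hsurj Q₁', h1]
  obtain ⟨n, hn1, hn2⟩ := exists_trdeg_eq_dim_of_fibreMinimal hinj (Q.map (Ideal.Quotient.mk q))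
    hIQ₁ hmin₁
  refine ⟨n, hn1, ?_⟩
  rw [← hn2]
  exact (ringKrullDim_eq_of_ringEquiv (DoubleQuot.quotQuotEquivQuotOfLE hqQ)).symm


open Cardinal in
/-- The transcendence degree strictly drops under a surjection of domains with nonzero kernel
(when finite). -/
theorem injective_of_trdeg_eq {R₁ S T : Type u} [CommRing R₁] [IsDomain R₁] [CommRing S]
    [IsDomain S] [CommRing T] [IsDomain T] [Algebra R₁ S] [Algebra R₁ T]
    (hinjT : Function.Injective (algebraMap R₁ T)) (π : S →ₐ[R₁] T) (hπ : Function.Surjective π)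
    (n : ℕ) (hS : Algebra.trdeg R₁ S = n) (hT : Algebra.trdeg R₁ T = n) :
    Function.Injective π := by
  classical
  have : FaithfulSMul R₁ T := (faithfulSMul_iff_algebraMap_injective R₁ T).mpr hinjT
  obtain ⟨s, hs⟩ := exists_isTranscendenceBasis R₁ T
  have hcard : #s = n := hs.cardinalMk_eq_trdeg.trans hT
  choose lift hlift using hπ
  let x : s → S := fun i => lift i.1
  have hπx : π ∘ x = ((↑) : s → T) := by
    ext i; exact hlift i.1
  have hxind : AlgebraicIndependent R₁ x := AlgebraicIndependent.of_comp π (by rw [hπx]; exact hs.1)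
  have hxbasis : IsTranscendenceBasis R₁ x :=
    hxind.isTranscendenceBasis_of_trdeg_le (by rw [hS]; exact natCast_lt_aleph0)
      (by rw [hS, hcard])
  have halg : Algebra.IsAlgebraic (Algebra.adjoin R₁ (Set.range x)) S := hxbasis.isAlgebraic
  rw [injective_iff_map_eq_zero]
  intro s₀ hs₀
  by_contra hne
  obtain ⟨c, hc0, hdvd⟩ := (halg.isAlgebraic s₀).exists_nonzero_dvd
    (mem_nonZeroDivisors_of_ne_zero hne)
  obtain ⟨c, hc⟩ := c
  rw [Algebra.adjoin_range_eq_range_aeval] at hc
  obtain ⟨F, rfl⟩ := hc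
  have hF0 : F ≠ 0 := by
    rintro rfl
    apply hc0
    ext
    simp
  obtain ⟨w, hw⟩ := hdvd
  have h1 : π (MvPolynomial.aeval x F) = 0 := by
    have : (MvPolynomial.aeval x F : S) = s₀ * w := hw
    rw [this, map_mul, hs₀, zero_mul]
  have h2 : MvPolynomial.aeval ((↑) : s → T) F = 0 := by
    rw [← hπx, ← h1]
    exact (MvPolynomial.comp_aeval_apply x π F).symm
  exact hF0 (hs.1.eq_zero_of_aeval_eq_zero F h2)

/-- Local case: `V` a valuation ring, `B` of finite type, `q₁ ≤ q₂ ≤ Q` primes with `q₁, q₂` over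
the same prime of `V` and `Q` the generic point of a component of the special fibre. Then
`q₁ = q₂`. -/
theorem eq_of_fibreMinimal_local {V B : Type u} [CommRing V] [IsDomain V] [ValuationRing V]
    [CommRing B] [Algebra V B] [Algebra.FiniteType V B]
    (p' : Ideal V) [p'.IsPrime] (q₁ q₂ Q : Ideal B) [q₁.IsPrime] [q₂.IsPrime] [Q.IsPrime]
    [q₁.LiesOver p'] [q₂.LiesOver p'] (h12 : q₁ ≤ q₂) (h2Q : q₂ ≤ Q)
    (hIQ : (maximalIdeal V).map (algebraMap V B) ≤ Q)
    (hmin : ∀ Q' : Ideal B, Q'.IsPrime → (maximalIdeal V).map (algebraMap V B) ≤ Q' → Q' ≤ Q →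
      Q' = Q) :
    q₁ = q₂ := by
  obtain ⟨n₁, hn₁, hd₁⟩ := exists_trdeg_quotient_eq_dim p' q₁ Q (h12.trans h2Q) hIQ hmin
  obtain ⟨n₂, hn₂, hd₂⟩ := exists_trdeg_quotient_eq_dim p' q₂ Q h2Q hIQ hmin
  have hn : n₁ = n₂ := by
    have : (n₁ : WithBot ℕ∞) = n₂ := hd₁.symm.trans hd₂
    exact_mod_cast this
  subst hn
  have hdomV : IsDomain (V ⧸ p') := Ideal.Quotient.isDomain p'
  have hdom1 : IsDomain (B ⧸ q₁) := Ideal.Quotient.isDomain q₁
  have hdom2 : IsDomain (B ⧸ q₂) := Ideal.Quotient.isDomain q₂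
  let π : (B ⧸ q₁) →ₐ[V ⧸ p'] (B ⧸ q₂) :=
    { toRingHom := Ideal.Quotient.factor h12
      commutes' := fun x => by
        obtain ⟨a, rfl⟩ := Ideal.Quotient.mk_surjective x
        rfl }
  have hπsurj : Function.Surjective π := Ideal.Quotient.factor_surjective h12
  have hinjT : Function.Injective (algebraMap (V ⧸ p') (B ⧸ q₂)) :=
    FaithfulSMul.algebraMap_injective _ _
  have hπinj := injective_of_trdeg_eq hinjT π hπsurj n₁ hn₁ hn₂
  refine le_antisymm h12 (fun b hb => ?_)
  have h1 : π (Ideal.Quotient.mk q₁ b) = 0 := by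
    change Ideal.Quotient.factor h12 (Ideal.Quotient.mk q₁ b) = 0
    rw [Ideal.Quotient.factor_mk, Ideal.Quotient.eq_zero_iff_mem]
    exact hb
  have h2 := hπinj (h1.trans (map_zero π).symm)
  exact Ideal.Quotient.eq_zero_iff_mem.mp h2

/-- A localization of a valuation ring is a valuation ring. -/
theorem valuationRing_of_isLocalization {R : Type*} [CommRing R] [IsDomain R] [ValuationRing R]
    (M : Submonoid R) (S : Type*) [CommRing S] [IsDomain S] [Algebra R S] [IsLocalization M S] :
    ValuationRing S := by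
  suffices h : PreValuationRing S from { toPreValuationRing := h }
  refine ⟨fun a b => ?_⟩
  obtain ⟨r, s, rfl⟩ := IsLocalization.exists_mk'_eq M a
  obtain ⟨r', s', rfl⟩ := IsLocalization.exists_mk'_eq M b
  obtain ⟨c, hc | hc⟩ := ValuationRing.cond r r'
  · refine ⟨IsLocalization.mk' S (c * s) s', Or.inl ?_⟩
    rw [← IsLocalization.mk'_mul, IsLocalization.mk'_eq_iff_eq]
    congr 1
    rw [← hc]
    simp only [Submonoid.coe_mul]
    ring
  · refine ⟨IsLocalization.mk' S (c * s') s, Or.inr ?_⟩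
    rw [← IsLocalization.mk'_mul, IsLocalization.mk'_eq_iff_eq]
    congr 1
    rw [← hc]
    simp only [Submonoid.coe_mul]
    ring

attribute [local instance] Algebra.TensorProduct.rightAlgebra in
/-- `R` a valuation ring, `B` of finite type, `q₁ ≤ q₂ ≤ Q` primes of `B` with `q₁, q₂` over the
same prime of `R` and `Q` a minimal element of its fibre. Then `q₁ = q₂`. -/
theorem eq_of_fibreMinimal {R B : Type u} [CommRing R] [IsDomain R] [ValuationRing R]
    [CommRing B] [Algebra R B] [Algebra.FiniteType R B]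
    (q₁ q₂ Q : Ideal B) [q₁.IsPrime] [q₂.IsPrime] [Q.IsPrime]
    (h12 : q₁ ≤ q₂) (h2Q : q₂ ≤ Q)
    (hcomap : q₁.comap (algebraMap R B) = q₂.comap (algebraMap R B))
    (hmin : ∀ Q' : Ideal B, Q'.IsPrime → Q' ≤ Q →
      Q'.comap (algebraMap R B) = Q.comap (algebraMap R B) → Q' = Q) :
    q₁ = q₂ := by
  classical
  set p : Ideal R := Q.comap (algebraMap R B) with hp
  have hpprime : p.IsPrime := Ideal.comap_isPrime _ _
  let V := Localization.AtPrime p
  have hdomV : IsDomain V := IsLocalization.isDomain_localization p.primeCompl_le_nonZeroDivisors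
  have hvalV : ValuationRing V := valuationRing_of_isLocalization p.primeCompl V
  let B' := V ⊗[R] B
  let MB := Algebra.algebraMapSubmonoid B p.primeCompl
  have hloc : IsLocalization MB B' := IsLocalization.tensorRight _ p.primeCompl
  have hFT : Algebra.FiniteType V B' := inferInstance
  -- disjointness
  have hdisj : ∀ q : Ideal B, q ≤ Q → Disjoint (MB : Set B) (q : Set B) := by
    intro q hq
    rw [Set.disjoint_left]
    rintro _ ⟨r, hr, rfl⟩ hrq
    exact hr (hq hrq)
  have hunder : ∀ q : Ideal B, q.IsPrime → q ≤ Q → (q.map (algebraMap B B')).under B = q :=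
    fun q hqp hq => IsLocalization.under_map_of_isPrime_disjoint MB B' hqp (hdisj q hq)
  have hprime : ∀ q : Ideal B, q.IsPrime → q ≤ Q → (q.map (algebraMap B B')).IsPrime :=
    fun q hqp hq => IsLocalization.isPrime_of_isPrime_disjoint MB B' q hqp (hdisj q hq)
  have hunderV : ∀ q : Ideal B, q.IsPrime → q ≤ Q →
      (q.map (algebraMap B B')).under V = (q.under R).map (algebraMap R V) := by
    intro q hqp hq
    rw [← IsLocalization.map_under p.primeCompl V ((q.map (algebraMap B B')).under V),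
      Ideal.under_under, ← Ideal.under_under (B := B), hunder q hqp hq]
  have hq₁ := hprime q₁ inferInstance (h12.trans h2Q)
  have hq₂ := hprime q₂ inferInstance h2Q
  have hQ' := hprime Q inferInstance le_rfl
  have hlies₂ : (q₂.map (algebraMap B B')).LiesOver ((q₁.map (algebraMap B B')).under V) := by
    refine ⟨?_⟩
    rw [hunderV q₁ inferInstance (h12.trans h2Q), hunderV q₂ inferInstance h2Q]
    congr 1
  have hpB : p.map (algebraMap R B) ≤ Q := Ideal.map_le_iff_le_comap.mpr le_rfl
  have hmV : (maximalIdeal V).map (algebraMap V B') = (p.map (algebraMap R B)).map (algebraMap B B') := by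
    rw [← Localization.AtPrime.map_eq_maximalIdeal, Ideal.map_map, Ideal.map_map,
      ← IsScalarTower.algebraMap_eq, ← IsScalarTower.algebraMap_eq]
  have hIQ : (maximalIdeal V).map (algebraMap V B') ≤ Q.map (algebraMap B B') := by
    rw [hmV]; exact Ideal.map_mono hpB
  have hmin' : ∀ Q'' : Ideal B', Q''.IsPrime → (maximalIdeal V).map (algebraMap V B') ≤ Q'' →
      Q'' ≤ Q.map (algebraMap B B') → Q'' = Q.map (algebraMap B B') := by
    intro Q'' hQ''prime hI hle
    have h1 : Q''.under B ≤ Q := by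
      rw [← hunder Q inferInstance le_rfl]; exact Ideal.comap_mono hle
    have h2 : Q''.under B = Q := by
      refine hmin _ (Ideal.comap_isPrime _ _) h1 (le_antisymm (Ideal.comap_mono h1) ?_)
      intro r hr
      have h3 : algebraMap B B' (algebraMap R B r) ∈ Q'' := by
        apply hI
        rw [hmV]
        exact Ideal.mem_map_of_mem _ (Ideal.mem_map_of_mem _ hr)
      exact h3
    rw [← IsLocalization.map_under MB B' Q'', h2]
  have := eq_of_fibreMinimal_local ((q₁.map (algebraMap B B')).under V)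
    (q₁.map (algebraMap B B')) (q₂.map (algebraMap B B')) (Q.map (algebraMap B B'))
    (Ideal.map_mono h12) (Ideal.map_mono h2Q) hIQ hmin'
  rw [← hunder q₁ inferInstance (h12.trans h2Q), ← hunder q₂ inferInstance h2Q, this]

end Groth.Agent.H68.SF
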