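import Groth.Agent.H68.SpecFibPoly

/-!
# Isolated points of fibres over affine spaces: reduction of the number of parameters
-/

set_option autoImplicit false

open MvPolynomial IsLocalRing

namespace Groth.Agent.H68.SF

variable {R B : Type*} [CommRing R] [IsLocalRing R] [CommRing B] [Algebra R B]

/-- `Q` is isolated in the closed set `V(𝔪_R B + (t))` (and contains it). -/
def Iso (Q : Ideal B) {m : ℕ} (t : Fin m → B) : Prop :=
  (∀ i, t i ∈ Q) ∧ ∃ r, r ∉ Q ∧ ∀ Q' : Ideal B, Q'.IsPrime →
    (maximalIdeal R).map (algebraMap R B) ≤ Q' → (∀ i, t i ∈ Q') → r ∉ Q' → Q' = Q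

omit [IsLocalRing R] in
private lemma hom_aeval_eq {D : Type*} [CommRing D] (ρ : B →+* D) {m : ℕ} (t : Fin (m + 1) → B)
    (e : Fin (m + 1) → ℕ) (h : ∀ i, ρ (t i) = ρ (t 0) ^ e i) (F : MvPolynomial (Fin (m + 1)) R) :
    ρ (Polynomial.aeval (t 0) (MvPolynomial.aeval (fun i => (Polynomial.X : Polynomial R) ^ e i) F))
      = ρ (MvPolynomial.aeval t F) := by
  have : (ρ.comp (Polynomial.aeval (R := R) (t 0)).toRingHom).comp
      (MvPolynomial.aeval (fun i => (Polynomial.X : Polynomial R) ^ e i)).toRingHom =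
      ρ.comp (MvPolynomial.aeval (R := R) t).toRingHom := by
    apply MvPolynomial.ringHom_ext
    · intro a; simp
    · intro i; simp [h i]
  exact RingHom.congr_fun this F

private lemma aeval_mem_of_map_eq_zero (b : B) (p : Polynomial R)
    (hp : p.map (residue R) = 0) :
    Polynomial.aeval b p ∈ (maximalIdeal R).map (algebraMap R B) := by
  rw [Polynomial.aeval_eq_sum_range]
  refine Ideal.sum_mem _ fun i _ => ?_
  rw [Algebra.smul_def]
  refine Ideal.mul_mem_right _ _ (Ideal.mem_map_of_mem _ ?_)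
  have := congrArg (fun q => Polynomial.coeff q i) hp
  simp only [Polynomial.coeff_map, Polynomial.coeff_zero] at this
  exact (residue_eq_zero_iff _).mp this

omit [IsLocalRing R] in
private lemma map_aeval_X_pow {S : Type*} [CommRing S] (φ : R →+* S) {m : ℕ}
    (e : Fin (m + 1) → ℕ) (F : MvPolynomial (Fin (m + 1)) R) :
    (MvPolynomial.aeval (fun i => (Polynomial.X : Polynomial R) ^ e i) F).map φ =
      MvPolynomial.aeval (fun i => (Polynomial.X : Polynomial S) ^ e i) (MvPolynomial.map φ F) := by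
  have : (Polynomial.mapRingHom φ).comp
      (MvPolynomial.aeval (fun i => (Polynomial.X : Polynomial R) ^ e i)).toRingHom =
      ((MvPolynomial.aeval (fun i => (Polynomial.X : Polynomial S) ^ e i)).toRingHom).comp
        (MvPolynomial.map φ) := by
    apply MvPolynomial.ringHom_ext
    · intro a; simp
    · intro i; simp
  exact RingHom.congr_fun this F

theorem iso_reduce (Q : Ideal B) [Q.IsPrime]
    {m : ℕ} (t : Fin (m + 1) → B) (ht : Iso (R := R) Q t)
    (F : MvPolynomial (Fin (m + 1)) R) (hF : MvPolynomial.map (residue R) F ≠ 0)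
    (hFt : MvPolynomial.aeval t F = 0) :
    ∃ t' : Fin m → B, Iso (R := R) Q t' := by
  obtain ⟨htQ, r, hrQ, hr⟩ := ht
  obtain ⟨e, he0, hepos, hG⟩ := exists_exponents (MvPolynomial.map (residue R) F) hF
  set E : Polynomial R := MvPolynomial.aeval (fun i => (Polynomial.X : Polynomial R) ^ e i) F with hE
  have hEG : E.map (residue R) = MvPolynomial.aeval
      (fun i => (Polynomial.X : Polynomial (ResidueField R)) ^ e i)
      (MvPolynomial.map (residue R) F) := map_aeval_X_pow _ e F
  rw [← hEG] at hG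
  obtain ⟨G₁, hG₁, hG₁X⟩ := Polynomial.exists_eq_pow_rootMultiplicity_mul_and_not_dvd
    (E.map (residue R)) hG 0
  set k := Polynomial.rootMultiplicity 0 (E.map (residue R)) with hk
  rw [Polynomial.C_0, sub_zero] at hG₁ hG₁X
  have hG₁0 : G₁.coeff 0 ≠ 0 := fun h => hG₁X (Polynomial.X_dvd_iff.mpr h)
  obtain ⟨E₁, hE₁⟩ := Polynomial.map_surjective (residue R) residue_surjective G₁
  set r₁ : B := Polynomial.aeval (t 0) E₁ with hr₁
  -- `r₁ ∉ Q`
  have hr₁Q : r₁ ∉ Q := by
    intro hmem
    obtain ⟨s, hs⟩ := Polynomial.X_dvd_sub_C (p := E₁)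
    have h1 : r₁ = algebraMap R B (E₁.coeff 0) + t 0 * Polynomial.aeval (t 0) s := by
      have := congrArg (Polynomial.aeval (t 0)) hs
      rw [map_sub, map_mul, Polynomial.aeval_X, Polynomial.aeval_C] at this
      rw [hr₁, ← this]; ring
    have h2 : algebraMap R B (E₁.coeff 0) ∈ Q := by
      have h3 : t 0 * Polynomial.aeval (t 0) s ∈ Q := Ideal.mul_mem_right _ _ (htQ 0)
      have := Q.sub_mem hmem h3
      rwa [h1, add_sub_cancel_right] at this
    have hunit : IsUnit (E₁.coeff 0) := by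
      by_contra hnu
      have : residue R (E₁.coeff 0) = 0 := (residue_eq_zero_iff _).mpr
        ((mem_maximalIdeal _).mpr hnu)
      apply hG₁0
      rw [← hE₁, Polynomial.coeff_map, this]
    exact (Ideal.IsPrime.ne_top ‹_›) (Ideal.eq_top_of_isUnit_mem _ h2 (hunit.map _))
  -- the key membership
  have hkey : t 0 ^ k * r₁ - Polynomial.aeval (t 0) E ∈
      (maximalIdeal R).map (algebraMap R B) := by
    have h0 : (Polynomial.X ^ k * E₁ - E).map (residue R) = 0 := by
      rw [Polynomial.map_sub, Polynomial.map_mul, Polynomial.map_pow, Polynomial.map_X, hE₁, ← hG₁,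
        sub_self]
    have := aeval_mem_of_map_eq_zero (t 0) _ h0
    rwa [map_sub, map_mul, map_pow, Polynomial.aeval_X] at this
  refine ⟨fun j => t j.succ - t 0 ^ e j.succ, fun j => ?_, r * r₁, ?_, ?_⟩
  · exact Q.sub_mem (htQ _) (Ideal.pow_mem_of_mem _ (htQ 0) _ (hepos _))
  · exact fun h => (Ideal.IsPrime.mem_or_mem ‹_› h).elim hrQ hr₁Q
  · intro Q' hQ' hmQ' htQ' hrr
    have hrQ' : r ∉ Q' := fun h => hrr (Ideal.mul_mem_right _ _ h)
    have hr₁Q' : r₁ ∉ Q' := fun h => hrr (Ideal.mul_mem_left _ _ h)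
    -- `aeval (t 0) E ∈ Q'`
    have hρ : ∀ i, Ideal.Quotient.mk Q' (t i) = Ideal.Quotient.mk Q' (t 0) ^ e i := by
      intro i
      refine Fin.cases ?_ (fun j => ?_) i
      · rw [he0, pow_one]
      · have := htQ' j
        rw [← map_pow, Ideal.Quotient.eq]
        exact this
    have hEQ' : Polynomial.aeval (t 0) E ∈ Q' := by
      rw [← Ideal.Quotient.eq_zero_iff_mem, hE, hom_aeval_eq (Ideal.Quotient.mk Q') t e hρ F, hFt,
        map_zero]
    have h2 : t 0 ^ k * r₁ ∈ Q' := by
      have := Q'.add_mem (hmQ' hkey) hEQ'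
      rwa [sub_add_cancel] at this
    have ht0 : t 0 ∈ Q' := by
      rcases hQ'.mem_or_mem h2 with h | h
      · exact hQ'.mem_of_pow_mem _ h
      · exact absurd h hr₁Q'
    refine hr Q' hQ' hmQ' (fun i => ?_) hrQ'
    refine Fin.cases ht0 (fun j => ?_) i
    have := Q'.add_mem (htQ' j) (Ideal.pow_mem_of_mem _ ht0 _ (hepos j.succ))
    rwa [sub_add_cancel] at this

end Groth.Agent.H68.SF
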