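import Mathlib

/-!
# Polynomial lemmas for the specialization/fibre density theorem

* `SF.exists_exponents`: a nonzero polynomial in `m+1` variables stays nonzero after a substitution
  `T_i ↦ Y ^ e i` with `e 0 = 1` and all `e i > 0`.
* `SF.exists_unit_coeff_factor`: over a valuation ring every nonzero polynomial is a nonzero constant
  times a polynomial with a unit coefficient.
-/

set_option autoImplicit false

open MvPolynomial

namespace Groth.Agent.H68.SF

section Exponents

variable {k : Type*} [CommRing k] {m : ℕ}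

private lemma digits_inj (N : ℕ) (hN : 1 < N) (v w : Fin (m + 1) → ℕ) (vlt : ∀ i, v i < N)
    (wlt : ∀ i, w i < N)
    (h : ∑ x : Fin (m + 1), N ^ (x : ℕ) * v x = ∑ x : Fin (m + 1), N ^ (x : ℕ) * w x) : v = w := by
  refine List.ofFn_inj.mp ?_
  apply Nat.ofDigits_inj_of_len_eq hN (by simp)
    (by intro l hl; obtain ⟨i, rfl⟩ := (List.mem_ofFn' _ _).mp hl; exact vlt i)
    (by intro l hl; obtain ⟨i, rfl⟩ := (List.mem_ofFn' _ _).mp hl; exact wlt i)
  simp only [Nat.ofDigits_eq_sum_mapIdx, List.mapIdx_eq_ofFn, List.get_ofFn, List.length_ofFn,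
    Fin.val_cast, List.sum_ofFn]
  have key : ∀ (u : Fin (m + 1) → ℕ) (n' : ℕ) (h1 : n' = m + 1) (h2 : m + 1 = n') (x : Fin (m + 1)),
      u (Fin.cast h1 (Fin.cast h2 x)) = u x := by intros; rfl
  simp only [key]
  simpa only [mul_comm] using h

theorem exists_exponents (F : MvPolynomial (Fin (m + 1)) k) (hF : F ≠ 0) :
    ∃ e : Fin (m + 1) → ℕ, e 0 = 1 ∧ (∀ i, 0 < e i) ∧
      MvPolynomial.aeval (fun i => (Polynomial.X : Polynomial k) ^ e i) F ≠ 0 := by
  classical
  set N := F.totalDegree + 2 with hN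
  refine ⟨fun i => N ^ (i : ℕ), by simp, fun i => pow_pos (by omega) _, ?_⟩
  obtain ⟨v₀, hv₀⟩ : ∃ v₀, v₀ ∈ F.support := by
    by_contra hcon
    exact hF (MvPolynomial.support_eq_empty.mp (Finset.eq_empty_of_forall_notMem
      (fun v hv => hcon ⟨v, hv⟩)))
  have hlt : ∀ v ∈ F.support, ∀ i, v i < N := fun v hv i =>
    lt_of_le_of_lt ((monomial_le_degreeOf i hv).trans (degreeOf_le_totalDegree F i)) (by omega)
  have hexp : MvPolynomial.aeval (fun i : Fin (m + 1) => (Polynomial.X : Polynomial k) ^ N ^ (i : ℕ)) F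
      = ∑ v ∈ F.support, Polynomial.C (coeff v F) *
          Polynomial.X ^ (∑ i : Fin (m + 1), N ^ (i : ℕ) * v i) := by
    rw [MvPolynomial.aeval_def, MvPolynomial.eval₂_eq']
    refine Finset.sum_congr rfl fun v _ => ?_
    congr 1
    rw [← Finset.prod_pow_eq_pow_sum]
    exact Finset.prod_congr rfl fun i _ => by rw [← pow_mul]
  intro h0
  have hc := congrArg (fun p => Polynomial.coeff p (∑ i : Fin (m + 1), N ^ (i : ℕ) * v₀ i)) h0
  simp only [hexp, Polynomial.finsetSum_coeff, Polynomial.coeff_C_mul, Polynomial.coeff_X_pow,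
    Polynomial.coeff_zero] at hc
  rw [Finset.sum_eq_single v₀] at hc
  · simp at hc
    exact (MvPolynomial.mem_support_iff.mp hv₀) hc
  · intro v hv hne
    rw [if_neg, mul_zero]
    intro heq
    exact hne (Finsupp.ext (congrFun (digits_inj N (by omega) v v₀ (hlt v hv) (hlt v₀ hv₀)
      heq.symm)))
  · intro h; exact absurd hv₀ h

end Exponents

section Content

variable {V : Type*} [CommRing V] [IsDomain V] [ValuationRing V]

private lemma exists_dvd_all {ι : Type*} (s : Finset ι) (hs : s.Nonempty) (f : ι → V) :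
    ∃ i ∈ s, ∀ j ∈ s, f i ∣ f j := by
  classical
  induction hs using Finset.Nonempty.cons_induction with
  | singleton a => exact ⟨a, by simp, by simp⟩
  | cons a s ha hs ih =>
    obtain ⟨i, his, hi⟩ := ih
    rcases ValuationRing.dvd_total (f a) (f i) with h | h
    · refine ⟨a, by simp, fun j hj => ?_⟩
      rcases Finset.mem_cons.mp hj with rfl | hj
      · exact dvd_rfl
      · exact h.trans (hi j hj)
    · refine ⟨i, by simp [his], fun j hj => ?_⟩
      rcases Finset.mem_cons.mp hj with rfl | hj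
      · exact h
      · exact hi j hj

theorem exists_unit_coeff_factor {σ : Type*} (F : MvPolynomial σ V) (hF : F ≠ 0) :
    ∃ (c : V) (F₁ : MvPolynomial σ V), c ≠ 0 ∧ F = C c * F₁ ∧ ∃ v, coeff v F₁ = 1 := by
  classical
  have hne : F.support.Nonempty := by
    rw [Finset.nonempty_iff_ne_empty]
    exact fun h => hF (MvPolynomial.support_eq_empty.mp h)
  obtain ⟨v₀, hv₀, hdiv⟩ := exists_dvd_all F.support hne (fun v => coeff v F)
  have hc0 : coeff v₀ F ≠ 0 := MvPolynomial.mem_support_iff.mp hv₀
  have hdiv' : ∀ v, coeff v₀ F ∣ coeff v F := by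
    intro v
    by_cases hv : v ∈ F.support
    · exact hdiv v hv
    · rw [MvPolynomial.notMem_support_iff.mp hv]; exact dvd_zero _
  choose d hd using hdiv'
  refine ⟨coeff v₀ F, ∑ v ∈ F.support, monomial v (d v), hc0, ?_, v₀, ?_⟩
  · ext w
    rw [MvPolynomial.coeff_C_mul, MvPolynomial.coeff_sum]
    simp only [MvPolynomial.coeff_monomial]
    rw [Finset.sum_ite_eq' F.support w]
    by_cases hw : w ∈ F.support
    · rw [if_pos hw]; exact hd w
    · rw [if_neg hw, mul_zero]; exact MvPolynomial.notMem_support_iff.mp hw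
  · rw [MvPolynomial.coeff_sum]
    simp only [MvPolynomial.coeff_monomial]
    rw [Finset.sum_ite_eq' F.support v₀, if_pos hv₀]
    have := hd v₀
    exact (mul_left_cancel₀ hc0 (by rw [← this, mul_one])).symm

end Content

end Groth.Agent.H68.SF
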