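import Groth.Agent.H68.SpecFibAlg

/-!
# Closed points of a fibre between two points: the scheme-theoretic statement
-/

set_option autoImplicit false

open AlgebraicGeometry CategoryTheory TopologicalSpace

namespace Groth.Agent.H68.SF

universe u

section Affine

variable {X : Scheme.{u}} {U : X.Opens} (hU : IsAffineOpen U)
include hU

theorem fromSpec_mem (𝔮 : Spec Γ(X, U)) : hU.fromSpec 𝔮 ∈ U := by
  have h : hU.fromSpec 𝔮 ∈ Set.range hU.fromSpec := Set.mem_range_self 𝔮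
  rw [hU.range_fromSpec] at h
  exact h

theorem primeIdealOf_fromSpec (𝔮 : Spec Γ(X, U)) :
    hU.primeIdealOf ⟨hU.fromSpec 𝔮, fromSpec_mem hU 𝔮⟩ = 𝔮 := by
  apply hU.fromSpec.isOpenEmbedding.injective
  exact hU.fromSpec_primeIdealOf _

theorem primeIdealOf_inj {y z : X} (hy : y ∈ U) (hz : z ∈ U)
    (h : hU.primeIdealOf ⟨y, hy⟩ = hU.primeIdealOf ⟨z, hz⟩) : y = z := by
  have := congrArg hU.fromSpec h
  rwa [hU.fromSpec_primeIdealOf, hU.fromSpec_primeIdealOf] at this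

theorem specializes_iff_le {y z : X} (hy : y ∈ U) (hz : z ∈ U) :
    y ⤳ z ↔ (hU.primeIdealOf ⟨y, hy⟩).asIdeal ≤ (hU.primeIdealOf ⟨z, hz⟩).asIdeal := by
  have h1 : (hU.primeIdealOf ⟨y, hy⟩).asIdeal ≤ (hU.primeIdealOf ⟨z, hz⟩).asIdeal ↔
      hU.primeIdealOf ⟨y, hy⟩ ⤳ hU.primeIdealOf ⟨z, hz⟩ :=
    (PrimeSpectrum.le_iff_specializes (hU.primeIdealOf ⟨y, hy⟩) (hU.primeIdealOf ⟨z, hz⟩))
  rw [h1]
  have hy' : hU.fromSpec (hU.primeIdealOf ⟨y, hy⟩) = y := hU.fromSpec_primeIdealOf ⟨y, hy⟩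
  have hz' : hU.fromSpec (hU.primeIdealOf ⟨z, hz⟩) = z := hU.fromSpec_primeIdealOf ⟨z, hz⟩
  have h2 := hU.fromSpec.isOpenEmbedding.isInducing.specializes_iff
    (x := hU.primeIdealOf ⟨y, hy⟩) (y := hU.primeIdealOf ⟨z, hz⟩)
  rw [hy', hz'] at h2
  exact h2

theorem mem_basicOpen_iff_notMem (b : Γ(X, U)) {y : X} (hy : y ∈ U) :
    y ∈ X.basicOpen b ↔ b ∉ (hU.primeIdealOf ⟨y, hy⟩).asIdeal := by
  have h1 : hU.fromSpec (hU.primeIdealOf ⟨y, hy⟩) = y := hU.fromSpec_primeIdealOf ⟨y, hy⟩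
  have h2 := hU.fromSpec_preimage_basicOpen b
  have h3 : y ∈ X.basicOpen b ↔ hU.primeIdealOf ⟨y, hy⟩ ∈ hU.fromSpec ⁻¹ᵁ X.basicOpen b := by
    change _ ↔ hU.fromSpec (hU.primeIdealOf ⟨y, hy⟩) ∈ X.basicOpen b
    rw [h1]
  rw [h3, h2]
  exact PrimeSpectrum.mem_basicOpen _ _

end Affine


theorem jacobsonSpace_fiber_set {X S : Scheme.{u}} (f : X ⟶ S) [LocallyOfFiniteType f] (s : S) :
    JacobsonSpace ↑(f ⁻¹' {s}) :=
  JacobsonSpace.of_isClosedEmbedding (f.fiberHomeo s).symm.isClosedEmbedding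

theorem exists_closed_point_between {X S : Scheme.{u}} (f : X ⟶ S) [LocallyOfFiniteType f]
    (x x' : X) (hsp : x ⤳ x') (hne : f x ≠ f x')
    (hcl : IsClosed (Subtype.val ⁻¹' {x'} : Set ↑(f ⁻¹' {f x'})))
    (V : Set X) (hV : IsOpen V) (hxV : x ∈ V) :
    ∃ x₁ ∈ V, f x₁ = f x ∧ IsClosed (Subtype.val ⁻¹' {x₁} : Set ↑(f ⁻¹' {f x})) ∧
      x ⤳ x₁ ∧ x₁ ⤳ x' := by
  -- affine charts
  obtain ⟨_, ⟨US, hUS : IsAffineOpen US, rfl⟩, hx'US, -⟩ :=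
    S.isBasis_affineOpens.exists_subset_of_mem_open (Set.mem_univ (f x')) isOpen_univ
  obtain ⟨_, ⟨U, hU : IsAffineOpen U, rfl⟩, hx'U, hUle⟩ :=
    X.isBasis_affineOpens.exists_subset_of_mem_open (show x' ∈ ((f ⁻¹ᵁ US : X.Opens) : Set X)
      from hx'US) (f ⁻¹ᵁ US).isOpen
  have e : U ≤ f ⁻¹ᵁ US := hUle
  have hxU : x ∈ U := hsp.mem_open U.isOpen hx'U
  obtain ⟨g, hgle, hxg⟩ := hU.exists_basicOpen_le (V := ⟨V, hV⟩ ⊓ U) ⟨x, ⟨hxV, hxU⟩⟩ hxU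
  -- algebra
  let A := Γ(S, US)
  let B := Γ(X, U)
  let φ : A →+* B := (f.appLE US U e).hom
  let algAB : Algebra A B := φ.toAlgebra
  have hFT : Algebra.FiniteType A B :=
    HasRingHomProperty.appLE (P := @LocallyOfFiniteType) f inferInstance ⟨US, hUS⟩ ⟨U, hU⟩ e
  have hcomap : ∀ (y : X) (hy : y ∈ U), (hU.primeIdealOf ⟨y, hy⟩).asIdeal.comap (algebraMap A B) =
      (hUS.primeIdealOf ⟨f y, e hy⟩).asIdeal := fun y hy =>
    congrArg PrimeSpectrum.asIdeal (IsAffineOpen.comap_primeIdealOf_appLE US hUS U hU e hy)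
  have hfeq : ∀ (y z : X) (hy : y ∈ U) (hz : z ∈ U),
      (hU.primeIdealOf ⟨y, hy⟩).asIdeal.comap (algebraMap A B) =
        (hU.primeIdealOf ⟨z, hz⟩).asIdeal.comap (algebraMap A B) ↔ f y = f z := by
    intro y z hy hz
    rw [hcomap y hy, hcomap z hz]
    constructor
    · intro h
      exact primeIdealOf_inj hUS (e hy) (e hz) (PrimeSpectrum.ext h)
    · intro h
      have : (⟨f y, e hy⟩ : US) = ⟨f z, e hz⟩ := Subtype.ext h
      rw [this]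
  let q : Ideal B := (hU.primeIdealOf ⟨x, hxU⟩).asIdeal
  let q' : Ideal B := (hU.primeIdealOf ⟨x', hx'U⟩).asIdeal
  have hqq' : q ≤ q' := (specializes_iff_le hU hxU hx'U).mp hsp
  have hneq : q.comap (algebraMap A B) ≠ q'.comap (algebraMap A B) :=
    fun h => hne ((hfeq x x' hxU hx'U).mp h)
  have hmax : ∀ q'' : Ideal B, q''.IsPrime → q' ≤ q'' →
      q''.comap (algebraMap A B) = q'.comap (algebraMap A B) → q'' = q' := by
    intro q'' hprime hle hco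
    let 𝔮 : Spec Γ(X, U) := ⟨q'', hprime⟩
    let x'' : X := hU.fromSpec 𝔮
    have hx''U : x'' ∈ U := fromSpec_mem hU 𝔮
    have hP : hU.primeIdealOf ⟨x'', hx''U⟩ = 𝔮 := primeIdealOf_fromSpec hU 𝔮
    have hPq : (hU.primeIdealOf ⟨x'', hx''U⟩).asIdeal = q'' := congrArg PrimeSpectrum.asIdeal hP
    have hsp' : x' ⤳ x'' := (specializes_iff_le hU hx'U hx''U).mpr (by rw [hPq]; exact hle)
    have hf'' : f x'' = f x' := (hfeq x'' x' hx''U hx'U).mp (by rw [hPq]; exact hco)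
    have hsp'' : (⟨x', rfl⟩ : ↑(f ⁻¹' {f x'})) ⤳ ⟨x'', hf''⟩ :=
      (subtype_specializes_iff _ _).mpr hsp'
    have hmem : (⟨x'', hf''⟩ : ↑(f ⁻¹' {f x'})) ∈ (Subtype.val ⁻¹' {x'} : Set ↑(f ⁻¹' {f x'})) :=
      hsp''.mem_closed hcl rfl
    have hxx : x'' = x' := hmem
    have : hU.primeIdealOf ⟨x'', hx''U⟩ = hU.primeIdealOf ⟨x', hx'U⟩ := by
      congr 1; exact Subtype.ext hxx
    rw [← hPq, this]
  have hgq : g ∉ q := (mem_basicOpen_iff_notMem hU g hxU).mp hxg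
  obtain ⟨q₁, hq₁prime, hqq₁, hq₁q', hq₁co, hgq₁, hq₁max⟩ :=
    exists_prime_between q q' hqq' hneq hmax g hgq
  let 𝔮₁ : Spec Γ(X, U) := ⟨q₁, hq₁prime⟩
  let x₁ : X := hU.fromSpec 𝔮₁
  have hx₁U : x₁ ∈ U := fromSpec_mem hU 𝔮₁
  have hP₁ : (hU.primeIdealOf ⟨x₁, hx₁U⟩).asIdeal = q₁ :=
    congrArg PrimeSpectrum.asIdeal (primeIdealOf_fromSpec hU 𝔮₁)
  have hfx₁ : f x₁ = f x := (hfeq x₁ x hx₁U hxU).mp (by rw [hP₁]; exact hq₁co)
  refine ⟨x₁, ?_, hfx₁, ?_, ?_, ?_⟩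
  · have : x₁ ∈ X.basicOpen g := (mem_basicOpen_iff_notMem hU g hx₁U).mpr (by rw [hP₁]; exact hgq₁)
    exact (hgle this).1
  · -- closedness in the fibre
    have hJ : JacobsonSpace ↑(f ⁻¹' {f x}) := jacobsonSpace_fiber_set f (f x)
    let ξ₁ : ↑(f ⁻¹' {f x}) := ⟨x₁, hfx₁⟩
    have hset : (Subtype.val ⁻¹' {x₁} : Set ↑(f ⁻¹' {f x})) = {ξ₁} := by
      ext ξ
      simp only [Set.mem_preimage, Set.mem_singleton_iff]
      exact ⟨fun h => Subtype.ext h, fun h => congrArg Subtype.val h⟩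
    rw [hset]
    apply isClosed_singleton_of_isLocallyClosed_singleton
    have hlc : ({ξ₁} : Set ↑(f ⁻¹' {f x})) = (Subtype.val ⁻¹' (U : Set X)) ∩ closure {ξ₁} := by
      ext ξ
      simp only [Set.mem_singleton_iff, Set.mem_inter_iff, Set.mem_preimage]
      constructor
      · rintro rfl
        exact ⟨hx₁U, subset_closure rfl⟩
      · rintro ⟨hξU, hξcl⟩
        have hsp₁ : ξ₁ ⤳ ξ := specializes_iff_mem_closure.mpr hξcl
        have hsp₁' : x₁ ⤳ ξ.1 := (subtype_specializes_iff _ _).mp hsp₁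
        have hle : q₁ ≤ (hU.primeIdealOf ⟨ξ.1, hξU⟩).asIdeal := by
          have := (specializes_iff_le hU hx₁U hξU).mp hsp₁'
          rwa [hP₁] at this
        have hfξ : f ξ.1 = f x := ξ.2
        have hco : (hU.primeIdealOf ⟨ξ.1, hξU⟩).asIdeal.comap (algebraMap A B) =
            q.comap (algebraMap A B) := (hfeq ξ.1 x hξU hxU).mpr hfξ
        have h3 := hq₁max _ (hU.primeIdealOf ⟨ξ.1, hξU⟩).isPrime hle hco
        have h4 : hU.primeIdealOf ⟨ξ.1, hξU⟩ = hU.primeIdealOf ⟨x₁, hx₁U⟩ :=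
          PrimeSpectrum.ext (h3.trans hP₁.symm)
        exact Subtype.ext (primeIdealOf_inj hU hξU hx₁U h4)
    rw [hlc]
    exact (U.isOpen.preimage continuous_subtype_val).isLocallyClosed.inter
      isClosed_closure.isLocallyClosed
  · exact (specializes_iff_le hU hxU hx₁U).mpr (by rw [hP₁]; exact hqq₁)
  · exact (specializes_iff_le hU hx₁U hx'U).mpr (by rw [hP₁]; exact hq₁q')

end Groth.Agent.H68.SF
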