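import Groth.Agent.H68.SpecFibIso

/-!
# Quasi-sections through closed points of the special fibre over a valuation ring
-/

set_option autoImplicit false

open MvPolynomial IsLocalRing

namespace Groth.Agent.H68.SF

universe u

theorem isIntegrallyClosed_mvPolynomial_fin (R : Type*) [CommRing R] [IsDomain R]
    [IsIntegrallyClosed R] (m : ℕ) : IsIntegrallyClosed (MvPolynomial (Fin m) R) := by
  induction m with
  | zero => exact IsIntegrallyClosed.of_equiv (MvPolynomial.isEmptyAlgEquiv R (Fin 0)).symm.toRingEquiv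
  | succ m ih =>
    exact IsIntegrallyClosed.of_equiv (MvPolynomial.finSuccEquiv R m).symm.toRingEquiv

section

variable {V B : Type u} [CommRing V] [IsDomain V] [ValuationRing V] [CommRing B] [IsDomain B]
  [Algebra V B] [Algebra.FiniteType V B]

omit [IsDomain B] in
theorem exists_iso (Q : Ideal B) [Q.IsMaximal]
    (hQ : Q.comap (algebraMap V B) = maximalIdeal V) :
    ∃ (m : ℕ) (t : Fin m → B), Iso (R := V) Q t := by
  set I := (maximalIdeal V).map (algebraMap V B) with hI
  have hIQ : I ≤ Q := Ideal.map_le_iff_le_comap.mpr hQ.ge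
  have h1 : Algebra.FiniteType V (B ⧸ I) :=
    Algebra.FiniteType.of_surjective (Ideal.Quotient.mkₐ V I) (Ideal.Quotient.mkₐ_surjective V I)
  have h2 : Algebra.FiniteType (V ⧸ maximalIdeal V) (B ⧸ I) :=
    Algebra.FiniteType.of_restrictScalars_finiteType V _ _
  let _ : Field (V ⧸ maximalIdeal V) := Ideal.Quotient.field _
  have h3 : IsNoetherianRing (B ⧸ I) := Algebra.FiniteType.isNoetherianRing (V ⧸ maximalIdeal V) _
  have hfg : (Q.map (Ideal.Quotient.mk I)).FG := IsNoetherian.noetherian _
  obtain ⟨m, s, hs⟩ := Submodule.fg_iff_exists_fin_generating_family.mp hfg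
  have hsurj : Function.Surjective (Ideal.Quotient.mk I) := Ideal.Quotient.mk_surjective
  choose t ht using fun i => hsurj (s i)
  have hcm : (Q.map (Ideal.Quotient.mk I)).comap (Ideal.Quotient.mk I) = Q := by
    rw [Ideal.comap_map_of_surjective _ hsurj, ← RingHom.ker_eq_comap_bot, Ideal.mk_ker]
    exact sup_eq_left.mpr hIQ
  have hmem : ∀ x, Ideal.Quotient.mk I x ∈ Q.map (Ideal.Quotient.mk I) → x ∈ Q := by
    intro x hx
    rw [← hcm]; exact hx
  refine ⟨m, t, fun i => hmem _ ?_, 1, ?_, ?_⟩
  · rw [ht i, ← hs]; exact Submodule.subset_span ⟨i, rfl⟩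
  · exact fun h => (Ideal.IsPrime.ne_top inferInstance) ((Ideal.eq_top_iff_one _).mpr h)
  · intro Q' hQ' hIQ' htQ' _
    have hle : Q ≤ Q' := by
      intro x hx
      have hx' : Ideal.Quotient.mk I x ∈ Ideal.span (Set.range s) := by
        rw [show Ideal.span (Set.range s) = Q.map (Ideal.Quotient.mk I) from hs]
        exact Ideal.mem_map_of_mem _ hx
      have hrange : Set.range s = Ideal.Quotient.mk I '' Set.range t := by
        ext y; constructor
        · rintro ⟨i, rfl⟩; exact ⟨t i, ⟨i, rfl⟩, ht i⟩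
        · rintro ⟨_, ⟨i, rfl⟩, rfl⟩; exact ⟨i, (ht i).symm⟩
      rw [hrange, ← Ideal.map_span] at hx'
      have hx'' : x ∈ ((Ideal.span (Set.range t)).map (Ideal.Quotient.mk I)).comap
          (Ideal.Quotient.mk I) := hx'
      rw [Ideal.comap_map_of_surjective _ hsurj, ← RingHom.ker_eq_comap_bot, Ideal.mk_ker] at hx''
      refine (sup_le ?_ hIQ') hx''
      rw [Ideal.span_le]
      rintro _ ⟨i, rfl⟩
      exact htQ' i
    exact (Ideal.IsMaximal.eq_of_le inferInstance hQ'.ne_top hle).symm

omit [Algebra.FiniteType V B] in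
theorem injective_of_minimal (hinj : Function.Injective (algebraMap V B)) (Q : Ideal B) [Q.IsPrime]
    {m : ℕ} (t : Fin m → B) (ht : Iso (R := V) Q t)
    (hmin : ∀ m' < m, ¬ ∃ t' : Fin m' → B, Iso (R := V) Q t') :
    Function.Injective (MvPolynomial.aeval t : MvPolynomial (Fin m) V →ₐ[V] B) := by
  rw [injective_iff_map_eq_zero]
  intro F hF0
  by_contra hFne
  obtain ⟨c, F₁, hc, hFF₁, v, hv⟩ := exists_unit_coeff_factor F hFne
  have hF₁ : MvPolynomial.aeval t F₁ = 0 := by
    rw [hFF₁, map_mul, MvPolynomial.aeval_C] at hF0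
    rcases mul_eq_zero.mp hF0 with h | h
    · exact absurd (hinj (h.trans (map_zero _).symm)) hc
    · exact h
  have hF₁res : MvPolynomial.map (residue V) F₁ ≠ 0 := by
    intro h
    have := congrArg (coeff v) h
    rw [MvPolynomial.coeff_map, hv, map_one, coeff_zero] at this
    exact one_ne_zero this
  rcases m with _ | m
  · have h1 := MvPolynomial.eq_C_of_isEmpty F₁
    rw [h1, MvPolynomial.aeval_C] at hF₁
    have h2 : coeff 0 F₁ = 0 := hinj (hF₁.trans (map_zero _).symm)
    rw [h2, map_zero] at h1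
    exact hF₁res (by rw [h1, map_zero])
  · obtain ⟨t', ht'⟩ := iso_reduce Q t ht F₁ hF₁res hF₁
    exact hmin m (Nat.lt_succ_self m) ⟨t', ht'⟩

end

end Groth.Agent.H68.SF
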