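import Groth.Agent.H68.SpecFibVal

/-!
# Quasi-sections through closed points of the special fibre over a valuation ring: main theorem
-/

set_option autoImplicit false

open MvPolynomial IsLocalRing

namespace Groth.Agent.H68.SF

universe u

section

variable {V B : Type u} [CommRing V] [IsDomain V] [ValuationRing V] [CommRing B] [IsDomain B]
  [Algebra V B] [Algebra.FiniteType V B]

theorem exists_prime_of_valuationRing (hV : maximalIdeal V ≠ ⊥)
    (hinj : Function.Injective (algebraMap V B))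
    (Q : Ideal B) [Q.IsMaximal] (hQ : Q.comap (algebraMap V B) = maximalIdeal V) (g : B)
    (hg : g ≠ 0) :
    ∃ q₁ : Ideal B, q₁.IsPrime ∧ q₁ ≤ Q ∧ q₁.comap (algebraMap V B) = ⊥ ∧ g ∉ q₁ ∧
      Algebra.IsAlgebraic V (B ⧸ q₁) := by
  classical
  have hex : ∃ m, ∃ t : Fin m → B, Iso (R := V) Q t := exists_iso Q hQ
  obtain ⟨t, ht⟩ := Nat.find_spec hex
  have hmin : ∀ m' < Nat.find hex, ¬ ∃ t : Fin m' → B, Iso (R := V) Q t :=
    fun m' h => Nat.find_min hex h
  generalize Nat.find hex = m at t ht hmin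
  have hinjt := injective_of_minimal hinj Q t ht hmin
  obtain ⟨htQ, r₀, hr₀Q, hr₀⟩ := ht
  -- algebra structure over the polynomial ring
  let P := MvPolynomial (Fin m) V
  let algPB : Algebra P B := (MvPolynomial.aeval t : P →ₐ[V] B).toRingHom.toAlgebra
  have halg : ∀ F : P, algebraMap P B F = MvPolynomial.aeval t F := fun _ => rfl
  have : IsScalarTower V P B := IsScalarTower.of_algebraMap_eq
    (fun a => by rw [halg, MvPolynomial.algebraMap_eq, MvPolynomial.aeval_C])
  have : Algebra.FiniteType P B := Algebra.FiniteType.of_restrictScalars_finiteType V P B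
  have hmQ : ∀ a ∈ maximalIdeal V, algebraMap V B a ∈ Q := fun a ha => by
    have : a ∈ Q.comap (algebraMap V B) := hQ ▸ ha
    exact this
  -- quasi-finiteness at `Q`
  let q : PrimeSpectrum B := ⟨Q, inferInstance⟩
  have H : IsOpen (X := PrimeSpectrum.comap (algebraMap P B) ⁻¹' {q.comap (algebraMap P B)})
      {⟨q, rfl⟩} := by
    have hset : ({⟨q, rfl⟩} : Set (PrimeSpectrum.comap (algebraMap P B) ⁻¹'
        {q.comap (algebraMap P B)})) =
        Subtype.val ⁻¹' (PrimeSpectrum.basicOpen r₀ : Set (PrimeSpectrum B)) := by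
      ext ⟨q', hq'⟩
      simp only [Set.mem_singleton_iff, Set.mem_preimage, Subtype.mk.injEq, SetLike.mem_coe,
        PrimeSpectrum.mem_basicOpen]
      constructor
      · rintro rfl; exact hr₀Q
      · intro hrq'
        have hcomap : ∀ F : P, algebraMap P B F ∈ q'.asIdeal ↔ algebraMap P B F ∈ Q := by
          intro F
          have := congrArg PrimeSpectrum.asIdeal hq'
          exact (Ideal.ext_iff.mp this F)
        apply PrimeSpectrum.ext
        refine hr₀ q'.asIdeal q'.2 ?_ (fun i => ?_) hrq'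
        · rw [Ideal.map_le_iff_le_comap]
          intro a ha
          have h1 : algebraMap P B (C a) ∈ Q := by
            rw [halg, MvPolynomial.aeval_C]; exact hmQ a ha
          have h2 := (hcomap (C a)).mpr h1
          rwa [halg, MvPolynomial.aeval_C] at h2
        · have h1 : algebraMap P B (X i) ∈ Q := by
            rw [halg, MvPolynomial.aeval_X]; exact htQ i
          have h2 := (hcomap (X i)).mpr h1
          rwa [halg, MvPolynomial.aeval_X] at h2
    rw [hset]
    exact (PrimeSpectrum.basicOpen r₀).isOpen.preimage continuous_subtype_val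
  have hQF : Algebra.QuasiFiniteAt P Q := Algebra.QuasiFiniteAt.of_isOpen_singleton_fiber q H
  obtain ⟨r, hrQ, hrint, hr⟩ := Algebra.zariskisMainProperty_iff.mp
    (Algebra.ZariskisMainProperty.of_finiteType (R := P) Q)
  have hr0 : r ≠ 0 := fun h => hrQ (h ▸ Q.zero_mem)
  -- the integral closure and going down
  let Cint := integralClosure P B
  have hrC : r ∈ Cint := hrint
  have hrkC : ∀ k, r ^ k ∈ Cint := fun k => Cint.pow_mem hrC k
  have hIC : IsIntegrallyClosed P := isIntegrallyClosed_mvPolynomial_fin V m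
  have hvalC : ∀ F : P, ((algebraMap P Cint F : Cint) : B) = MvPolynomial.aeval t F := fun _ => rfl
  have hfaith : FaithfulSMul P Cint := (faithfulSMul_iff_algebraMap_injective P Cint).mpr (by
    intro F G h
    apply hinjt
    have := congrArg Subtype.val h
    rwa [hvalC, hvalC] at this)
  have hGD : Algebra.HasGoingDown P Cint := inferInstance
  -- the element `g' = r ^ k * g`
  obtain ⟨kg, hkg⟩ := hr g
  have hg'C : r ^ kg * g ∈ Cint := hkg
  have hg'0 : (⟨r ^ kg * g, hg'C⟩ : Cint) ≠ 0 := by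
    intro h
    have := congrArg Subtype.val h
    exact (mul_ne_zero (pow_ne_zero _ hr0) hg) this
  obtain ⟨c₀, hc₀, hdvd⟩ := ((Algebra.IsIntegral.isIntegral (R := P)
    (⟨r ^ kg * g, hg'C⟩ : Cint)).isAlgebraic).exists_nonzero_dvd (mem_nonZeroDivisors_of_ne_zero hg'0)
  -- choose the point `a`
  have hinf : (maximalIdeal V : Set V).Infinite := by
    obtain ⟨a, ha, ha0⟩ := Submodule.exists_mem_ne_zero_of_ne_bot hV
    have hnu : ¬ IsUnit a := (mem_maximalIdeal a).mp ha
    refine Set.infinite_of_injective_forall_mem (f := fun n : ℕ => a ^ (n + 1)) ?_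
      (fun n => Ideal.pow_mem_of_mem _ ha _ (Nat.succ_pos n))
    intro n k h
    have := pow_injective_of_not_isUnit hnu ha0 h
    omega
  obtain ⟨a, ha, hca⟩ : ∃ a : Fin m → V, (∀ i, a i ∈ maximalIdeal V) ∧
      MvPolynomial.eval a c₀ ≠ 0 := by
    by_contra hcon
    push Not at hcon
    refine hc₀ (MvPolynomial.funext_set (fun _ => (maximalIdeal V : Set V)) (fun _ => hinf)
      (fun x hx => ?_))
    rw [hcon x (fun i => hx i (Set.mem_univ i)), map_zero]
  let n₂ : Ideal P := RingHom.ker (MvPolynomial.eval a : P →+* V)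
  have hn₂prime : n₂.IsPrime := RingHom.ker_isPrime _
  have hcomp : (Ideal.Quotient.mk Q).comp (MvPolynomial.aeval t : P →ₐ[V] B).toRingHom =
      ((Ideal.Quotient.mk Q).comp (algebraMap V B)).comp (MvPolynomial.eval a) := by
    apply MvPolynomial.ringHom_ext
    · intro c; simp
    · intro i
      simp only [AlgHom.toRingHom_eq_coe, RingHom.coe_comp, RingHom.coe_coe, Function.comp_apply,
        aeval_X, eval_X]
      rw [Ideal.Quotient.eq_zero_iff_mem.mpr (htQ i),
        Ideal.Quotient.eq_zero_iff_mem.mpr (hmQ _ (ha i))]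
  let QC : Ideal Cint := Q.comap (algebraMap Cint B)
  have hQCprime : QC.IsPrime := Ideal.comap_isPrime _ _
  have hle : n₂ ≤ QC.under P := by
    intro F hF
    have hF0 : MvPolynomial.eval a F = 0 := hF
    have h1 := RingHom.congr_fun hcomp F
    simp only [AlgHom.toRingHom_eq_coe, RingHom.coe_comp, RingHom.coe_coe, Function.comp_apply,
      hF0, map_zero] at h1
    exact (Ideal.Quotient.eq_zero_iff_mem.mp h1 : MvPolynomial.aeval t F ∈ Q)
  obtain ⟨q₂, hq₂le, hq₂prime, hq₂over⟩ := Ideal.exists_ideal_le_liesOver_of_le (p := n₂)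
    (q := QC.under P) QC hle
  have hn₂q₂ : ∀ F : P, algebraMap P Cint F ∈ q₂ ↔ MvPolynomial.eval a F = 0 := by
    intro F
    have := Ideal.ext_iff.mp (hq₂over.over) F
    exact this.symm
  -- the set `S₂` and the ideal `q₁`
  let S₂ : Set B := {b | ∃ h : b ∈ Cint, (⟨b, h⟩ : Cint) ∈ q₂}
  have hS_add : ∀ x y, x ∈ S₂ → y ∈ S₂ → x + y ∈ S₂ := fun x y ⟨hx, hx'⟩ ⟨hy, hy'⟩ =>
    ⟨Cint.add_mem hx hy, q₂.add_mem hx' hy'⟩
  have hS_mul : ∀ x y, x ∈ Cint → y ∈ S₂ → x * y ∈ S₂ := fun x y hx ⟨hy, hy'⟩ =>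
    ⟨Cint.mul_mem hx hy, q₂.mul_mem_left ⟨x, hx⟩ hy'⟩
  have hS_prime : ∀ x y, x ∈ Cint → y ∈ Cint → x * y ∈ S₂ → x ∈ S₂ ∨ y ∈ S₂ :=
    fun x y hx hy ⟨_, h⟩ => (hq₂prime.mem_or_mem (x := ⟨x, hx⟩) (y := ⟨y, hy⟩) h).imp
      (fun h => ⟨hx, h⟩) (fun h => ⟨hy, h⟩)
  have hS_Q : ∀ x, x ∈ S₂ → x ∈ Q := fun x ⟨hx, hx'⟩ => hq₂le hx'
  have hrS : ∀ k, r ^ k ∉ S₂ := fun k h => hrQ (Ideal.IsPrime.mem_of_pow_mem inferInstance k
    (hS_Q _ h))
  let q₁ : Ideal B :=
    { carrier := {b | ∃ k, r ^ k * b ∈ S₂}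
      zero_mem' := ⟨0, by rw [mul_zero]; exact ⟨Cint.zero_mem, q₂.zero_mem⟩⟩
      add_mem' := by
        rintro x y ⟨k, hk⟩ ⟨k', hk'⟩
        refine ⟨k + k', ?_⟩
        have : r ^ (k + k') * (x + y) = r ^ k' * (r ^ k * x) + r ^ k * (r ^ k' * y) := by
          rw [pow_add]; ring
        rw [this]
        exact hS_add _ _ (hS_mul _ _ (hrkC k') hk) (hS_mul _ _ (hrkC k) hk')
      smul_mem' := by
        rintro x y ⟨k, hk⟩
        obtain ⟨K, hK⟩ := hr x
        refine ⟨K + k, ?_⟩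
        have : r ^ (K + k) * (x • y) = (r ^ K * x) * (r ^ k * y) := by
          rw [pow_add, smul_eq_mul]; ring
        rw [this]
        exact hS_mul _ _ hK hk }
  have hmemq₁ : ∀ b, b ∈ q₁ ↔ ∃ k, r ^ k * b ∈ S₂ := fun _ => Iff.rfl
  have hq₁C : ∀ c ∈ Cint, c ∈ q₁ ↔ c ∈ S₂ := by
    intro c hc
    constructor
    · rintro ⟨k, hk⟩
      exact (hS_prime _ _ (hrkC k) hc hk).resolve_left (hrS k)
    · intro h; exact ⟨0, by rwa [pow_zero, one_mul]⟩
  have hq₁prime : q₁.IsPrime := by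
    refine ⟨fun h => ?_, fun {x y} hxy => ?_⟩
    · obtain ⟨k, hk⟩ := (hmemq₁ 1).mp (h ▸ Submodule.mem_top)
      rw [mul_one] at hk
      exact hrS k hk
    · obtain ⟨k, hk⟩ := hxy
      obtain ⟨Kx, hKx⟩ := hr x
      obtain ⟨Ky, hKy⟩ := hr y
      have h1 : r ^ k * ((r ^ Kx * x) * (r ^ Ky * y)) ∈ S₂ := by
        have : r ^ k * ((r ^ Kx * x) * (r ^ Ky * y)) = r ^ (Kx + Ky) * (r ^ k * (x * y)) := by
          rw [pow_add]; ring
        rw [this]
        exact hS_mul _ _ (hrkC _) hk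
      have h2 := (hS_prime _ _ (hrkC k) (Cint.mul_mem hKx hKy) h1).resolve_left (hrS k)
      exact (hS_prime _ _ hKx hKy h2).imp (fun h => ⟨Kx, h⟩) (fun h => ⟨Ky, h⟩)
  have hPq₁ : ∀ F : P, MvPolynomial.aeval t F ∈ q₁ ↔ MvPolynomial.eval a F = 0 := by
    intro F
    have hFC : MvPolynomial.aeval t F ∈ Cint := (algebraMap P Cint F).2
    rw [hq₁C _ hFC, ← hn₂q₂]
    exact ⟨fun ⟨_, h⟩ => h, fun h => ⟨hFC, h⟩⟩
  have hrq₁ : r ∉ q₁ := fun h => hrS 1 (by rw [pow_one]; exact (hq₁C r hrC).mp h)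
  refine ⟨q₁, hq₁prime, ?_, ?_, ?_, ?_⟩
  · rintro b ⟨k, hk⟩
    exact (Ideal.IsPrime.mem_or_mem inferInstance (hS_Q _ hk)).resolve_left
      (fun h => hrQ (Ideal.IsPrime.mem_of_pow_mem inferInstance k h))
  · rw [eq_bot_iff]
    intro v hv
    have h1 : MvPolynomial.aeval t (C v : P) ∈ q₁ := by
      rw [MvPolynomial.aeval_C]; exact hv
    have h2 := (hPq₁ (C v)).mp h1
    rwa [MvPolynomial.eval_C] at h2
  · intro hgq₁
    have h1 : r ^ kg * g ∈ q₁ := q₁.mul_mem_left _ hgq₁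
    obtain ⟨_, h2⟩ := (hq₁C _ hg'C).mp h1
    have h3 : algebraMap P Cint c₀ ∈ q₂ := by
      obtain ⟨w, hw⟩ := hdvd
      rw [hw]; exact q₂.mul_mem_right _ h2
    exact hca ((hn₂q₂ c₀).mp h3)
  · -- algebraicity of the quotient
    have hmkP : ∀ F : P, Ideal.Quotient.mk q₁ (MvPolynomial.aeval t F) =
        algebraMap V (B ⧸ q₁) (MvPolynomial.eval a F) := by
      intro F
      have h1 : MvPolynomial.aeval t (F - C (MvPolynomial.eval a F)) ∈ q₁ := by
        rw [hPq₁, map_sub, MvPolynomial.eval_C, sub_self]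
      rw [map_sub, MvPolynomial.aeval_C] at h1
      rw [← Ideal.Quotient.mk_algebraMap]
      exact Ideal.Quotient.eq.mpr h1
    have hintC : ∀ c ∈ Cint, IsIntegral V (Ideal.Quotient.mk q₁ c) := by
      intro c hc
      obtain ⟨p, hpm, hp⟩ := hc
      refine ⟨p.map (MvPolynomial.eval a), hpm.map _, ?_⟩
      rw [Polynomial.eval₂_map]
      have hhom : (algebraMap V (B ⧸ q₁)).comp (MvPolynomial.eval a) =
          (Ideal.Quotient.mk q₁).comp (algebraMap P B) := by
        ext F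
        · simp only [RingHom.coe_comp, Function.comp_apply]
          exact (hmkP (C F)).symm
        · simp only [RingHom.coe_comp, Function.comp_apply]
          exact (hmkP (X F)).symm
      rw [hhom, ← Polynomial.hom_eval₂, hp, map_zero]
    have hdom : IsDomain (B ⧸ q₁) := Ideal.Quotient.isDomain q₁
    have hmkr : Ideal.Quotient.mk q₁ r ≠ 0 := fun h => hrq₁ (Ideal.Quotient.eq_zero_iff_mem.mp h)
    refine ⟨fun x => ?_⟩
    obtain ⟨b, rfl⟩ := Ideal.Quotient.mk_surjective x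
    obtain ⟨K, hK⟩ := hr b
    have h1 : IsAlgebraic V (Ideal.Quotient.mk q₁ (r ^ K)) := (hintC _ (hrkC K)).isAlgebraic
    have h2 : IsAlgebraic V (Ideal.Quotient.mk q₁ (r ^ K) * Ideal.Quotient.mk q₁ b) := by
      rw [← map_mul]; exact (hintC _ hK).isAlgebraic
    refine IsAlgebraic.of_mul (mem_nonZeroDivisors_of_ne_zero ?_) h1 h2
    rw [map_pow]; exact pow_ne_zero _ hmkr

end

end Groth.Agent.H68.SF
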