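import Mathlib

/-!
# A splitting algebra for a monic polynomial, with a linear retraction

For a monic polynomial `g` of degree `n` over `A` there is an `A`-algebra `A''` (in the same universe)
with an `A`-linear retraction `A'' → A` in which `g` is a product of `n` linear factors.  If `g` is
separable, the Vandermonde matrix of the roots is invertible.
-/

universe u

namespace Groth.Agent.H68

open Polynomial

theorem exists_splitting_algebra :
    ∀ (n : ℕ) (A : Type u) [CommRing A] (g : A[X]), g.Monic → g.natDegree = n →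
      ∃ (A'' : Type u) (_ : CommRing A'') (_ : Algebra A A'') (r : A'' →ₗ[A] A) (ρ : Fin n → A''),
        r 1 = 1 ∧ g.map (algebraMap A A'') = ∏ k, (X - C (ρ k)) := by
  intro n
  induction n with
  | zero =>
    intro A _ g hg hdeg
    refine ⟨A, inferInstance, inferInstance, LinearMap.id, Fin.elim0, rfl, ?_⟩
    rw [hg.natDegree_eq_zero.mp hdeg]
    simp
  | succ n ih =>
    intro A _ g hg hdeg
    let A₁ := AdjoinRoot g
    let t : A₁ := AdjoinRoot.root g
    let g₁ : A₁[X] := (g.map (AdjoinRoot.of g)) /ₘ (X - C t)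
    have hfac : (X - C t) * g₁ = g.map (AdjoinRoot.of g) :=
      mul_divByMonic_eq_iff_isRoot.mpr (AdjoinRoot.isRoot_root g)
    have hg₁ : g₁.Monic := by
      apply Monic.of_mul_monic_left (monic_X_sub_C t)
      rw [hfac]
      exact hg.map _
    have hntA : Nontrivial A := by
      by_contra hcon
      rw [not_nontrivial_iff_subsingleton] at hcon
      have : g.natDegree = 0 := Polynomial.natDegree_of_subsingleton
      omega
    let r₀ : A₁ →ₗ[A] A := (Polynomial.lcoeff A 0).comp (AdjoinRoot.modByMonicHom hg)
    have hr₀ : r₀ 1 = 1 := by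
      have h1 : (1 : A₁) = AdjoinRoot.mk g 1 := (map_one _).symm
      show (AdjoinRoot.modByMonicHom hg 1).coeff 0 = 1
      rw [h1, AdjoinRoot.modByMonicHom_mk]
      rw [(modByMonic_eq_self_iff hg).mpr]
      · simp
      · rw [Polynomial.degree_one, Polynomial.degree_eq_natDegree hg.ne_zero, hdeg]
        exact_mod_cast Nat.succ_pos n
    have hnt : Nontrivial A₁ := by
      refine ⟨1, 0, fun h => ?_⟩
      have := congrArg r₀ h
      rw [hr₀, map_zero] at this
      exact one_ne_zero this
    have hdeg₁ : g₁.natDegree = n := by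
      rw [natDegree_divByMonic _ (monic_X_sub_C t), natDegree_X_sub_C,
        hg.natDegree_map (AdjoinRoot.of g), hdeg]
      rfl
    obtain ⟨A'', _, _, r₁, ρ', hr₁, hρ'⟩ := ih A₁ g₁ hg₁ hdeg₁
    let _ : Algebra A A'' := ((algebraMap A₁ A'').comp (algebraMap A A₁)).toAlgebra
    have : IsScalarTower A A₁ A'' := IsScalarTower.of_algebraMap_eq (fun _ => rfl)
    refine ⟨A'', inferInstance, inferInstance, r₀.comp (r₁.restrictScalars A),
      Fin.cons (algebraMap A₁ A'' t) ρ', ?_, ?_⟩
    · show r₀ (r₁ 1) = 1
      rw [hr₁, hr₀]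
    · have : g.map (algebraMap A A'') = (g.map (AdjoinRoot.of g)).map (algebraMap A₁ A'') := by
        rw [Polynomial.map_map]
        rfl
      rw [this, ← hfac, Polynomial.map_mul, hρ', Fin.prod_univ_succ]
      simp

/-- The difference of two roots of a separable split polynomial is a unit. -/
lemma isUnit_sub_of_separable {R : Type*} [CommRing R] {n : ℕ} (ρ : Fin n → R)
    (hsep : (∏ k, (X - C (ρ k))).Separable) {k l : Fin n} (hkl : k ≠ l) :
    IsUnit (ρ k - ρ l) := by
  classical
  obtain ⟨a, b, hab⟩ := hsep
  -- split off the two factors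
  have hl : l ∈ Finset.univ.erase k := Finset.mem_erase.mpr ⟨hkl.symm, Finset.mem_univ _⟩
  set q := ∏ j ∈ (Finset.univ.erase k).erase l, (X - C (ρ j)) with hq
  have hprod : (∏ j, (X - C (ρ j))) = (X - C (ρ k)) * ((X - C (ρ l)) * q) := by
    rw [← Finset.mul_prod_erase Finset.univ _ (Finset.mem_univ k),
      ← Finset.mul_prod_erase (Finset.univ.erase k) _ hl]
  rw [hprod] at hab
  have h1 := congrArg (Polynomial.eval (ρ k)) hab
  simp only [eval_add, eval_mul, eval_sub, eval_X, eval_C, sub_self, zero_mul, mul_zero, zero_add,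
    derivative_mul, derivative_sub, derivative_X, derivative_C, sub_zero, one_mul, eval_one,
    add_zero] at h1
  refine IsUnit.of_mul_eq_one (eval (ρ k) b * eval (ρ k) q) ?_
  rw [← h1]
  ring

/-- The Vandermonde matrix of the roots of a separable split polynomial is invertible. -/
lemma isUnit_det_vandermonde_of_separable {R : Type*} [CommRing R] {n : ℕ} (ρ : Fin n → R)
    (hsep : (∏ k, (X - C (ρ k))).Separable) : IsUnit (Matrix.vandermonde ρ).det := by
  rw [Matrix.det_vandermonde]
  refine (Finset.univ : Finset (Fin n)).prod_induction _ IsUnit (fun _ _ => IsUnit.mul) isUnit_one ?_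
  intro i _
  refine Finset.prod_induction _ IsUnit (fun _ _ => IsUnit.mul) isUnit_one ?_
  intro j hj
  exact isUnit_sub_of_separable ρ hsep (Finset.mem_Ioi.mp hj).ne'

end Groth.Agent.H68
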