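import Groth.Agent.H68.FibPowTensor
import Groth.Agent.H15.Quot
import Mathlib

/-!
# Box charts of a symmetric product

Every point of a symmetric product `Sym^n(X/S)` of an (AF) scheme has an affine open neighbourhood
whose preimage in the fibre power is a box `boxOpen f n V U` with `U`, `V` affine.
-/

set_option autoImplicit false
universe u
open CategoryTheory CategoryTheory.Limits AlgebraicGeometry

namespace Groth.Agent.H68.SC

open Groth.Agent.H68.FPA Groth.Agent.H68.FPT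

/-- Box charts of a symmetric product. -/
theorem exists_box_chart {X S Y : Scheme.{u}} (f : X ⟶ S) (hAF : SymProd.IsAF f) (n : ℕ)
    (q : SymProd.fibPow f n ⟶ Y) (g : Y ⟶ S) (hq : SymProd.IsSymProd f n q g)
    (x : SymProd.fibPow f n) (V : S.Opens) (hV : IsAffineOpen V)
    (hxV : (WidePullback.base (fun _ : Fin n => f)).base x ∈ V) :
    ∃ (U : X.Opens) (W' : Y.Opens), IsAffineOpen U ∧ U ≤ f ⁻¹ᵁ V ∧ IsAffineOpen W' ∧
      q.base x ∈ W' ∧ q ⁻¹ᵁ W' = boxOpen f n V U ∧ W' ≤ g ⁻¹ᵁ V := by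
  classical
  have hquot : SGA1.IsQuot (SymProd.permActU f n) q := hq.isQuot
  obtain ⟨U, hU, hUV, hxU⟩ := exists_chart hAF x V hxV
  have hxW : x ∈ boxOpen f n V U := (mem_boxOpen f n x).mpr ⟨hxV, hxU⟩
  have hWaff : IsAffineOpen (boxOpen f n V U) := isAffineOpen_boxOpen V U hUV hV hU
  have hstab : ∀ (σ : Equiv.Perm (Fin n)) (z : SymProd.fibPow f n),
      (SymProd.permHom f n σ).base z ∈ boxOpen f n V U ↔ z ∈ boxOpen f n V U := by
    intro σ z
    refine ⟨fun h => ?_, permHom_mem_boxOpen V U σ z⟩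
    have h1 := permHom_mem_boxOpen V U σ⁻¹ _ h
    rw [← Scheme.Hom.comp_apply, ← SymProd.permHom_mul, inv_mul_cancel, SymProd.permHom_one] at h1
    exact h1
  have hsat : q.base ⁻¹' (q.base '' (boxOpen f n V U : Set _)) = (boxOpen f n V U : Set _) := by
    ext z
    constructor
    · rintro ⟨w, hw, hwz⟩
      obtain ⟨γ, hγ⟩ := (Groth.Agent.H15.Quot.base_eq_iff hquot w z).mp hwz
      rw [← hγ]
      exact (hstab γ.down w).mpr hw
    · intro hz
      exact ⟨z, hz, rfl⟩
  have hopen : IsOpen (q.base '' (boxOpen f n V U : Set _)) := by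
    rw [← (Groth.Agent.H15.Quot.isQuotientMap hquot).isOpen_preimage, hsat]
    exact (boxOpen f n V U).2
  obtain ⟨W', hW'def⟩ : ∃ W' : Y.Opens, W' = ⟨_, hopen⟩ := ⟨_, rfl⟩
  have hpre : q ⁻¹ᵁ W' = boxOpen f n V U := by
    rw [hW'def]
    exact TopologicalSpace.Opens.ext hsat
  have hW'aff : IsAffineOpen W' := by
    apply Groth.Agent.H15.Quot.isAffineOpen_of_isAffineOpen_preimage hquot
    rw [hpre]
    exact hWaff
  have hyW' : q.base x ∈ W' := by
    rw [hW'def]
    exact ⟨x, hxW, rfl⟩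
  have hle : W' ≤ g ⁻¹ᵁ V := by
    rw [hW'def]
    rintro _ ⟨z, hz, rfl⟩
    change g.base (q.base z) ∈ V
    rw [← Scheme.Hom.comp_apply, hq.over]
    exact ((mem_boxOpen f n z).mp hz).1
  exact ⟨U, W', hU, hUV, hW'aff, hyW', hpre, hle⟩

end Groth.Agent.H68.SC
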