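import Groth.Agent.H68.CoprodCount
import Groth.Agent.H68.PbAct
import Groth.Agent.H68.QuotOpenImm
import Groth.Agent.H68.QuotLevel
import Mathlib

/-!
# Symmetric powers of a disjoint union: the pieces `Sym^i X ×_Y Sym^j X'`
-/

set_option autoImplicit false
universe u

open CategoryTheory CategoryTheory.Limits AlgebraicGeometry

namespace Groth.Agent.H68.SCP

open CP

variable {X X' Z Y : Scheme.{u}} (F : Z ⟶ Y) (ι₁ : X ⟶ Z) (ι₂ : X' ⟶ Z)
  [IsOpenImmersion ι₁] [IsOpenImmersion ι₂]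
  (f : X ⟶ Y) (f' : X' ⟶ Y) (h₁ : ι₁ ≫ F = f) (h₂ : ι₂ ≫ F = f')
  (hc : IsCompl (Set.range ι₁) (Set.range ι₂))

section Level

variable (n : ℕ) {T : Scheme.{u}} {Q : SymProd.fibPow F n ⟶ T} {h : T ⟶ Y}
  (hT : SymProd.IsSymProd F n Q h)

omit [IsOpenImmersion ι₁] in
theorem cnt_inv (g : ULift.{u} (Equiv.Perm (Fin n))) (x : SymProd.fibPow F n) :
    cnt F ι₁ n ((SymProd.permActU F n g).hom x) = cnt F ι₁ n x :=
  cnt_permHom F ι₁ n g.down x

/-- The clopen piece of `Sym^n (X ⊔ X')` where exactly `m` points lie in `X`. -/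
noncomputable def piece (m : ℕ) : T.Opens :=
  QLv.levelOpen hT.isQuot (cnt F ι₁ n) (isOpen_cnt_preimage F ι₁ ι₂ hc n) (cnt_inv F ι₁ n) m

theorem mem_piece_iff (m : ℕ) (x : SymProd.fibPow F n) :
    Q x ∈ piece F ι₁ ι₂ hc n hT m ↔ cnt F ι₁ n x = m :=
  QLv.mem_levelOpen_iff hT.isQuot _ _ _ m x

theorem isClosed_piece (m : ℕ) : IsClosed (piece F ι₁ ι₂ hc n hT m : Set T) :=
  QLv.isClosed_levelOpen hT.isQuot _ _ _ m

theorem piece_disjoint {m m' : ℕ} (hm : m ≠ m') :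
    piece F ι₁ ι₂ hc n hT m ⊓ piece F ι₁ ι₂ hc n hT m' = ⊥ :=
  QLv.levelOpen_disjoint hT.isQuot _ _ _ hm

theorem exists_mem_piece (t : T) : ∃ m ≤ n, t ∈ piece F ι₁ ι₂ hc n hT m := by
  obtain ⟨x, -, hx⟩ := QLv.exists_mem_levelOpen hT.isQuot (cnt F ι₁ n)
    (isOpen_cnt_preimage F ι₁ ι₂ hc n) (cnt_inv F ι₁ n) t
  exact ⟨_, cnt_le F ι₁ n x, hx⟩

end Level

section Main

variable (i j : ℕ) {S S' T : Scheme.{u}}
  {q : SymProd.fibPow f i ⟶ S} {g : S ⟶ Y} (hS : SymProd.IsSymProd f i q g)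
  {q' : SymProd.fibPow f' j ⟶ S'} {g' : S' ⟶ Y} (hS' : SymProd.IsSymProd f' j q' g')
  {Q : SymProd.fibPow F (i + j) ⟶ T} {h : T ⟶ Y} (hT : SymProd.IsSymProd F (i + j) Q h)
  (hc₁ : ∀ V : S.Opens, IsUnit ((Nat.card (ULift.{u} (Equiv.Perm (Fin i))) : ℕ) : Γ(S, V)))
  (hc₂ : ∀ V : S'.Opens, IsUnit ((Nat.card (ULift.{u} (Equiv.Perm (Fin j))) : ℕ) : Γ(S', V)))

include h₁ h₂ hS hS' hc₁ hc₂ in
/-- The `i`-th piece of `Sym^{i+j}(X ⊔ X')` is `Sym^i X ×_Y Sym^j X'`. -/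
theorem exists_iso_piece :
    ∃ e : (piece F ι₁ ι₂ hc (i + j) hT i).toScheme ≅ pullback g g',
      e.hom ≫ pullback.fst g g' ≫ g = (piece F ι₁ ι₂ hc (i + j) hT i).ι ≫ h := by
  -- the product quotient
  let θ := PbA.prodAct (SymProd.permActU f i) (SymProd.permActU f' j)
    (WidePullback.base (fun _ : Fin i => f)) (WidePullback.base (fun _ : Fin j => f'))
    (fun σ => SymProd.permHom_base f i σ.down) (fun τ => SymProd.permHom_base f' j τ.down)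
  have hθ₁ := PbA.prodAct_fst (SymProd.permActU f i) (SymProd.permActU f' j)
    (WidePullback.base (fun _ : Fin i => f)) (WidePullback.base (fun _ : Fin j => f'))
    (fun σ => SymProd.permHom_base f i σ.down) (fun τ => SymProd.permHom_base f' j τ.down)
  have hθ₂ := PbA.prodAct_snd (SymProd.permActU f i) (SymProd.permActU f' j)
    (WidePullback.base (fun _ : Fin i => f)) (WidePullback.base (fun _ : Fin j => f'))
    (fun σ => SymProd.permHom_base f i σ.down) (fun τ => SymProd.permHom_base f' j τ.down)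
  let P : Pij f f' i j ⟶ pullback g g' :=
    pullback.map _ _ g g' q q' (𝟙 Y) (by rw [hS.over, Category.comp_id])
      (by rw [hS'.over, Category.comp_id])
  have hP₁ : P ≫ pullback.fst g g' = pullback.fst _ _ ≫ q := pullback.lift_fst _ _ _
  have hP₂ : P ≫ pullback.snd g g' = pullback.snd _ _ ≫ q' := pullback.lift_snd _ _ _
  have hprod : SGA1.IsQuot θ P :=
    PbA.isQuot_prod (SymProd.permActU f i) q (SymProd.permActU f' j) q' g g' _ _
      hS.isQuot hS'.isQuot hS.over hS'.over hc₁ hc₂ θ hθ₁ hθ₂ P hP₁ hP₂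
  -- the open immersion
  obtain ⟨hopenimm, hrange⟩ := isOpenImmersion_Psi F ι₁ ι₂ f f' h₁ h₂ i j
  have hρ' : ∀ k, (θ k).hom ≫ Psi F ι₁ ι₂ f f' h₁ h₂ i j =
      Psi F ι₁ ι₂ f f' h₁ h₂ i j ≫ (SymProd.permActU F (i + j) (PS.psiU i j k)).hom := by
    intro k
    exact equivariant F ι₁ ι₂ f f' h₁ h₂ i j k.1.down k.2.down (θ k).hom (hθ₁ k) (hθ₂ k)
  have hdisj : ∀ γ : ULift.{u} (Equiv.Perm (Fin (i + j))), γ ∉ (PS.psiU.{u} i j).range →
      Disjoint ((SymProd.permActU F (i + j) γ).hom ''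
        Set.range (Psi F ι₁ ι₂ f f' h₁ h₂ i j)) (Set.range (Psi F ι₁ ι₂ f f' h₁ h₂ i j)) := by
    intro γ hγ
    rw [hrange]
    refine disjoint_translate F ι₁ ι₂ i j hc.disjoint γ.down ?_
    rintro ⟨k, hk⟩
    exact hγ ⟨(⟨k.1⟩, ⟨k.2⟩), ULift.ext _ _ hk⟩
  have hU : ∀ x : SymProd.fibPow F (i + j), Q x ∈ piece F ι₁ ι₂ hc (i + j) hT i ↔
      ∃ γ : ULift.{u} (Equiv.Perm (Fin (i + j))),
        x ∈ (SymProd.permActU F (i + j) γ).hom '' Set.range (Psi F ι₁ ι₂ f f' h₁ h₂ i j) := by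
    intro x
    rw [mem_piece_iff, ← exists_translate_iff F ι₁ ι₂ i j hc x, hrange]
    constructor
    · rintro ⟨γ, hγ⟩
      exact ⟨⟨γ⟩, hγ⟩
    · rintro ⟨γ, hγ⟩
      exact ⟨γ.down, hγ⟩
  obtain ⟨P', hP'ι, hP'⟩ := QT.isQuot_of_openImmersion (SymProd.permActU F (i + j)) Q hT.isQuot
    (Psi F ι₁ ι₂ f f' h₁ h₂ i j) (PS.psiU i j) θ hρ' hdisj (piece F ι₁ ι₂ hc (i + j) hT i) hU
  obtain ⟨e, he⟩ := QT.exists_iso_of_isQuot hP' hprod
  refine ⟨e, ?_⟩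
  apply Groth.Agent.H15.Quot.eq_of_comp_eq hP'
  rw [reassoc_of% he, reassoc_of% hP₁, hS.over, reassoc_of% hP'ι, hT.over, Psi_base]

end Main

end Groth.Agent.H68.SCP
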