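import Groth.Agent.H68.QuotBCCore
import Groth.Agent.H68.PullbackOpen
import Groth.Agent.H68.FibPowBC
import Groth.Agent.H68.SymChart
import Groth.Agent.H68.FibPowFlat
import Groth.Agent.H37.QuotLoc2
import Mathlib

/-!
# Symmetric products of flat (AF) schemes commute with base change
-/

set_option autoImplicit false
set_option linter.style.haveILetI false
universe u
open scoped TensorProduct
open CategoryTheory CategoryTheory.Limits AlgebraicGeometry

namespace Groth.Agent.H68.SPB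

open Groth.Agent.H68.LC Groth.Agent.H68.FPA Groth.Agent.H68.FPT Groth.Agent.H37

section

variable {X S S' Y : Scheme.{u}} (f : X ⟶ S) (n : ℕ) (q : SymProd.fibPow f n ⟶ Y) (g : Y ⟶ S)
  (b : S' ⟶ S)
  (c : SymProd.fibPow (pullback.snd f b) n ⟶ SymProd.fibPow f n)
  (hcπ : ∀ i : Fin n, c ≫ WidePullback.π (fun _ => f) i =
    WidePullback.π (fun _ => pullback.snd f b) i ≫ pullback.fst f b)
  (hcb : c ≫ WidePullback.base (fun _ => f) =
    WidePullback.base (fun _ => pullback.snd f b) ≫ b)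
  (q' : SymProd.fibPow (pullback.snd f b) n ⟶ pullback g b)
  (hq'₁ : q' ≫ pullback.fst g b = c ≫ q)
  (hq'₂ : q' ≫ pullback.snd g b = WidePullback.base (fun _ => pullback.snd f b))

include hcπ hcb in
/-- The comparison map of fibre powers is equivariant. -/
lemma perm_comp_c (σ : Equiv.Perm (Fin n)) :
    SymProd.permHom (pullback.snd f b) n σ ≫ c = c ≫ SymProd.permHom f n σ := by
  apply WidePullback.hom_ext
  · intro i
    rw [Category.assoc, hcπ, SymProd.permHom_π_assoc, Category.assoc, SymProd.permHom_π, hcπ]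
  · rw [Category.assoc, hcb, SymProd.permHom_base_assoc, Category.assoc, SymProd.permHom_base,
      hcb]

include hcπ hcb hq'₁ hq'₂ in
/-- The base-changed quotient map is invariant. -/
lemma inv' (hinv : ∀ γ, (SymProd.permActU f n γ).hom ≫ q = q)
    (γ : ULift.{u} (Equiv.Perm (Fin n))) :
    (SymProd.permActU (pullback.snd f b) n γ).hom ≫ q' = q' := by
  rw [SymProd.permActU_hom]
  apply pullback.hom_ext
  · rw [Category.assoc, hq'₁, ← Category.assoc, perm_comp_c f n b c hcπ hcb, Category.assoc]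
    have := hinv γ
    rw [SymProd.permActU_hom] at this
    rw [this]
  · rw [Category.assoc, hq'₂, SymProd.permHom_base]

include hcπ hcb hq'₁ hq'₂ in
/-- The quotient property over a product chart of the base change. -/
theorem chart [Flat f] (hquot : SGA1.IsQuot (SymProd.permActU f n) q)
    (hover : q ≫ g = WidePullback.base (fun _ => f))
    {V : S.Opens} {V' : S'.Opens} {U : X.Opens} {W' : Y.Opens}
    (hV : IsAffineOpen V) (hV' : IsAffineOpen V') (hU : IsAffineOpen U)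
    (hUV : U ≤ f ⁻¹ᵁ V) (hV'V : V' ≤ b ⁻¹ᵁ V) (hW'V : W' ≤ g ⁻¹ᵁ V)
    (hW' : IsAffineOpen W') (hpre : q ⁻¹ᵁ W' = boxOpen f n V U)
    (Ω : (pullback g b).Opens) (hΩ : Ω = pullback.fst g b ⁻¹ᵁ W' ⊓ pullback.snd g b ⁻¹ᵁ V') :
    IsAffineOpen Ω ∧ IsAffineOpen (q' ⁻¹ᵁ Ω) ∧
      QuotAt (SymProd.permActU (pullback.snd f b) n) q' Ω (q' ⁻¹ᵁ Ω) := by
  classical
  have hinv' := inv' f n q g b c hcπ hcb q' hq'₁ hq'₂ hquot.inv
  obtain ⟨box, hboxdef⟩ : ∃ box : (SymProd.fibPow f n).Opens, box = boxOpen f n V U := ⟨_, rfl⟩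
  obtain ⟨box'', hbox''def⟩ : ∃ box'' : (SymProd.fibPow (pullback.snd f b) n).Opens,
      box'' = c ⁻¹ᵁ box ⊓ (WidePullback.base (fun _ : Fin n => pullback.snd f b)) ⁻¹ᵁ V' :=
    ⟨_, rfl⟩
  have hpre' : q' ⁻¹ᵁ Ω = box'' := by
    rw [hΩ, Scheme.Hom.preimage_inf, ← Scheme.Hom.comp_preimage, ← Scheme.Hom.comp_preimage,
      hq'₁, hq'₂, Scheme.Hom.comp_preimage, hpre, hbox''def, hboxdef]
  have hYB : IsPullback (pullback.fst g b) (pullback.snd g b) g b := IsPullback.of_hasPullback g b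
  have hPB := FPB.isPullback_fibPow f b n c hcπ hcb
  have hbox : IsAffineOpen box := by
    rw [hboxdef]
    exact isAffineOpen_boxOpen V U hUV hV hU
  have hboxV : box ≤ (WidePullback.base (fun _ : Fin n => f)) ⁻¹ᵁ V := by
    rw [hboxdef]
    exact boxOpen_le_base V U
  have hΩaff : IsAffineOpen Ω := PBO.isAffineOpen_of_isPullback hYB hV hV' hW' hV'V hW'V hΩ
  have hbox''aff : IsAffineOpen box'' :=
    PBO.isAffineOpen_of_isPullback hPB hV hV' hbox hV'V hboxV hbox''def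
  refine ⟨hΩaff, hpre' ▸ hbox''aff, QuotAt.of_eq hpre' ?_⟩
  have pushC := PBO.isPushout_appLE hYB hV hV' hW' hV'V hW'V hΩ
  have pushT := PBO.isPushout_appLE hPB hV hV' hbox hV'V hboxV hbox''def
  letI : Algebra Γ(S, V) Γ(X, U) := (f.appLE V U hUV).hom.toAlgebra
  have halg : algebraMap Γ(S, V) Γ(X, U) = (f.appLE V U hUV).hom := rfl
  haveI : Module.Flat Γ(S, V) Γ(X, U) :=
    HasRingHomProperty.appLE (P := @Flat) f inferInstance ⟨V, hV⟩ ⟨U, hU⟩ hUV
  subst hboxdef
  have le : ∀ γ, box'' ≤ ((SymProd.permActU (pullback.snd f b) n) γ).hom ⁻¹ᵁ box'' := by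
    intro γ
    rw [← hpre']
    exact SGA1.preimage_le_of_inv _ q' hinv' γ Ω
  obtain ⟨hinj, hrange⟩ := isQuot_appLE (SymProd.permActU f n) q hquot W' (boxOpen f n V U) hpre
  have hst : ∀ γ : ULift.{u} (Equiv.Perm (Fin n)),
      boxOpen f n V U ≤ ((SymProd.permActU f n) γ).hom ⁻¹ᵁ boxOpen f n V U :=
    fun γ => boxOpen_le_perm γ.down
  have hcore := QBC.core (A := Γ(S, V)) (A' := Γ(S', V')) (B := Γ(X, U)) (C := Γ(Y, W'))
    (T := Γ(SymProd.fibPow f n, boxOpen f n V U)) (C' := Γ(pullback g b, Ω))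
    (T' := Γ(SymProd.fibPow (pullback.snd f b) n, box'')) n
    (b.appLE V V' hV'V) (g.appLE V W' hW'V)
    ((WidePullback.base (fun _ : Fin n => f)).appLE V (boxOpen f n V U) (boxOpen_le_base V U))
    (q.appLE W' (boxOpen f n V U) hpre.ge)
    ((pullback.fst g b).appLE W' Ω (hΩ.le.trans inf_le_left))
    ((pullback.snd g b).appLE V' Ω (hΩ.le.trans inf_le_right))
    (c.appLE (boxOpen f n V U) box'' (hbox''def.le.trans inf_le_left))
    ((WidePullback.base (fun _ : Fin n => pullback.snd f b)).appLE V' box''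
      (hbox''def.le.trans inf_le_right))
    (q'.appLE Ω box'' hpre'.ge)
    (by
      rw [Scheme.Hom.appLE_comp_appLE]
      exact appLE_congr_hom hover _)
    pushC pushT
    (by
      rw [Scheme.Hom.appLE_comp_appLE, Scheme.Hom.appLE_comp_appLE]
      exact appLE_congr_hom hq'₁ _)
    (by
      rw [Scheme.Hom.appLE_comp_appLE]
      exact appLE_congr_hom hq'₂ _)
    (alpha (n := n) hUV halg) (alpha_bijective hUV hV hU halg) (alpha_algebraMap hUV halg)
    (fun σ => (SymProd.permHom f n σ).appLE _ _ (boxOpen_le_perm σ))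
    (fun σ => (SymProd.permHom (pullback.snd f b) n σ).appLE box'' box'' (le ⟨σ⟩))
    (alpha_perm hUV halg)
    (fun σ => by
      rw [Scheme.Hom.appLE_comp_appLE, Scheme.Hom.appLE_comp_appLE]
      exact appLE_congr_hom (perm_comp_c f n b c hcπ hcb σ) _)
    (fun σ => by
      rw [Scheme.Hom.appLE_comp_appLE]
      exact appLE_congr_hom (SymProd.permHom_base _ n σ) _)
    hinj
    (fun t => (hrange hst t).trans ⟨fun h σ => h ⟨σ⟩, fun h γ => h γ.down⟩)
  refine ⟨hpre'.symm, le, hcore.1, fun s => ⟨?_, fun h => hcore.2 s fun σ => h ⟨σ⟩⟩⟩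
  rintro ⟨t, rfl⟩ γ
  exact appLE_appLE_of_inv hinv' Ω box'' _ γ _ t

include hcπ hcb hq'₁ hq'₂ in
/-- **Symmetric products of flat (AF) schemes commute with base change.** -/
theorem isSymProd_baseChange [Flat f] (hAF : SymProd.IsAF f) (hq : SymProd.IsSymProd f n q g) :
    SymProd.IsSymProd (pullback.snd f b) n q' (pullback.snd g b) := by
  refine ⟨?_, hq'₂⟩
  have hquot := hq.isQuot
  have hinv' := inv' f n q g b c hcπ hcb q' hq'₁ hq'₂ hquot.inv
  have hch : ∀ y' : ↥(pullback g b), ∃ Ω : (pullback g b).Opens, y' ∈ Ω ∧ IsAffineOpen Ω ∧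
      IsAffineOpen (q' ⁻¹ᵁ Ω) ∧
      QuotAt (SymProd.permActU (pullback.snd f b) n) q' Ω (q' ⁻¹ᵁ Ω) := by
    intro y'
    obtain ⟨x, hx⟩ := Groth.Agent.H15.Quot.surjective hquot ((pullback.fst g b).base y')
    have hgy : g.base ((pullback.fst g b).base y') = b.base ((pullback.snd g b).base y') := by
      rw [← Scheme.Hom.comp_apply, ← Scheme.Hom.comp_apply, pullback.condition]
    obtain ⟨V, hV, hsV⟩ : ∃ V : S.Opens, IsAffineOpen V ∧
        g.base ((pullback.fst g b).base y') ∈ V := by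
      obtain ⟨_, ⟨V, hV, rfl⟩, hxV, -⟩ := S.isBasis_affineOpens.exists_subset_of_mem_open
        (Set.mem_univ (g.base ((pullback.fst g b).base y'))) isOpen_univ
      exact ⟨V, hV, hxV⟩
    have hxV : (WidePullback.base (fun _ : Fin n => f)).base x ∈ V := by
      rw [← hq.over, Scheme.Hom.comp_apply, hx]
      exact hsV
    obtain ⟨U, W', hU, hUV, hW', hyW', hpre, hW'V⟩ :=
      SC.exists_box_chart f hAF n q g hq x V hV hxV
    obtain ⟨V', hV', hs'V', hV'V⟩ : ∃ V' : S'.Opens, IsAffineOpen V' ∧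
        (pullback.snd g b).base y' ∈ V' ∧ V' ≤ b ⁻¹ᵁ V := by
      have h0 : (pullback.snd g b).base y' ∈ b ⁻¹ᵁ V := by
        change b.base _ ∈ V
        rw [← hgy]
        exact hsV
      obtain ⟨_, ⟨V', hV', rfl⟩, h1, h2⟩ :=
        S'.isBasis_affineOpens.exists_subset_of_mem_open h0 (b ⁻¹ᵁ V).2
      exact ⟨V', hV', h1, h2⟩
    rw [hx] at hyW'
    exact ⟨pullback.fst g b ⁻¹ᵁ W' ⊓ pullback.snd g b ⁻¹ᵁ V', ⟨hyW', hs'V'⟩,
      chart f n q g b c hcπ hcb q' hq'₁ hq'₂ hquot hq.over hV hV' hU hUV hV'V hW'V hW' hpre _ rfl⟩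
  refine isQuot_of_affine_cover (isAffineHom_of_forall_exists_isAffineOpen (f := q') fun y' => ?_) hinv'
    {Ω | IsAffineOpen Ω ∧ QuotAt (SymProd.permActU (pullback.snd f b) n) q' Ω (q' ⁻¹ᵁ Ω)}
    (fun Ω h => h.1) (fun y' => ?_) (fun Ω h => h.2)
  · obtain ⟨Ω, h1, h2, h3, -⟩ := hch y'
    exact ⟨Ω, h1, h2, h3⟩
  · obtain ⟨Ω, h1, h2, -, h4⟩ := hch y'
    exact ⟨Ω, ⟨h2, h4⟩, h1⟩

end

end Groth.Agent.H68.SPB
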