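import Groth.Agent.H68.TSGammaFlat
import Mathlib

/-!
# The symmetric tensors of a flat algebra are generated by elementary symmetric tensors
-/

set_option autoImplicit false
set_option linter.style.haveILetI false
universe u
open scoped TensorProduct

namespace Groth.Agent.H68.ES

open Groth.Agent.H68 Groth.Agent.H68.LC Groth.Agent.H68.CR Groth.Agent.H68.FV
  Groth.Agent.H68.TSG

variable {R : Type u} [CommRing R] {A : Type u} [CommRing A] [Algebra R A] (n : ℕ)

lemma kk_comp {J J' : Type} (ι : J → J') (c : Fin n → J) :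
    kk (fun i => ι (c i)) = (kk c).mapDomain ι := by
  rw [kk, kk, Finsupp.mapDomain_finsetSum]
  simp only [Finsupp.mapDomain_single]

/-- Reindexing the coefficients of the tensor power law along an injection. -/
lemma coeffE_GT_mapDomain {J J' : Type} [Fintype J] [Fintype J'] (ι : J → J')
    (hι : Function.Injective ι) (Y' : J' → A) (κ : J →₀ ℕ) :
    coeffE (GT R A n).law Y' Finset.univ (κ.mapDomain ι) =
      coeffE (GT R A n).law (fun j => Y' (ι j)) Finset.univ κ := by
  classical
  rw [coeffE_GT', coeffE_GT', Fintype.piFinset_univ, Fintype.piFinset_univ]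
  symm
  refine Finset.sum_bij (fun c _ => fun i => ι (c i)) ?_ ?_ ?_ ?_
  · intro c hc
    rw [Finset.mem_filter] at hc ⊢
    exact ⟨Finset.mem_univ _, by rw [kk_comp, hc.2]⟩
  · intro c₁ _ c₂ _ h
    funext i
    exact hι (congrFun h i)
  · intro ct hct
    rw [Finset.mem_filter] at hct
    have hrange : ∀ i, ∃ j, ι j = ct i := by
      intro i
      have h1 : (kk ct) (ct i) ≠ 0 := by
        rw [kk_apply]
        exact Finset.card_ne_zero_of_mem (Finset.mem_filter.mpr ⟨Finset.mem_univ i, rfl⟩)
      rw [hct.2] at h1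
      have h2 : ct i ∈ (κ.mapDomain ι).support := Finsupp.mem_support_iff.mpr h1
      have h3 := Finsupp.mapDomain_support h2
      obtain ⟨j, -, hj⟩ := Finset.mem_image.mp h3
      exact ⟨j, hj⟩
    choose c hc using hrange
    refine ⟨c, ?_, funext hc⟩
    rw [Finset.mem_filter]
    refine ⟨Finset.mem_univ _, ?_⟩
    apply Finsupp.mapDomain_injective hι
    rw [← kk_comp, ← hct.2]
    congr 1
    funext i
    exact hc i
  · intro c _
    rfl

lemma mapDomain_apply_fintype {α β : Type*} [Fintype α] [DecidableEq β] (f : α → β)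
    (v : α →₀ ℕ) (x : β) : (v.mapDomain f) x = ∑ a, if f a = x then v a else 0 := by
  rw [Finsupp.mapDomain, Finsupp.sum_fintype _ _ (fun _ => Finsupp.single_zero _),
    Finsupp.finsetSum_apply]
  simp only [Finsupp.single_apply]

lemma mapDomain_fst_apply {J : Type} [Fintype J] [DecidableEq J] (ν : J × Fin 2 →₀ ℕ) (j : J) :
    (ν.mapDomain Prod.fst) j = ν (j, 0) + ν (j, 1) := by
  rw [mapDomain_apply_fintype, Fintype.sum_prod_type]
  simp only [Fin.sum_univ_two]
  rw [Finset.sum_add_distrib, Finset.sum_ite_eq', Finset.sum_ite_eq']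
  simp

lemma mapDomain_snd_apply {J : Type} [Fintype J] [DecidableEq J] (ν : J × Fin 2 →₀ ℕ)
    (t : Fin 2) : (ν.mapDomain Prod.snd) t = ∑ j, ν (j, t) := by
  rw [mapDomain_apply_fintype, Fintype.sum_prod_type]
  refine Finset.sum_congr rfl fun j _ => ?_
  rw [Finset.sum_ite_eq']
  simp

/-- The elementary symmetric tensors are coefficients of the tensor power law. -/
lemma sigma_eq_coeffE (a : A) (m : ℕ) :
    ∑ I ∈ (Finset.univ : Finset (Fin n)).powersetCard m,
        PiTensorProduct.tprod R (fun i : Fin n => if i ∈ I then a else (1 : A)) =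
      coeffE (GT R A n).law ![a, 1] Finset.univ
        (Finsupp.single 0 m + Finsupp.single 1 (n - m)) := by
  classical
  rw [coeffE_GT', Fintype.piFinset_univ]
  have h2 : ∀ t : Fin 2, t = 0 ∨ t = 1 := by decide
  refine Finset.sum_bij (fun I _ => fun i => if i ∈ I then (0 : Fin 2) else 1) ?_ ?_ ?_ ?_
  · intro I hI
    rw [Finset.mem_powersetCard] at hI
    rw [Finset.mem_filter]
    refine ⟨Finset.mem_univ _, ?_⟩
    ext t
    rw [kk_apply]
    rcases h2 t with rfl | rfl
    · have : (Finset.univ.filter fun i => (if i ∈ I then (0 : Fin 2) else 1) = 0) = I := by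
        ext i
        by_cases hi : i ∈ I <;> simp [hi]
      rw [this, hI.2]
      simp
    · have : (Finset.univ.filter fun i => (if i ∈ I then (0 : Fin 2) else 1) = 1) = Iᶜ := by
        ext i
        by_cases hi : i ∈ I <;> simp [hi]
      rw [this, Finset.card_compl, hI.2, Fintype.card_fin]
      simp
  · intro I₁ _ I₂ _ h
    ext i
    have := congrFun h i
    by_cases h1 : i ∈ I₁ <;> by_cases h2 : i ∈ I₂ <;> simp_all
  · intro α hα
    rw [Finset.mem_filter] at hα
    refine ⟨Finset.univ.filter (fun i => α i = 0), ?_, ?_⟩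
    · rw [Finset.mem_powersetCard]
      refine ⟨Finset.subset_univ _, ?_⟩
      rw [← kk_apply, hα.2]
      simp
    · funext i
      rcases h2 (α i) with h | h <;> simp [h]
  · intro I _
    congr 1
    funext i
    by_cases hi : i ∈ I <;> simp [hi]

/-- A subalgebra of the tensor power containing the coefficients of the tensor power law with
respect to the families `(a, 1)` contains all coefficients with respect to finite families having
`1` as a member. -/
theorem coeffE_mem_of_sigma (E : Subalgebra R (TP R A n))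
    (hE : ∀ (a : A) (m : ℕ), coeffE (GT R A n).law ![a, 1] Finset.univ
      (Finsupp.single 0 m + Finsupp.single 1 (n - m)) ∈ E) :
    ∀ (w : ℕ) (J : Type) [Fintype J] [DecidableEq J] (Y : J → A) (j₀ : J) (κ : J →₀ ℕ),
      Y j₀ = 1 → κ.degree = n → κ j₀ + w = n →
      coeffE (GT R A n).law Y Finset.univ κ ∈ E := by
  classical
  intro w
  induction w using Nat.strong_induction_on with
  | _ w ih =>
  intro J _ _ Y j₀ κ hY hdeg hw
  by_cases hall : ∀ j, j ≠ j₀ → κ j = 0
  · rw [coeffE_GT', Fintype.piFinset_univ]
    refine Subalgebra.sum_mem _ fun α hα => ?_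
    rw [Finset.mem_filter] at hα
    have h1 : (fun i => Y (α i)) = fun _ => 1 := by
      funext i
      have h1 : α i = j₀ := by
        by_contra hne
        have h0 := hall _ hne
        rw [← hα.2, kk_apply] at h0
        exact Finset.card_ne_zero_of_mem (s := Finset.univ.filter fun i' => α i' = α i)
          (Finset.mem_filter.mpr ⟨Finset.mem_univ i, rfl⟩) h0
      rw [h1, hY]
    rw [h1]
    exact E.one_mem
  · push Not at hall
    obtain ⟨j₁, hj₁, hm⟩ := hall
    obtain ⟨m, hm_def⟩ : ∃ m, m = κ j₁ := ⟨_, rfl⟩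
    obtain ⟨a, ha_def⟩ : ∃ a, a = Y j₁ := ⟨_, rfl⟩
    have hm1 : 1 ≤ m := by rw [hm_def]; exact Nat.one_le_iff_ne_zero.mpr hm
    have hle : κ j₀ + m ≤ n := by
      rw [← hdeg, Finsupp.degree_eq_sum, hm_def]
      calc κ j₀ + κ j₁ = ∑ j ∈ {j₀, j₁}, κ j := by rw [Finset.sum_pair hj₁.symm]
        _ ≤ ∑ j, κ j := Finset.sum_le_sum_of_subset (Finset.subset_univ _)
    let κ' : J →₀ ℕ := κ.erase j₁ + Finsupp.single j₀ m
    have hκ'0 : κ' j₀ = κ j₀ + m := by
      simp [κ', Finsupp.erase_ne hj₁.symm]
    have hκ'1 : κ' j₁ = 0 := by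
      simp [κ', Finsupp.single_eq_of_ne hj₁]
    have hκ'j : ∀ j, j ≠ j₀ → j ≠ j₁ → κ' j = κ j := by
      intro j h0 h1
      simp [κ', Finsupp.erase_ne h1, Finsupp.single_eq_of_ne h0]
    have hκ'deg : κ'.degree = n := by
      have h := congrArg Finsupp.degree (Finsupp.erase_add_single j₁ κ)
      rw [map_add, Finsupp.degree_single, hdeg, ← hm_def] at h
      change (κ.erase j₁ + Finsupp.single j₀ m).degree = n
      rw [map_add, Finsupp.degree_single, h]
    have h1 : coeffE (GT R A n).law Y Finset.univ κ' ∈ E :=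
      ih (w - m) (by omega) J Y j₀ κ' hY hκ'deg (by omega)
    have h2 := hE a m
    have hprod := E.mul_mem h1 h2
    rw [coeffE_mul (GT R A n).law (GT R A n).mult, Finset.univ_product_univ] at hprod
    obtain ⟨Y2, hY2⟩ : ∃ Y2 : J × Fin 2 → A, Y2 = fun p => Y p.1 * ![a, 1] p.2 := ⟨_, rfl⟩
    rw [← hY2] at hprod
    obtain ⟨S, hS⟩ : ∃ S : Finset (J × Fin 2 →₀ ℕ), S =
      (coeffE (GT R A n).law Y2 Finset.univ).support.filter (fun ν =>
        ν.mapDomain Prod.fst = κ' ∧ ν.mapDomain Prod.snd =
          Finsupp.single 0 m + Finsupp.single 1 (n - m)) := ⟨_, rfl⟩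
    replace hprod : ∑ ν ∈ S, coeffE (GT R A n).law Y2 Finset.univ ν ∈ E := by
      rw [hS]
      convert hprod
    -- the marginals of the elements of `S`
    have hM1 : ∀ ν ∈ S, ∀ j, ν (j, 0) + ν (j, 1) = κ' j := by
      intro ν hν j
      rw [hS, Finset.mem_filter] at hν
      rw [← mapDomain_fst_apply, hν.2.1]
    have hM2 : ∀ ν ∈ S, ∑ j, ν (j, 0) = m := by
      intro ν hν
      rw [hS, Finset.mem_filter] at hν
      rw [← mapDomain_snd_apply, hν.2.2]
      simp
    -- the top term
    let ι : J → J × Fin 2 := fun j => if j = j₁ then (j₀, 0) else (j, 1)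
    have hι : Function.Injective ι := by
      intro x y hxy
      by_cases hx : x = j₁ <;> by_cases hy : y = j₁
      · rw [hx, hy]
      · simp only [ι, hx, hy, if_true, if_false, Prod.mk.injEq] at hxy
        exact absurd hxy.2 (by decide)
      · simp only [ι, hx, hy, if_true, if_false, Prod.mk.injEq] at hxy
        exact absurd hxy.2 (by decide)
      · simp only [ι, hx, hy, if_false, Prod.mk.injEq] at hxy
        exact hxy.1
    have hYι : (fun j => Y2 (ι j)) = Y := by
      funext j
      by_cases hj : j = j₁
      · simp [ι, hj, hY2, hY, ha_def]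
      · simp [ι, hj, hY2]
    let νtop : J × Fin 2 →₀ ℕ := κ.mapDomain ι
    have htop : coeffE (GT R A n).law Y2 Finset.univ νtop =
        coeffE (GT R A n).law Y Finset.univ κ := by
      rw [coeffE_GT_mapDomain n ι hι, hYι]
    have hV1 : νtop (j₀, 0) = m := by
      have : ι j₁ = (j₀, 0) := by simp [ι]
      rw [← this, Finsupp.mapDomain_apply hι, hm_def]
    have hV2 : ∀ j, j ≠ j₀ → νtop (j, 0) = 0 := by
      intro j hj
      apply Finsupp.mapDomain_of_notMem_range
      rintro ⟨x, hx⟩
      by_cases hx1 : x = j₁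
      · simp only [ι, hx1, if_true, Prod.mk.injEq] at hx
        exact hj hx.1.symm
      · simp only [ι, hx1, if_false, Prod.mk.injEq] at hx
        exact absurd hx.2 (by decide)
    have hV3 : νtop (j₁, 1) = 0 := by
      apply Finsupp.mapDomain_of_notMem_range
      rintro ⟨x, hx⟩
      by_cases hx1 : x = j₁
      · simp only [ι, hx1, if_true, Prod.mk.injEq] at hx
        exact absurd hx.2 (by decide)
      · simp only [ι, hx1, if_false, Prod.mk.injEq] at hx
        exact hx.1
    have hV4 : ∀ j, j ≠ j₁ → νtop (j, 1) = κ j := by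
      intro j hj
      have : ι j = (j, 1) := by simp [ι, hj]
      rw [← this, Finsupp.mapDomain_apply hι]
    -- terms other than the top term
    have hrest : ∀ ν ∈ S, ν ≠ νtop → coeffE (GT R A n).law Y2 Finset.univ ν ∈ E := by
      intro ν hν hne
      have hνdeg : ν.degree = n := by
        have hν' := hν
        rw [hS, Finset.mem_filter] at hν'
        rw [← Finsupp.degree_mapDomain Prod.fst, hν'.2.1, hκ'deg]
      have hle' : ν (j₀, 1) ≤ n := by
        rw [← hνdeg, Finsupp.degree_eq_sum]
        exact Finset.single_le_sum (f := fun p => ν p) (fun _ _ => Nat.zero_le _)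
          (Finset.mem_univ _)
      have hkey : κ j₀ < ν (j₀, 1) := by
        by_contra hcon
        push Not at hcon
        apply hne
        have e1 := hM1 ν hν j₀
        rw [hκ'0] at e1
        have e2 := hM2 ν hν
        rw [← Finset.add_sum_erase _ _ (Finset.mem_univ j₀)] at e2
        have e3 : ν (j₀, 0) = m := by omega
        have e4 : ν (j₀, 1) = κ j₀ := by omega
        have e5 : ∑ j ∈ Finset.univ.erase j₀, ν (j, 0) = 0 := by omega
        rw [Finset.sum_eq_zero_iff] at e5
        have e6 : ∀ j, j ≠ j₀ → ν (j, 0) = 0 := fun j hj =>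
          e5 j (Finset.mem_erase.mpr ⟨hj, Finset.mem_univ _⟩)
        have h2 : ∀ t : Fin 2, t = 0 ∨ t = 1 := by decide
        ext ⟨j, t⟩
        rcases h2 t with rfl | rfl
        · by_cases hj : j = j₀
          · rw [hj, e3, hV1]
          · rw [e6 j hj, hV2 j hj]
        · by_cases hj : j = j₁
          · rw [hj, hV3]
            have := hM1 ν hν j₁
            rw [hκ'1] at this
            omega
          · rw [hV4 j hj]
            by_cases hj0 : j = j₀
            · rw [hj0, e4]
            · have := hM1 ν hν j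
              rw [hκ'j j hj0 hj, e6 j hj0] at this
              omega
      exact ih (n - ν (j₀, 1)) (by omega) (J × Fin 2) Y2 (j₀, 1) ν (by simp [hY2, hY]) hνdeg
        (by omega)
    by_cases htopS : νtop ∈ S
    · rw [← Finset.add_sum_erase S _ htopS] at hprod
      have hsum : ∑ ν ∈ S.erase νtop, coeffE (GT R A n).law Y2 Finset.univ ν ∈ E :=
        E.sum_mem fun ν hν => hrest ν (Finset.mem_of_mem_erase hν) (Finset.ne_of_mem_erase hν)
      have := E.sub_mem hprod hsum
      rw [add_sub_cancel_right, htop] at this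
      exact this
    · -- the top term has the right marginals, so its coefficient vanishes
      rw [← htop]
      have hzero : coeffE (GT R A n).law Y2 Finset.univ νtop = 0 := by
        by_contra hne
        apply htopS
        rw [hS, Finset.mem_filter]
        refine ⟨Finsupp.mem_support_iff.mpr hne, ?_, ?_⟩
        · ext j
          rw [mapDomain_fst_apply]
          by_cases hj0 : j = j₀
          · rw [hj0, hV1, hV4 j₀ hj₁.symm, hκ'0, add_comm]
          · rw [hV2 j hj0]
            by_cases hj1 : j = j₁
            · rw [hj1, hV3, hκ'1]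
            · rw [hV4 j hj1, hκ'j j hj0 hj1, zero_add]
        · have hs0 : ∑ j, νtop (j, 0) = m := by
            rw [Finset.sum_eq_single j₀ (fun j _ hj => hV2 j hj)
              (fun h => absurd (Finset.mem_univ _) h), hV1]
          have hs : ∑ j, νtop (j, 0) + ∑ j, νtop (j, 1) = n := by
            have hd : νtop.degree = n := by
              change (κ.mapDomain ι).degree = n
              rw [Finsupp.degree_mapDomain, hdeg]
            rw [← hd, Finsupp.degree_eq_sum, Fintype.sum_prod_type, ← Finset.sum_add_distrib]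
            refine Finset.sum_congr rfl fun j _ => ?_
            rw [Fin.sum_univ_two]
          have h2 : ∀ t : Fin 2, t = 0 ∨ t = 1 := by decide
          ext t
          rw [mapDomain_snd_apply]
          rcases h2 t with rfl | rfl
          · rw [hs0]
            simp
          · have : ∑ j, νtop (j, 1) = n - m := by omega
            rw [this]
            simp
      rw [hzero]
      exact E.zero_mem

lemma degree_kk {J : Type} (c : Fin n → J) : (kk c).degree = n := by
  rw [kk, map_sum]
  simp [Finsupp.degree_single]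

lemma coeffE_GT_eq_zero_of_degree_ne {J : Type} [Fintype J] (Y : J → A) (κ : J →₀ ℕ)
    (h : κ.degree ≠ n) : coeffE (GT R A n).law Y Finset.univ κ = 0 := by
  classical
  rw [coeffE_GT']
  apply Finset.sum_eq_zero
  intro α hα
  rw [Finset.mem_filter] at hα
  exact absurd (by rw [← hα.2, degree_kk]) h

/-- The symmetric tensors of a flat algebra are generated by the elementary symmetric tensors. -/
theorem TS_eq_adjoin_sigma [Module.Flat R A] :
    SymTen.TS R A n = Algebra.adjoin R {t : ⨂[R] _ : Fin n, A | ∃ (a : A) (j : ℕ),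
      t = ∑ I ∈ (Finset.univ : Finset (Fin n)).powersetCard j,
        PiTensorProduct.tprod R (fun i : Fin n => if i ∈ I then a else (1 : A))} := by
  classical
  apply le_antisymm
  · intro z hz
    obtain ⟨E, hEdef⟩ : ∃ E : Subalgebra R (TP R A n), E =
      Algebra.adjoin R {t : ⨂[R] _ : Fin n, A | ∃ (a : A) (j : ℕ),
      t = ∑ I ∈ (Finset.univ : Finset (Fin n)).powersetCard j,
        PiTensorProduct.tprod R (fun i : Fin n => if i ∈ I then a else (1 : A))} := ⟨_, rfl⟩
    rw [← hEdef]
    have hE : ∀ (a : A) (m : ℕ), coeffE (GT R A n).law ![a, 1] Finset.univ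
        (Finsupp.single 0 m + Finsupp.single 1 (n - m)) ∈ E := by
      intro a m
      rw [← sigma_eq_coeffE, hEdef]
      exact Algebra.subset_adjoin ⟨a, m, rfl⟩
    obtain ⟨l, y, K, Wbar, hz'⟩ := exists_comb_of_flat (A := R) (B := A) (d := n) ⟨z, hz⟩
    have hz'' : z = ∑ κ ∈ K, Wbar κ • coeffE (GT R A n).law y Finset.univ κ := by
      have := congrArg (fun t : SymTen.TS R A n => (t : TP R A n)) hz'
      simp only at this
      rw [this, AddSubmonoidClass.coe_finsetSum]
      refine Finset.sum_congr rfl fun κ _ => ?_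
      rw [← val_coeffE_tau R A n y Finset.univ κ]
      rfl
    rw [hz'']
    refine Subalgebra.sum_mem _ fun κ _ => Subalgebra.smul_mem _ ?_ _
    by_cases hdeg : κ.degree = n
    · have h := coeffE_mem_of_sigma n E hE n (Option (Fin l)) (fun o => o.elim 1 y) none
        (κ.mapDomain some) rfl (by rw [Finsupp.degree_mapDomain, hdeg])
        (by rw [Finsupp.mapDomain_of_notMem_range _ _ (by simp), zero_add])
      rw [coeffE_GT_mapDomain n some (Option.some_injective _)] at h
      exact h
    · rw [coeffE_GT_eq_zero_of_degree_ne n y κ hdeg]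
      exact E.zero_mem
  · apply Algebra.adjoin_le
    rintro t ⟨a, j, rfl⟩
    rw [sigma_eq_coeffE]
    exact coeffE_GT_mem n _ _ _

end Groth.Agent.H68.ES
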