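import Groth.Agent.H68.RydhStar
import Groth.Agent.H68.TSGammaFlat
import Mathlib

/-!
# Finite generation of symmetric tensors

* over a noetherian base, `TS^d_Z(B)` is of finite type when `B` is (E. Noether);
* the symmetric tensors of a polynomial ring over `A` are generated by the image of those of the
  polynomial ring over a base ring `Z → A`.
-/

set_option autoImplicit false
set_option linter.style.haveILetI false
universe u
open scoped TensorProduct

namespace Groth.Agent.H68.TSF

open Groth.Agent.H68 Groth.Agent.H68.LC Groth.Agent.H68.CR Groth.Agent.H68.FV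
  Groth.Agent.H68.TSG Groth.Agent.H68.RL

section Noether

variable (Z : Type u) [CommRing Z] (B : Type u) [CommRing B] [Algebra Z B] (d : ℕ)

/-- The tensor power of an algebra of finite type is of finite type. -/
theorem finiteType_TP [Algebra.FiniteType Z B] : Algebra.FiniteType Z (TP Z B d) := by
  classical
  obtain ⟨s, hs⟩ := (‹Algebra.FiniteType Z B›).out
  refine ⟨⟨Finset.univ.biUnion (fun j => s.image (gT Z B d j)), ?_⟩⟩
  rw [eq_top_iff]
  rintro t -
  induction t using PiTensorProduct.induction_on with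
  | smul_tprod r f =>
    refine Subalgebra.smul_mem _ ?_ r
    rw [← prod_gT']
    refine Subalgebra.prod_mem _ fun j _ => ?_
    have h1 : f j ∈ Algebra.adjoin Z (s : Set B) := hs ▸ Algebra.mem_top
    have h2 : gT Z B d j (f j) ∈ (Algebra.adjoin Z (s : Set B)).map (gT Z B d j) := ⟨_, h1, rfl⟩
    rw [AlgHom.map_adjoin] at h2
    refine Algebra.adjoin_mono ?_ h2
    rintro x ⟨b, hb, rfl⟩
    simp only [Finset.coe_biUnion, Finset.coe_univ, Set.mem_univ, Set.iUnion_true, Set.mem_iUnion,
      Finset.coe_image]
    exact ⟨j, b, hb, rfl⟩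
  | add x y hx hy => exact Subalgebra.add_mem _ hx hy

lemma perm_one (t : TP Z B d) : SymTen.perm Z B d 1 t = t := by
  induction t using PiTensorProduct.induction_on with
  | smul_tprod r f => simp only [map_smul, SymTen.perm_tprod]; rfl
  | add x y hx hy => simp only [map_add, hx, hy]

/-- The permutation action on the tensor power. -/
@[reducible] noncomputable def permAction : MulSemiringAction (Equiv.Perm (Fin d)) (TP Z B d) where
  smul σ t := SymTen.perm Z B d σ t
  one_smul t := perm_one Z B d t
  mul_smul σ τ t := by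
    change SymTen.perm Z B d (σ * τ) t = SymTen.perm Z B d σ (SymTen.perm Z B d τ t)
    rw [← perm_comp_perm]
    rfl
  smul_zero σ := map_zero (SymTen.perm Z B d σ)
  smul_add σ := map_add (SymTen.perm Z B d σ)
  smul_one σ := map_one (SymTen.perm Z B d σ)
  smul_mul σ := map_mul (SymTen.perm Z B d σ)

theorem isInvariant :
    letI := permAction Z B d
    Algebra.IsInvariant (SymTen.TS Z B d) (TP Z B d) (Equiv.Perm (Fin d)) := by
  letI := permAction Z B d
  refine ⟨fun t ht => ⟨⟨t, fun σ => ?_⟩, rfl⟩⟩
  rw [← SymTen.perm_apply]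
  exact ht σ

/-- E. Noether: over a noetherian ring, the symmetric tensors of an algebra of finite type are
of finite type. -/
theorem finiteType_TS [IsNoetherianRing Z] [Algebra.FiniteType Z B] :
    Algebra.FiniteType Z (SymTen.TS Z B d) := by
  letI := permAction Z B d
  haveI := isInvariant Z B d
  haveI : Algebra.IsIntegral (SymTen.TS Z B d) (TP Z B d) :=
    Algebra.IsInvariant.isIntegral _ _ (Equiv.Perm (Fin d))
  haveI := finiteType_TP Z B d
  haveI : Algebra.FiniteType (SymTen.TS Z B d) (TP Z B d) :=
    .of_restrictScalars_finiteType Z _ _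
  haveI : Module.Finite (SymTen.TS Z B d) (TP Z B d) := Algebra.IsIntegral.finite
  exact ⟨fg_of_fg_of_fg Z (SymTen.TS Z B d) (TP Z B d) (finiteType_TP Z B d).out
    Module.Finite.fg_top Subtype.val_injective⟩

end Noether


section BaseChange

variable (Z : Type u) [CommRing Z] (A : Type u) [CommRing A] [Algebra Z A] (ι : Type) (d : ℕ)

/-- Base change of polynomials. -/
noncomputable def beta : MvPolynomial ι Z →ₐ[Z] MvPolynomial ι A :=
  MvPolynomial.aeval MvPolynomial.X

lemma beta_monomial (n : ι →₀ ℕ) :
    beta Z A ι (MvPolynomial.monomial n 1) = MvPolynomial.monomial n 1 := by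
  rw [beta, MvPolynomial.aeval_monomial, map_one, one_mul, MvPolynomial.monomial_eq, map_one,
    one_mul]

/-- The multilinear map underlying `Psi`. -/
noncomputable def PsiML : MultilinearMap Z (fun _ : Fin d => MvPolynomial ι Z)
    (TP A (MvPolynomial ι A) d) :=
  ((PiTensorProduct.tprod A (s := fun _ : Fin d => MvPolynomial ι A)).restrictScalars
    Z).compLinearMap (fun _ => (beta Z A ι).toLinearMap)

lemma PsiML_apply (f : Fin d → MvPolynomial ι Z) :
    PsiML Z A ι d f = PiTensorProduct.tprod A (fun i => beta Z A ι (f i)) := rfl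

/-- Base change of tensor powers of polynomial rings. -/
noncomputable def Psi : TP Z (MvPolynomial ι Z) d →ₐ[Z] TP A (MvPolynomial ι A) d :=
  PiTensorProduct.liftAlgHom (PsiML Z A ι d)
    (by rw [PsiML_apply, PiTensorProduct.one_def]; congr 1; funext i; exact map_one _)
    (by
      intro x y
      rw [PsiML_apply, PsiML_apply, PsiML_apply, PiTensorProduct.tprod_mul_tprod]
      congr 1
      funext i
      exact map_mul _ _ _)

lemma Psi_tprod (f : Fin d → MvPolynomial ι Z) :
    Psi Z A ι d (PiTensorProduct.tprod Z f) =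
      PiTensorProduct.tprod A (fun i => beta Z A ι (f i)) := by
  rw [Psi, PiTensorProduct.liftAlgHom_apply, PiTensorProduct.lift.tprod, PsiML_apply]

lemma Psi_perm (σ : Equiv.Perm (Fin d)) (t : TP Z (MvPolynomial ι Z) d) :
    Psi Z A ι d (SymTen.perm Z (MvPolynomial ι Z) d σ t) =
      SymTen.perm A (MvPolynomial ι A) d σ (Psi Z A ι d t) := by
  induction t using PiTensorProduct.induction_on with
  | smul_tprod r f =>
    simp only [map_smul, SymTen.perm_tprod, Psi_tprod]
    rw [← algebraMap_smul A r, ← algebraMap_smul A r, map_smul, SymTen.perm_tprod]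
  | add x y hx hy => simp only [map_add, hx, hy]

lemma Psi_mem_TS (t : TP Z (MvPolynomial ι Z) d) (ht : t ∈ SymTen.TS Z (MvPolynomial ι Z) d) :
    Psi Z A ι d t ∈ SymTen.TS A (MvPolynomial ι A) d := by
  intro σ
  rw [← SymTen.perm_apply, ← Psi_perm, SymTen.perm_apply, ht σ]

lemma Psi_coeffE_GT {J : Type} [Fintype J] (nn : J → (ι →₀ ℕ)) (κ : J →₀ ℕ) :
    Psi Z A ι d (coeffE (GT Z (MvPolynomial ι Z) d).law
        (fun j => MvPolynomial.monomial (nn j) 1) Finset.univ κ) =
      coeffE (GT A (MvPolynomial ι A) d).law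
        (fun j => MvPolynomial.monomial (nn j) 1) Finset.univ κ := by
  classical
  rw [coeffE_GT', coeffE_GT', map_sum]
  refine Finset.sum_congr rfl fun c _ => ?_
  rw [Psi_tprod]
  congr 1
  funext i
  exact beta_monomial Z A ι _

/-- The symmetric tensors of the polynomial ring over `A` are spanned by the images of those of
the polynomial ring over `Z`. -/
theorem mem_span_Psi (z : TP A (MvPolynomial ι A) d)
    (hz : z ∈ SymTen.TS A (MvPolynomial ι A) d) :
    z ∈ Submodule.span A
      ((Psi Z A ι d) '' (SymTen.TS Z (MvPolynomial ι Z) d : Set (TP Z (MvPolynomial ι Z) d))) := by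
  classical
  obtain ⟨l, y, K, Wbar, hzz⟩ :=
    exists_comb_of_flat (⟨z, hz⟩ : SymTen.TS A (MvPolynomial ι A) d)
  have hz' : z = ∑ κ ∈ K, Wbar κ • coeffE (GT A (MvPolynomial ι A) d).law y Finset.univ κ := by
    have h0 := congrArg Subtype.val hzz
    rw [AddSubmonoidClass.coe_finsetSum] at h0
    simp only [Subalgebra.coe_smul, val_coeffE_tau] at h0
    exact h0
  rw [hz']
  refine Submodule.sum_mem _ fun κ _ => Submodule.smul_mem _ _ ?_
  let Mset : Finset (ι →₀ ℕ) := Finset.univ.biUnion (fun i => (y i).support)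
  let m : Mset → MvPolynomial ι A := fun j => MvPolynomial.monomial j.1 1
  have hcomb : ∀ i ∈ (Finset.univ : Finset (Fin l)),
      ∑ j : Mset, (MvPolynomial.coeff j.1 (y i)) • m j = y i := by
    intro i _
    have h1 : ∀ j : Mset, (MvPolynomial.coeff j.1 (y i)) • m j =
        MvPolynomial.monomial j.1 (MvPolynomial.coeff j.1 (y i)) := by
      intro j
      rw [MvPolynomial.smul_monomial, smul_eq_mul, mul_one]
    rw [Finset.sum_congr rfl fun j _ => h1 j,
      Finset.sum_coe_sort Mset (fun n => MvPolynomial.monomial n (MvPolynomial.coeff n (y i)))]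
    have hsub : (y i).support ⊆ Mset := Finset.subset_biUnion_of_mem (fun i => (y i).support)
      (Finset.mem_univ i)
    rw [← Finset.sum_subset hsub]
    · exact MvPolynomial.support_sum_monomial_coeff (y i)
    · intro n _ hn
      rw [MvPolynomial.notMem_support_iff.mp hn, map_zero]
  have h1 := coeffE_mem_span_of_comb (GT A (MvPolynomial ι A) d).law m y Finset.univ
    (fun i j => MvPolynomial.coeff j.1 (y i)) hcomb κ
  refine Submodule.span_mono ?_ h1
  rintro _ ⟨κ', rfl⟩
  exact ⟨coeffE (GT Z (MvPolynomial ι Z) d).law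
    (fun j : Mset => MvPolynomial.monomial j.1 1) Finset.univ κ', coeffE_GT_mem _ _ _ _,
    Psi_coeffE_GT Z A ι d (fun j : Mset => j.1) κ'⟩

/-- The image of a symmetric tensor over `Z` lies in the `A`-subalgebra generated by the images
of generators. -/
lemma Psi_mem_adjoin (G : Set (SymTen.TS Z (MvPolynomial ι Z) d))
    (hG : Algebra.adjoin Z G = ⊤) (s : SymTen.TS Z (MvPolynomial ι Z) d) :
    Psi Z A ι d s.1 ∈ Algebra.adjoin A ((fun g : SymTen.TS Z (MvPolynomial ι Z) d =>
      Psi Z A ι d g.1) '' G) := by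
  have h2 : s ∈ Algebra.adjoin Z G := hG ▸ Algebra.mem_top
  induction h2 using Algebra.adjoin_induction with
  | mem x hx => exact Algebra.subset_adjoin ⟨x, hx, rfl⟩
  | algebraMap r =>
    have : Psi Z A ι d (algebraMap Z (SymTen.TS Z (MvPolynomial ι Z) d) r).1 =
        algebraMap A (TP A (MvPolynomial ι A) d) (algebraMap Z A r) := by
      have h0 : (algebraMap Z (SymTen.TS Z (MvPolynomial ι Z) d) r).1 =
          algebraMap Z (TP Z (MvPolynomial ι Z) d) r := rfl
      rw [h0, AlgHom.commutes, ← IsScalarTower.algebraMap_apply]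
    rw [this]
    exact Subalgebra.algebraMap_mem _ _
  | add x y _ _ hx hy =>
    have : Psi Z A ι d (x + y).1 = Psi Z A ι d x.1 + Psi Z A ι d y.1 := map_add _ _ _
    rw [this]
    exact Subalgebra.add_mem _ hx hy
  | mul x y _ _ hx hy =>
    have : Psi Z A ι d (x * y).1 = Psi Z A ι d x.1 * Psi Z A ι d y.1 := map_mul _ _ _
    rw [this]
    exact Subalgebra.mul_mem _ hx hy

/-- If the symmetric tensors of the polynomial ring over `Z` are of finite type, so are those of
the polynomial ring over any `Z`-algebra `A`. -/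
theorem fg_TS_of_finiteType [Algebra.FiniteType Z (SymTen.TS Z (MvPolynomial ι Z) d)] :
    (SymTen.TS A (MvPolynomial ι A) d).FG := by
  classical
  obtain ⟨G, hG⟩ := (‹Algebra.FiniteType Z (SymTen.TS Z (MvPolynomial ι Z) d)›).out
  refine ⟨G.image (fun g => Psi Z A ι d g.1), ?_⟩
  rw [Finset.coe_image]
  refine le_antisymm ?_ ?_
  · rw [Algebra.adjoin_le_iff]
    rintro t ⟨g, -, rfl⟩
    exact Psi_mem_TS Z A ι d g.1 g.2
  · intro z hz
    have h1 := mem_span_Psi Z A ι d z hz
    have hle : Submodule.span A ((Psi Z A ι d) '' (SymTen.TS Z (MvPolynomial ι Z) d :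
        Set (TP Z (MvPolynomial ι Z) d))) ≤
        Subalgebra.toSubmodule (Algebra.adjoin A
          ((fun g : SymTen.TS Z (MvPolynomial ι Z) d => Psi Z A ι d g.1) '' (G : Set _))) := by
      rw [Submodule.span_le]
      rintro _ ⟨s, hs, rfl⟩
      exact Psi_mem_adjoin Z A ι d _ hG ⟨s, hs⟩
    exact hle h1

end BaseChange

/-- The symmetric tensors of a polynomial ring in finitely many variables over any ring are of
finite type. -/
theorem finiteType_TS_mvPolynomial (A : Type u) [CommRing A] (r : ℕ) (d : ℕ) :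
    Algebra.FiniteType A (SymTen.TS A (MvPolynomial (Fin r) A) d) := by
  letI : Algebra (ULift.{u} ℤ) A := ULift.algebra' ℤ A
  haveI : IsNoetherianRing (ULift.{u} ℤ) := isNoetherianRing_of_ringEquiv ℤ ULift.ringEquiv.symm
  haveI := finiteType_TS (ULift.{u} ℤ) (MvPolynomial (Fin r) (ULift.{u} ℤ)) d
  exact ⟨(Subalgebra.fg_top _).mpr (fg_TS_of_finiteType (ULift.{u} ℤ) A (Fin r) d)⟩

end Groth.Agent.H68.TSF
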