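import Groth.Agent.H68.FlatOrbit
import Groth.Agent.H68.LawGammaGen
import Groth.Agent.S13872
import Mathlib

/-!
# The symmetric tensors with the law `x ↦ x ⊗ ⋯ ⊗ x`

The law `x ↦ x ⊗ ⋯ ⊗ x` takes its values in the symmetric tensors `TS^d_A(B)`; this file constructs
the corestricted law `τ : B → TS^d_A(B)` and proves the general part of the statement that
`(TS^d_A(B), τ)` is the degree `d` divided power algebra when `B` is flat or `d!` is invertible.
-/

set_option autoImplicit false
universe u
open scoped TensorProduct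

namespace Groth.Agent.H68.TSG

open Groth.Agent.H68 Groth.Agent.H68.LC Groth.Agent.H68.CR Groth.Agent.H68.FV

variable {A : Type u} [CommRing A] {B : Type u} [CommRing B] [Algebra A B] (d : ℕ)

lemma kk_comp_perm' {I : Type} (c : Fin d → I) (σ : Equiv.Perm (Fin d)) :
    kk (fun j => c (σ j)) = kk c := by
  rw [kk, kk]
  exact Equiv.sum_comp σ (fun j => Finsupp.single (c j) 1)

/-- The coefficients of the tensor power law are symmetric tensors. -/
lemma coeffE_GT_mem {I : Type} (e : I → B) (E : Finset I) (k : I →₀ ℕ) :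
    coeffE (GT A B d).law e E k ∈ SymTen.TS A B d := by
  classical
  rw [coeffE_GT']
  intro σ
  rw [map_sum]
  have e1 : ∀ α : Fin d → I, PiTensorProduct.reindex A (fun _ : Fin d => B) σ
      (PiTensorProduct.tprod A (fun j => e (α j))) =
      PiTensorProduct.tprod A (fun j => e (α (σ.symm j))) := by
    intro α
    rw [PiTensorProduct.reindex_tprod]
  rw [Finset.sum_congr rfl fun α _ => e1 α]
  refine Finset.sum_nbij' (fun α => fun j => α (σ.symm j)) (fun α => fun j => α (σ j))
    ?_ ?_ ?_ ?_ ?_
  · intro α hα
    rw [Finset.mem_filter, Fintype.mem_piFinset] at hα ⊢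
    exact ⟨fun j => hα.1 _, (kk_comp_perm' d α σ.symm).trans hα.2⟩
  · intro α hα
    rw [Finset.mem_filter, Fintype.mem_piFinset] at hα ⊢
    exact ⟨fun j => hα.1 _, (kk_comp_perm' d α σ).trans hα.2⟩
  · intro α _
    funext j
    simp
  · intro α _
    funext j
    simp
  · intro α _
    rfl

variable (A B)

/-- The tensor power law takes its values in the symmetric tensors. -/
lemma tsValued : ValuedIn (GT A B d).law (SymTen.TS A B d).val.toLinearMap :=
  valuedIn_of_coeff (GT A B d) (SymTen.TS A B d) (fun _ e E k => coeffE_GT_mem d e E k)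

/-- The law `x ↦ x ⊗ ⋯ ⊗ x` with values in the symmetric tensors. -/
noncomputable def tau : PolLaw.MulLaw A B (SymTen.TS A B d) d :=
  corestrictMul (GT A B d) (SymTen.TS A B d) (tsValued A B d)

lemma val_tau (S : Type u) [CommSemiring S] [Algebra A S] (z : S ⊗[A] B) :
    (SymTen.TS A B d).val.toLinearMap.lTensor S ((tau A B d).law.toFun' S z) =
      (GT A B d).law.toFun' S z :=
  lTensor_corestrict (tsValued A B d) S z

/-- The explicit formula for `τ`. -/
lemma tau_formula (S : Type u) [CommSemiring S] [Algebra A S] (n : ℕ) (s : Fin n → S)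
    (b : Fin n → B) :
    (SymTen.TS A B d).val.toLinearMap.lTensor S ((tau A B d).law.toFun' S (∑ j, s j ⊗ₜ[A] b j)) =
      ∑ c : Fin d → Fin n, (∏ i, s (c i)) ⊗ₜ[A] PiTensorProduct.tprod A (fun i => b (c i)) := by
  rw [val_tau, GT_toFun'_sum', Fintype.piFinset_univ]

/-- The coefficients of `τ` are those of the tensor power law. -/
lemma val_coeffE_tau {I : Type} (e : I → B) (E : Finset I) (k : I →₀ ℕ) :
    ((coeffE (tau A B d).law e E k : SymTen.TS A B d) : TP A B d) =
      coeffE (GT A B d).law e E k :=
  (coeffE_postcomp (tau A B d).law (GT A B d).law (SymTen.TS A B d).val.toLinearMap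
    (fun S _ _ z => (val_tau A B d S z).symm) e E k).symm

section General

variable {A B} {d}
variable {P : Type u} [CommRing P] [Algebra A P] (γ : PolLaw.MulLaw A B P d)

/-- If `P` is spanned by the coefficients of `γ` and every multiplicative law of degree `d` is
`f ∘ γ` for a linear map `f`, then `(P, γ)` is the degree `d` divided power algebra. -/
theorem isGammaD_of_span (hspan : LC.TS γ.law = ⊤)
    (hex : ∀ (C' : Type u) [CommRing C'] [Algebra A C'] (F : PolLaw.MulLaw A B C' d),
      ∃ f : P →ₗ[A] C', ∀ (S : Type u) [CommSemiring S] [Algebra A S] (z : S ⊗[A] B),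
        F.law.toFun' S z = f.lTensor S (γ.law.toFun' S z)) :
    PolLaw.IsGammaD γ := by
  intro C' _ _ F
  obtain ⟨f, hf⟩ := hex C' F
  have hmem : ∀ u : P, u ∈ LC.TS γ.law := fun u => by rw [hspan]; exact Submodule.mem_top
  let f' : P →ₐ[A] C' := AlgHom.ofLinearMap f
    (map_one_of_factor F.law γ.law f hf F.mult γ.mult)
    (fun u v => map_mul_of_factor F.law γ.law f hf F.mult γ.mult (hmem u) (hmem v))
  refine ⟨f', ?_, ?_⟩
  · ext S _ _ z
    exact (hf S z).symm
  · intro g hg
    have hg' : ∀ (S : Type u) [CommSemiring S] [Algebra A S] (z : S ⊗[A] B),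
        F.law.toFun' S z = g.toLinearMap.lTensor S (γ.law.toFun' S z) := by
      intro S _ _ z
      rw [← hg]
      rfl
    have hlin : g.toLinearMap = f := by
      apply LinearMap.ext_on_range (v := fun x : coefSet γ.law => (x : P))
      · rw [Subtype.range_coe]
        exact hspan
      · rintro ⟨_, I, e, E, k, rfl⟩
        show g.toLinearMap (coeffE γ.law e E k) = f (coeffE γ.law e E k)
        rw [map_coeffE F.law γ.law g.toLinearMap hg', map_coeffE F.law γ.law f hf]
    exact AlgHom.ext fun u => by
      show g.toLinearMap u = f u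
      rw [hlin]

end General

end Groth.Agent.H68.TSG
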