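import Groth.Agent.H68.TSGamma
import Mathlib

/-!
# `TS^d_A(B)` is the divided power algebra when `d!` is invertible
-/

set_option autoImplicit false
universe u
open scoped TensorProduct

namespace Groth.Agent.H68.TSG

open Groth.Agent.H68 Groth.Agent.H68.LC Groth.Agent.H68.CR Groth.Agent.H68.FV

variable (A : Type u) [CommRing A] (B : Type u) [CommRing B] [Algebra A B] (d : ℕ)

/-- Every element of the tensor power is a combination of pure tensors of members of a finite
family. -/
lemma exists_rep' (z : TP A B d) :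
    ∃ (J : Type) (_ : Fintype J) (m : J → B) (w : (Fin d → J) → A),
      z = ∑ c, w c • PiTensorProduct.tprod A (fun i => m (c i)) := by
  obtain ⟨J, hJ, m, w, h⟩ := exists_rep (R := A) (Q := A) d ((1 : A) ⊗ₜ[A] z)
  refine ⟨J, hJ, m, w, ?_⟩
  have := congrArg (TensorProduct.lid A (TP A B d)) h
  rw [TensorProduct.lid_tmul, one_smul, map_sum] at this
  rw [this]
  refine Finset.sum_congr rfl fun c _ => ?_
  rw [TensorProduct.lid_tmul]

/-- `d!` times a symmetric tensor is a combination of coefficients of `τ`. -/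
lemma factorial_smul_mem (z : SymTen.TS A B d) :
    (d.factorial : A) • z ∈ LC.TS (tau A B d).law := by
  classical
  obtain ⟨J, _, m, w, hz⟩ := exists_rep' A B d z.1
  have h1 : ((d.factorial : A) • z : SymTen.TS A B d) =
      ∑ c, w c • coeffE (tau A B d).law (fun j => m (c j)) Finset.univ
        (kk (id : Fin d → Fin d)) := by
    refine Subtype.ext ?_
    rw [Subalgebra.coe_smul, AddSubmonoidClass.coe_finsetSum]
    simp only [Subalgebra.coe_smul, val_coeffE_tau, coeffE_GT_polar]
    have h2 : (d.factorial : A) • (z : TP A B d) =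
        ∑ σ : Equiv.Perm (Fin d), PiTensorProduct.reindex A (fun _ : Fin d => B) σ z.1 := by
      rw [Finset.sum_congr rfl fun σ _ => z.2 σ, Finset.sum_const, Finset.card_univ,
        Fintype.card_perm, Fintype.card_fin, Nat.cast_smul_eq_nsmul]
    rw [h2]
    conv_lhs => rw [hz]
    simp only [map_sum, map_smul, PiTensorProduct.reindex_tprod]
    rw [Finset.sum_comm]
    refine Finset.sum_congr rfl fun c _ => ?_
    rw [Finset.smul_sum, ← Equiv.sum_comp (Equiv.inv (Equiv.Perm (Fin d)))]
    refine Finset.sum_congr rfl fun σ _ => ?_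
    simp only [Equiv.inv_apply, Equiv.Perm.inv_def, Equiv.symm_symm]
  rw [h1]
  exact Submodule.sum_mem _ fun c _ => Submodule.smul_mem _ _ (coeffE_mem_TS _ _ _ _)

variable {A B d}

/-- The coefficients of `τ` span the symmetric tensors when `d!` is invertible. -/
theorem span_of_isUnit (hd : IsUnit ((d.factorial : ℕ) : A)) : LC.TS (tau A B d).law = ⊤ := by
  rw [eq_top_iff]
  intro z _
  obtain ⟨u, hu⟩ := hd
  have h := factorial_smul_mem A B d z
  have h2 : z = (↑u⁻¹ : A) • ((d.factorial : A) • z) := by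
    rw [smul_smul, ← hu, Units.inv_mul, one_smul]
  rw [h2]
  exact Submodule.smul_mem _ _ h

/-- Every multiplicative law of degree `d` factors linearly through `τ` when `d!` is invertible. -/
theorem exists_lin_of_isUnit (hd : IsUnit ((d.factorial : ℕ) : A))
    (C' : Type u) [CommRing C'] [Algebra A C'] (F : PolLaw.MulLaw A B C' d) :
    ∃ f : SymTen.TS A B d →ₗ[A] C', ∀ (S : Type u) [CommSemiring S] [Algebra A S] (z : S ⊗[A] B),
      F.law.toFun' S z = f.lTensor S ((tau A B d).law.toFun' S z) := by
  obtain ⟨u, hu⟩ := hd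
  refine ⟨(↑u⁻¹ : A) • (Groth.Agent.S13872.psi F ∘ₗ (SymTen.TS A B d).val.toLinearMap), ?_⟩
  intro S _ _ z
  rw [LinearMap.lTensor_smul, LinearMap.smul_apply, LinearMap.lTensor_comp, LinearMap.comp_apply,
    val_tau, Groth.Agent.S13872.psi_GT, ← Nat.cast_smul_eq_nsmul A, smul_smul, ← hu, Units.inv_mul,
    one_smul]

/-- `TS^d_A(B)` with `x ↦ x ⊗ ⋯ ⊗ x` is the divided power algebra when `d!` is invertible. -/
theorem isGammaD_of_isUnit (hd : IsUnit ((d.factorial : ℕ) : A)) :
    PolLaw.IsGammaD (tau A B d) :=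
  isGammaD_of_span (tau A B d) (span_of_isUnit hd) (exists_lin_of_isUnit hd)

end Groth.Agent.H68.TSG
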