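import Groth.Agent.H68.TSGammaFlat
import Mathlib

/-!
# The symmetric tensors of a flat algebra form a pure submodule of the tensor power
-/

set_option autoImplicit false
set_option linter.style.haveILetI false
universe u
open scoped TensorProduct

namespace Groth.Agent.H68.TSP

open Groth.Agent.H68 Groth.Agent.H68.LC Groth.Agent.H68.CR Groth.Agent.H68.FV
  Groth.Agent.H68.TSG

variable {A : Type u} [CommRing A] {B : Type u} [CommRing B] [Algebra A B] (d : ℕ)

/-- A combination of pure tensors with module coefficients depending only on the multi-index is a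
combination of orbit sums. -/
lemma sum_tmul_eq_sum_orbitSum {Q : Type u} [AddCommGroup Q] [Module A Q] {l : ℕ} (y : Fin l → B)
    (W : (Fin d → Fin l) → Q) (Wbar : (Fin l →₀ ℕ) → Q)
    (hbar : ∀ c : Fin d → Fin l, Wbar (kk c) = W c) :
    ∑ c', W c' ⊗ₜ[A] PiTensorProduct.tprod A (fun i => y (c' i)) =
      ∑ κ ∈ Finset.univ.image (fun c : Fin d → Fin l => kk c),
        Wbar κ ⊗ₜ[A] orbitSum (R := A) (n := d) y κ := by
  classical
  rw [← Finset.sum_fiberwise_of_maps_to (g := fun c : Fin d → Fin l => kk c)
    (t := Finset.univ.image (fun c : Fin d → Fin l => kk c))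
    (fun c _ => Finset.mem_image_of_mem _ (Finset.mem_univ c))]
  refine Finset.sum_congr rfl fun κ _ => ?_
  rw [orbitSum, TensorProduct.tmul_sum]
  refine Finset.sum_congr rfl fun c' hc' => ?_
  rw [Finset.mem_filter] at hc'
  rw [← hc'.2, hbar]

variable [Module.Flat A B]

/-- For a flat algebra `B`, the inclusion `TS^d_A(B) → T^d_A(B)` is universally injective. -/
theorem lTensor_val_injective (Q : Type u) [AddCommGroup Q] [Module A Q] :
    Function.Injective ((SymTen.TS A B d).val.toLinearMap.lTensor Q) := by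
  classical
  rw [injective_iff_map_eq_zero]
  let F := Q →₀ A
  let π : F →ₗ[A] Q := Finsupp.linearCombination A id
  have hπ : Function.Surjective π := Finsupp.linearCombination_id_surjective A Q
  let ι := (SymTen.TS A B d).val.toLinearMap
  have hsym' : ∀ (v : F ⊗[A] SymTen.TS A B d) (σ : Equiv.Perm (Fin d)),
      (PiTensorProduct.reindex A (fun _ : Fin d => B) σ).toLinearMap.lTensor F (ι.lTensor F v) =
        ι.lTensor F v := by
    intro v σ
    induction v using TensorProduct.induction_on with
    | zero => simp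
    | tmul f t =>
      rw [LinearMap.lTensor_tmul, LinearMap.lTensor_tmul, LinearEquiv.coe_coe]
      congr 1
      exact t.2 σ
    | add x y hx hy => rw [map_add, map_add, hx, hy]
  intro u hu
  obtain ⟨ũ, rfl⟩ := LinearMap.rTensor_surjective (SymTen.TS A B d) hπ u
  have hsym := hsym' ũ
  have hker : π.rTensor (⨂[A] _ : Fin d, B) (ι.lTensor F ũ) = 0 := by
    have : π.rTensor (⨂[A] _ : Fin d, B) (ι.lTensor F ũ) =
        ι.lTensor Q (π.rTensor (SymTen.TS A B d) ũ) := by
      rw [← LinearMap.comp_apply, ← LinearMap.comp_apply, LinearMap.rTensor_comp_lTensor,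
        LinearMap.lTensor_comp_rTensor]
    rw [this, hu]
  obtain ⟨l, y, W, hW, hWπ, hz⟩ := exists_sym_rep π d (ι.lTensor F ũ) hsym hker
  obtain ⟨Wbar, hbar⟩ := exists_bar W hW
  rw [sum_tmul_eq_sum_orbitSum d y W Wbar hbar] at hz
  -- the element of `F ⊗ TS`
  let ũ' : F ⊗[A] SymTen.TS A B d :=
    ∑ κ ∈ Finset.univ.image (fun c : Fin d → Fin l => kk c),
      Wbar κ ⊗ₜ[A] coeffE (tau A B d).law y Finset.univ κ
  have h1 : ι.lTensor F ũ' = ι.lTensor F ũ := by
    rw [hz, map_sum]
    refine Finset.sum_congr rfl fun κ _ => ?_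
    rw [LinearMap.lTensor_tmul, orbitSum_eq_coeffE]
    congr 1
    exact val_coeffE_tau A B d y Finset.univ κ
  have hinj : Function.Injective (ι.lTensor F) :=
    Module.Flat.lTensor_preserves_injective_linearMap ι Subtype.val_injective
  rw [← hinj h1, map_sum]
  refine Finset.sum_eq_zero fun κ hκ => ?_
  rw [LinearMap.rTensor_tmul]
  obtain ⟨c, -, hc⟩ := Finset.mem_image.mp hκ
  rw [← hc, hbar, hWπ, TensorProduct.zero_tmul]

end Groth.Agent.H68.TSP
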