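import Groth.Agent.H68.TSPure
import Groth.Agent.H68.TPowerBC
import Groth.Agent.H68.GammaUnique
import Mathlib

/-!
# Reducedness of tensor powers of geometrically reduced algebras over a field
-/

set_option autoImplicit false
set_option linter.style.haveILetI false
universe u
open scoped TensorProduct

namespace Groth.Agent.H68.TSR

open Groth.Agent.H68 Groth.Agent.H68.LC Groth.Agent.H68.CR Groth.Agent.H68.FV
  Groth.Agent.H68.TSG Groth.Agent.H68.BC

section R1

variable {K : Type u} [Field K] (M R : Type u) [CommRing M] [Algebra K M] [CommRing R]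
  [Algebra K R]

/-- The coordinate of an element of `M ⊗ R` with respect to a basis of `R`. -/
noncomputable def coordM {ι : Type u} (b : Module.Basis ι K R) (j : ι) : M ⊗[K] R →ₗ[K] M :=
  (TensorProduct.rid K M).toLinearMap ∘ₗ (b.coord j).lTensor M

lemma coordM_tmul {ι : Type u} (b : Module.Basis ι K R) (j : ι) (m : M) (r : R) :
    coordM M R b j (m ⊗ₜ[K] r) = b.repr r j • m := by
  simp [coordM]

lemma eq_zero_of_coordM {ι : Type u} (b : Module.Basis ι K R) (x : M ⊗[K] R)
    (h : ∀ j, coordM M R b j x = 0) : x = 0 := by
  classical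
  apply (TensorProduct.equivFinsuppOfBasisRight (M := M) b).injective
  rw [map_zero]
  ext j
  rw [TensorProduct.equivFinsuppOfBasisRight_apply]
  exact h j

variable {M R}

lemma coordM_map {L : Type u} [CommRing L] [Algebra K L] (φ : M →ₐ[K] L) {ι : Type u}
    (b : Module.Basis ι K R) (j : ι) (x : M ⊗[K] R) :
    coordM L R b j (Algebra.TensorProduct.map φ (AlgHom.id K R) x) = φ (coordM M R b j x) := by
  induction x using TensorProduct.induction_on with
  | zero => simp
  | tmul m r =>
    rw [Algebra.TensorProduct.map_tmul, coordM_tmul, coordM_tmul, map_smul, AlgHom.id_apply]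
  | add x y hx hy => rw [map_add, map_add, hx, hy, map_add, map_add]

variable (M R)

/-- The tensor product of a reduced algebra with an algebra all whose base changes to fields are
reduced is reduced. -/
theorem isReduced_tensor [IsReduced M]
    (hR : ∀ (L : Type u) [Field L] [Algebra K L], IsReduced (L ⊗[K] R)) :
    IsReduced (M ⊗[K] R) := by
  refine ⟨fun x hx => ?_⟩
  let b := Module.Free.chooseBasis K R
  refine eq_zero_of_coordM M R b x fun j => ?_
  have hnil : coordM M R b j x ∈ nilradical M := by
    rw [nilradical_eq_sInf, Ideal.mem_sInf]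
    intro p hp
    haveI : p.IsPrime := hp
    let L := FractionRing (M ⧸ p)
    let φ : M →ₐ[K] L := (IsScalarTower.toAlgHom K (M ⧸ p) L).comp (Ideal.Quotient.mkₐ K p)
    haveI := hR L
    have h0 : Algebra.TensorProduct.map φ (AlgHom.id K R) x = 0 :=
      (hx.map (Algebra.TensorProduct.map φ (AlgHom.id K R))).eq_zero
    have h1 : φ (coordM M R b j x) = 0 := by
      rw [← coordM_map, h0, map_zero]
    have h2 : algebraMap (M ⧸ p) L (Ideal.Quotient.mk p (coordM M R b j x)) = 0 := h1
    rw [map_eq_zero_iff _ (IsFractionRing.injective (M ⧸ p) L)] at h2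
    exact Ideal.Quotient.eq_zero_iff_mem.mp h2
  rw [nilradical_eq_zero] at hnil
  exact hnil

end R1

section Split

variable (K : Type u) [Field K] (R : Type u) [CommRing R] [Algebra K R] (d : ℕ)

/-- Splitting off the first factor of a tensor power, as an algebra homomorphism. -/
noncomputable def splitAlg : TP K R (d + 1) →ₐ[K] TP K R d ⊗[K] R :=
  PiTensorProduct.liftAlgHom (splitML K R d)
    (by
      rw [splitML_apply, Algebra.TensorProduct.one_def, PiTensorProduct.one_def]
      rfl)
    (by
      intro x y
      rw [splitML_apply, splitML_apply, splitML_apply, Algebra.TensorProduct.tmul_mul_tmul,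
        PiTensorProduct.tprod_mul_tprod]
      rfl)

lemma splitAlg_tprod (v : Fin (d + 1) → R) :
    splitAlg K R d (PiTensorProduct.tprod K v) = PiTensorProduct.tprod K (Fin.tail v) ⊗ₜ[K] v 0 := by
  rw [splitAlg, PiTensorProduct.liftAlgHom_apply, PiTensorProduct.lift.tprod, splitML_apply]

/-- The inclusion of the last `d` factors. -/
noncomputable def inclAlg : TP K R d →ₐ[K] TP K R (d + 1) :=
  PiTensorProduct.liftAlgHom
    ((PiTensorProduct.tprod K (s := fun _ : Fin (d + 1) => R)).curryLeft 1)
    (by
      rw [MultilinearMap.curryLeft_apply, PiTensorProduct.one_def]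
      congr 1
      funext i
      refine Fin.cases ?_ (fun j => ?_) i <;> simp)
    (by
      intro x y
      rw [MultilinearMap.curryLeft_apply, MultilinearMap.curryLeft_apply,
        MultilinearMap.curryLeft_apply, PiTensorProduct.tprod_mul_tprod]
      congr 1
      funext i
      refine Fin.cases ?_ (fun j => ?_) i <;> simp)

lemma inclAlg_tprod (v : Fin d → R) :
    inclAlg K R d (PiTensorProduct.tprod K v) =
      PiTensorProduct.tprod K (Fin.cons (α := fun _ : Fin (d + 1) => R) 1 v) := by
  rw [inclAlg, PiTensorProduct.liftAlgHom_apply, PiTensorProduct.lift.tprod,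
    MultilinearMap.curryLeft_apply]

/-- A left inverse of `splitAlg`. -/
noncomputable def joinAlg : TP K R d ⊗[K] R →ₐ[K] TP K R (d + 1) :=
  Algebra.TensorProduct.lift (inclAlg K R d) (gT K R (d + 1) 0) (fun _ _ => Commute.all _ _)

theorem joinAlg_splitAlg : (joinAlg K R d).comp (splitAlg K R d) = AlgHom.id K _ := by
  apply AlgHom.toLinearMap_injective
  apply PiTensorProduct.ext
  ext v
  simp only [LinearMap.compMultilinearMap_apply, AlgHom.toLinearMap_apply, AlgHom.comp_apply,
    AlgHom.id_apply]
  rw [splitAlg_tprod, joinAlg, Algebra.TensorProduct.lift_tmul, inclAlg_tprod, gT,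
    PiTensorProduct.singleAlgHom_apply, PiTensorProduct.tprod_mul_tprod]
  congr 1
  funext i
  refine Fin.cases ?_ (fun j => ?_) i
  · simp
  · simp [Fin.tail]

theorem splitAlg_injective : Function.Injective (splitAlg K R d) := by
  intro x y h
  have := congrArg (joinAlg K R d) h
  rwa [← AlgHom.comp_apply, ← AlgHom.comp_apply, joinAlg_splitAlg] at this

end Split

section Power

variable (K : Type u) [Field K] (R : Type u) [CommRing R] [Algebra K R]

lemma algebraMap_TP_zero_surjective : Function.Surjective (algebraMap K (TP K R 0)) := by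
  intro t
  induction t using PiTensorProduct.induction_on with
  | smul_tprod r f =>
    refine ⟨r, ?_⟩
    rw [Algebra.algebraMap_eq_smul_one, PiTensorProduct.one_def]
    congr 2
    exact Subsingleton.elim _ _
  | add x y hx hy =>
    obtain ⟨a, rfl⟩ := hx
    obtain ⟨b, rfl⟩ := hy
    exact ⟨a + b, map_add _ _ _⟩

/-- The tensor powers of an algebra over a field all whose base changes to fields are reduced are
reduced. -/
theorem isReduced_TP (hR : ∀ (L : Type u) [Field L] [Algebra K L], IsReduced (L ⊗[K] R)) (d : ℕ) :
    IsReduced (TP K R d) := by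
  induction d with
  | zero =>
    refine ⟨fun x hx => ?_⟩
    rcases subsingleton_or_nontrivial (TP K R 0) with h | h
    · exact Subsingleton.elim _ _
    · obtain ⟨r, rfl⟩ := algebraMap_TP_zero_surjective K R x
      obtain ⟨n, hn⟩ := hx
      rw [← map_pow, map_eq_zero_iff _ (algebraMap K (TP K R 0)).injective] at hn
      rw [eq_zero_of_pow_eq_zero hn, map_zero]
  | succ d ih =>
    haveI := ih
    haveI := isReduced_tensor (TP K R d) R hR
    exact isReduced_of_injective (splitAlg K R d) (splitAlg_injective K R d)

end Power

section Xi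

variable (A : Type u) [CommRing A] (B : Type u) [CommRing B] [Algebra A B]
  (k : Type u) [CommRing k] [Algebra A k] (d : ℕ)

/-- The `A`-algebra map `T^d_A(B) → T^d_k(k ⊗_A B)`. -/
noncomputable def xiAlgA : TP A B d →ₐ[A] TP k (k ⊗[A] B) d :=
  PiTensorProduct.liftAlgHom (xiML A B k d)
    (by
      rw [xiML_apply, PiTensorProduct.one_def]
      rfl)
    (by
      intro x y
      rw [xiML_apply, xiML_apply, xiML_apply, PiTensorProduct.tprod_mul_tprod]
      congr 1
      funext i
      simp)

lemma xiAlgA_tprod (b : Fin d → B) :
    xiAlgA A B k d (PiTensorProduct.tprod A b) =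
      PiTensorProduct.tprod k (fun i => (1 : k) ⊗ₜ[A] b i) := by
  rw [xiAlgA, PiTensorProduct.liftAlgHom_apply, PiTensorProduct.lift.tprod, xiML_apply]

/-- The base change map `k ⊗_A T^d_A(B) → T^d_k(k ⊗_A B)` as a `k`-algebra map. -/
noncomputable def XiAlg : k ⊗[A] TP A B d →ₐ[k] TP k (k ⊗[A] B) d :=
  Algebra.TensorProduct.lift (Algebra.ofId k _) (xiAlgA A B k d) (fun _ _ => Commute.all _ _)

lemma XiAlg_eq_xi (u : k ⊗[A] TP A B d) : XiAlg A B k d u = xi A B k d u := by
  induction u using TensorProduct.induction_on with
  | zero => simp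
  | tmul s t =>
    induction t using PiTensorProduct.induction_on with
    | smul_tprod r b =>
      rw [TensorProduct.tmul_smul, TensorProduct.smul_tmul', xi_tmul_tprod, XiAlg,
        Algebra.TensorProduct.lift_tmul, xiAlgA_tprod, Algebra.ofId_apply,
        Algebra.algebraMap_eq_smul_one, smul_mul_assoc, one_mul]
    | add x y hx hy => rw [TensorProduct.tmul_add, map_add, map_add, hx, hy]
  | add x y hx hy => rw [map_add, map_add, hx, hy]

theorem XiAlg_injective : Function.Injective (XiAlg A B k d) := by
  intro x y h
  rw [XiAlg_eq_xi, XiAlg_eq_xi] at h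
  exact xi_injective A B k d h

end Xi

section Main

variable {A : Type u} [CommRing A] {B : Type u} [CommRing B] [Algebra A B] [Module.Flat A B]

/-- For a flat algebra with geometrically reduced fibres, the fibres of the symmetric tensors are
reduced. -/
theorem isReduced_tensor_TS (d : ℕ)
    (hred : ∀ (K : Type u) [Field K] [Algebra A K], IsReduced (K ⊗[A] B))
    (K : Type u) [Field K] [Algebra A K] : IsReduced (K ⊗[A] SymTen.TS A B d) := by
  have hgeo : ∀ (L : Type u) [Field L] [Algebra K L], IsReduced (L ⊗[K] (K ⊗[A] B)) := by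
    intro L _ _
    letI : Algebra A L := ((algebraMap K L).comp (algebraMap A K)).toAlgebra
    haveI : IsScalarTower A K L := IsScalarTower.of_algebraMap_eq fun _ => rfl
    haveI := hred L
    exact isReduced_of_injective (Algebra.TensorProduct.cancelBaseChange A K L L B).toAlgHom
      (AlgEquiv.injective _)
  haveI := isReduced_TP K (K ⊗[A] B) hgeo d
  let f : K ⊗[A] SymTen.TS A B d →ₐ[K] K ⊗[A] TP A B d :=
    Algebra.TensorProduct.map (AlgHom.id K K) (SymTen.TS A B d).val
  have hf : Function.Injective f := by
    have h0 : ∀ u, f u = (SymTen.TS A B d).val.toLinearMap.lTensor K u := by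
      intro u
      induction u using TensorProduct.induction_on with
      | zero => simp
      | tmul s t => rfl
      | add x y hx hy => rw [map_add, map_add, hx, hy]
    intro x y h
    rw [h0, h0] at h
    exact TSP.lTensor_val_injective d K h
  exact isReduced_of_injective ((XiAlg A B K d).comp f) ((XiAlg_injective A B K d).comp hf)

end Main

end Groth.Agent.H68.TSR
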