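import Groth.Agent.H32.ValFPMain

/-!
# Reducedness of flat local algebras over a valuation ring with reduced special fibre

`R` a valuation ring, `B` a local `R`-algebra which is flat and essentially of finite type with
`𝔪_R B ≤ 𝔪_B` and `B ⧸ 𝔪_R B` reduced.  Then `B ⧸ 𝔭 B` is reduced for every prime `𝔭` of `R`.
-/

set_option autoImplicit false

open IsLocalRing

namespace Groth.Agent.H68.VR

universe u

section

variable {R : Type*} [CommRing R] [IsDomain R] [ValuationRing R]

/-- In an algebra over a valuation ring, an element of `𝔞 B` is a multiple of a single element of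
`𝔞`. -/
theorem exists_smul_of_mem_map {B : Type*} [CommRing B] [Algebra R B] (𝔞 : Ideal R) (b : B)
    (hb : b ∈ 𝔞.map (algebraMap R B)) : ∃ r ∈ 𝔞, ∃ b' : B, b = r • b' := by
  rw [Ideal.map] at hb
  induction hb using Submodule.span_induction with
  | mem x hx =>
    obtain ⟨r, hr, rfl⟩ := hx
    exact ⟨r, hr, 1, by rw [Algebra.smul_def, mul_one]⟩
  | zero => exact ⟨0, 𝔞.zero_mem, 0, by rw [smul_zero]⟩
  | add x y _ _ hx hy =>
    obtain ⟨r₁, hr₁, b₁, rfl⟩ := hx
    obtain ⟨r₂, hr₂, b₂, rfl⟩ := hy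
    obtain ⟨c, hc | hc⟩ := ValuationRing.cond r₁ r₂
    · refine ⟨r₁, hr₁, b₁ + c • b₂, ?_⟩
      rw [smul_add, smul_smul, hc]
    · refine ⟨r₂, hr₂, c • b₁ + b₂, ?_⟩
      rw [smul_add, smul_smul, hc]
  | smul a x _ hx =>
    obtain ⟨r, hr, b', rfl⟩ := hx
    exact ⟨r, hr, a • b', by rw [smul_comm]⟩

end

section

variable {R B : Type u} [CommRing R] [IsDomain R] [ValuationRing R] [CommRing B] [IsLocalRing B]
  [Algebra R B] [Module.Flat R B] [Algebra.EssFiniteType R B]

theorem isReduced_quotient_map_of_specialFibre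
    (hloc : (maximalIdeal R).map (algebraMap R B) ≤ maximalIdeal B)
    (hred : ((maximalIdeal R).map (algebraMap R B)).IsRadical)
    (p : Ideal R) [p.IsPrime] :
    IsReduced (B ⧸ p.map (algebraMap R B)) := by
  classical
  set J := p.map (algebraMap R B) with hJ
  have hpm : p ≤ maximalIdeal R := le_maximalIdeal (Ideal.IsPrime.ne_top ‹_›)
  have hJm : J ≤ maximalIdeal B := (Ideal.map_mono hpm).trans hloc
  have hJtop : J ≠ ⊤ := fun h => (Ideal.IsPrime.ne_top (inferInstance : (maximalIdeal B).IsPrime))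
    (top_le_iff.mp (h ▸ hJm))
  have hnt : Nontrivial (B ⧸ J) := Ideal.Quotient.nontrivial_iff.mpr hJtop
  have hlocC : IsLocalRing (B ⧸ J) :=
    IsLocalRing.of_surjective' (Ideal.Quotient.mk J) Ideal.Quotient.mk_surjective
  have hdomR' : IsDomain (R ⧸ p) := Ideal.Quotient.isDomain p
  have hvalR' : ValuationRing (R ⧸ p) :=
    Function.Surjective.valuationRing (Ideal.Quotient.mk p) Ideal.Quotient.mk_surjective
  -- flatness of the quotient over the quotient
  have hflatC : Module.Flat (R ⧸ p) (B ⧸ J) :=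
    Module.Flat.of_linearEquiv
      (Algebra.TensorProduct.quotIdealMapEquivQuotTensor B p).toLinearEquiv
  have hmk : ∀ r : R, algebraMap (R ⧸ p) (B ⧸ J) (Ideal.Quotient.mk p r) =
      Ideal.Quotient.mk J (algebraMap R B r) := fun _ => rfl
  -- torsion-freeness of `B ⧸ J` over `R ⧸ p`
  have htf : ∀ (r : R) (c : B ⧸ J), r ∉ p → Ideal.Quotient.mk p r • c = 0 → c = 0 := by
    intro r c hr hrc
    have hne : Ideal.Quotient.mk p r ≠ 0 := fun h => hr (Ideal.Quotient.eq_zero_iff_mem.mp h)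
    have hreg : IsSMulRegular (B ⧸ J) (Ideal.Quotient.mk p r) :=
      Module.Flat.isSMulRegular_of_nonZeroDivisors (mem_nonZeroDivisors_of_ne_zero hne)
    exact hreg (by simp only [hrc, smul_zero])
  set N : Ideal (B ⧸ J) := nilradical (B ⧸ J) with hN
  -- `(B ⧸ J) ⧸ N` is flat over `R ⧸ p`
  have hflatM : Module.Flat (R ⧸ p) ((B ⧸ J) ⧸ N) := by
    rw [Module.Flat.flat_iff_torsion_eq_bot_of_isBezout, eq_bot_iff]
    intro m hm
    rw [Submodule.mem_torsion_iff] at hm
    obtain ⟨⟨a, ha⟩, ham⟩ := hm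
    obtain ⟨c, rfl⟩ := Ideal.Quotient.mk_surjective m
    obtain ⟨r, rfl⟩ := Ideal.Quotient.mk_surjective a
    have hr : r ∉ p := fun h => (nonZeroDivisors.ne_zero ha) (Ideal.Quotient.eq_zero_iff_mem.mpr h)
    have h1 : Ideal.Quotient.mk p r • c ∈ N := by
      rw [← Ideal.Quotient.eq_zero_iff_mem]
      exact ham
    obtain ⟨n, hn⟩ := h1
    have h2 : Ideal.Quotient.mk p (r ^ n) • c ^ n = 0 := by
      rw [map_pow, ← smul_pow]; exact hn
    have h3 : c ^ n = 0 := htf (r ^ n) (c ^ n)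
      (fun h => hr (Ideal.IsPrime.mem_of_pow_mem inferInstance n h)) h2
    rw [Submodule.mem_bot, Ideal.Quotient.eq_zero_iff_mem]
    exact ⟨n, h3⟩
  -- Nagata: `N` is finitely generated
  have hfp : Module.FinitePresentation (B ⧸ J) ((B ⧸ J) ⧸ N) :=
    Groth.Agent.H32.ValFP.finitePresentation_of_flat_essFiniteType (R ⧸ p) (B ⧸ J) ((B ⧸ J) ⧸ N)
  have hNfg : N.FG := by
    have := Module.FinitePresentation.fg_ker (Submodule.mkQ N) (Submodule.mkQ_surjective N)
    rwa [Submodule.ker_mkQ] at this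
  -- `N ≤ 𝔪 • N`
  have hle : N ≤ maximalIdeal (B ⧸ J) • N := by
    intro x hx
    obtain ⟨b, rfl⟩ := Ideal.Quotient.mk_surjective x
    obtain ⟨n, hn⟩ := hx
    have hbn : b ^ n ∈ J := by
      rw [← Ideal.Quotient.eq_zero_iff_mem, map_pow]; exact hn
    have hb : b ∈ (maximalIdeal R).map (algebraMap R B) :=
      hred ⟨n, Ideal.map_mono hpm hbn⟩
    obtain ⟨r, hr, b', rfl⟩ := exists_smul_of_mem_map (maximalIdeal R) b hb
    by_cases hrp : r ∈ p
    · have : Ideal.Quotient.mk J (r • b') = 0 := by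
        rw [Ideal.Quotient.eq_zero_iff_mem, Algebra.smul_def]
        exact Ideal.mul_mem_right _ _ (Ideal.mem_map_of_mem _ hrp)
      rw [this]; exact Submodule.zero_mem _
    · have h1 : Ideal.Quotient.mk J (r • b') =
          Ideal.Quotient.mk J (algebraMap R B r) * Ideal.Quotient.mk J b' := by
        rw [Algebra.smul_def, map_mul]
      have h2 : Ideal.Quotient.mk J b' ∈ N := by
        refine ⟨n, ?_⟩
        have h3 : Ideal.Quotient.mk p (r ^ n) • (Ideal.Quotient.mk J b') ^ n = 0 := by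
          rw [Algebra.smul_def, hmk, ← map_pow, ← map_mul, ← hn, ← map_pow]
          congr 1
          rw [Algebra.smul_def, mul_pow, map_pow]
        exact htf (r ^ n) _ (fun h => hrp (Ideal.IsPrime.mem_of_pow_mem inferInstance n h)) h3
      have h4 : Ideal.Quotient.mk J (algebraMap R B r) ∈ maximalIdeal (B ⧸ J) := by
        rw [mem_maximalIdeal, mem_nonunits_iff]
        intro hu
        have h5 : algebraMap R B r ∈ maximalIdeal B := hloc (Ideal.mem_map_of_mem _ hr)
        have h6 : IsUnit (algebraMap R B r) := by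
          have : IsLocalHom (Ideal.Quotient.mk J) :=
            IsLocalHom.of_surjective _ Ideal.Quotient.mk_surjective
          exact isUnit_of_map_unit (Ideal.Quotient.mk J) _ hu
        exact (mem_maximalIdeal _).mp h5 h6
      rw [h1, ← smul_eq_mul]
      exact Submodule.smul_mem_smul h4 h2
  have hbot : N = ⊥ := Submodule.eq_bot_of_le_smul_of_le_jacobson_bot (maximalIdeal (B ⧸ J)) N
    hNfg hle (by rw [IsLocalRing.jacobson_eq_maximalIdeal ⊥ bot_ne_top])
  exact nilradical_eq_bot_iff.mp hbot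

end

/-- Radicality of an extended ideal passes from the localization at `Q₀` to the localization at a
smaller prime `Q`. -/
theorem isRadical_map_of_le {C A₀ A : Type*} [CommRing C] [CommRing A₀] [CommRing A]
    [Algebra C A₀] [Algebra C A] (Q₀ Q : Ideal C) [Q₀.IsPrime] [Q.IsPrime]
    [IsLocalization.AtPrime A₀ Q₀] [IsLocalization.AtPrime A Q] (hle : Q ≤ Q₀) (I : Ideal C)
    (h : (I.map (algebraMap C A₀)).IsRadical) : (I.map (algebraMap C A)).IsRadical := by
  rintro a ⟨n, hn⟩
  have hn1 : a ^ (n + 1) ∈ I.map (algebraMap C A) := by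
    rw [pow_succ]; exact Ideal.mul_mem_right _ _ hn
  obtain ⟨c, s, rfl⟩ := IsLocalization.exists_mk'_eq Q.primeCompl a
  rw [← IsLocalization.mk'_pow, IsLocalization.mk'_mem_map_algebraMap_iff Q.primeCompl] at hn1
  obtain ⟨s', hs', hs'c⟩ := hn1
  have h1 : (s' * c) ^ (n + 1) ∈ I := by
    have : (s' * c) ^ (n + 1) = s' ^ n * (s' * c ^ (n + 1)) := by ring
    rw [this]; exact I.mul_mem_left _ hs'c
  have h2 : algebraMap C A₀ (s' * c) ∈ I.map (algebraMap C A₀) := by
    apply h
    refine ⟨n + 1, ?_⟩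
    rw [← map_pow]
    exact Ideal.mem_map_of_mem _ h1
  rw [← IsLocalization.mk'_one (M := Q₀.primeCompl) A₀,
    IsLocalization.mk'_mem_map_algebraMap_iff Q₀.primeCompl] at h2
  obtain ⟨s₀, hs₀, hs₀c⟩ := h2
  rw [IsLocalization.mk'_mem_map_algebraMap_iff Q.primeCompl]
  refine ⟨s₀ * s', ?_, by rw [mul_assoc]; exact hs₀c⟩
  exact Q.primeCompl.mul_mem (fun hmem => hs₀ (hle hmem)) hs'

/-- `A` a valuation ring, `C` a flat finite type `A`-algebra, `Q ≤ Q₀` primes of `C` with `Q₀` in
the special fibre and `C_{Q₀} ⧸ 𝔪_A C_{Q₀}` reduced.  Then `𝔭 C_Q` is a radical ideal of `C_Q` for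
every prime `𝔭` of `A`. -/
theorem isRadical_map_localization {A C B₀ B : Type u} [CommRing A] [IsDomain A] [ValuationRing A]
    [CommRing C] [Algebra A C] [Module.Flat A C] [Algebra.FiniteType A C]
    (Q₀ Q : Ideal C) [Q₀.IsPrime] [Q.IsPrime] (hle : Q ≤ Q₀)
    [CommRing B₀] [Algebra C B₀] [IsLocalization.AtPrime B₀ Q₀] [Algebra A B₀] [IsScalarTower A C B₀]
    [CommRing B] [Algebra C B] [IsLocalization.AtPrime B Q] [Algebra A B] [IsScalarTower A C B]
    (hQ₀ : (maximalIdeal A).map (algebraMap A C) ≤ Q₀)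
    (hred : ((maximalIdeal A).map (algebraMap A B₀)).IsRadical)
    (p : Ideal A) [p.IsPrime] :
    (p.map (algebraMap A B)).IsRadical := by
  have hlocal : IsLocalRing B₀ := IsLocalization.AtPrime.isLocalRing B₀ Q₀
  have hflat1 : Module.Flat C B₀ := IsLocalization.flat B₀ Q₀.primeCompl
  have hflat : Module.Flat A B₀ := Module.Flat.trans A C B₀
  have hess1 : Algebra.EssFiniteType C B₀ := Algebra.EssFiniteType.of_isLocalization B₀ Q₀.primeCompl
  have hess : Algebra.EssFiniteType A B₀ := Algebra.EssFiniteType.comp A C B₀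
  have hloc : (maximalIdeal A).map (algebraMap A B₀) ≤ maximalIdeal B₀ := by
    rw [IsScalarTower.algebraMap_eq A C B₀, ← Ideal.map_map,
      ← IsLocalization.AtPrime.map_eq_maximalIdeal Q₀ B₀]
    exact Ideal.map_mono hQ₀
  have h1 := isReduced_quotient_map_of_specialFibre hloc hred p
  have h2 : (p.map (algebraMap A B₀)).IsRadical :=
    (Ideal.isRadical_iff_quotient_reduced _).mpr h1
  rw [IsScalarTower.algebraMap_eq A C B₀, ← Ideal.map_map] at h2
  have h3 := isRadical_map_of_le (A₀ := B₀) (A := B) Q₀ Q hle (p.map (algebraMap A C)) h2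
  rwa [Ideal.map_map, ← IsScalarTower.algebraMap_eq] at h3


end Groth.Agent.H68.VR
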