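import Groth.Agent.H68.ValReduced
import Groth.Agent.H68.SpecFibSch
import Groth.Agent.H49.FibreStalk
import Mathlib.AlgebraicGeometry.Morphisms.Proper
import Mathlib.AlgebraicGeometry.Morphisms.Flat

/-!
# Proper flat schemes over a valuation ring with reduced special fibre
-/

set_option autoImplicit false

open AlgebraicGeometry CategoryTheory TopologicalSpace IsLocalRing

namespace Groth.Agent.H68.VR

universe u

open Groth.Agent.H68.SF Groth.Agent.H49.FibreStalk

variable {R : Type u} [CommRing R] [IsDomain R] [ValuationRing R] {X : Scheme.{u}}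
  (f : X ⟶ Spec (CommRingCat.of R))

/-- Every point of a scheme proper over a local ring specializes to a point of the closed
fibre. -/
theorem exists_specializes_closedFibre [IsProper f] (x : X) :
    ∃ x' : f.fiber (closedPoint R), x ⤳ f.fiberι (closedPoint R) x' := by
  have hcl : IsClosed (f '' closure {x}) := f.isClosedMap _ isClosed_closure
  have hmem : closedPoint R ∈ f '' closure {x} :=
    (IsLocalRing.specializes_closedPoint (f x)).mem_closed hcl ⟨x, subset_closure rfl, rfl⟩
  obtain ⟨x₀, hx₀, hfx₀⟩ := hmem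
  have hx₀r : x₀ ∈ Set.range (f.fiberι (closedPoint R)) := by
    rw [Scheme.Hom.range_fiberι]
    exact hfx₀
  obtain ⟨x', rfl⟩ := hx₀r
  exact ⟨x', specializes_iff_mem_closure.mpr hx₀⟩

/-- The local rings of `X` and of all fibres of `f` are reduced. -/
theorem stalk_reduced_and_fibreIdeal_isRadical [IsProper f] [Flat f]
    [AlgebraicGeometry.IsReduced (f.fiber (closedPoint R))] (x : X) :
    _root_.IsReduced (X.presheaf.stalk x) ∧ (fibreIdeal f x).IsRadical := by
  classical
  obtain ⟨x', hspec⟩ := exists_specializes_closedFibre f x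
  set x₀ := f.fiberι (closedPoint R) x' with hx₀def
  have hfx₀ : f x₀ = closedPoint R := by
    have : x₀ ∈ Set.range (f.fiberι (closedPoint R)) := Set.mem_range_self x'
    rw [Scheme.Hom.range_fiberι] at this
    exact this
  have hUS : IsAffineOpen (⊤ : (Spec (CommRingCat.of R)).Opens) := isAffineOpen_top _
  obtain ⟨_, ⟨U, hU : IsAffineOpen U, rfl⟩, hx₀U, -⟩ :=
    X.isBasis_affineOpens.exists_subset_of_mem_open (Set.mem_univ x₀) isOpen_univ
  have e : U ≤ f ⁻¹ᵁ ⊤ := le_top
  have hxU : x ∈ U := hspec.mem_open U.isOpen hx₀U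
  -- algebra
  let A := Γ(Spec (CommRingCat.of R), ⊤)
  let C := Γ(X, U)
  let eA : A ≃+* R := (Scheme.ΓSpecIso (CommRingCat.of R)).commRingCatIsoToRingEquiv
  have hdomA : IsDomain A := MulEquiv.isDomain R eA.toMulEquiv
  have hvalA : ValuationRing A :=
    Function.Surjective.valuationRing (eA.symm : R →+* A) eA.symm.surjective
  let φ : A →+* C := (f.appLE ⊤ U e).hom
  let algAC : Algebra A C := φ.toAlgebra
  have hFT : Algebra.FiniteType A C :=
    HasRingHomProperty.appLE (P := @LocallyOfFiniteType) f inferInstance ⟨⊤, hUS⟩ ⟨U, hU⟩ e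
  have hflat : Module.Flat A C :=
    HasRingHomProperty.appLE (P := @Flat) f inferInstance ⟨⊤, hUS⟩ ⟨U, hU⟩ e
  have hcomap : ∀ (z : X) (hz : z ∈ U), (hU.primeIdealOf ⟨z, hz⟩).asIdeal.comap (algebraMap A C) =
      (hUS.primeIdealOf ⟨f z, e hz⟩).asIdeal := fun z hz =>
    congrArg PrimeSpectrum.asIdeal (IsAffineOpen.comap_primeIdealOf_appLE ⊤ hUS U hU e hz)
  -- the prime of the closed point is the maximal ideal
  have hclosed : (hUS.primeIdealOf ⟨f x₀, e hx₀U⟩).asIdeal = maximalIdeal A := by
    refine le_antisymm (le_maximalIdeal (Ideal.IsPrime.ne_top inferInstance)) ?_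
    let 𝔮 : Spec Γ(Spec (CommRingCat.of R), ⊤) := ⟨maximalIdeal A, inferInstance⟩
    let w := hUS.fromSpec 𝔮
    have hwU : w ∈ (⊤ : (Spec (CommRingCat.of R)).Opens) := trivial
    have hP : hUS.primeIdealOf ⟨w, hwU⟩ = 𝔮 := primeIdealOf_fromSpec hUS 𝔮
    have hsp : w ⤳ f x₀ := by rw [hfx₀]; exact IsLocalRing.specializes_closedPoint w
    have := (specializes_iff_le hUS hwU (e hx₀U)).mp hsp
    rwa [hP] at this
  -- stalk algebras
  let Q₀ : Ideal C := (hU.primeIdealOf ⟨x₀, hx₀U⟩).asIdeal
  let Q : Ideal C := (hU.primeIdealOf ⟨x, hxU⟩).asIdeal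
  have hle : Q ≤ Q₀ := (specializes_iff_le hU hxU hx₀U).mp hspec
  let algCB₀ : Algebra C (X.presheaf.stalk x₀) := X.presheaf.algebra_section_stalk ⟨x₀, hx₀U⟩
  have hlocB₀ : IsLocalization.AtPrime (X.presheaf.stalk x₀) Q₀ := hU.isLocalization_stalk ⟨x₀, hx₀U⟩
  let algCB : Algebra C (X.presheaf.stalk x) := X.presheaf.algebra_section_stalk ⟨x, hxU⟩
  have hlocB : IsLocalization.AtPrime (X.presheaf.stalk x) Q := hU.isLocalization_stalk ⟨x, hxU⟩
  let algAB₀ : Algebra A (X.presheaf.stalk x₀) :=
    ((algebraMap C (X.presheaf.stalk x₀)).comp (algebraMap A C)).toAlgebra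
  have htow₀ : IsScalarTower A C (X.presheaf.stalk x₀) := IsScalarTower.of_algebraMap_eq' rfl
  let algAB : Algebra A (X.presheaf.stalk x) :=
    ((algebraMap C (X.presheaf.stalk x)).comp (algebraMap A C)).toAlgebra
  have htow : IsScalarTower A C (X.presheaf.stalk x) := IsScalarTower.of_algebraMap_eq' rfl
  -- the fibre ideal in terms of the chart
  have hFI : ∀ (z : X) (hz : z ∈ U), fibreIdeal f z =
      ((hUS.primeIdealOf ⟨f z, e hz⟩).asIdeal.map (algebraMap A C)).map
        (X.presheaf.germ U z hz).hom := by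
    intro z hz
    let algS : Algebra A ((Spec (CommRingCat.of R)).presheaf.stalk (f z)) :=
      (Spec (CommRingCat.of R)).presheaf.algebra_section_stalk ⟨f z, e hz⟩
    have hlocS : IsLocalization.AtPrime ((Spec (CommRingCat.of R)).presheaf.stalk (f z))
        (hUS.primeIdealOf ⟨f z, e hz⟩).asIdeal := hUS.isLocalization_stalk ⟨f z, e hz⟩
    rw [fibreIdeal, ← IsLocalization.AtPrime.map_eq_maximalIdeal
      (hUS.primeIdealOf ⟨f z, e hz⟩).asIdeal ((Spec (CommRingCat.of R)).presheaf.stalk (f z)),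
      Ideal.map_map, Ideal.map_map]
    congr 1
    have h1 : ((Spec (CommRingCat.of R)).presheaf.germ ⊤ (f z) (e hz) ≫ f.stalkMap z) =
        f.appLE ⊤ U e ≫ X.presheaf.germ U z hz := by
      rw [Scheme.Hom.germ_stalkMap, Scheme.Hom.appLE, Category.assoc, X.presheaf.germ_res]
    exact congrArg CommRingCat.Hom.hom h1
  -- reducedness of the special fibre at `x₀`
  have hred₀ : ((maximalIdeal A).map (algebraMap A (X.presheaf.stalk x₀))).IsRadical := by
    have h1 : fibreIdeal f x₀ = (maximalIdeal A).map (algebraMap A (X.presheaf.stalk x₀)) := by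
      rw [hFI x₀ hx₀U, hclosed, Ideal.map_map]
      rfl
    rw [← h1, Ideal.isRadical_iff_quotient_reduced]
    exact isReduced_of_injective (quotientEquivStalkFiber f (closedPoint R) x').toRingHom
      (quotientEquivStalkFiber f (closedPoint R) x').injective
  have hQ₀ : (maximalIdeal A).map (algebraMap A C) ≤ Q₀ := by
    rw [Ideal.map_le_iff_le_comap, hcomap x₀ hx₀U, hclosed]
  have key : ∀ (p : Ideal A) [p.IsPrime], (p.map (algebraMap A (X.presheaf.stalk x))).IsRadical :=
    fun p _ => isRadical_map_localization (B₀ := X.presheaf.stalk x₀) (B := X.presheaf.stalk x)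
      Q₀ Q hle hQ₀ hred₀ p
  constructor
  · have h1 := key ⊥
    rw [Ideal.map_bot] at h1
    exact Ideal.isRadical_bot_iff.mp h1
  · have h1 := key (hUS.primeIdealOf ⟨f x, e hxU⟩).asIdeal
    rw [hFI x hxU, Ideal.map_map]
    exact h1

end Groth.Agent.H68.VR
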